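import Mathlib
import Cfsg.Statements.S4035
import Cfsg.Agent.H27.ClassSize
import Cfsg.Agent.BG.Api4

set_option autoImplicit false
open Cfsg

namespace Cfsg.Agent.S4035

open BG Cfsg

/-- Let G be a finite group and p a prime such that p divides the size of no conjugacy class of p-regular elements (elements of order prime to p). Then G is the internal direct product of a Sylow p-subgroup P and a normal subgroup H of order prime to p: P is normal, P ⊓ H = 1 and PH = G. -/
theorem result {G : Type*} [Group G] [Finite G] {p : ℕ} [Fact p.Prime]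
    (h : ∀ x : G, (orderOf x).Coprime p → ¬ p ∣ (ConjClasses.mk x).carrier.ncard) (P : Sylow p G) :
    (P : Subgroup G).Normal ∧ ∃ H : Subgroup G, H.Normal ∧ ¬ p ∣ Nat.card H ∧
      (P : Subgroup G) ⊓ H = ⊥ ∧ (P : Subgroup G) ⊔ H = ⊤ := by
  have hp : p.Prime := Fact.out
  have hs : ∀ x : G, (orderOf x).Coprime p → ¬ p ∣ (C_[x]).index := by
    intro x hx
    have := h x hx
    rwa [show (ConjClasses.mk x).carrier = {y : G | IsConj x y} from by
      ext y; rw [ConjClasses.mem_carrier_iff_mk_eq, ConjClasses.mk_eq_mk_iff_isConj, isConj_comm]; rfl,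
      H27.ncard_isConj] at this
  have hPs := isSylowIn_top hp P
  have key : ∀ x y : G, (orderOf x).Coprime p → IsPGroup p (Subgroup.zpowers y) → y ∈ C_[x] →
      ∃ g : G, g * y * g⁻¹ ∈ (P : Subgroup G) ∧ g * x * g⁻¹ ∈ C_((P : Subgroup G)) := by
    intro x y hx hy hyx
    obtain ⟨S, hS, hle⟩ := sylow_superset hp hy (H := C_[x]) (by simpa using hyx)
    obtain ⟨g, -, hg⟩ := sylow_trans hp (hS.trans_idx le_top (by simpa using hs x hx)) hPs
    refine ⟨g, hg ▸ conj_mem_cj g (hle (Subgroup.mem_zpowers y)), ?_⟩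
    rw [hg, ← cj_cent]
    exact conj_mem_cj g (le_cent1_iff.1 hS.le)
  have hcop : ∀ x : G, IsPiElt {p}ᶜ x → (orderOf x).Coprime p := fun x hx =>
    ((Nat.Prime.coprime_iff_not_dvd hp).2 (by simpa [card_zpowers] using (isPi_compl hp).1 (isPiElt_iff.1 hx))).symm
  have htop : (P : Subgroup G) ⊔ C_((P : Subgroup G)) = ⊤ := H27.eq_top_of_forall_conj_mem fun x => by
    obtain ⟨g, h1, h2⟩ := key (piPart {p}ᶜ x) (piPart {p} x) (hcop _ (isPiElt_piPart _ _))
      ((isPi_singleton hp).1 (isPiElt_iff.1 (isPiElt_piPart _ _))) (mem_cent1.2 (commute_piPart _ _ x).eq)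
    refine ⟨g, ?_⟩
    have e : g * x * g⁻¹ = (g * piPart {p} x * g⁻¹) * (g * piPart {p}ᶜ x * g⁻¹) := by
      conv_lhs => rw [← piPart_mul_compl {p} x]
      group
    rw [e]
    exact mul_mem (Subgroup.mem_sup_left h1) (Subgroup.mem_sup_right h2)
  have hN : (⊤ : Subgroup G) ≤ N_((P : Subgroup G)) := htop ▸ sup_le_norm (le_norm _) (cent_le_norm _)
  have hNn : (P : Subgroup G).Normal := Subgroup.normalizer_eq_top_iff.1 (top_le_iff.1 hN)
  obtain ⟨H, hH⟩ := hPs.exists_compl hN
  have hHp : ¬ p ∣ Nat.card H := (isPi_compl hp).1 (hH.hall_compl hPs).isPi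
  have hc : H ≤ C_((P : Subgroup G)) := fun x hx => by
    obtain ⟨g, -, h2⟩ := key x 1 (Nat.Coprime.coprime_dvd_left (orderOf_dvd_card hx)
      ((Nat.Prime.coprime_iff_not_dvd hp).2 hHp).symm) (by rw [Subgroup.zpowers_one_eq_bot]; exact pg_bot) (one_mem _)
    simpa [mul_assoc] using conj_mem_of_norm' (norm_cent hN (Subgroup.mem_top g)) h2
  exact ⟨hNn, H, Subgroup.normalizer_eq_top_iff.1 (top_le_iff.1 (hH.dprod hc).normal_right), hHp, hH.disj, hH.sup⟩

end Cfsg.Agent.S4035
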