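import Mathlib
import Cfsg.Statements.S0228
import Cfsg.Agent.H08.Counting

set_option autoImplicit false
open Cfsg

namespace Cfsg.Agent.S0228

/-- A group of order 12 in which no involution is central is isomorphic to the alternating group on four letters. -/
theorem result {G : Type*} [Group G] [Finite G] (hG : Nat.card G = 12) (hz : ∀ z : G, orderOf z = 2 → z ∉ Subgroup.center G) : Nonempty (G ≃* alternatingGroup (Fin 4)) := by
  classical
  obtain ⟨x, hx⟩ := exists_prime_orderOf_dvd_card' (G := G) 3 (by rw [hG]; norm_num)
  have hP : Nat.card (Subgroup.zpowers x) = 3 := by rw [Nat.card_zpowers, hx]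
  have hcore : (Subgroup.zpowers x).normalCore = ⊥ := by
    by_contra hne
    have hle := Subgroup.normalCore_le (Subgroup.zpowers x)
    have hd := Subgroup.card_dvd_of_le hle
    rw [hP] at hd
    have h3 : Nat.card (Subgroup.zpowers x).normalCore = 3 :=
      ((Nat.dvd_prime Nat.prime_three).1 hd).resolve_left fun h => hne (Subgroup.card_eq_one.1 h)
    have heq := Subgroup.eq_of_le_of_card_ge hle (by rw [h3, hP])
    have hx1 : x ≠ 1 := by rintro rfl; simp at hx
    have hx3 : x ^ 3 = 1 := hx ▸ pow_orderOf_eq_one x
    have hext : H08.extCentralizer x = ⊤ := by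
      rw [eq_top_iff]
      intro g _
      have : g * x * g⁻¹ ∈ Subgroup.zpowers x := by
        exact hle (Subgroup.Normal.conj_mem inferInstance _ (heq.ge (Subgroup.mem_zpowers x)) g)
      rw [mem_zpowers_iff_mem_range_orderOf, hx] at this
      simp only [Finset.mem_image, Finset.mem_range] at this
      obtain ⟨k, hk, hk'⟩ := this
      rw [H08.mem_extCentralizer, ← hk']
      interval_cases k
      · exact absurd (by simpa using hk'.symm) hx1
      · left; simp
      · right; rw [eq_inv_iff_mul_eq_one, ← pow_succ, hx3]
    have hev : Even (Nat.card (Subgroup.centralizer ({x} : Set G))) := by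
      by_cases hr : IsConj x x⁻¹
      · have := H08.card_extCentralizer hr (fun h => by
          have h2 : orderOf x = 2 := H08.orderOf_eq_two_iff'.2 ⟨by nth_rewrite 2 [h]; simp, hx1⟩
          omega)
        rw [hext, Subgroup.card_top, hG] at this
        rw [show Nat.card (Subgroup.centralizer ({x} : Set G)) = 6 by omega]; decide
      · have : Subgroup.centralizer ({x} : Set G) = ⊤ := by
          rw [eq_top_iff]
          intro g _
          rcases H08.mem_extCentralizer.1 (hext ▸ Subgroup.mem_top g : g ∈ H08.extCentralizer x) with h | h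
          · exact H08.mem_centralizer_singleton'.2 h
          · exact absurd (isConj_iff.2 ⟨g, h⟩) hr
        rw [this, Subgroup.card_top, hG]; decide
    obtain ⟨z, hzx, hz2⟩ := H08.even_card_iff.1 hev
    obtain ⟨T, hT⟩ := (H08.isPGroup_zpowers_of_orderOf hz2).exists_le_sylow
    have hT4 : Nat.card T = 2 ^ 2 := by
      rw [T.card_eq_multiplicity, hG, show (Nat.factorization 12) 2 = 2 by decide +kernel]
    have hc := IsPGroup.isMulCommutative_of_card_eq_prime_sq hT4
    have hTC : (T : Subgroup G) ≤ Subgroup.centralizer ({z} : Set G) := by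
      intro t ht
      rw [Subgroup.mem_centralizer_singleton_iff]
      exact congrArg Subtype.val (hc.is_comm.comm (⟨t, ht⟩ : T) ⟨z, hT (Subgroup.mem_zpowers z)⟩)
    have d1 := Subgroup.card_dvd_of_le hTC
    have d2 := (Subgroup.centralizer ({z} : Set G)).orderOf_dvd_natCard
      (H08.mem_centralizer_singleton_commute.2 (H08.mem_centralizer_singleton_commute.1 hzx).symm)
    have d3 := (Subgroup.centralizer ({z} : Set G)).card_le_card_group
    rw [hT4] at d1
    rw [hx] at d2
    have hpos : 0 < Nat.card (Subgroup.centralizer ({z} : Set G)) := Nat.card_pos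
    have : Subgroup.centralizer ({z} : Set G) = ⊤ := Subgroup.eq_top_of_card_eq _ (by omega)
    rw [Subgroup.centralizer_eq_top_iff_subset] at this
    exact hz z hz2 (this rfl)
  have hi : (Subgroup.zpowers x).index = 4 := by
    have := (Subgroup.zpowers x).index_mul_card
    rw [hP, hG] at this
    omega
  have e : (G ⧸ Subgroup.zpowers x) ≃ Fin 4 := Finite.equivFinOfCardEq hi
  let φ : G →* Equiv.Perm (Fin 4) :=
    e.permCongrHom.toMonoidHom.comp (MulAction.toPermHom G (G ⧸ Subgroup.zpowers x))
  have hφ : Function.Injective φ := e.permCongrHom.injective.comp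
    ((MonoidHom.ker_eq_bot_iff _).1 (by rw [← Subgroup.normalCore_eq_ker, hcore]))
  have hr : φ.range.index = 2 := by
    have h1 := φ.range.index_mul_card
    rw [← Nat.card_congr (MonoidHom.ofInjective hφ).toEquiv, hG, Nat.card_perm] at h1
    simp [Nat.factorial] at h1
    omega
  exact ⟨(MonoidHom.ofInjective hφ).trans
    (MulEquiv.subgroupCongr (Equiv.Perm.eq_alternatingGroup_of_index_eq_two hr))⟩

end Cfsg.Agent.S0228
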