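import Cfsg.Statements.S2065
import Cfsg.Agent.H15.J1
import Cfsg.Agent.H15.J1Ac
-- import your own Cfsg.Agent.* helpers here

set_option autoImplicit false
open Cfsg

namespace Cfsg.Agent.S2065

/-- The outer automorphism group of the Janko group J₁ (the group generated by two explicit 7 × 7 matrices over the integers modulo 11) is trivial: every automorphism is inner. -/
theorem result : Nat.card (Cfsg.Out ↥Cfsg.Spor.J1) = 1 := by
  open H15 H15.J1 in
  rw [J1_eq]
  have := fin4 V h2
  have L := L4 V h2
  exact out_one_of (SInj.sub (fun _ _ => V.sem_inj h1 h2) _).inj L.ok es_so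
    (L.top_of_run (Sem.ok_of_slp _ L.ok es_so) ep_ok) (card4 V h2) o_1
    (L.cent (A4 V h2) ba_c ((card4 V h2).trans ba_p.symm).le es_so ba_b ba_a)
    (L.cent (A4 V h2) bc_c ((card4 V h2).trans bc_p.symm).le es_so bc_b bc_a) o_n o_r

end Cfsg.Agent.S2065
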