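import Cfsg.Statements.S4020
import Cfsg.Agent.H24.Real
import Cfsg.Agent.H08.RankOne
import Cfsg.Agent.H04.Quat2
import Cfsg.Agent.H04.MaxClass
-- import your own Cfsg.Agent.* helpers here

set_option autoImplicit false
open Cfsg

namespace Cfsg.Agent.S4020

open BG
open scoped commutatorElement

theorem exp_p {G : Type*} [Group G] [Finite G] {p : ℕ} (hp : p.Prime)
    (hD : ∀ H K : Subgroup G, IsPGroup p H → IsPGroup p K → Nat.card H = Nat.card K → ∃ g : G, K = cj g H)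
    {V P : Subgroup G} (hV : IsElem p 2 V P) (hP : IsPGroup p P) {x : G} (hx : x ∈ P) : x ^ p = 1 := by
  haveI := Fact.mk hp
  by_contra h
  obtain ⟨k, hk⟩ := H27.orderOf_of_mem_pGroup hP hx
  have : 2 ≤ k := by
    by_contra hlt
    exact h (orderOf_dvd_iff_pow_eq_one.1 (by rw [hk]; simpa using pow_dvd_pow p (show k ≤ 1 by omega)))
  obtain ⟨A, hA, hAc⟩ := exists_le_card_pow (H := Subgroup.zpowers x) hp (n := 2) (by
    rw [card_zpowers, hk]; exact pow_dvd_pow p this)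
  obtain ⟨g, hg⟩ := hD A V (pg_of_card hAc) hV.pg (by rw [hAc, hV.card])
  refine hV.not_cyclic hp ?_
  haveI := cyclic_of_le (cyclic_zpowers x) hA
  rw [hg]; exact isCyclic_of_surjective _ (cjEquiv g A).surjective

theorem two {G : Type*} [Group G] [Finite G]
    (hD : ∀ H K : Subgroup G, IsPGroup 2 H → IsPGroup 2 K → Nat.card H = Nat.card K → ∃ g : G, K = cj g H)
    (P : Sylow 2 G) : IsCyclic P ∨ Cfsg.IsElementaryAbelian 2 (P : Subgroup G) ∨ Nonempty ((P : Subgroup G) ≃* QuaternionGroup 2) := by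
  have h2 := Nat.prime_two
  by_cases hV : ∃ V, IsElem 2 2 V (P : Subgroup G)
  · obtain ⟨V, hV⟩ := hV
    have he : ∀ x ∈ (P : Subgroup G), x ^ 2 = 1 := fun x hx => exp_p h2 hD hV P.isPGroup' hx
    refine Or.inr (Or.inl ⟨abelian_iff.2 (le_cent_iff.2 fun a ha b hb => ?_), he⟩)
    have h1 := he _ (mul_mem ha hb)
    have ha' := he a ha
    have hb' := he b hb
    rw [sq] at h1 ha' hb'
    calc a * b = (a * b)⁻¹ := (mul_eq_one_iff_eq_inv.1 h1)
      _ = b * a := by rw [mul_inv_rev, ← mul_eq_one_iff_eq_inv.1 ha', ← mul_eq_one_iff_eq_inv.1 hb']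
  have hu := H04.unique_of_forall_isCyclic (p := 2) P.isPGroup' (fun V h hc => hV ⟨V.map (P : Subgroup G).subtype,
    Subgroup.map_subtype_le V, ⟨by haveI := h.1; exact Subgroup.map_isMulCommutative _ _, by
      rintro _ ⟨a, ha, rfl⟩; rw [← map_pow, h.2 a ha, map_one]⟩, by rw [Subgroup.card_subtype, hc]⟩)
  rcases H04.isCyclic_or_dsq_of_unique P.isPGroup' hu with h | ⟨m, a, b, h, h1, h3⟩
  · exact Or.inl h
  cases m with
  | zero => exact Or.inr (Or.inr (h.iso_quaternion h1 h3))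
  | succ m =>
    exfalso
    have hn : b ∈ N_(Subgroup.zpowers (a ^ 2 ^ (m + 1))) := mem_norm_of_cj_le (by
      rw [cj_zpowers, ← conj_pow, h3, inv_pow, Subgroup.zpowers_inv])
    have hb : b ∉ Subgroup.zpowers (a ^ 2 ^ (m + 1)) := fun hb => h.notMem ((Subgroup.zpowers_le (H := Subgroup.zpowers a)).2 (Subgroup.pow_mem _ (Subgroup.mem_zpowers a) _) hb)
    have hc := H04.card_sup_zpowers (p := 2) (Subgroup.zpowers (a ^ 2 ^ (m + 1))) hn hb (by
      rw [h1, pow_succ 2 (m + 1), pow_mul]; exact Subgroup.pow_mem _ (Subgroup.mem_zpowers _) _)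
    rw [card_zpowers, h.orderOf_pow (by omega), show m + 1 + 2 - (m + 1) = 2 by omega] at hc
    have hc2 : Nat.card (Subgroup.zpowers (a ^ 2 ^ m)) = 2 ^ 3 := by
      rw [card_zpowers, h.orderOf_pow (by omega), show m + 1 + 2 - m = 3 by omega]
    obtain ⟨g, hg⟩ := hD ((Subgroup.zpowers (a ^ 2 ^ m)).map (P : Subgroup G).subtype)
      ((Subgroup.zpowers (a ^ 2 ^ (m + 1)) ⊔ Subgroup.zpowers b).map (P : Subgroup G).subtype)
      (pg_le P.isPGroup' (Subgroup.map_subtype_le _)) (pg_le P.isPGroup' (Subgroup.map_subtype_le _))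
      (by rw [Subgroup.card_subtype, Subgroup.card_subtype, hc, hc2]; rfl)
    have hab : IsMulCommutative ((Subgroup.zpowers (a ^ 2 ^ (m + 1)) ⊔ Subgroup.zpowers b).map (P : Subgroup G).subtype) := by
      rw [hg]
      haveI : IsMulCommutative (Subgroup.zpowers (a ^ 2 ^ m)) := abelian_of_cyclic (cyclic_zpowers _)
      exact Subgroup.map_isMulCommutative _ _
    have := mul_comm_of_abelian (H04.isMulCommutative_map_subtype.1 hab) (Subgroup.mem_sup_right (Subgroup.mem_zpowers b))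
      (Subgroup.mem_sup_left (Subgroup.mem_zpowers _))
    have h4 := (h.commute_zpow_iff (i := 2 ^ (m + 1))).1 (by
      rw [show ((2 : ℤ) ^ (m + 1)) = ((2 ^ (m + 1) : ℕ) : ℤ) by simp, zpow_natCast]; exact this)
    have := Int.le_of_dvd (by positivity) h4
    have : (2 : ℤ) ^ (m + 1) < 2 ^ (m + 1 + 1) := pow_lt_pow_right₀ (by norm_num) (by omega)
    omega

theorem config {G : Type*} [Group G] [Finite G] {p : ℕ} (hp : p.Prime) (h2 : p ≠ 2)
    (hD : ∀ H K : Subgroup G, IsPGroup p H → IsPGroup p K → Nat.card H = Nat.card K → ∃ g : G, K = cj g H)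
    {P : Subgroup G} (hP : IsSylowIn p P ⊤) (he : ∀ x ∈ P, x ^ p = 1) (hna : ¬ IsMulCommutative P) :
    ∃ u w z : G, u ^ p = 1 ∧ w ^ p = 1 ∧ orderOf z = p ∧ (u * w * u) * (u * w * u) * z * ((u * w * u) * (u * w * u))⁻¹ = z⁻¹ := by
  haveI := Fact.mk hp
  have hPp := hP.pg hp
  have big : ∀ K : Subgroup G, IsPGroup p K → ¬ IsMulCommutative K → Nat.card K ≤ p ^ 3 → Nat.card K = p ^ 3 := by
    intro K hK hn hle
    obtain ⟨k, hk⟩ := pg_card hp hK
    have h1 : ¬ k ≤ 2 := fun h => hn (abelian_of_card_le_sq hp hK (hk ▸ Nat.pow_le_pow_right hp.pos h))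
    rw [hk] at hle ⊢
    have := (Nat.pow_le_pow_iff_right hp.one_lt).1 hle
    congr 1; omega
  have hr : PRankLE p 2 P := by
    by_contra hr
    obtain ⟨A, hA⟩ := (not_pRankLE_iff hp).1 hr
    obtain ⟨x, hx, hxZ, -, hc⟩ := H04.exists_central_step' hPp le_rfl (le_norm_inf_cent (le_norm P)) (le_norm P)
      (fun h => hna (abelian_iff.2 (h.trans inf_le_right)))
    obtain ⟨y, hy, hxy⟩ : ∃ y ∈ P, y * x ≠ x * y := by
      by_contra hh; push Not at hh; exact hxZ ⟨hx, mem_cent.2 hh⟩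
    set z := ⁅x, y⁆ with hz
    have hzc := (hc y hy).2
    have n1 : x ∈ N_(Subgroup.zpowers z) := cent_le_norm _ (by rw [cent_zpowers, mem_cent1]; exact mem_cent.1 hzc x hx)
    have n2 : y ∈ N_(Subgroup.zpowers z ⊔ Subgroup.zpowers x) := by
      refine mem_norm_of_cj_le ?_
      rw [cj_sup, cj_zpowers, cj_zpowers, mem_cent.1 hzc y hy, mul_inv_cancel_right]
      refine sup_le le_sup_left (Subgroup.zpowers_le.2 ?_)
      have : y * x * y⁻¹ = z⁻¹ * x := by rw [hz, commutatorElement_def]; group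
      rw [this]
      exact mul_mem (Subgroup.mem_sup_left (inv_mem (Subgroup.mem_zpowers z))) (Subgroup.mem_sup_right (Subgroup.mem_zpowers x))
    have c1 := H04.card_sup_zpowers_le (p := p) _ n1 (by rw [he x hx]; exact one_mem _)
    have c2 := H04.card_sup_zpowers_le (p := p) _ n2 (by rw [he y hy]; exact one_mem _)
    have c3 : Nat.card (Subgroup.zpowers z) ≤ p := by
      rw [card_zpowers]; exact Nat.le_of_dvd hp.pos (orderOf_dvd_of_pow_eq_one (he z (hc y hy).1))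
    have hKP : Subgroup.zpowers z ⊔ Subgroup.zpowers x ⊔ Subgroup.zpowers y ≤ P :=
      sup_le (sup_le (Subgroup.zpowers_le.2 (hc y hy).1) (Subgroup.zpowers_le.2 hx)) (Subgroup.zpowers_le.2 hy)
    have hK : ¬ IsMulCommutative ↥(Subgroup.zpowers z ⊔ Subgroup.zpowers x ⊔ Subgroup.zpowers y) := fun h =>
      hxy (mul_comm_of_abelian h (Subgroup.mem_sup_right (Subgroup.mem_zpowers y))
        (Subgroup.mem_sup_left (Subgroup.mem_sup_right (Subgroup.mem_zpowers x))))
    have c4 := big _ (pg_le hPp hKP) hK (by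
      calc _ ≤ p * (p * p) := c2.trans (Nat.mul_le_mul_left _ (c1.trans (Nat.mul_le_mul_left _ c3)))
        _ = _ := by ring)
    obtain ⟨g, hg⟩ := hD A _ hA.pg (pg_le hPp hKP) (by rw [c4, hA.card])
    refine hK ?_
    rw [hg]; haveI := hA.abelian; exact Subgroup.map_isMulCommutative _ _
  have hc3 := big P hPp hna (H04.card_le_cube_of_pRankLE_two' hr le_rfl he)
  obtain ⟨hd, hZ⟩ := H04.center_of_card_cube hc3 hna
  set Z := P ⊓ C_(P) with hZd
  have hZp : (Nat.card Z).Prime := hZ ▸ hp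
  obtain ⟨x, hx, hxZ⟩ : ∃ x ∈ P, x ∉ Z := by
    by_contra hh; push Not at hh; exact hna (abelian_iff.2 fun y hy => (hh y hy).2)
  have hxo : orderOf x = p := orderOf_eq_prime (he x hx) (by rintro rfl; exact hxZ (one_mem _))
  obtain ⟨g, hg⟩ := hD (Subgroup.zpowers x) Z (pg_le hPp (Subgroup.zpowers_le.2 hx)) (pg_le hPp inf_le_left)
    (by rw [card_zpowers, hxo, hZ])
  have h1 : cj g Z ≤ C_(Z) := by
    nth_rewrite 2 [hg]
    rw [← cj_cent]
    exact cj_mono g (inf_le_right.trans (cent_anti (Subgroup.zpowers_le.2 hx)))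
  have hPC : P ≤ C_(Z) := cent_symm inf_le_right
  obtain ⟨c, hc, hcZ⟩ := sylow_Jsub hp (hP.sub hPC le_top) (show IsPGroup p (cj g Z) from pg_of_card_eq (by rw [card_cj, hZ])) h1
  rw [cj_cj] at hcZ
  have hX : cj (c * g) (Subgroup.zpowers x) = Z := by rw [← cj_cj, ← hg, cj_of_mem_cent hc]
  set h := c * g
  have hZ'p : (Nat.card (cj h Z)).Prime := by rw [card_cj]; exact hZp
  have hdis : cj h Z ⊓ Z = ⊥ := inf_eq_bot_of_prime hZ'p fun hle => by
    nth_rewrite 2 [← hX] at hle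
    have : Z ≤ Subgroup.zpowers x := by simpa [cj_cj] using cj_mono h⁻¹ hle
    have := eq_of_le_of_card_eq this (by rw [card_zpowers, hxo, hZ])
    exact hxZ (this ▸ Subgroup.mem_zpowers x)
  obtain ⟨z', hz', hz1⟩ := exists_mem_ne_one (ne_bot_of_prime hZ'p)
  obtain ⟨u, hu, huz⟩ : ∃ u ∈ P, u * z' ≠ z' * u := by
    by_contra hh; push Not at hh
    exact hz1 (eq_one_of_mem_of_disj hdis hz' ⟨hcZ hz', mem_cent.2 hh⟩)
  set z := ⁅u, z'⁆ with hz
  have hzZ : z ∈ Z := hd ▸ Subgroup.commutator_mem_commutator hu (hcZ hz')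
  have hz0 : z ≠ 1 := fun h => huz (commutatorElement_eq_one_iff_mul_comm.1 h)
  have hZP' : Z ≤ cj h P := hX ▸ cj_mono h (Subgroup.zpowers_le.2 hx)
  have hZ' : cj h Z = cj h P ⊓ C_(cj h P) := by rw [hZd, cj_inf, cj_cent]
  obtain ⟨w, hw, hwz⟩ : ∃ w ∈ cj h P, w * z ≠ z * w := by
    by_contra hh; push Not at hh
    exact hz0 (eq_one_of_mem_of_disj hdis (hZ' ▸ ⟨hZP' hzZ, mem_cent.2 hh⟩) hzZ)
  set y := ⁅w, z⁆ with hy
  have hyZ : y ∈ cj h Z := by
    rw [← hd, cj_comm]; exact Subgroup.commutator_mem_commutator hw (hZP' hzZ)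
  have hy0 : y ≠ 1 := fun h => hwz (commutatorElement_eq_one_iff_mul_comm.1 h)
  have hyw : w * y = y * w := mem_cent.1 (hZ' ▸ hyZ : y ∈ cj h P ⊓ C_(cj h P)).2 w hw
  have hwz' : w * z' = z' * w := mem_cent.1 (hZ' ▸ hz' : z' ∈ cj h P ⊓ C_(cj h P)).2 w hw
  obtain ⟨k, hk⟩ : z'⁻¹ ∈ Submonoid.powers y := by
    rw [mem_powers_iff_mem_zpowers, zpowers_eq_of_prime hZ'p hyZ hy0]; exact inv_mem hz'
  have hpw : ∀ k : ℕ, w ^ k * z * (w ^ k)⁻¹ = y ^ k * z := by
    intro k
    induction k with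
    | zero => simp
    | succ k ih =>
      calc w ^ (k + 1) * z * (w ^ (k + 1))⁻¹ = w * (w ^ k * z * (w ^ k)⁻¹) * w⁻¹ := by group
        _ = (w * y ^ k) * z * w⁻¹ := by rw [ih]; group
        _ = y ^ k * (⁅w, z⁆ * z) := by rw [(Commute.pow_right hyw k).eq, commutatorElement_def]; group
        _ = _ := by rw [← hy]; group
  have e1 : u * z * u⁻¹ = z := by rw [mem_cent.1 hzZ.2 u hu]; group
  have e2 : u * z' * u⁻¹ = z * z' := by rw [hz, commutatorElement_def]; group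
  have e3 : w ^ k * z * (w ^ k)⁻¹ = z'⁻¹ * z := by rw [hpw, show y ^ k = z'⁻¹ from hk]
  have e4 : w ^ k * z' * (w ^ k)⁻¹ = z' := by rw [(Commute.pow_left hwz' k).eq]; group
  have e5 : z' * z = z * z' := mem_cent.1 hzZ.2 z' (hcZ hz')
  have hwp : w ^ p = 1 := by
    obtain ⟨v, hv, rfl⟩ := mem_cj'.1 hw
    rw [conj_pow, he v hv]; group
  refine ⟨u, w ^ k, z, he u hu, by rw [← pow_mul, mul_comm, pow_mul, hwp, one_pow], orderOf_eq_prime (he z hzZ.1) hz0, ?_⟩
  set W := w ^ k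
  have f1 : u * W * u * z * (u * W * u)⁻¹ = z'⁻¹ := by
    calc _ = u * (W * (u * z * u⁻¹) * W⁻¹) * u⁻¹ := by group
      _ = u * (z'⁻¹ * z) * u⁻¹ := by rw [e1, e3]
      _ = (u * z' * u⁻¹)⁻¹ * (u * z * u⁻¹) := by group
      _ = _ := by rw [e1, e2]; group
  have f2 : u * W * u * z' * (u * W * u)⁻¹ = z := by
    calc _ = u * (W * (u * z' * u⁻¹) * W⁻¹) * u⁻¹ := by group
      _ = u * ((W * z * W⁻¹) * (W * z' * W⁻¹)) * u⁻¹ := by rw [e2]; group
      _ = u * (z'⁻¹ * (z * z')) * u⁻¹ := by rw [e3, e4]; group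
      _ = _ := by rw [← e5, inv_mul_cancel_left, e1]
  calc _ = u * W * u * (u * W * u * z * (u * W * u)⁻¹) * (u * W * u)⁻¹ := by group
    _ = (u * W * u * z' * (u * W * u)⁻¹)⁻¹ := by rw [f1]; group
    _ = _ := by rw [f2]

/-- Let G be a finite group in which, for every prime p, any two p-subgroups of the same order are conjugate. Then every Sylow subgroup of G is cyclic, elementary abelian, or a quaternion group of order 8. -/
theorem result {G : Type*} [Group G] [Finite G]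
    (hD : ∀ p : ℕ, p.Prime → ∀ H K : Subgroup G, IsPGroup p H → IsPGroup p K → Nat.card H = Nat.card K →
      ∃ g : G, K = H.map (MulAut.conj g).toMonoidHom) {p : ℕ} [Fact p.Prime] (P : Sylow p G) :
    IsCyclic P ∨ Cfsg.IsElementaryAbelian p (P : Subgroup G) ∨ Nonempty ((P : Subgroup G) ≃* QuaternionGroup 2) := by
  have hp : p.Prime := Fact.out
  by_cases h2 : p = 2
  · subst h2; exact two (hD 2 hp) P
  by_cases hc : IsCyclic P
  · exact Or.inl hc
  obtain ⟨V, hV⟩ := exists_elem2_of_not_cyclic hp h2 P.isPGroup' hc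
  have he : ∀ x ∈ (P : Subgroup G), x ^ p = 1 := fun x hx => exp_p hp (hD p hp) hV P.isPGroup' hx
  refine Or.inr (Or.inl ⟨?_, he⟩)
  by_contra hna
  obtain ⟨u, w, z, hu, hw, hz, hn⟩ := config hp h2 (hD p hp) (isSylowIn_top hp P) he hna
  have hz2 : z * z ≠ 1 := fun h => h2 ((Nat.prime_dvd_prime_iff_eq hp Nat.prime_two).1
    (hz ▸ orderOf_dvd_of_pow_eq_one (by rwa [sq])))
  have fin : ∀ N : Subgroup G, Odd (Nat.card N) → u ∈ N → w ∈ N → False := fun N hN h1 h3 => by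
    have h4 : u * w * u ∈ N := mul_mem (mul_mem h1 h3) h1
    exact hz2 (H08.mul_self_eq_one_of_odd_inverts (Odd.of_dvd_nat hN (orderOf_dvd_card (mul_mem h4 h4))) hn)
  obtain ⟨s, ⟨k, hk⟩, ⟨j, hj⟩, hs⟩ := H24.exists_two_elt_inverts hn
  set t := (u * w * u) ^ k
  have hts : t * t = s := by rw [← hk]; exact ((Commute.refl _).mul_zpow k).symm
  have ht : ∃ i, orderOf t = 2 ^ i := by
    have : orderOf t ∣ 2 ^ (j + 1) := by rw [orderOf_dvd_iff_pow_eq_one, pow_succ', pow_mul, sq, hts, ← hj, pow_orderOf_eq_one]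
    obtain ⟨i, -, hi⟩ := (Nat.dvd_prime_pow Nat.prime_two).1 this
    exact ⟨i, hi⟩
  obtain ⟨S, htS⟩ := H27.exists_sylow_mem ht
  have hs1 : s ≠ 1 := by
    rintro rfl
    exact hz2 (mul_eq_one_iff_eq_inv.2 (by simpa using hs))
  have hodd : ∀ x : G, x ^ p = 1 → (orderOf x).Coprime 2 := fun x hx =>
    Nat.Coprime.coprime_dvd_left (orderOf_dvd_of_pow_eq_one hx) ((Nat.coprime_primes hp Nat.prime_two).2 h2)
  rcases two (hD 2 Nat.prime_two) S with h | h | ⟨⟨e⟩⟩
  · have h1 := H08.hasNPC_of_isCyclic S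
    exact fin (pResidual 2 G) (Nat.coprime_two_right.1 (H03.hasNPC_iff_coprime.1 h1))
      (H03.mem_pResidual_of_coprime (hodd u hu)) (H03.mem_pResidual_of_coprime (hodd w hw))
  · exact hs1 (by rw [← hts, ← sq]; exact h.2 t htS)
  · have q1 : ∀ a : QuaternionGroup 2, a * a * (a * a) = 1 := by decide
    have q2 : ∀ a b : QuaternionGroup 2, a * a = 1 → b * b = 1 → a ≠ 1 → b ≠ 1 → a = b := by decide
    have hs2 : orderOf s = 2 := by
      refine orderOf_eq_prime ?_ hs1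
      have : (⟨t, htS⟩ * ⟨t, htS⟩ * (⟨t, htS⟩ * ⟨t, htS⟩) : (S : Subgroup G)) = 1 := e.injective (by rw [map_mul, map_mul, q1, map_one])
      rw [sq, ← hts]; exact congrArg Subtype.val this
    have h1 := H08.rankOne S (fun a b ha hb => e.injective (q2 _ _
      (by rw [← map_mul, ← sq, orderOf_dvd_iff_pow_eq_one.1 ha.dvd, map_one]) (by rw [← map_mul, ← sq, orderOf_dvd_iff_pow_eq_one.1 hb.dvd, map_one])
      (by rw [Ne, EmbeddingLike.map_eq_one_iff]; rintro rfl; simp at ha)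
      (by rw [Ne, EmbeddingLike.map_eq_one_iff]; rintro rfl; simp at hb))) hs2 z
    rw [hs, ← mul_inv_rev, inv_mem_iff] at h1
    have hzO : Subgroup.zpowers z ≤ oddCore G := Subgroup.zpowers_le.2 (Subgroup.zpowers_le.2 h1
      (H08.mem_zpowers_mul_self_of_odd (hz ▸ hp.odd_of_ne_two h2)))
    have key : ∀ x : G, x ^ p = 1 → x ∈ oddCore G := fun x hx => by
      by_cases h1 : x = 1
      · rw [h1]; exact one_mem _
      have hx' : Nat.card (Subgroup.zpowers x) = p := by rw [card_zpowers, orderOf_eq_prime hx h1]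
      have hz' : Nat.card (Subgroup.zpowers z) = p := by rw [card_zpowers, hz]
      obtain ⟨g, hg⟩ := hD p hp _ _ (pg_of_card_eq hz') (pg_of_card_eq hx') (by rw [hz', hx'])
      have : cj g (Subgroup.zpowers z) ≤ oddCore G := cj_le_of_mem_norm hzO (by rw [Subgroup.normalizer_eq_top]; trivial)
      exact this (by show x ∈ Subgroup.map _ _; rw [← hg]; exact Subgroup.mem_zpowers x)
    exact fin _ (H08.odd_card_oddCore G) (key u hu) (key w hw)

end Cfsg.Agent.S4020
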