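import Cfsg.Statements.S3861
import Cfsg.Agent.H24.Real
-- import your own Cfsg.Agent.* helpers here

set_option autoImplicit false
open Cfsg

namespace Cfsg.Agent.S3861

/-- A finite group G has no non-identity element of odd order that is conjugate to its inverse if and only if the Sylow 2-subgroups of G are normal. -/
theorem result {G : Type*} [Group G] [Finite G] (P : Sylow 2 G) : (∀ x : G, x ≠ 1 → Odd (orderOf x) → ¬ IsConj x x⁻¹) ↔ (P : Subgroup G).Normal := by
  constructor
  · intro h
    refine H24.sylow_normal_of_no_real (fun x g hx h2 e => h x ?_ (hx.odd_of_ne_two h2) (isConj_iff.2 ⟨g, e⟩)) P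
    rintro rfl; simp at hx; exact Nat.not_prime_one hx
  · intro hn x h1 hodd hc
    obtain ⟨g, hg⟩ := isConj_iff.1 hc
    obtain ⟨s, -, ⟨k, hs⟩, hsx⟩ := H24.exists_two_elt_inverts hg
    have hsP : s ∈ (P : Subgroup G) := by
      obtain ⟨c, hc⟩ := H27.exists_conj_mem_sylow P ⟨k, hs⟩
      simpa [mul_assoc] using hn.conj_mem _ hc c⁻¹
    have h2 : x * x ∈ (P : Subgroup G) := by
      have : x * x = (x * s * x⁻¹) * s⁻¹ := by
        calc x * x = x * (s * x * s⁻¹)⁻¹ := by rw [hsx, inv_inv]
          _ = _ := by group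
      rw [this]; exact mul_mem (hn.conj_mem _ hsP x) (inv_mem hsP)
    obtain ⟨j, hj⟩ := H27.orderOf_of_mem_sylow h2
    have h3 : orderOf x ∣ 2 ^ (j + 1) := by
      rw [orderOf_dvd_iff_pow_eq_one, pow_succ', pow_mul, sq, ← hj, pow_orderOf_eq_one]
    have h4 := (Nat.Coprime.pow_right (j + 1) hodd.coprime_two_right).eq_one_of_dvd h3
    exact h1 (orderOf_eq_one_iff.1 h4)

end Cfsg.Agent.S3861
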