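import Mathlib
import Cfsg.Statements.S2756
import Cfsg.Agent.H23.Quad2
import Cfsg.Agent.S3861
import Cfsg.Agent.S3863

set_option autoImplicit false
open Cfsg

namespace Cfsg.Agent.S2756

open BG Subgroup

/-- For a finite group G the following are equivalent: (a) G has a normal Sylow 2-subgroup; (b) for every odd prime q dividing the order of G and every Sylow q-subgroup T, the normalizer of Z(J(T)) has a normal Sylow 2-subgroup; (c) for every odd prime q and every Sylow q-subgroup T, no nonidentity element of T is inverted by an element of the normalizer of Z(J(T)). Here J(T) is the Thompson subgroup generated by the abelian subgroups of T of largest order. Stated as the two equivalences (a) ⇔ (b) and (a) ⇔ (c). -/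
theorem result {G : Type*} [Group G] [Finite G] : ((∀ P : Sylow 2 G, (P : Subgroup G).Normal) ↔ ∀ (q : ℕ) [Fact q.Prime], q ≠ 2 → q ∣ Nat.card G → ∀ T : Sylow q G, ∀ P : Sylow 2 ↥(Subgroup.normalizer (Cfsg.centerThompsonAOf (T : Subgroup G) : Set G)), (P : Subgroup ↥(Subgroup.normalizer (Cfsg.centerThompsonAOf (T : Subgroup G) : Set G))).Normal) ∧ ((∀ P : Sylow 2 G, (P : Subgroup G).Normal) ↔ ∀ (q : ℕ) [Fact q.Prime], q ≠ 2 → ∀ T : Sylow q G, ∀ x ∈ (T : Subgroup G), x ≠ 1 → ∀ g ∈ Subgroup.normalizer (Cfsg.centerThompsonAOf (T : Subgroup G) : Set G), g * x * g⁻¹ ≠ x⁻¹) := by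
  have hT : ∀ (q : ℕ) [Fact q.Prime] (T : Sylow q G), (T : Subgroup G) ≤ N_(Cfsg.centerThompsonAOf (T : Subgroup G)) :=
    fun q _ T => H17.centerThompsonAOf_eq (T : Subgroup G) ▸
      (le_norm _).trans ((H03.AmbF.zj 0 (Or.inl rfl)).normalizer_le T.2)
  have ca : (∀ (q : ℕ) [Fact q.Prime], q ≠ 2 → ∀ T : Sylow q G, ∀ x ∈ (T : Subgroup G), x ≠ 1 →
      ∀ g ∈ N_(Cfsg.centerThompsonAOf (T : Subgroup G)), g * x * g⁻¹ ≠ x⁻¹) → ∀ P : Sylow 2 G, (P : Subgroup G).Normal := by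
    refine fun h P => (Cfsg.Agent.S3861.result P).1 fun x h1 ho hc => ?_
    obtain ⟨q, hq, hd⟩ := Nat.exists_prime_and_dvd (mt orderOf_eq_one_iff.1 h1)
    have := Fact.mk hq
    have h2 := ne_two_of_odd ho hd
    have hy := orderOf_pow_orderOf_div (orderOf_pos x).ne' hd
    obtain ⟨t, ht, h3⟩ := (Cfsg.Agent.S3863.result _ (inv_pow x _ ▸ hc.pow (orderOf x / q))).1
    obtain ⟨S, hS, a, ha, y, hy, -, ⟨k, hk⟩, hy1, h4⟩ := H23.QE.rl_zj (H03.AmbF.zjlike_zj h2 (Or.inl rfl)) h2 _ G rfl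
      ⟨t, trivial, _, trivial, ht, ⟨1, by rw [hy, pow_one]⟩, fun e => hq.one_lt.ne' (by rw [← hy, e, orderOf_one]), h3⟩
    obtain ⟨T, rfl⟩ := IsSylowIn.exists_sylow_top hS hq
    change _ ∈ N_(Cfsg.centerThompsonOf 0 _) at ha hy
    rw [← H17.centerThompsonAOf_eq] at ha hy
    obtain ⟨g, hg, h5⟩ := sylow_Jsub hq (hS.sub (hT q T) le_top) (pg_of_card ((card_zpowers y).trans hk)) (zpowers_le.2 hy)
    exact h q h2 T _ (h5 (conj_mem_cj g (mem_zpowers y))) (by simpa) _ (mul_mem (mul_mem hg ha) (inv_mem hg)) (by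
      rw [mul_inv_rev (g * y), mul_inv_rev g y, ← h4]; group)
  have ab : (∀ P : Sylow 2 G, (P : Subgroup G).Normal) → ∀ (N : Subgroup G) (P : Sylow 2 N), (P : Subgroup N).Normal :=
    fun h N P => (Cfsg.Agent.S3861.result P).1 fun x h1 ho hc => (Cfsg.Agent.S3861.result default).2 (h _) x
      (by simpa) (by simpa) (N.subtype.map_isConj hc)
  have bc : ∀ (q : ℕ) [Fact q.Prime], q ≠ 2 → ∀ T : Sylow q G, (q ∣ Nat.card G →
      ∀ P : Sylow 2 N_(Cfsg.centerThompsonAOf (T : Subgroup G)), P.1.Normal) → ∀ x ∈ (T : Subgroup G), x ≠ 1 →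
      ∀ g ∈ N_(Cfsg.centerThompsonAOf (T : Subgroup G)), g * x * g⁻¹ ≠ x⁻¹ := fun q hq h2 T h x hx h1 g hg e => by
    obtain ⟨k, hk⟩ := pg_card hq.out T.2
    exact (Cfsg.Agent.S3861.result default).2 (h ((pg_dvd hq.out T.2 (ne_bot_of_mem hx h1)).trans (card_dvd_top _)) _)
      ⟨x, hT q T hx⟩ (by simpa) (Odd.of_dvd_nat (hk ▸ (hq.out.odd_of_ne_two h2).pow) (by simpa using orderOf_dvd_card hx))
      (isConj_iff.2 ⟨⟨g, hg⟩, Subtype.ext e⟩)
  exact ⟨⟨fun h _ _ _ _ _ => ab h _, fun h => ca fun q _ h2 T => bc q h2 T fun hd => h q h2 hd T⟩,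
    fun h q _ h2 T => bc q h2 T fun _ => ab h _, ca⟩

end Cfsg.Agent.S2756
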