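import Mathlib
import Cfsg.Statements.S0556
import Cfsg.Agent.S0035
import Cfsg.Agent.H02.Frobenius
import Cfsg.Agent.H16.Schmidt
import Cfsg.Agent.Eqns.E_derivedSeries

set_option autoImplicit false
open Cfsg

namespace Cfsg.Agent.S0556

theorem aux {G : Type*} [Group G] [Finite G] (A K : Subgroup G) (hA : IsCoatom A)
    [IsMulCommutative A] [K.Normal] (hK : K.IsComplement' A)
    (hc : (Nat.card A).Coprime (Nat.card K)) : derivedSeries G 2 = ⊥ := by
  have h1 : commutator G ≤ K :=
    Subgroup.Normal.commutator_le_of_self_sup_commutative_eq_top hK.sup_eq_top inferInstance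
  have key : ∀ X : Subgroup G, X ≤ K → A ≤ Subgroup.normalizer (X : Set G) → X = ⊥ ∨ X = K := by
    intro X hX hAX
    rcases (le_sup_left : A ≤ A ⊔ X).eq_or_lt with h | h
    · left
      rw [eq_bot_iff, ← hK.disjoint.eq_bot]
      exact le_inf hX (le_sup_right.trans h.ge)
    · right
      exact H16.eq_of_le_of_sup_of_disjoint' hX hAX hK.disjoint (by rw [hA.2 _ h]; exact le_top)
  have hKK : ⁅K, K⁆ = ⊥ := by
    by_cases hK0 : K = ⊥
    · simp [hK0]
    obtain ⟨p, hp, hd⟩ := Nat.exists_prime_and_dvd (fun h => hK0 (Subgroup.card_eq_one.1 h))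
    haveI := Fact.mk hp
    obtain ⟨P, hP1, hP2, hP3, hP4⟩ := H01.exists_invariant_sylow (H01.le_normalizer_of_normal A K) hc
      (Or.inl (H01.isSolvable_of_isMulCommutative A)) p
    rcases key P hP1 hP4 with h | h
    · rw [h, Subgroup.relIndex_bot_left] at hP3
      exact absurd hd hP3
    · rw [h] at hP2
      haveI := H01.isSolvable_of_isPGroup hP2
      have hlt := H02.commutator_self_lt_of_isSolvable hK0
      exact (key _ hlt.le (H01.le_normalizer_of_normal _ _)).resolve_right hlt.ne
  rw [eq_bot_iff, ← hKK, derivedSeries_succ, derivedSeries_one]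
  exact Subgroup.commutator_mono h1 h1

/-- If a finite group has a maximal subgroup that is abelian, then the third term of its derived series is trivial (so the group is solvable of derived length at most three). -/
theorem result {G : Type*} [Group G] [Finite G] (A : Subgroup G) (hA : IsCoatom A) [IsMulCommutative A] : derivedSeries G 3 = ⊥ := by
  by_cases hn : A.Normal
  · have hp : A.index.Prime := by
      by_contra hp
      have h1 : A.index ≠ 1 := fun h => hA.1 (Subgroup.index_eq_one.1 h)
      obtain ⟨p, hp', hd⟩ := Nat.exists_prime_and_dvd h1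
      haveI := Fact.mk hp'
      obtain ⟨x, hx⟩ := exists_prime_orderOf_dvd_card' (G := G ⧸ A) p hd
      have hs := QuotientGroup.mk'_surjective A
      have h2 := H02.isCoatom_map_mk' hA le_rfl
      have h3 : A.map (QuotientGroup.mk' A) = ⊥ := by
        rw [Subgroup.map_eq_bot_iff, QuotientGroup.ker_mk']
      rw [h3] at h2
      have h4 := h2.2 (Subgroup.zpowers x) (bot_lt_iff_ne_bot.2 (by
        rw [Ne, Subgroup.zpowers_eq_bot]; rintro rfl; simp at hx; exact hp'.one_lt.ne hx))
      apply hp
      have : Nat.card (G ⧸ A) = p := by rw [← Subgroup.card_top, ← h4, Nat.card_zpowers, hx]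
      exact (show A.index = p from this) ▸ hp'
    haveI := Fact.mk hp
    haveI : IsCyclic (G ⧸ A) := isCyclic_of_prime_card (p := A.index) rfl
    have h1 : commutator G ≤ A := Subgroup.Normal.quotient_commutative_iff_commutator_le.1 inferInstance
    have h2 : derivedSeries G 2 = ⊥ := by
      rw [eq_bot_iff, derivedSeries_succ, derivedSeries_one]
      refine (Subgroup.commutator_mono h1 h1).trans ?_
      rw [le_bot_iff, Subgroup.commutator_eq_bot_iff_le_centralizer]
      exact Subgroup.le_centralizer A
    rw [derivedSeries_succ, h2]; simp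
  have hN : Subgroup.normalizer (A : Set G) = A := by
    rcases (Subgroup.le_normalizer : A ≤ _).eq_or_lt with h | h
    · exact h.symm
    · exact absurd (Subgroup.normalizer_eq_top_iff.1 (hA.2 _ h)) hn
  have hZ : Subgroup.center G ≤ A := hN ▸ Subgroup.center_le_normalizer _
  set π := QuotientGroup.mk' (Subgroup.center G)
  have hs : Function.Surjective π := QuotientGroup.mk'_surjective _
  have hA' := H02.isCoatom_map_mk' hA hZ
  have hmem : ∀ g : G, π g ∈ A.map π ↔ g ∈ A := by
    intro g
    rw [← Subgroup.mem_comap, Subgroup.comap_map_eq_self (by rw [QuotientGroup.ker_mk']; exact hZ)]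
  have hF : IsFrobeniusComplement (A.map π) := by
    rw [H02.isFrob_iff]
    refine ⟨fun h => hn ?_, hA'.1, ?_⟩
    · rw [Subgroup.map_eq_bot_iff, QuotientGroup.ker_mk'] at h
      exact H16.normal_of_le_center h
    · rintro g _ ⟨h, hh, rfl⟩ h1 hg
      obtain ⟨g, rfl⟩ := hs g
      rw [← map_inv, ← map_mul, ← map_mul, hmem] at hg
      rw [hmem]
      by_contra hgA
      apply h1
      have hC : A < Subgroup.centralizer {g * h * g⁻¹} := by
        refine lt_of_le_of_ne (fun a ha => Subgroup.mem_centralizer_singleton_iff.2
          (H16.comm_of_isMulCommutative ha hg)) fun he => hgA ?_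
        rw [← hN]
        apply H03.mem_normalizer_of_conj_le
        intro a ha
        rw [he, Subgroup.mem_centralizer_singleton_iff]
        have := H16.comm_of_isMulCommutative ha hh
        calc g * a * g⁻¹ * (g * h * g⁻¹) = g * (a * h) * g⁻¹ := by group
          _ = _ := by rw [this]; group
      have h2 := Subgroup.centralizer_eq_top_iff_subset.1 (hA.2 _ hC) (Set.mem_singleton _)
      have h3 := (inferInstance : (Subgroup.center G).Normal).conj_mem' _ h2 g
      simp only [mul_assoc, inv_mul_cancel_left, inv_mul_cancel, mul_one] at h3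
      exact (QuotientGroup.eq_one_iff h).2 h3
  obtain ⟨K, -, hKn, hK⟩ := Cfsg.Agent.S0035.result _ hF
  have h2 := aux (A.map π) K hA' hK (by
    have := H02.IsFrob.coprime hF
    rwa [hK.index_eq_card] at this)
  rw [← map_derivedSeries_eq hs, Subgroup.map_eq_bot_iff, QuotientGroup.ker_mk'] at h2
  rw [derivedSeries_succ, Subgroup.commutator_eq_bot_iff_le_centralizer]
  exact h2.trans (Subgroup.center_le_centralizer _)

end Cfsg.Agent.S0556
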