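import Mathlib
import Cfsg.Agent.L.PSL2Max4
-- Template for statement S5892 (row 5892; see /opt/grader/pristine/manifest.json for weights).
-- Copy to Cfsg/Agent/S5892.lean and replace the sorry. The statement below is byte-identical to the frozen
-- statement Cfsg.CfsgFrozen.S5892 (Cfsg/Statements/S5892.lean; the theorem Cfsg.cmax7_projective_special_linear_two_odd_maximal_subgroup_types);
-- the grader kernel-checks Cfsg.Agent.S5892.result against that frozen type. Keep the theorem IN THIS FILE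
-- (a `result` declared elsewhere and merely imported here is not credited); helpers may live anywhere
-- under Cfsg/Agent/.
import Cfsg.Statements.S5892
-- import your own Cfsg.Agent.* helpers here

set_option autoImplicit false
open Cfsg

namespace Cfsg.Agent.S5892

/-- Let F be a finite field of odd order q ≥ 5 and characteristic p, and let M be a maximal subgroup of PSL₂(F). Then one of the following holds: |M| = q(q − 1)/2 (the stabiliser of a point of the projective line); q ≥ 13 and M is dihedral of order q − 1; q ∉ {7, 9} and M is dihedral of order q + 1; q = q₀² and M ≅ PGL₂(F₀) with |F₀| = q₀; q = q₀^r for an odd prime r and M ≅ PSL₂(F₀) with |F₀| = q₀; q ≡ ±1 (mod 10) with q = p or q = p², p ≡ ±3 (mod 10), and M ≅ A₅; q = p ≡ ±3 (mod 8), q ≢ ±1 (mod 10), and M ≅ A₄; or q = p ≡ ±1 (mod 8) and M ≅ S₄. -/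
theorem result {F : Type*} [Field F] [Fintype F] (p : ℕ)
    [Fact p.Prime] [CharP F p] (hodd : Odd (Fintype.card F)) (h5 : 5 ≤ Fintype.card F)
    (M : Subgroup (Matrix.ProjectiveSpecialLinearGroup (Fin 2) F)) (hM : IsCoatom M) :
    2 * Nat.card M = Fintype.card F * (Fintype.card F - 1) ∨
    (13 ≤ Fintype.card F ∧ (∃ k : ℕ, 2 * k = Fintype.card F - 1 ∧ Nonempty (M ≃* DihedralGroup k))) ∨
    (Fintype.card F ≠ 7 ∧ Fintype.card F ≠ 9 ∧ (∃ k : ℕ, 2 * k = Fintype.card F + 1 ∧ Nonempty (M ≃* DihedralGroup k))) ∨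
    (∃ (F₀ : Type) (_ : Field F₀) (_ : Fintype F₀), Fintype.card F = Fintype.card F₀ ^ 2 ∧
        Nonempty (M ≃* Matrix.ProjGenLinGroup (Fin 2) F₀)) ∨
    (∃ (F₀ : Type) (_ : Field F₀) (_ : Fintype F₀) (r : ℕ), r.Prime ∧ Odd r ∧ Fintype.card F = Fintype.card F₀ ^ r ∧
        Nonempty (M ≃* Matrix.ProjectiveSpecialLinearGroup (Fin 2) F₀)) ∨
    ((Fintype.card F % 10 = 1 ∨ Fintype.card F % 10 = 9) ∧
        (Fintype.card F = p ∨ (Fintype.card F = p ^ 2 ∧ (p % 10 = 3 ∨ p % 10 = 7))) ∧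
        Nonempty (M ≃* alternatingGroup (Fin 5))) ∨
    (Fintype.card F = p ∧ (p % 8 = 3 ∨ p % 8 = 5) ∧ ¬ (p % 10 = 1 ∨ p % 10 = 9) ∧
        Nonempty (M ≃* alternatingGroup (Fin 4))) ∨
    (Fintype.card F = p ∧ (p % 8 = 1 ∨ p % 8 = 7) ∧ Nonempty (M ≃* Equiv.Perm (Fin 4))) := by
  classical
  have hpp : p.Prime := Fact.out
  have h2 := L.two_ne_zero_of_odd hodd
  have h4 : 4 ≤ Fintype.card F := by omega
  have hq := Nat.odd_iff.1 hodd
  have hd : L.Dk.dd F = 2 := ((L.Dk.dd_cases (F := F)).resolve_left (by omega)).2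
  have e := L.Dk.mapEquiv M
  have hG := L.Dk.card_psl (F := F)
  have := L.Dk.psl_simple h4
  rw [hd] at hG
  have hsub : ∀ (F₀ : Subfield F) σ, M.map Matrix.ProjectiveSpecialLinearGroup.toPGL ≤ L.Dk.cj σ (L.Dk.subPGL F₀) →
      F₀ ≠ ⊤ → (∃ (F₀ : Type) (_ : Field F₀) (_ : Fintype F₀), Fintype.card F = Fintype.card F₀ ^ 2 ∧
        Nonempty (M ≃* Matrix.ProjGenLinGroup (Fin 2) F₀)) ∨
      (∃ (F₀ : Type) (_ : Field F₀) (_ : Fintype F₀) (r : ℕ), r.Prime ∧ Odd r ∧ Fintype.card F = Fintype.card F₀ ^ r ∧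
        Nonempty (M ≃* Matrix.ProjectiveSpecialLinearGroup (Fin 2) F₀)) := by
    intro F₀ σ h h0
    obtain ⟨K, _, _, r, hr, h1, ⟨h3, f⟩ | ⟨h3, -, f⟩⟩ := L.Dk.coatom_sub hM h0 h
    · exact Or.inl ⟨K, inferInstance, inferInstance, by rw [h1, h3.resolve_right (Nat.not_even_iff_odd.2 hodd)], f⟩
    · exact Or.inr ⟨K, inferInstance, inferInstance, r, hr, h3, h1, f⟩
  have htop : ¬ L.Dk.pslRange F ≤ M.map Matrix.ProjectiveSpecialLinearGroup.toPGL := fun h => hM.1 (by
    rw [eq_top_iff, ← Subgroup.map_le_map_iff_of_injective Matrix.ProjectiveSpecialLinearGroup.toPGL_injective,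
      ← MonoidHom.range_eq_map]; exact h)
  have hA4 := L.Dk.exists_subgroup_of_injective (L.Dk.exists_A4_psl h2)
  have hS4 := fun h : Fintype.card F % 8 = 1 ∨ Fintype.card F % 8 = 7 => L.Dk.exists_subgroup_of_injective
    (L.Dk.exists_S4_psl h2 (FiniteField.isSquare_two_iff.2 (by omega)))
  have hA5 := fun h : Fintype.card F % 10 = 1 ∨ Fintype.card F % 10 = 9 => L.Dk.exists_subgroup_of_injective
    (L.Dk.exists_A5_psl (F := F) (by
      rw [L.Dk.sq_sub_one, Nat.prime_five.dvd_mul, Nat.prime_five.dvd_mul]; omega))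
  have : Fact (Nat.Prime 5) := ⟨Nat.prime_five⟩
  have hne : ∀ H : Subgroup (Matrix.ProjectiveSpecialLinearGroup (Fin 2) F),
      Nat.card H < 60 ∨ (Nat.card H = 60 ∧ Fintype.card F ≠ 5) → H ≠ ⊤ := fun H h => L.Dk.ne_top_of_card_lt (by
    have := L.Dk.cube_mono h5
    rcases h with h | h
    · omega
    · have := L.Dk.cube_mono (show 7 ≤ Fintype.card F by omega); omega)
  rw [← or_assoc (a := ∃ (F₀ : Type) (_ : Field F₀) (_ : Fintype F₀), _ ∧ _)]
  rcases L.Dk.clsX p (M.map Matrix.ProjectiveSpecialLinearGroup.toPGL) with ⟨x, h⟩ | ⟨h, hp⟩ | ⟨C, h, hp, hi, -⟩ |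
    ⟨⟨f⟩⟩ | ⟨⟨f⟩⟩ | ⟨⟨f⟩⟩ | ⟨F₀, σ, h⟩ | ⟨F₀, σ, h⟩
  · left
    rw [L.Dk.coatom_eq hM (fun g hg => (H09.toPGL_smul _ x).symm.trans (h ⟨_, g, hg, rfl⟩)) (L.Dk.isCoatom_stab_psl x).1,
      ← L.Dk.card_stab_psl x, hd]
  · exact absurd (isCyclic_of_surjective e e.surjective) (L.Dk.coatom_cyc h4 hM)
  · have : IsCyclic (C.map e.toMonoidHom) := isCyclic_of_surjective _ (e.subgroupMap C).surjective
    obtain ⟨s, hs, h6⟩ := L.Dk.coatom_dih h4 p hM (C.map e.toMonoidHom)
      ((Subgroup.index_map_of_bijective e.bijective C).trans hi) (by rwa [Subgroup.card_map_of_injective e.injective])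
    have h7 := L.Dk.torusNBar_iso hs
    have h8 := L.Dk.card_torusNBar hs
    rw [← h6] at h7 h8
    have k1 : ∀ n, n ∣ 24 → n % 3 = 1 → n * 6 ≤ 24 := fun n h h' => by
      have := Nat.le_of_dvd (by decide) h; interval_cases n <;> omega
    have k2 : ∀ n, n ∣ 60 → n % 5 = 1 → n * 10 ≤ 60 := fun n h h' => by
      have := Nat.le_of_dvd (by decide) h; interval_cases n <;> omega
    have a5 : Nat.card M = 10 → Fintype.card F = 9 ∨ Fintype.card F = 11 → False := fun h9 h10 => by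
      obtain ⟨H, ⟨f⟩⟩ := hA5 (by omega)
      have h11 := (Nat.card_congr f.toEquiv).trans L.Dk.card_A5
      exact L.Dk.not_coatom_of_normalizer (ℓ := 5) (hne H (by omega)) (by omega) h9
        (by rcases h10 with h | h <;> rw [h] at hG <;> omega) (by omega) (by rw [h9, h11]; exact k2) hM
    have s4 : Nat.card M = 2 ^ 3 → Fintype.card F = 7 ∨ Fintype.card F = 9 → False := fun h9 h10 => by
      obtain ⟨H, ⟨f⟩⟩ := hS4 (by omega)
      have h11 := (Nat.card_congr f.toEquiv).trans L.Dk.card_S4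
      have h12 := H.index_mul_card
      rw [h11] at h12
      exact L.Dk.not_coatom_of_sylow (hne H (by omega)) (by omega) (IsPGroup.of_card h9)
        (by rcases h10 with h | h <;> rw [h] at hG <;> omega) hM
    rcases L.Dk.card_torusBar' hs with h | h <;> rw [hd] at h
    · refine Or.inr (Or.inl ⟨?_, _, h, h7⟩)
      by_contra h9
      have h10 : Fintype.card F = 5 ∨ Fintype.card F = 7 ∨ Fintype.card F = 9 ∨ Fintype.card F = 11 := by omega
      rcases h10 with h10 | h10 | h10 | h10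
      · obtain ⟨H, ⟨f⟩⟩ := hA4
        have h11 := (Nat.card_congr f.toEquiv).trans L.Dk.card_A4
        have h12 := H.index_mul_card
        rw [h11] at h12
        rw [h10] at hG
        exact L.Dk.not_coatom_of_sylow (hne H (by omega)) (by omega) (IsPGroup.of_card (p := 2) (n := 2) (by omega))
          (by omega) hM
      · obtain ⟨H, ⟨f⟩⟩ := hS4 (by omega)
        have h11 := (Nat.card_congr f.toEquiv).trans L.Dk.card_S4
        have h12 : Nat.card M = 6 := by omega
        rw [h10] at hG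
        exact L.Dk.not_coatom_of_normalizer (ℓ := 3) (hne H (by omega)) (by omega) h12
          (by omega) (by omega) (by rw [h12, h11]; exact k1) hM
      · exact s4 (by omega) (by omega)
      · exact a5 (by omega) (by omega)
    · exact Or.inr (Or.inr (Or.inl ⟨fun h9 => s4 (by omega) (by omega), fun h9 => a5 (by omega) (by omega), _, h, h7⟩))
  · obtain ⟨σ, h⟩ := (L.Dk.tri_A4 f).descend (by convert h2 using 1; ring) (L.Dk.fixF F p 1) (one_mem _)
    by_cases h0 : L.Dk.fixF F p 1 = ⊤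
    swap
    · exact Or.inr (Or.inr (Or.inr (Or.inl (hsub _ σ h h0))))
    have h1 := L.Dk.card_eq_of_fixF h0
    have key : ∀ {B : Type} [Group B] (H : Subgroup (Matrix.ProjectiveSpecialLinearGroup (Fin 2) F)), (H ≃* B) →
        (∃ g : alternatingGroup (Fin 4) →* B, Function.Injective g) → H ≠ ⊤ → Nat.card H = 12 := by
      intro B _ H g h3 h6
      obtain ⟨τ, h7⟩ := L.Dk.exists_A4_lt_S4 h2 f ((L.Dk.mapEquiv H).trans g) h3
      have h8 : Nat.card ((L.Dk.cj τ (H.map Matrix.ProjectiveSpecialLinearGroup.toPGL)).comap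
          Matrix.ProjectiveSpecialLinearGroup.toPGL) = Nat.card H := by
        rw [Nat.card_congr (L.Dk.comapEquiv (L.Dk.cj_le_pslRange (Subgroup.map_le_range _ _))).toEquiv, L.Dk.card_cj,
          Nat.card_congr (L.Dk.mapEquiv H).toEquiv]
      rw [← h8, ← L.Dk.coatom_eq hM (Subgroup.map_le_iff_le_comap.1 h7) (fun e => h6 (Subgroup.eq_top_of_card_eq _
        (by rw [← h8, e, Subgroup.card_top]))), Nat.card_congr (e.symm.trans f).toEquiv, L.Dk.card_A4]
    refine Or.inr (Or.inr (Or.inr (Or.inr (Or.inr (Or.inl ⟨h1, ?_, fun h3 => ?_, ⟨e.symm.trans f⟩⟩)))))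
    · by_contra h3
      obtain ⟨H, ⟨g⟩⟩ := hS4 (by omega)
      have h11 := (Nat.card_congr g.toEquiv).trans L.Dk.card_S4
      have := key H g L.Dk.A4_le_S4 (hne H (by omega))
      omega
    · obtain ⟨H, ⟨g⟩⟩ := hA5 (by omega)
      have h11 := (Nat.card_congr g.toEquiv).trans L.Dk.card_A5
      have := key H g L.Dk.A4_le_A5 (hne H (by omega))
      omega
  · obtain ⟨σ, h⟩ := (L.Dk.tri_S4 f).descend (by convert h2 using 1; ring) (L.Dk.fixF F p 1) (ofNat_mem _ 2)
    by_cases h0 : L.Dk.fixF F p 1 = ⊤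
    swap
    · exact Or.inr (Or.inr (Or.inr (Or.inl (hsub _ σ h h0))))
    have h1 := L.Dk.card_eq_of_fixF h0
    exact Or.inr (Or.inr (Or.inr (Or.inr (Or.inr (Or.inr ⟨h1, h1 ▸ L.Dk.mod_eight_of_S4 (e.symm.trans f),
      ⟨e.symm.trans f⟩⟩)))))
  · obtain ⟨j, h1, h3, -⟩ := L.Dk.tri_A5' f
    have h6 : j * (3 - j) ≠ 0 := by convert one_ne_zero (α := F) using 1; linear_combination -h1
    have hfr : ∀ i : F, i ^ 2 - 3 * i + 1 = 0 → (i ^ p) ^ 2 - 3 * i ^ p + 1 = 0 := fun i hi => by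
      have := congrArg (frobenius F p) hi
      simp only [map_add, map_sub, map_mul, map_pow, map_one, map_zero, map_ofNat] at this
      exact this
    have hrt : ∀ i k : F, i ^ 2 - 3 * i + 1 = 0 → k ^ 2 - 3 * k + 1 = 0 → k = i ∨ k = 3 - i := fun i k hi hk =>
      (mul_eq_zero.1 (show (k - i) * (k - (3 - i)) = 0 by linear_combination hk - hi)).imp sub_eq_zero.1 sub_eq_zero.1
    have h35 : (3 : F) ^ p = 3 := by simpa [frobenius_def] using map_ofNat (frobenius F p) 3
    have h7 : Fintype.card F ≠ 5 := fun h7 => hM.1 (Subgroup.eq_top_of_card_eq _ (by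
      rw [Nat.card_congr (e.symm.trans f).toEquiv, L.Dk.card_A5, L.Dk.card_psl_of (n := 60) h7 rfl]))
    have h8 := L.Dk.five_dvd_of_A5 (e.symm.trans f)
    have hp5 : Fintype.card F % 5 = 0 → p = 5 := fun h => by
      obtain ⟨n, -, hn⟩ := FiniteField.card F p
      exact ((Nat.prime_dvd_prime_iff_eq Nat.prime_five hpp).1
        (Nat.prime_five.dvd_of_dvd_pow (hn ▸ Nat.dvd_of_mod_eq_zero h))).symm
    by_cases h9 : j ^ p = j
    · obtain ⟨σ, h⟩ := h3.descend h6 (L.Dk.fixF F p 1) (L.Dk.mem_fixF.2 (by rwa [pow_one]))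
      by_cases h0 : L.Dk.fixF F p 1 = ⊤
      swap
      · exact Or.inr (Or.inr (Or.inr (Or.inl (hsub _ σ h h0))))
      have h10 := L.Dk.card_eq_of_fixF h0
      exact Or.inr (Or.inr (Or.inr (Or.inr (Or.inl ⟨by omega, Or.inl h10, ⟨e.symm.trans f⟩⟩))))
    have h10 := (hrt j _ h1 (hfr j h1)).resolve_left h9
    obtain ⟨σ, h⟩ := h3.descend h6 (L.Dk.fixF F p 2) (L.Dk.mem_fixF.2 (by
      rw [sq, pow_mul, h10, sub_pow_char, h35, h10]; ring))
    by_cases h0 : L.Dk.fixF F p 2 = ⊤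
    swap
    · exact Or.inr (Or.inr (Or.inr (Or.inl (hsub _ σ h h0))))
    have h11 : Fintype.card F = p ^ 2 := by
      obtain ⟨n, -, hn⟩ := FiniteField.card F p
      have h12 := L.Dk.card_le_of_fixF two_ne_zero h0
      rw [hn, Nat.pow_le_pow_iff_right hpp.one_lt] at h12
      have h13 : (n : ℕ) ≠ 1 := fun e => h9 (by have := FiniteField.pow_card j; rwa [hn, e, pow_one] at this)
      have := n.pos
      rw [hn, show (n : ℕ) = 2 by omega]
    have h12 : ¬ 5 ∣ p * (p ^ 2 - 1) := fun h12 => by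
      obtain ⟨φ, hφ⟩ := L.Dk.exists_golden (F := ZMod p) (by rwa [ZMod.card])
      have h13 := congrArg (ZMod.castHom (dvd_refl p) F) hφ
      have h14 := congrArg (ZMod.castHom (dvd_refl p) F) (ZMod.pow_card (φ + 1))
      simp only [map_pow, map_add, map_one] at h13 h14
      rcases hrt (ZMod.castHom (dvd_refl p) F φ + 1) j (by linear_combination h13) h1 with h | h
      · exact h9 (by rw [h, h14])
      · exact h9 (by rw [h, sub_pow_char, h35, h14])
    rw [L.Dk.sq_sub_one, Nat.prime_five.dvd_mul, Nat.prime_five.dvd_mul] at h12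
    have h13 : p % 2 = 1 := by rw [h11, Nat.odd_pow_iff two_ne_zero, Nat.odd_iff] at hodd; exact hodd
    have h14 := hpp.two_le
    exact Or.inr (Or.inr (Or.inr (Or.inr (Or.inl ⟨by omega, Or.inr ⟨h11, by omega⟩, ⟨e.symm.trans f⟩⟩))))
  · exact Or.inr (Or.inr (Or.inr (Or.inl (hsub F₀ σ h.le
      (by rintro rfl; exact htop (by rw [h, L.Dk.subPGL_top, L.Dk.cj_top]; exact le_top))))))
  · exact Or.inr (Or.inr (Or.inr (Or.inl (hsub F₀ σ (h.le.trans (Subgroup.map_mono (Subgroup.map_le_range _ _)))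
      (by rintro rfl; exact htop (by rw [h, L.Dk.subPSL_top, L.Dk.cj_pslRange]))))))

end Cfsg.Agent.S5892
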