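import Mathlib
import Cfsg.Statements.S3974
import Cfsg.Agent.H16.Schur2

set_option autoImplicit false
universe u v
open Cfsg

namespace Cfsg.Agent.S3974

open Subgroup H16

theorem exists_lam (C : Type*) [CommGroup C] [Finite C] :
    ∃ (lam : C →* ℂˣ) (y : C), (∀ c, lam c ∈ zpowers (lam y)) ∧ orderOf (lam y) = Monoid.exponent C := by
  haveI : NeZero (Monoid.exponent C) := ⟨Monoid.exponent_ne_zero_of_finite⟩
  obtain ⟨d⟩ := CommGroup.monoidHom_mulEquiv_of_hasEnoughRootsOfUnity C ℂ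
  obtain ⟨a₀, ha₀⟩ := Monoid.exists_orderOf_eq_exponent (Monoid.ExponentExists.of_finite (G := C))
  have hlo : orderOf (d.symm a₀) = Monoid.exponent C := by rw [← ha₀, MulEquiv.orderOf_eq]
  generalize d.symm a₀ = lam at hlo
  haveI : Finite lam.range := Finite.of_surjective _ lam.rangeRestrict_surjective
  obtain ⟨⟨_, y, rfl⟩, hy⟩ := IsCyclic.exists_generator (α := lam.range)
  have h1 : ∀ c, lam c ∈ zpowers (lam y) := fun c => by
    obtain ⟨k, hk⟩ := hy ⟨_, c, rfl⟩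
    exact ⟨k, congrArg Subtype.val hk⟩
  refine ⟨lam, y, h1, Nat.dvd_antisymm ?_ ?_⟩
  · exact (orderOf_map_dvd _ _).trans (Monoid.order_dvd_exponent y)
  · rw [← hlo]
    apply orderOf_dvd_of_pow_eq_one
    ext c
    obtain ⟨k, hk⟩ := h1 c
    simp only at hk
    rw [MonoidHom.pow_apply, ← hk, ← zpow_natCast, ← zpow_mul, mul_comm, zpow_mul, zpow_natCast, pow_orderOf_eq_one]
    simp

theorem twist {Q Γ₁ : Type u} [Group Q] [Group Γ₁] [Finite Γ₁] (σ₁ : Γ₁ →* Q) (hσ₁ : IsStemExtension σ₁)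
    (m₀ : Γ₁) (hm₀ : m₀ ∈ σ₁.ker) {Y : Type u} [Group Y] (fs : Y →* Γ₁) (sn : Y →* Multiplicative ℤ)
    (hinj : ∀ a b, fs a = fs b → sn a = sn b → a = b) {n : ℕ} (hn0 : n ≠ 0) (hfs : Function.Surjective fs)
    (hdvd : ∀ x, fs x ∈ σ₁.ker → (n : ℤ) ∣ (sn x).toAdd)
    (hz : ∃ z, fs z = m₀⁻¹ ∧ sn z = Multiplicative.ofAdd (n : ℤ))
    (yt : Y) (hyt : sn yt = Multiplicative.ofAdd 1) (hyt2 : fs yt ^ n ∈ commutator Γ₁) :
    ∃ (Γ₂ : Type u) (_ : Group Γ₂) (_ : Finite Γ₂) (σ₂ : Γ₂ →* Q), IsStemExtension σ₂ ∧ Nonempty (σ₁.ker ≃* σ₂.ker) ∧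
      ∀ e : Γ₁ ≃* Γ₂, σ₂.comp e.toMonoidHom = σ₁ → ∃ k ∈ σ₁.ker, k ^ n = m₀ := by
  haveI : Finite Q := Finite.of_surjective _ hσ₁.1
  obtain ⟨z, hz1, hz2⟩ := hz
  have hcen : ∀ x : Y, fs x ∈ σ₁.ker → x ∈ center Y := fun x hx =>
    mem_center_iff.2 fun w => hinj _ _ (by rw [map_mul, map_mul, mem_center_iff.1 (hσ₁.2.1 hx)])
      (by rw [map_mul, map_mul, mul_comm])
  have hz : z ∈ center Y := hcen z (hz1 ▸ inv_mem hm₀)
  haveI : (zpowers z).Normal := ⟨fun a ha g => by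
    rw [mem_center_iff.1 (zpowers_le.2 hz ha) g, mul_inv_cancel_right]; exact ha⟩
  let σ₂ : Y ⧸ zpowers z →* Q := QuotientGroup.lift _ (σ₁.comp fs) (zpowers_le.2 (by
    change fs z ∈ σ₁.ker
    rw [hz1]; exact inv_mem hm₀))
  have hYc : ∀ g ∈ commutator Γ₁, ∃ x ∈ commutator Y, fs x = g ∧ sn x = 1 := by
    intro g hg
    have : g ∈ (commutator Y).map fs := by
      rw [_root_.commutator_def, map_commutator, map_top_of_surjective _ hfs]; exact hg
    obtain ⟨x, hx', rfl⟩ := this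
    exact ⟨x, hx', rfl, Abelianization.commutator_subset_ker sn hx'⟩
  choose! s hs1 hs2 hs3 using hYc
  let j : σ₁.ker →* Y ⧸ zpowers z := (QuotientGroup.mk' _).comp (MonoidHom.mk' (fun k => s k) (fun a b => by
    apply hinj
    · rw [map_mul, hs2 _ (hσ₁.2.2 a.2), hs2 _ (hσ₁.2.2 b.2), hs2 _ (hσ₁.2.2 (a * b).2)]; rfl
    · rw [map_mul, hs3 _ (hσ₁.2.2 a.2), hs3 _ (hσ₁.2.2 b.2), hs3 _ (hσ₁.2.2 (a * b).2), mul_one]))
  have hj : ∀ k : σ₁.ker, j k = (s k : Y ⧸ zpowers z) := fun k => rfl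
  have hj1 : Function.Injective j := by
    rw [injective_iff_map_eq_one]
    intro k hk
    obtain ⟨i, hi⟩ := (QuotientGroup.eq_one_iff _).1 hk
    have hi' : z ^ i = s k := hi
    have h1 := congrArg sn hi'
    rw [map_zpow, hz2, hs3 _ (hσ₁.2.2 k.2)] at h1
    have h2 : i * n = 0 := by simpa using congrArg Multiplicative.toAdd h1
    have h3 : i = 0 := by simpa [hn0] using h2
    subst h3
    have h4 := congrArg fs hi'
    rw [zpow_zero, map_one, hs2 _ (hσ₁.2.2 k.2)] at h4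
    exact Subtype.ext h4.symm
  have hj2 : j.range = σ₂.ker := by
    apply le_antisymm
    · rintro _ ⟨k, rfl⟩
      change σ₁ (fs (s k)) = 1
      rw [hs2 _ (hσ₁.2.2 k.2)]; exact k.2
    · intro x hx
      obtain ⟨x, rfl⟩ := QuotientGroup.mk_surjective x
      have h1 : fs x ∈ σ₁.ker := hx
      obtain ⟨i, hi⟩ := hdvd x h1
      have h2 : fs x * m₀ ^ i ∈ σ₁.ker := mul_mem h1 (zpow_mem hm₀ i)
      refine ⟨⟨_, h2⟩, ?_⟩
      rw [hj, QuotientGroup.eq]
      refine ⟨i, hinj _ _ ?_ ?_⟩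
      · simp only [map_zpow, map_mul, map_inv, hz1, hs2 _ (hσ₁.2.2 h2)]
        group
      · simp only [map_zpow, map_mul, map_inv, hz2, hs3 _ (hσ₁.2.2 h2)]
        apply Multiplicative.toAdd.injective
        simp [hi, mul_comm]
  have hst : IsStemExtension σ₂ := by
    refine ⟨fun q => ?_, fun x hx => ?_, ?_⟩
    · obtain ⟨g, rfl⟩ := hσ₁.1 q
      obtain ⟨x, rfl⟩ := hfs g
      exact ⟨x, rfl⟩
    · obtain ⟨x, rfl⟩ := QuotientGroup.mk_surjective x
      rw [mem_center_iff]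
      intro w
      obtain ⟨w, rfl⟩ := QuotientGroup.mk_surjective w
      rw [← QuotientGroup.mk_mul, ← QuotientGroup.mk_mul, mem_center_iff.1 (hcen x hx) w]
    · rw [← hj2]
      rintro _ ⟨k, rfl⟩
      exact map_mem_commutator (QuotientGroup.mk' _) (hs1 k (hσ₁.2.2 k.2))
  let e₂ : σ₁.ker ≃* σ₂.ker := (MonoidHom.ofInjective hj1).trans (MulEquiv.subgroupCongr hj2)
  haveI : Finite σ₂.ker := Finite.of_equiv _ e₂.toEquiv
  refine ⟨Y ⧸ zpowers z, inferInstance, finite_of_finite_ker σ₂, σ₂, hst, ⟨e₂⟩, fun e he => ?_⟩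
  have he' : ∀ g, σ₂ (e g) = σ₁ g := fun g => DFunLike.congr_fun he g
  have hagree : ∀ x ∈ commutator Y, (x : Y ⧸ zpowers z) = e (fs x) := fun x hx =>
    eq_on_commutator hst.2.1 (η₁ := QuotientGroup.mk' _) (η₂ := e.toMonoidHom.comp fs) (fun w => (he' (fs w)).symm) hx
  obtain ⟨k, hk⟩ := e.surjective ((e (fs yt))⁻¹ * (yt : Y ⧸ zpowers z))
  have hk1 : k ∈ σ₁.ker := by
    rw [MonoidHom.mem_ker, ← he', hk, map_mul, map_inv, he']
    exact inv_mul_cancel _
  have h1 : (yt : Y ⧸ zpowers z) = e (fs yt * k) := by rw [map_mul, hk, mul_inv_cancel_left]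
  have h2 : fs yt ^ n * m₀ ∈ commutator Γ₁ := mul_mem hyt2 (hσ₁.2.2 hm₀)
  have h5 : ((yt ^ n : Y) : Y ⧸ zpowers z) = e (fs yt ^ n * m₀) := by
    rw [← hs2 _ h2, ← hagree _ (hs1 _ h2), eq_comm, QuotientGroup.eq]
    refine ⟨1, hinj _ _ ?_ ?_⟩
    · simp only [zpow_one, map_mul, map_inv, map_pow, hz1, hs2 _ h2]
      group
    · simp only [zpow_one, map_mul, map_inv, map_pow, hz2, hs3 _ h2, hyt]
      apply Multiplicative.toAdd.injective
      simp
  rw [QuotientGroup.mk_pow, h1, ← map_pow, e.apply_eq_iff_eq,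
    (show Commute (fs yt) k from mem_center_iff.1 (hσ₁.2.1 hk1) _).mul_pow, mul_right_inj] at h5
  exact ⟨k, hk1, h5⟩

/-- Let `Q` be a finite group with Schur multiplier `A`. Any two Schur covering groups of `Q` (finite stem extensions `σ₁ : Γ₁ →* Q`, `σ₂ : Γ₂ →* Q` with kernels isomorphic to `A`, `Γ₁, Γ₂` in the universe of `Q`) are isomorphic over `Q` — there is a group isomorphism `e : Γ₁ ≃* Γ₂` with `σ₂ ∘ e = σ₁` — if and only if the order of the commutator quotient of `Q` is coprime to the order of `A`. In particular a finite perfect group has a unique Schur covering group up to isomorphism over it. -/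
theorem result {Q : Type u} [Group Q] [Finite Q] {A : Type v} [CommGroup A] (hA : Cfsg.HasSchurMultiplier Q A) : (∀ (Γ₁ Γ₂ : Type u) [Group Γ₁] [Finite Γ₁] [Group Γ₂] [Finite Γ₂] (σ₁ : Γ₁ →* Q) (σ₂ : Γ₂ →* Q), Cfsg.IsStemExtension σ₁ → Cfsg.IsStemExtension σ₂ → Nonempty (σ₁.ker ≃* A) → Nonempty (σ₂.ker ≃* A) → ∃ e : Γ₁ ≃* Γ₂, σ₂.comp e.toMonoidHom = σ₁) ↔ Nat.Coprime (Nat.card (Abelianization Q)) (Nat.card A) := by
  haveI := hsm_finite' hA
  have hρ := canPres_surjective Q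
  constructor
  · intro h
    by_contra hcop
    obtain ⟨p, hp, hp1, hp2⟩ := Nat.Prime.not_coprime_iff_dvd.1 hcop
    obtain ⟨⟨Γ₁, _, _, σ₁, hσ₁, ⟨e₁⟩⟩, -⟩ := id hA
    haveI := Fact.mk hp
    -- an element of the kernel that is not a `p`-th power
    obtain ⟨m₀, hm₀⟩ : ∃ m₀ : σ₁.ker, ∀ k : σ₁.ker, k ^ p ≠ m₀ := by
      by_contra hc
      push Not at hc
      have h1 : Function.Surjective (powMonoidHom p : A →* A) := fun a => by
        obtain ⟨k, hk⟩ := hc (e₁.symm a)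
        exact ⟨e₁ k, by rw [powMonoidHom_apply, ← map_pow, hk, e₁.apply_symm_apply]⟩
      obtain ⟨a, ha⟩ := exists_prime_orderOf_dvd_card' p hp2
      have h2 := Finite.injective_iff_surjective.2 h1 (a₁ := a) (a₂ := 1) (by
        rw [map_one, powMonoidHom_apply, ← ha, pow_orderOf_eq_one])
      rw [h2, orderOf_one] at ha
      exact hp.one_lt.ne ha
    have hn0 : Monoid.exponent (Abelianization Q) ≠ 0 := Monoid.exponent_ne_zero_of_finite
    have hpn : p ∣ Monoid.exponent (Abelianization Q) := by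
      obtain ⟨a, ha⟩ := exists_prime_orderOf_dvd_card' p hp1
      exact ha ▸ Monoid.order_dvd_exponent a
    obtain ⟨lam, y, hy1, hy2⟩ := exists_lam (Abelianization Q)
    obtain ⟨q, hq⟩ := QuotientGroup.mk_surjective y
    obtain ⟨γ, rfl⟩ := hσ₁.1 q
    have hq' : Abelianization.of (σ₁ γ) = y := hq
    let Y : Subgroup (Γ₁ × Multiplicative ℤ) :=
      ((lam.comp (Abelianization.of.comp σ₁)).comp (MonoidHom.fst _ _)).eqLocus ((zpowersHom ℂˣ (lam y)).comp (MonoidHom.snd _ _))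
    obtain ⟨Γ₂, _, _, σ₂, hσ₂, ⟨e₂⟩, h2⟩ := twist σ₁ hσ₁ m₀ m₀.2 (Y := Y) ((MonoidHom.fst _ _).comp Y.subtype)
      ((MonoidHom.snd _ _).comp Y.subtype) (fun a b h1 h2 => Subtype.ext (Prod.ext h1 h2)) hn0
      (fun g => by
        obtain ⟨k, hk⟩ := hy1 (Abelianization.of (σ₁ g))
        exact ⟨⟨(g, Multiplicative.ofAdd k), hk.symm⟩, rfl⟩)
      (fun x hx => by
        have h1 : lam (Abelianization.of (σ₁ x.1.1)) = lam y ^ x.1.2.toAdd := x.2
        rw [show σ₁ x.1.1 = 1 from hx, map_one, map_one] at h1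
        rw [← hy2]
        exact orderOf_dvd_iff_zpow_eq_one.2 h1.symm)
      ⟨⟨((m₀ : Γ₁)⁻¹, Multiplicative.ofAdd (Monoid.exponent (Abelianization Q) : ℤ)), by
        change lam (Abelianization.of (σ₁ (m₀ : Γ₁)⁻¹)) = lam y ^ (Monoid.exponent (Abelianization Q) : ℤ)
        rw [map_inv, show σ₁ m₀ = 1 from m₀.2, inv_one, map_one, map_one, zpow_natCast, ← hy2, pow_orderOf_eq_one]⟩, rfl, rfl⟩
      ⟨(γ, Multiplicative.ofAdd 1), by
        change lam (Abelianization.of (σ₁ γ)) = lam y ^ (1 : ℤ)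
        rw [hq', zpow_one]⟩ rfl (by
      change γ ^ _ ∈ _
      have h3 : σ₁ (γ ^ Monoid.exponent (Abelianization Q)) ∈ (commutator Γ₁).map σ₁ := by
        rw [_root_.commutator_def, map_commutator, map_top_of_surjective _ hσ₁.1, ← _root_.commutator_def,
          ← Abelianization.ker_of, MonoidHom.mem_ker, map_pow, map_pow]
        exact Monoid.pow_exponent_eq_one _
      obtain ⟨c, hc, hc'⟩ := h3
      have : γ ^ Monoid.exponent (Abelianization Q) = c * (c⁻¹ * γ ^ Monoid.exponent (Abelianization Q)) := by group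
      rw [this]
      exact mul_mem hc (hσ₁.2.2 (by rw [MonoidHom.mem_ker, map_mul, map_inv, hc', inv_mul_cancel])))
    obtain ⟨e, he⟩ := h Γ₁ Γ₂ σ₁ σ₂ hσ₁ hσ₂ ⟨e₁⟩ ⟨e₂.symm.trans e₁⟩
    obtain ⟨k, hk1, hk⟩ := h2 e he
    obtain ⟨c, hc⟩ := hpn
    apply hm₀ (⟨k, hk1⟩ ^ c)
    apply Subtype.ext
    rw [← hk, hc, mul_comm, pow_mul]
    rfl
  · intro hcop Γ₁ Γ₂ _ _ _ _ σ₁ σ₂ hσ₁ hσ₂ hk₁ hk₂
    obtain ⟨η₁, hη₁⟩ := hlift' (canPres Q) hσ₁.1 hσ₁.2.1
    obtain ⟨η₂, hη₂⟩ := hlift' (canPres Q) hσ₂.1 hσ₂.2.1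
    have hs₁ : Function.Surjective η₁ := surjective_of_stem hσ₁ (hη₁ ▸ hπ_surjective _ hρ)
    have hS := cover_ker_inf hρ hA hσ₁ hk₁ hη₁
    obtain ⟨hc, hc'⟩ := ker_le_sup_HM hρ hσ₁ hη₁
    letI : CommGroup η₁.ker :=
      { (inferInstance : Group η₁.ker) with
        mul_comm := fun a b => Subtype.ext (mem_center_iff.1 (hπ_ker_le_center _ (hc b.2)) a) }
    letI : CommGroup σ₂.ker :=
      { (inferInstance : Group σ₂.ker) with
        mul_comm := fun a b => Subtype.ext (mem_center_iff.1 (hσ₂.2.1 b.2) a) }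
    have hθS : ∀ s : η₁.ker, η₂ s ∈ σ₂.ker := fun s => by
      rw [MonoidHom.mem_ker, ← MonoidHom.comp_apply, hη₂]; exact hc s.2
    obtain ⟨e₁⟩ := hk₁
    obtain ⟨e₂⟩ := hk₂
    obtain ⟨g, hg⟩ := exists_extend_of_coprime (D := σ₂.ker)
      (Abelianization.of.comp η₁.ker.subtype) (of_comp_subtype_injective hS) hcop (fun x => by
        obtain ⟨x, rfl⟩ := QuotientGroup.mk_surjective x
        have h3 : hπ _ (x ^ Nat.card (Abelianization Q)) ∈ (commutator _).map (hπ (canPres Q)) := by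
          rw [_root_.commutator_def, map_commutator, map_top_of_surjective _ (hπ_surjective _ hρ), ← _root_.commutator_def,
            ← Abelianization.ker_of, MonoidHom.mem_ker, map_pow, map_pow]
          exact pow_card_eq_one'
        obtain ⟨c, hc1, hc2⟩ := h3
        have h4 : c⁻¹ * x ^ Nat.card (Abelianization Q) ∈ η₁.ker ⊔ HM _ :=
          hc' (by rw [MonoidHom.mem_ker, map_mul, map_inv, hc2, inv_mul_cancel])
        obtain ⟨s, hs, m, hm, h5⟩ := mem_sup_of_normal_left.1 h4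
        refine ⟨⟨s, hs⟩, ?_⟩
        have h6 : Abelianization.of (s * m) = Abelianization.of (c⁻¹ * x ^ Nat.card (Abelianization Q)) := by rw [h5]
        rw [map_mul, map_mul, map_inv, show Abelianization.of m = 1 from (QuotientGroup.eq_one_iff _).2 hm.2,
          show Abelianization.of c = 1 from (QuotientGroup.eq_one_iff _).2 hc1, mul_one, inv_one, one_mul, map_pow] at h6
        exact h6)
      (fun d => by rw [← Nat.card_congr e₂.toEquiv]; exact pow_card_eq_one')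
      ((η₂.comp η₁.ker.subtype).codRestrict σ₂.ker hθS)
    obtain ⟨β, hβ⟩ := factor_of_extend hs₁ η₂ (D := σ₂.ker) hσ₂.2.1 (g.comp Abelianization.of)
      (fun s hs => congrArg Subtype.val (DFunLike.congr_fun hg ⟨s, hs⟩))
    have h1 : σ₂.comp β = σ₁ := by
      ext x
      obtain ⟨x, rfl⟩ := hs₁ x
      have h2 := congrArg σ₂ (hβ x)
      rw [map_mul, show σ₂ ((g.comp Abelianization.of) x : Γ₂) = 1 from ((g.comp Abelianization.of) x).2, mul_one] at h2
      rw [MonoidHom.comp_apply, h2, ← MonoidHom.comp_apply, hη₂, ← hη₁]; rfl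
    have h2 : Function.Surjective β := surjective_of_stem hσ₂ (h1 ▸ hσ₁.1)
    refine ⟨MulEquiv.ofBijective β (h2.bijective_of_nat_card_le (le_of_eq ?_)), h1⟩
    rw [card_eq_of_surjective σ₁ hσ₁.1, card_eq_of_surjective σ₂ hσ₂.1, Nat.card_congr e₁.toEquiv, Nat.card_congr e₂.toEquiv]

end Cfsg.Agent.S3974
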