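import Mathlib
import Cfsg.Statements.S3779
import Cfsg.Agent.H16.Alperin

set_option autoImplicit false
open Cfsg

namespace Cfsg.Agent.S3779

open H16 H16.Lie

/-- Let G be a finite group with an automorphism of prime order p fixing only the identity. Then G is nilpotent; if p = 2 then G is abelian, if p = 3 then G has class at most 2, and in general the class of G is at most ξ = 1 + (p−1) + (p−1)² + ⋯ + (p−1)^(n−1) with n = 2^(p−1) − 1 (the Higman–Kreknin–Kostrikin bound). -/
theorem result {G : Type*} [Group G] [Finite G] {p : ℕ} (hp : p.Prime) (α : MulAut G) (hα : orderOf α = p) (hfpf : ∀ g : G, α g = g → g = 1) : (p = 2 → (⊤ : Subgroup G).lowerCentralSeries 1 = ⊥) ∧ (p = 3 → (⊤ : Subgroup G).lowerCentralSeries 2 = ⊥) ∧ (⊤ : Subgroup G).lowerCentralSeries (Finset.sum (Finset.range (2 ^ (p - 1) - 1)) (fun i => (p - 1) ^ i)) = ⊥ := by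
  have : Fact p.Prime := ⟨hp⟩
  have h1 : ∀ g, (α : G →* G)^[p] g = g := fun g => by
    have := mulAut_pow_apply α p g
    rw [← hα, pow_orderOf_eq_one, hα] at this
    exact this.symm
  have h2 : (Nat.card G).Coprime p := by
    have hP : IsPGroup p (Subgroup.zpowers α) := IsPGroup.of_card (n := 1) (by rw [Nat.card_zpowers, hα, pow_one])
    have h3 := hP.card_modEq_card_fixedPoints G
    have h4 : Nat.card (MulAction.fixedPoints (Subgroup.zpowers α) G) = 1 := by
      rw [Nat.card_eq_one_iff_unique]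
      refine ⟨⟨fun x y => Subtype.ext ?_⟩, ⟨⟨1, fun a => map_one a.1⟩⟩⟩
      rw [hfpf x (x.2 ⟨α, Subgroup.mem_zpowers α⟩), hfpf y (y.2 ⟨α, Subgroup.mem_zpowers α⟩)]
    rw [h4] at h3
    rw [Nat.coprime_comm, hp.coprime_iff_not_dvd]
    intro hd
    exact hp.one_lt.ne' (Nat.dvd_one.1 ((h3.dvd_iff dvd_rfl).1 hd))
  have h3 := lcs_eq_bot_of_fpf (grNil_hkk p) h1 hfpf h2
  refine ⟨?_, ?_, h3⟩
  · rintro rfl; exact h3
  · rintro rfl; exact lcs_eq_bot_of_fpf grNil_three h1 hfpf h2

end Cfsg.Agent.S3779
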