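import Mathlib
import Cfsg.Statements.S0497
import Cfsg.Agent.H19.Ord8

set_option autoImplicit false
open Cfsg

namespace Cfsg.Agent.S0497

/-- A simple group of order 360 is isomorphic to the alternating group of degree 6. -/
theorem result {G : Type*} [Group G] [Finite G] [IsSimpleGroup G]
    (h : Nat.card G = 360) : Nonempty (G ≃* alternatingGroup (Fin 6)) := by
  rcases H19.ord8 (H19.not_comm_of_simple_card (G := G) (by rw [h]; norm_num)) (by rw [h]; norm_num) with
    ⟨F, _, _, -, h1, ⟨e⟩⟩ | ⟨h1, -⟩ | ⟨S, -, h1, -⟩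
  · rw [h] at h1
    obtain ⟨f⟩ := H08.A6_equiv_psl (H19.eq_of_psl_card (r := 9) h1 (by norm_num) (by norm_num) (by norm_num))
    exact ⟨e.trans f⟩
  · omega
  · have := h1.trans (Subgroup.card_subgroup_dvd_card _)
    omega

end Cfsg.Agent.S0497
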