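import Mathlib
import Cfsg.Statements.S0984
import Cfsg.Agent.H19.Ord8
import Cfsg.Agent.H19.Invol

set_option autoImplicit false
open Cfsg

namespace Cfsg.Agent.S0984

/-- A simple group of order 2520 is isomorphic to the alternating group of degree 7. -/
theorem result {G : Type*} [Group G] [Finite G] [IsSimpleGroup G] (h : Nat.card G = 2520) : Nonempty (G ≃* alternatingGroup (Fin 7)) := by
  open H19 H05 in
  have hG : ¬ IsMulCommutative G := not_comm_of_simple_card (by rw [h]; norm_num)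
  rcases ord8 hG (by rw [h]; norm_num) with ⟨F, _, _, -, h1, -⟩ | ⟨-, e⟩ | ⟨S, h1, -, h2, h3⟩
  · rw [h] at h1
    rw [H19.eq_of_psl_card (r := 17) h1 (by norm_num) (by norm_num) (by norm_num)] at h1; omega
  · exact e
  exfalso
  obtain ⟨σ, h4, X, Y, A, h5⟩ := sieve_pb hG (B := 51) (p := 7) (allow := fun _ _ => true) (qs := [2, 3, 5])
    (sols := [(120, 3, -3, [8, -6]), (120, 3, 4, [-20, 15]), (120, 3, -10, [15, -6]), (120, 3, -24, [15, 8])])
    (by norm_num) h (by norm_num) (by norm_num) (by norm_num) (by decide) (fun _ _ _ _ _ _ _ => rfl) (by decide +kernel)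
  have key : ∀ v ∈ σ.2.2.1 :: σ.2.2.2, 7 ≤ v.natAbs := fun v hv => by
    obtain ⟨χ, e1, e2⟩ := A.exists_deg (by norm_num) (h5 ▸ hv)
    have : Nontrivial (S : Subgroup G) := Finite.one_lt_card_iff_nontrivial.1 (by omega)
    obtain ⟨⟨t, ht⟩, e3⟩ := exists_ne (1 : (S : Subgroup G))
    have e4 : t ≠ 1 := fun e => e3 (Subtype.ext e)
    obtain ⟨m, hm⟩ := χ.2.isGeneralizedCharacter.exists_int_of_sq_eq_one (h2 t ht)
    have e5 : ∀ u ∈ (S : Subgroup G), u ≠ 1 → (χ : G → ℂ) u = m := fun u hu e =>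
      hm ▸ (χ.2.isClassFunction.isConj (h3 t ht e4 u hu e)).symm
    have e6 := sum_nonneg_of_char χ.2.isCharacter S (d := v.natAbs) (by simp [← χ.2.charDegree_eq, e2]) e5
    have e7 := card_dvd_of_vanish (χ.2.isGeneralizedCharacter.sub (isGeneralizedCharacter_one.zsmul m)) S
      (m := v.natAbs - m) (by simp [← χ.2.charDegree_eq, e2]) fun u hu e => by simp [e5 u hu e]
    have e8 := natAbs_lt_deg hG e1 e4 hm
    rw [h1] at e6 e7
    omega
  obtain rfl : σ = (120, 3, -24, [15, 8]) := (by decide : ∀ σ ∈ _, (∀ v ∈ σ.2.2.1 :: σ.2.2.2, 7 ≤ v.natAbs) → σ = _) σ h4 key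
  obtain ⟨σ, h6, -⟩ := sieve_pb hG (B := 51) (p := 5) (qs := [2, 3, 7]) (sols := []) (by norm_num) h (by norm_num)
    (by norm_num) (by norm_num) (by decide) (A.allow h5 _) (by decide +kernel)
  simp at h6

end Cfsg.Agent.S0984
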