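import Cfsg.Statements.S3344
import Cfsg.Agent.H07.W8

set_option autoImplicit false
set_option maxRecDepth 100000
open Cfsg

namespace Cfsg.Agent.S3344
open H07.Wg H13 L.DC

/-- Let G be a finite group with an involution s, L = C_G(s) and Q = O₂(L). Suppose Q is extraspecial of order 32, L/Q is isomorphic to Sym(3), C_Q(X) = ⟨s⟩ for a Sylow 3-subgroup X of L, and s is not weakly closed in Q with respect to G (some conjugate of s other than s lies in Q). Then either G has an elementary abelian normal subgroup of order 8 with quotient isomorphic to PSL(3,2), or G is isomorphic to the alternating group of degree 8 or 9, or to the Mathieu group M₁₂. -/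
theorem result {G : Type*} [Group G] [Finite G]
    (s : G) (hs : orderOf s = 2) (L : Subgroup G) (hL : L = Subgroup.centralizer ({s} : Set G))
    (Q : Subgroup G) (hQ : Q = (Cfsg.pCore 2 L).map L.subtype)
    (hQex : Cfsg.IsExtraspecial 2 Q) (hQcard : Nat.card Q = 32)
    (e : L ⧸ Cfsg.pCore 2 L ≃* Equiv.Perm (Fin 3))
    (X : Sylow 3 L) (hCQX : Q ⊓ Subgroup.centralizer (((X : Subgroup L).map L.subtype : Subgroup G) : Set G) = Subgroup.zpowers s)
    (hnwc : ∃ g : G, g * s * g⁻¹ ∈ Q ∧ g * s * g⁻¹ ≠ s) :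
    (∃ (N : Subgroup G) (hN : N.Normal), IsMulCommutative N ∧ (∀ n ∈ N, n ^ 2 = 1) ∧ Nat.card N = 8 ∧
        Nonempty (G ⧸ N ≃* Matrix.ProjectiveSpecialLinearGroup (Fin 3) (ZMod 2))) ∨
    Nonempty (G ≃* alternatingGroup (Fin 8)) ∨ Nonempty (G ≃* alternatingGroup (Fin 9)) ∨ Cfsg.Spor.IsoM12 G := by
  obtain ⟨g, g1, g2⟩ := hnwc
  obtain ⟨f, h, rfl, a, a1, a2⟩ := coord hs hL hQ hQex hQcard e X hCQX g1 g2
  have c : IsConj (f 1) (f a) := isConj_iff.2 ⟨g, a2.symm⟩
  have n : a ≠ 1 := fun r => g2 (a2.symm.trans (congrArg f r))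
  rcases h with h | h
  · have k := c.trans (jc h.toCG (get 12 CJA a) rfl)
    rcases H07.Wg.typeA0 h (by
      rcases (by decide +kernel : ∀ a < 32, MA a a = 0 → a = 0 ∨ a = 1 ∨ cj MA IA (get 12 CJA a) a = 2 ∨ cj MA IA (get 12 CJA a) a = 16 ∨
        cj MA IA (get 12 CJA a) a = 18) a a1 (h.meq1.1 (sq_of_conj c h.z2)) with rfl | r | r | r | r
      exacts [(ne_of_conj c h.z1 h.zero).elim, (n r).elim, .inl (r ▸ k), .inr (.inl (r ▸ k)), .inr (.inr (r ▸ k))]) with r | ⟨_, _, _, r⟩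
    exacts [.inl r, .inr (r.alt.imp_right .inl)]
  · have k := c.trans (jc h.toCG (get 12 CJM a) rfl)
    refine (typeM h ?_).imp_right fun r => .inr (.inr r)
    rcases (by decide +kernel : ∀ a < 32, MM a a = 0 → a = 0 ∨ a = 1 ∨ cj MM IM (get 12 CJM a) a = 2 ∨ cj MM IM (get 12 CJM a) a = 16) a a1
      (h.meq1.1 (sq_of_conj c h.z2)) with rfl | r | r | r
    exacts [(ne_of_conj c h.z1 h.zero).elim, (n r).elim, r ▸ k, (nstM h (r ▸ k)).elim]

end Cfsg.Agent.S3344
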