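import Mathlib
import Cfsg.Statements.S3669
import Cfsg.Agent.L.PSL2Deg
import Cfsg.Agent.H08.Small
import Cfsg.Agent.H06.Degree
import Cfsg.Agent.H01.Hall
import Cfsg.Agent.S0493

set_option autoImplicit false
open Cfsg

namespace Cfsg.Agent.S3669

universe u

theorem solv_lt (n : ℕ) : ∀ (G : Type u) [Group G] [Finite G], Nat.card G = n → n < 60 →
    Group.IsSolvable G := by
  induction n using Nat.strong_induction_on with
  | _ n ih =>
  intro G _ _ hn h60
  by_cases hs : IsSimpleGroup G
  · by_cases hc : IsCyclic G
    · exact Group.isSolvable_of_comm (fun a b => (IsCyclic.commGroup (α := G)).mul_comm a b)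
    · have := Cfsg.Agent.S0493.result hc (by omega)
      omega
  · rcases subsingleton_or_nontrivial G with h | h
    · infer_instance
    · have : ∃ N : Subgroup G, N.Normal ∧ N ≠ ⊥ ∧ N ≠ ⊤ := by
        by_contra hh
        push Not at hh
        exact hs ⟨fun N hN => by
          by_cases h1 : N = ⊥
          · exact Or.inl h1
          · exact Or.inr (hh N hN h1)⟩
      obtain ⟨N, hN, h1, h2⟩ := this
      have e := N.card_mul_index
      have a1 : 1 < Nat.card N := (Subgroup.one_lt_card_iff_ne_bot N).2 h1
      have a2 : 1 < N.index := Subgroup.one_lt_index_of_ne_top h2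
      have s1 : Group.IsSolvable N := ih (Nat.card N) (by nlinarith) N rfl (by nlinarith)
      have s2 : Group.IsSolvable (G ⧸ N) := ih N.index (by nlinarith) (G ⧸ N) rfl (by nlinarith)
      exact Group.isSolvable_of_ker_le_range N.subtype (QuotientGroup.mk' N) (by simp)

theorem solv_of_not_simple {G : Type u} [Group G] [Finite G] (hcard : Nat.card G = 60)
    (hs : ¬ IsSimpleGroup G) : Group.IsSolvable G := by
  have : Nontrivial G := Finite.one_lt_card_iff_nontrivial.1 (by omega)
  have : ∃ N : Subgroup G, N.Normal ∧ N ≠ ⊥ ∧ N ≠ ⊤ := by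
    by_contra hh
    push Not at hh
    exact hs ⟨fun N hN => by
      by_cases h1 : N = ⊥
      · exact Or.inl h1
      · exact Or.inr (hh N hN h1)⟩
  obtain ⟨N, hN, h1, h2⟩ := this
  have e := N.card_mul_index
  have a1 : 1 < Nat.card N := (Subgroup.one_lt_card_iff_ne_bot N).2 h1
  have a2 : 1 < N.index := Subgroup.one_lt_index_of_ne_top h2
  have s1 : Group.IsSolvable N := solv_lt (Nat.card N) N rfl (by nlinarith)
  have s2 : Group.IsSolvable (G ⧸ N) := solv_lt N.index (G ⧸ N) rfl (by nlinarith)
  exact Group.isSolvable_of_ker_le_range N.subtype (QuotientGroup.mk' N) (by simp)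

theorem normal_five {G : Type u} [Group G] [Finite G] (hcard : Nat.card G = 60)
    [Group.IsSolvable G] : ∃ P : Subgroup G, P.Normal ∧ Nat.card P = 5 := by
  have : Fact (Nat.Prime 5) := ⟨by norm_num⟩
  obtain ⟨H, hH⟩ := H01.hall_exists (G := G) 15 4 (by omega) (by norm_num)
  obtain ⟨Q⟩ : Nonempty (Sylow 5 H) := inferInstance
  have hQ : Nat.card Q = 5 := by
    rw [Sylow.card_eq_multiplicity, hH]
    have : (15 : ℕ).factorization 5 = 1 := by
      rw [show (15 : ℕ) = 5 * 3 by norm_num, Nat.factorization_mul (by norm_num) (by norm_num)]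
      simp [Nat.Prime.factorization (show Nat.Prime 5 by norm_num),
        Nat.Prime.factorization (show Nat.Prime 3 by norm_num)]
    rw [this]; norm_num
  have hQi : (Q : Subgroup H).index = 3 := by
    have := (Q : Subgroup H).card_mul_index
    rw [hQ, hH] at this; omega
  have hQn : (Q : Subgroup H).Normal := by
    have h1 := card_sylow_modEq_one 5 H
    have h2 := Sylow.card_dvd_index Q
    rw [hQi] at h2
    have h3 : Nat.card (Sylow 5 H) = 1 := by
      have := (Nat.dvd_prime (by norm_num)).1 h2
      rcases this with h | h
      · exact h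
      · rw [h] at h1; exact absurd h1 (by decide)
    have : Subsingleton (Sylow 5 H) := (Nat.card_eq_one_iff_unique.1 h3).1
    exact Sylow.normal_of_subsingleton Q
  have hP : Nat.card ((Q : Subgroup H).map H.subtype) = 5 := by
    rw [Subgroup.card_map_of_injective H.subtype_injective]; exact hQ
  have f60 : (60 : ℕ).factorization 5 = 1 := by
    rw [show (60 : ℕ) = 5 * 12 by norm_num, Nat.factorization_mul (by norm_num) (by norm_num)]
    simp [Nat.Prime.factorization (show Nat.Prime 5 by norm_num),
      Nat.factorization_eq_zero_of_not_dvd (show ¬ 5 ∣ 12 by norm_num)]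
  let P : Sylow 5 G := Sylow.ofCard ((Q : Subgroup H).map H.subtype) (by rw [hP, hcard, f60]; norm_num)
  have hle : H ≤ Subgroup.normalizer ((P : Subgroup G) : Set G) := by
    have := Subgroup.le_normalizer_map (H := (Q : Subgroup H)) H.subtype
    rw [Subgroup.normalizer_eq_top, ← MonoidHom.range_eq_map, Subgroup.range_subtype] at this
    exact this
  have hHi : H.index = 4 := by
    have := H.card_mul_index
    rw [hH, hcard] at this; omega
  have h1 := card_sylow_modEq_one 5 G
  have h2 : Nat.card (Sylow 5 G) ∣ 4 := by
    rw [Sylow.card_eq_index_normalizer P, ← hHi]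
    exact Subgroup.index_dvd_of_le hle
  have h3 : Nat.card (Sylow 5 G) = 1 := by
    have h4 := Nat.le_of_dvd (by norm_num) h2
    unfold Nat.ModEq at h1
    omega
  have : Subsingleton (Sylow 5 G) := (Nat.card_eq_one_iff_unique.1 h3).1
  exact ⟨P, Sylow.normal_of_subsingleton P, hP⟩

theorem five_mem : 5 ∈ Cfsg.degreePrimes (alternatingGroup (Fin 5)) := by
  have : Fact (Nat.Prime 2) := ⟨by norm_num⟩
  letI : Fintype (GaloisField 2 2) := Fintype.ofFinite _
  have h4 : Fintype.card (GaloisField 2 2) = 4 := by
    rw [← Nat.card_eq_fintype_card, GaloisField.card 2 2 (by norm_num)]; norm_num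
  obtain ⟨e⟩ := H08.A5_of_psl2 (F := GaloisField 2 2) (Or.inl h4)
  have h : L.SLc.IsL2 (GaloisField 2 2) (alternatingGroup (Fin 5)) := Or.inl ⟨e.symm⟩
  rw [h.degreePrimes (by omega) (by omega), h4]
  exact ⟨by norm_num, by norm_num⟩

/-- The character degree graph of a finite group has as vertices the primes dividing some irreducible complex character degree, two distinct primes being joined when their product divides some irreducible character degree; two groups have the same character degree graph when they have the same vertices and the same joined pairs. A finite group of order 60 with the same character degree graph as the alternating group A₅ (whose character degrees are 1, 3, 4, 5, so the graph has vertices 2, 3, 5 and no edges) is isomorphic to A₅. -/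
theorem result {G : Type*} [Group G] [Finite G] (hcard : Nat.card G = 60)
    (hΓ : Cfsg.degreePrimes G = Cfsg.degreePrimes (alternatingGroup (Fin 5)) ∧ Cfsg.degreeGraph G = Cfsg.degreeGraph (alternatingGroup (Fin 5))) : Nonempty (G ≃* alternatingGroup (Fin 5)) := by
  by_cases hs : IsSimpleGroup G
  · exact H08.A5_of_simple hcard
  · exfalso
    have := solv_of_not_simple hcard hs
    obtain ⟨P, hPn, hP⟩ := normal_five hcard
    have h5 := five_mem
    rw [← hΓ.1] at h5
    obtain ⟨-, d, ⟨χ, rfl⟩, hd⟩ := h5
    have : Fact (Nat.Prime 5) := ⟨by norm_num⟩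
    have : IsCyclic P := isCyclic_of_prime_card hP
    have : IsMulCommutative P := inferInstance
    have h := H06.ito_charDegree_dvd_index χ.2 P
    have hi : P.index = 12 := by
      have := P.card_mul_index
      rw [hP, hcard] at this; omega
    rw [hi] at h
    exact absurd (hd.trans h) (by norm_num)

end Cfsg.Agent.S3669
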