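import Mathlib
import Cfsg.Statements.S3937
import Cfsg.Agent.H02.Zipper
import Cfsg.Agent.BG.Api4

set_option autoImplicit false
open Cfsg

namespace Cfsg.Agent.S3937

open BG Cfsg

theorem foldl_rep {G : Type*} [Group G] (g x : G) (n : ℕ) :
    (List.replicate n g).foldl (fun a b => a * b * a⁻¹ * b⁻¹) x = (fun a => a * g * a⁻¹ * g⁻¹)^[n] x := by
  induction n generalizing x with
  | zero => rfl
  | succ n ih => rw [List.replicate_succ, List.foldl_cons, ih]; rfl

universe u in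
theorem aux (n : ℕ) : ∀ (G : Type u) [Group G] [Finite G], Nat.card G = n → ∀ g : G,
    (∀ x : G, ∃ n : ℕ, (fun a => a * g * a⁻¹ * g⁻¹)^[n] x = 1) → g ∈ fittingSubgroup G := by
  induction n using Nat.strong_induction_on with
  | _ n ih =>
  intro G _ _ hn g hg
  have hsub : ∀ (H : Subgroup G) (h : g ∈ H), H ≠ ⊤ → (⟨g, h⟩ : H) ∈ fittingSubgroup H := by
    intro H h hH
    refine ih _ (hn ▸ H02.card_subgroup_lt hH) H rfl _ fun x => ?_
    obtain ⟨k, hk⟩ := hg x
    refine ⟨k, Subtype.ext ?_⟩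
    rw [Subgroup.coe_one, ← hk]
    exact (Function.Semiconj.iterate_right (f := Subtype.val)
      (ga := fun a : H => a * ⟨g, h⟩ * a⁻¹ * ⟨g, h⟩⁻¹) (gb := fun a => a * g * a⁻¹ * g⁻¹) (fun _ => rfl) k x)
  by_cases hs : (Subgroup.zpowers g).IsSubnormal
  · exact H02.le_fitting_of_subnormal hs (nil_of_abelian (abelian_of_cyclic (cyclic_zpowers g))) (Subgroup.mem_zpowers g)
  obtain ⟨M, ⟨hM, hgM⟩, huniq⟩ := H02.zipper (Subgroup.zpowers g) (fun H hle hH => by
    refine H02.isSubnormal_of_le_fitting ?_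
    rintro ⟨_, hx⟩ ⟨k, rfl⟩
    exact zpow_mem (hsub H (hle (Subgroup.mem_zpowers g)) hH) k) hs
  have hg' : g ∈ M := hgM (Subgroup.mem_zpowers g)
  by_cases hN : M.Normal
  · exact H02.fittingOf_le_fitting M ⟨_, hsub M hg' hM.1, rfl⟩
  have hNM : N_(M) = M := by
    by_contra h
    exact hN (Subgroup.normalizer_eq_top_iff.1 (hM.2 _ (lt_of_le_of_ne (le_norm M) (Ne.symm h))))
  have key : ∀ x : G, x * g * x⁻¹ * g⁻¹ ∈ M → x ∈ M := by
    intro x hx
    have h1 : x * g * x⁻¹ ∈ M := by simpa using mul_mem hx hg'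
    have h2 := huniq (cj x⁻¹ M) ⟨isCoatom_cj.2 hM, by simpa using mem_cj_inv.2 h1⟩
    rw [← hNM, ← inv_mem_iff]; exact cj_eq_self_iff.1 h2
  refine absurd (eq_top_iff.2 fun x _ => ?_) hM.1
  obtain ⟨k, hk⟩ := hg x
  have : ∀ (k : ℕ) (x : G), (fun a => a * g * a⁻¹ * g⁻¹)^[k] x ∈ M → x ∈ M := by
    intro k
    induction k with
    | zero => exact fun x h => h
    | succ k ih => exact fun x h => key x (ih _ h)
  exact this k x (hk ▸ one_mem M)

/-- Baer's characterization of the Fitting subgroup: in a finite group G, an element g lies in the Fitting subgroup if and only if g is a left Engel element, that is, for every x there is n with [x, g, g, …, g] = 1 (n entries g, [a, b] = aba⁻¹b⁻¹). -/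
theorem result {G : Type*} [Group G] [Finite G] (g : G) :
    g ∈ Cfsg.fittingSubgroup G ↔ ∀ x : G, ∃ n : ℕ, (List.replicate n g).foldl (fun a b => a * b * a⁻¹ * b⁻¹) x = 1 := by
  simp only [foldl_rep]
  refine ⟨fun hg x => ?_, aux _ G rfl g⟩
  obtain ⟨n, hn⟩ := Subgroup.nilpotent_iff_lowerCentralSeries.1 (H02.fitting_isNilpotent G)
  have h0 : x * g * x⁻¹ * g⁻¹ ∈ fittingSubgroup G := mul_mem ((H02.fitting_normal G).conj_mem g hg x) (inv_mem hg)
  have key : ∀ k : ℕ, (fun a => a * g * a⁻¹ * g⁻¹)^[k + 1] x ∈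
      (Subgroup.lowerCentralSeries (⊤ : Subgroup (fittingSubgroup G)) k).map (fittingSubgroup G).subtype := by
    intro k
    induction k with
    | zero => exact ⟨⟨_, h0⟩, Subgroup.mem_top _, rfl⟩
    | succ k ih =>
      obtain ⟨y, hy, e⟩ := ih
      rw [Function.iterate_succ_apply', ← e]
      exact ⟨_, Subgroup.commutator_mem_commutator hy (Subgroup.mem_top ⟨g, hg⟩), rfl⟩
  refine ⟨n + 1, ?_⟩
  have := key n
  rwa [hn, Subgroup.map_bot, Subgroup.mem_bot] at this

end Cfsg.Agent.S3937
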