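import Mathlib
import Cfsg.Statements.S1222
import Cfsg.Agent.S1136
import Cfsg.Agent.S0204
import Cfsg.Agent.H12.Sz3
import Cfsg.Agent.H08.StronglyEmbedded
import Cfsg.Agent.H18.RK1

set_option autoImplicit false
open scoped Pointwise
open Cfsg

namespace Cfsg.Agent.S1222

/-- Let G be a finite simple group with a strongly embedded subgroup H such that H permutes transitively the cosets gH with g ∉ H, and H has a normal subgroup Q acting regularly on those cosets (transitively, with only the identity fixing any of them). Then G is isomorphic to PSL(2,F) with F of characteristic 2 and at least 4 elements, or is simple with the order of a Suzuki group, or is isomorphic to PSU(3) over a field with q² elements, q ≥ 4 a power of 2. -/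
theorem result {G : Type*} [Group G] [Finite G] [IsSimpleGroup G] (H : Subgroup G) (hH : Cfsg.IsStronglyEmbedded H) (Q : Subgroup G) (hQH : Q ≤ H) (hQn : (Q.subgroupOf H).Normal) (htrans : ∀ g₁ g₂ : G, g₁ ∉ H → g₂ ∉ H → ∃ u ∈ Q, g₂⁻¹ * (u * g₁) ∈ H) (hreg : ∀ g : G, g ∉ H → ∀ u ∈ Q, g⁻¹ * (u * g) ∈ H → u = 1) : (∃ (F : Type) (_ : Field F) (_ : Fintype F), CharP F 2 ∧ 4 ≤ Fintype.card F ∧ Nonempty (G ≃* Matrix.ProjectiveSpecialLinearGroup (Fin 2) F)) ∨ Cfsg.IsSuzuki G ∨ (∃ (F : Type) (_ : Field F) (_ : Fintype F) (q : ℕ), Fintype.card F = q ^ 2 ∧ Even q ∧ 4 ≤ q ∧ Nonempty (G ≃* Cfsg.PSU 3 F q)) := by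
  classical
  obtain ⟨w, hwH, hw2⟩ := H08.SE.exists_invol_notMem hH
  have hww : w * w = 1 := by rw [← pow_two, ← hw2, pow_orderOf_eq_one]
  have hwi : w⁻¹ = w := inv_eq_of_mul_eq_one_right hww
  have hR : H18.RK H Q w :=
    { ww := hww
      w_not := hwH
      le := hQH
      conj := fun b hb u hu => by
        have := hQn.conj_mem ⟨u, hQH hu⟩ (by simpa [Subgroup.mem_subgroupOf] using hu) ⟨b, hb⟩
        simpa [Subgroup.mem_subgroupOf] using this
      bruhat := fun g hg => by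
        obtain ⟨u, hu, h⟩ := htrans w g hwH hg
        exact ⟨u, hu, (g⁻¹ * (u * w))⁻¹, H.inv_mem h, by group⟩
      free := fun u hu h => hreg w hwH u hu (by rwa [hwi, ← mul_assoc]) }
  have hodd : Odd (Nat.card (H18.torus H w)) := by
    have e : H18.torus H w = H ⊓ H.map (MulAut.conj w).toMonoidHom := by
      ext g
      rw [H18.mem_torus', Subgroup.mem_inf, Subgroup.mem_map_equiv]
      simp
    rw [e]; exact hH.2.2 w hwH
  have hev : Even (Nat.card Q) := by
    have h := hH.2.1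
    rw [hR.card_B] at h
    exact (Nat.even_mul.1 h).resolve_right (Nat.not_even_iff_odd.2 hodd)
  have hS := hR.setup hev hodd
  haveI := hR.faithful
  have hnc : ¬ IsCyclic G := fun hc => by
    obtain ⟨t, ht, ht2⟩ := H08.SE.exists_invol hH
    letI := hc.commGroup
    exact hwH (H08.SE.mem_of_commute hH ht ht2 (mul_comm w t))
  obtain ⟨E, hE⟩ := Cfsg.Agent.S0204.result hnc
  have h2 : ∃ x y : G, x ≠ 1 ∧ y ≠ 1 ∧ x ≠ y ∧ x * x = 1 ∧ y * y = 1 ∧ x * y = y * x := by
    haveI := Fintype.ofFinite E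
    have h4 : 2 < Fintype.card E := by rw [← Nat.card_eq_fintype_card, hE.card_four]; norm_num
    have hsq : ∀ x : E, x * x = 1 := fun x => IsKleinFour.mul_self x
    have hcm : ∀ x y : E, x * y = y * x := fun x y => by
      have h := hsq (x * y)
      calc x * y = (x * x) * (y * x) * (y * y) := by
            have : x * y * (x * y) = 1 := h
            calc x * y = (x * y)⁻¹ := (inv_eq_of_mul_eq_one_right this).symm
              _ = y⁻¹ * x⁻¹ := mul_inv_rev _ _
              _ = y * x := by rw [inv_eq_of_mul_eq_one_right (hsq x), inv_eq_of_mul_eq_one_right (hsq y)]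
              _ = _ := by rw [hsq, hsq, one_mul, mul_one]
        _ = y * x := by rw [hsq, hsq, one_mul, mul_one]
    obtain ⟨a, b, c, hab, hac, hbc⟩ := Fintype.two_lt_card_iff.1 h4
    have key : ∀ x y : E, x ≠ 1 → y ≠ 1 → x ≠ y → ∃ x y : G, x ≠ 1 ∧ y ≠ 1 ∧ x ≠ y ∧ x * x = 1 ∧ y * y = 1 ∧ x * y = y * x :=
      fun x y hx hy hxy => ⟨x, y, fun e => hx (Subtype.ext e), fun e => hy (Subtype.ext e), fun e => hxy (Subtype.ext e),
        congrArg Subtype.val (hsq x), congrArg Subtype.val (hsq y), congrArg Subtype.val (hcm x y)⟩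
    by_cases ha : a = 1
    · exact key b c (ha ▸ hab.symm) (ha ▸ hac.symm) hbc
    by_cases hb : b = 1
    · exact key a c ha (hb ▸ hbc.symm) hac
    exact key a b ha hb hab
  obtain ⟨L, hLn, hLo, hL⟩ := Cfsg.Agent.S1136.result hS h2
  have hLt : L = ⊤ := by
    refine (hLn.eq_bot_or_eq_top).resolve_left fun e => ?_
    rw [e, Subgroup.index_bot] at hLo
    have := orderOf_dvd_natCard w
    rw [hw2] at this
    exact (Nat.not_even_iff_odd.2 hLo) (even_iff_two_dvd.2 this)
  subst hLt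
  have e0 : G ≃* (⊤ : Subgroup G) := Subgroup.topEquiv.symm
  have hpow : ∀ n : ℕ, 2 ≤ n → 4 ≤ 2 ^ n := fun n hn =>
    le_trans (by norm_num) (Nat.pow_le_pow_right (by norm_num) hn)
  rcases hL with ⟨F, _, _, ⟨n, hn, hF⟩, ⟨e⟩⟩ | ⟨F, _, _, m, hm, hF, ⟨e⟩⟩ | ⟨F, _, _, n, hn, hF, ⟨e⟩⟩
  · refine Or.inl ⟨F, inferInstance, inferInstance, ?_, hF ▸ hpow n hn, ⟨e0.trans e⟩⟩
    have h := FiniteField.cast_card_eq_zero F
    rw [hF] at h
    push_cast at h
    exact CharTwo.of_one_ne_zero_of_two_eq_zero one_ne_zero (pow_eq_zero_iff (by omega) |>.1 h)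
  · haveI : H12.Sz.SzF F m := ⟨hm, hF⟩
    refine Or.inr (Or.inl ⟨inferInstance, m, hm, ?_⟩)
    rw [Nat.card_congr ((e0.trans e).trans (H12.Sz.lieEquiv (F := F)).symm).toEquiv, H12.Sz.card_G, hF]
  · exact Or.inr (Or.inr ⟨F, inferInstance, inferInstance, 2 ^ n, hF, (Nat.even_pow.2 ⟨even_two, by omega⟩), hpow n hn, ⟨e0.trans e⟩⟩)

end Cfsg.Agent.S1222
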