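import Mathlib
import Cfsg.Statements.S0222
import Cfsg.Agent.H17.BCor
import Cfsg.Agent.S1222

set_option autoImplicit false
open Cfsg

namespace Cfsg.Agent.S0222

/-- Bender's Theorem for simple groups: let G be a non-abelian finite simple group possessing a strongly embedded subgroup. Then G is isomorphic to PSL2 over a finite field of characteristic 2 with at least 4 elements, or G is a simple group whose order is that of a Suzuki group Sz(2^(2m+1)) with m ≥ 1, or G is isomorphic to PSU3 realised over a field with q^2 elements, q ≥ 4 a power of 2. -/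
theorem result {G : Type*} [Group G] [Finite G] [IsSimpleGroup G] (hna : ∃ a b : G, a * b ≠ b * a) (H : Subgroup G) (hH : Cfsg.IsStronglyEmbedded H) : (∃ (F : Type) (_ : Field F) (_ : Fintype F), CharP F 2 ∧ 4 ≤ Fintype.card F ∧ Nonempty (G ≃* Matrix.ProjectiveSpecialLinearGroup (Fin 2) F)) ∨ Cfsg.IsSuzuki G ∨ (∃ (F : Type) (_ : Field F) (_ : Fintype F) (q : ℕ), Fintype.card F = q ^ 2 ∧ Even q ∧ 4 ≤ q ∧ Nonempty (G ≃* Cfsg.PSU 3 F q)) := by
  obtain ⟨Q, w, f⟩ := H17.BC.fq_simple H25.BE.bender_core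
    (fun hc => by obtain ⟨a, b, h⟩ := hna; exact h (hc.1.1 a b)) hH
  refine Cfsg.Agent.S1222.result H hH Q f.rk.le f.normal (fun g₁ g₂ h1 h2 => ?_) fun g hg v hv h => ?_
  · obtain ⟨u₁, hu₁, b₁, hb₁, rfl⟩ := f.rk.bruhat g₁ h1
    obtain ⟨u₂, hu₂, b₂, hb₂, rfl⟩ := f.rk.bruhat g₂ h2
    refine ⟨u₂ * u₁⁻¹, Q.mul_mem hu₂ (Q.inv_mem hu₁), ?_⟩
    have : (u₂ * w * b₂)⁻¹ * (u₂ * u₁⁻¹ * (u₁ * w * b₁)) = b₂⁻¹ * b₁ := by group
    rw [this]
    exact H.mul_mem (H.inv_mem hb₂) hb₁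
  · obtain ⟨u, hu, b, hb, rfl⟩ := f.rk.bruhat g hg
    have h3 : w * (u⁻¹ * v * u) * w ∈ H := by
      have : w * (u⁻¹ * v * u) * w = b * ((u * w * b)⁻¹ * (v * (u * w * b))) * b⁻¹ := by
        calc w * (u⁻¹ * v * u) * w = w⁻¹ * (u⁻¹ * v * u) * w := by rw [f.rk.winv]
          _ = _ := by group
      rw [this]
      exact H.mul_mem (H.mul_mem hb h) (H.inv_mem hb)
    have h4 := f.rk.free _ (Q.mul_mem (Q.mul_mem (Q.inv_mem hu) hv) hu) h3
    calc v = u * (u⁻¹ * v * u) * u⁻¹ := by group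
      _ = 1 := by rw [h4]; group

end Cfsg.Agent.S0222
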