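import Mathlib
import Cfsg.Statements.S3225
import Cfsg.Agent.H08.Basic
import Cfsg.Agent.H03.Focal

set_option autoImplicit false
open Cfsg

namespace Cfsg.Agent.S3225

open Subgroup H08

/-- Let G be a finite group of even order with no subgroup of index 2, S a Sylow 2-subgroup of G and M a subgroup of index 2 in S such that, for some n ≥ 1, every element of S outside M has order greater than 2^(n−1). Then every element of S of order 2ⁿ is conjugate in G to an element of M. -/
theorem result {G : Type*} [Group G] [Finite G] (hev : Even (Nat.card G))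
    (hG : ∀ H : Subgroup G, H.index ≠ 2) (S : Sylow 2 G) (M : Subgroup G) (hMS : M ≤ (S : Subgroup G)) (hM : M.relIndex (S : Subgroup G) = 2)
    (n : ℕ) (hn : 1 ≤ n) (hord : ∀ y ∈ (S : Subgroup G), y ∉ M → 2 ^ (n - 1) < orderOf y)
    (x : G) (hx : x ∈ (S : Subgroup G)) (hxn : orderOf x = 2 ^ n) :
    ∃ g : G, g * x * g⁻¹ ∈ M := by
  by_contra! h
  have hN : (M.subgroupOf S).Normal := normal_of_index_eq_two hM
  have hc : Nat.card ((S : Subgroup G) ⧸ M.subgroupOf S) = 2 := hM
  have : IsCyclic ((S : Subgroup G) ⧸ M.subgroupOf S) := isCyclic_of_prime_card hc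
  let _ : CommGroup ((S : Subgroup G) ⧸ M.subgroupOf S) := IsCyclic.commGroup
  obtain ⟨a, ha, hau⟩ := (Nat.card_eq_two_iff' (1 : (S : Subgroup G) ⧸ M.subgroupOf S)).mp hc
  have ha2 : a ^ 2 = 1 := by have := pow_card_eq_one' (x := a); rwa [hc] at this
  have hV := H03.exists_normal_notMem_of_transfer S.not_dvd_index (IsPGroup.of_card (n := 1) (by simpa using hc))
    (QuotientGroup.mk' (M.subgroupOf S)) x a ha (by
      intro k g hk
      rcases Nat.even_or_odd' k with ⟨j, rfl | rfl⟩
      · rw [pow_mul a, ha2, one_pow, QuotientGroup.mk'_apply, QuotientGroup.eq_one_iff, mem_subgroupOf]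
        refine by_contra fun e => (hord _ hk e).not_ge (Nat.le_of_dvd (by positivity) (orderOf_dvd_of_pow_eq_one ?_))
        have h1 : x ^ (2 * j * 2 ^ (n - 1)) = 1 := orderOf_dvd_iff_pow_eq_one.1 ⟨j, by
          rw [hxn, ← Nat.sub_add_cancel hn, pow_succ, Nat.add_sub_cancel]; ring⟩
        simpa [← pow_mul, h1] using conj_pow (a := g⁻¹) (b := x ^ (2 * j)) (i := 2 ^ (n - 1))
      · rw [pow_succ a, pow_mul a, ha2, one_pow, one_mul]
        apply hau
        rw [QuotientGroup.mk'_apply, Ne, QuotientGroup.eq_one_iff, mem_subgroupOf]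
        refine fun e => h g⁻¹ (H03.mem_of_pow_mem_of_coprime (n := 2 * j + 1) (by rwa [conj_pow, inv_inv]) ?_)
        rw [orderOf_conj', hxn]
        exact (Nat.coprime_two_left.2 ⟨j, rfl⟩).pow_left n)
  refine hG (MonoidHom.transfer (QuotientGroup.mk' (M.subgroupOf S))).ker ?_
  rw [index_ker]
  have h1 := card_subgroup_dvd_card (MonoidHom.transfer (QuotientGroup.mk' (M.subgroupOf S))).range
  rw [hc] at h1
  refine ((Nat.dvd_prime Nat.prime_two).mp h1).resolve_left fun h2 => hV ?_
  rw [card_eq_one, MonoidHom.range_eq_bot_iff] at h2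
  rw [h2, MonoidHom.one_apply]

end Cfsg.Agent.S3225
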