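import Mathlib
import Cfsg.Statements.S3278
import Cfsg.Agent.H08.KleinC

set_option autoImplicit false
open Cfsg

namespace Cfsg.Agent.S3278

open Subgroup H08

/-- Let G be a finite simple group with an involution x such that a Sylow 2-subgroup of C_G(x) is a Klein four-group which is normal in C_G(x). Then G is isomorphic to the alternating group of degree 5 (that is, to PSL(2, 5)). -/
theorem result {G : Type*} [Group G] [Finite G] [IsSimpleGroup G] (x : G) (hx : orderOf x = 2)
    (S₀ : Subgroup G) (hle : S₀ ≤ Subgroup.centralizer ({x} : Set G)) (hK : IsKleinFour ↥S₀)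
    (hodd : ¬ 2 ∣ S₀.relIndex (Subgroup.centralizer ({x} : Set G))) (hn : (S₀.subgroupOf (Subgroup.centralizer ({x} : Set G))).Normal) :
    Nonempty (G ≃* ↥(alternatingGroup (Fin 5))) := by
  have h4 : 4 ∣ Nat.card G := hK.card_four ▸ card_subgroup_dvd_card S₀
  have hc := not_comm_of_four_dvd h4
  have hpow : ∀ g ∈ centralizer ({x} : Set G), g ^ S₀.relIndex (centralizer ({x} : Set G)) ∈ S₀ :=
    fun g hg => pow_index_mem (H := S₀.subgroupOf (centralizer ({x} : Set G))) ⟨g, hg⟩
  obtain ⟨k, hk⟩ := Nat.odd_iff.2 (Nat.two_dvd_ne_zero.1 hodd)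
  have hin : ∀ u ∈ centralizer ({x} : Set G), orderOf u = 2 → u ∈ S₀ := fun u hu h2 => by
    simpa [hk, pow_succ, pow_mul, sq, mul_self_of_orderOf h2] using hpow u hu
  by_cases h8 : 8 ∣ Nat.card G
  · obtain ⟨z, -, hz, -, h⟩ := klein_step hx hK hle hin (by
      rw [← (S₀.subgroupOf (centralizer ({x} : Set G))).card_mul_index, H01.card_subgroupOf_of_le hle,
        hK.card_four]
      exact fun h => hodd (Nat.dvd_of_mul_dvd_mul_left (by norm_num : 0 < 4) h)) h8
    obtain ⟨h1, -⟩ := normalClosure_elemAb (mul_self_of_orderOf hz) h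
    rcases (inferInstance : (normalClosure ({z} : Set G)).Normal).eq_bot_or_eq_top with e | e
    · exact absurd (mem_bot.1 (e ▸ subset_normalClosure rfl)) (ne_one_of_orderOf hz)
    · exact absurd ⟨⟨fun a b => h1 a (e.ge trivial) b (e.ge trivial)⟩⟩ hc
  obtain ⟨P, rfl⟩ := exists_sylow_of_klein hK h8
  have hB := H19.not_normalizer_le_centralizer hc (dvd_trans (by norm_num) h4) P
  have hnc : ¬ HasNormalPComplement 2 G := fun h => hB fun g hg => by
    rcases (inferInstance : (pResidual 2 G).Normal).eq_bot_or_eq_top with e | e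
    · exact absurd (H03.pResidual_eq_bot_iff.1 e).isNilpotent fun h' => by
        have := H19.center_eq_bot_of_simple hc
        exact (Group.IsNilpotent.center_ne_bot G) this
    · have := H03.hasNPC_iff_not_dvd_card_pResidual.1 h
      rw [e, card_top] at this
      exact absurd (dvd_trans (by norm_num) h4) this
  have hxP := hin x (mem_centralizer_singleton_iff.2 rfl) hx
  obtain ⟨y, hy, hxy, hcm, e⟩ := exists_klein_gens_of_mem hK hxP (ne_one_of_orderOf hx)
  have hyP : y ∈ (P : Subgroup G) := e ▸ subset_closure (by simp)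
  have hC : centralizer ({x} : Set G) = centralizer ((P : Subgroup G) : Set G) := by
    refine le_antisymm (fun g hg => ?_) (centralizer_le (Set.singleton_subset_iff.2 hxP))
    have h1 := mem_centralizer_singleton'.1 hg
    have h2 : g * y * g⁻¹ ∈ (P : Subgroup G) := hn.conj_mem ⟨y, hle hyP⟩ hyP ⟨g, hg⟩
    have h3 : Commute (g ^ 2) y := by
      rw [e, mem_closure_klein (mul_self_of_orderOf hx) (mul_self_of_orderOf hy) hcm] at h2
      rcases h2 with h2 | h2 | h2 | h2
      · exact absurd (by simpa using h2) (ne_one_of_orderOf hy)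
      · exact absurd (by simpa using h1.trans h2.symm) hxy
      · exact Commute.pow_left (mul_inv_eq_iff_eq_mul.1 h2) 2
      · refine mul_inv_eq_iff_eq_mul.1 ?_
        calc _ = g * (g * y * g⁻¹) * g⁻¹ := by rw [sq]; group
          _ = y := by rw [h2, ← conj_mul, h1, h2, ← mul_assoc, mul_self_of_orderOf hx, one_mul]
    have h5 := commute_of_mem_klein hK (hpow g hg) hyP
    rw [hk, pow_succ, pow_mul] at h5
    have h6 : Commute g y := by simpa using (h3.pow_left k).inv_left.mul_left h5
    rw [e, centralizer_closure]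
    rintro _ (rfl | rfl)
    exacts [(mem_centralizer_singleton_iff.1 hg).symm, h6.symm]
  have h1 := klein_ineq P hK (one_class_of_not_hasNPC P hK.card_four hnc).2 hxP hx
  rw [hC, pow_succ' _ 2, ← mul_assoc] at h1
  have h2 := Nat.le_of_mul_le_mul_right h1 (pow_pos Nat.card_pos 2)
  have hCN := centralizer_le_normalizer ((P : Subgroup G) : Set G)
  have h3 := relIndex_mul_index hCN
  have h5 : ¬ 2 ∣ (centralizer ((P : Subgroup G) : Set G)).index := fun h =>
    P.not_dvd_index (h.trans (index_dvd_of_le (hC ▸ hle)))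
  have h6 : (centralizer ((P : Subgroup G) : Set G)).index ≤ 15 := by
    rw [← (centralizer ((P : Subgroup G) : Set G)).index_mul_card] at h2
    exact Nat.le_of_mul_le_mul_right h2 Nat.card_pos
  have h7 : (centralizer ((P : Subgroup G) : Set G)).relIndex (normalizer ((P : Subgroup G) : Set G)) ≠ 1 :=
    fun e => hB (relIndex_eq_one.1 e)
  refine A5_of_index_le_five (H19.normalizer_ne_top_of_simple (P.ne_bot_of_dvd_card
    (dvd_trans (by norm_num) h4)) (H19.sylow_ne_top_of_simple hc P)) ?_ h4
  rw [← h3] at h5 h6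
  have h9 : 3 ≤ (centralizer ((P : Subgroup G) : Set G)).relIndex (normalizer ((P : Subgroup G) : Set G)) := by
    have := mt (Dvd.dvd.mul_right · _) h5
    omega
  nlinarith

end Cfsg.Agent.S3278
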