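import Mathlib
import Cfsg.Statements.S3378
import Cfsg.Agent.H18.KB
import Cfsg.Agent.H18.FC5
import Cfsg.Agent.S3669
import Cfsg.Agent.S0215

set_option autoImplicit false
open scoped Pointwise
open Cfsg

namespace Cfsg.Agent.S3378

open MatrixGroups Subgroup

def R0 : H18.KB.Rl := [([0,1],[]),([1,0],[]),([2,3],[]),([3,2],[]),([0,0],[1]),([1,1],[0]),([2,2,2],[3,3]),([3,3,3],[2,2]),([4,4],[]),([4,0],[0,4]),([4,1],[1,4]),([4,2],[2,4]),([4,3],[3,4]),([0,2,0,2],[4])]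
def cert : List ((ℕ × ℕ × ℕ × Bool) × List ℕ) := [((13,2,3,false),[13]),((5,0,1,true),[]),((2,0,1,false),[]),((0,14,2,true),[]),((1,12,2,true),[]),((0,15,2,true),[]),((6,0,1,false),[]),((11,0,1,true),[]),((2,13,2,true),[]),((8,13,2,true),[]),((3,22,2,true),[]),((1,20,2,false),[]),((2,23,2,true),[]),((6,24,2,false),[]),((18,1,1,true),[]),((7,26,2,false),[]),((7,28,2,true),[]),((17,0,1,false),[]),((22,0,1,true),[]),((19,4,1,false),[]),((17,32,2,false),[]),((0,31,3,true),[]),((1,34,3,true),[]),((2,31,3,true),[]),((0,33,3,false),[]),((31,20,2,true),[]),((8,30,3,true),[]),((0,31,3,false),[]),((10,23,2,true),[]),((1,21,3,false),[]),((4,22,3,false),[]),((2,40,3,true),[]),((7,17,1,true),[]),((8,24,2,true),[]),((0,37,4,true),[]),((9,36,3,true),[]),((7,48,3,false),[]),((5,20,2,true),[]),((3,44,4,false),[]),((8,45,3,true),[]),((14,8,1,true),[]),((0,34,5,true),[]),((5,51,4,false),[]),((0,23,4,false),[]),((2,35,5,false),[]),((6,33,5,true),[]),((3,53,5,true),[]),((0,1,2,true),[]),((1,3,3,false),[]),((0,40,7,true),[]),((0,42,7,false),[]),((1,56,7,true),[])]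
def NF : List (List ℕ) := [[],[0],[1],[2],[3],[4],[2,0],[3,0],[0,4],[2,1],[3,1],[1,4],[0,2],[1,2],[2,2],[2,4],[0,3],[1,3],[3,3],[3,4],[0,3,4],[2,2,0],[0,3,0],[1,3,0],[3,3,0],[0,2,1],[1,2,1],[2,2,1],[0,3,1],[3,3,1],[3,0,2],[2,1,2],[3,1,2],[0,2,2],[1,2,2],[2,2,4],[2,0,3],[3,0,3],[2,1,3],[0,3,3],[1,3,3],[3,3,4],[0,2,1,3],[0,3,0,3],[2,0,3,0],[0,2,2,1],[2,1,3,0],[0,3,3,0],[1,3,3,0],[2,2,1,3],[3,1,2,1],[1,2,2,1],[1,3,0,2],[0,3,3,1],[0,3,0,2],[2,2,1,2],[0,3,1,2],[3,3,1,2],[3,0,2,2],[2,1,2,2],[0,3,3,4],[2,2,0,3],[3,3,0,3],[1,2,1,3],[3,0,3,3],[2,1,3,3],[2,2,1,3,3],[2,0,3,0,3],[0,2,2,1,3],[2,2,0,3,0],[3,0,2,2,1],[0,3,1,2,1],[3,0,3,3,0],[2,1,3,3,0],[3,3,1,2,1],[2,1,2,2,1],[2,1,3,0,2],[3,0,3,3,1],[0,2,2,1,2],[1,2,2,1,2],[1,3,0,2,2],[0,3,3,1,2],[0,3,0,2,2],[2,2,1,2,2],[0,2,1,3,3],[0,3,0,3,3],[0,3,3,0,3],[1,3,3,0,3],[3,3,0,3,3],[1,2,1,3,3],[0,2,2,1,3,3],[2,2,0,3,0,3],[0,2,1,3,3,0],[0,3,0,3,3,0],[0,3,0,2,2,1],[1,3,0,2,2,1],[2,1,3,3,0,3],[1,2,1,3,3,0],[0,3,3,1,2,1],[2,2,1,2,2,1],[0,3,0,3,3,1],[3,3,0,3,3,1],[2,1,2,2,1,2],[0,3,3,0,3,3],[0,2,2,1,2,2],[1,2,2,1,2,2],[3,0,3,3,0,3],[1,3,3,0,3,3],[0,2,1,3,3,0,3],[0,3,0,3,3,0,3],[0,2,2,1,2,2,1],[1,2,1,3,3,0,3],[0,3,3,0,3,3,1],[1,2,2,1,2,2,1],[2,2,1,2,2,1,2],[3,0,3,3,0,3,3],[2,1,2,2,1,2,2],[2,1,3,3,0,3,3],[0,3,0,3,3,0,3,3],[0,2,2,1,2,2,1,2]]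

theorem chk : H18.KB.closed 5 (H18.KB.grow R0 cert) NF = true ∧ NF.length = 120 := by decide +kernel

theorem card_le {G : Type*} [Group G] {x y z : G} (hx : x ^ 3 = 1) (hy : y ^ 5 = 1) (hz : z ^ 2 = 1)
    (hzx : z * x = x * z) (hzy : z * y = y * z) (hxy : (x * y) ^ 2 = z)
    (hg : closure {x, y, z} = ⊤) : Finite G ∧ Nat.card G ≤ 120 := by
  let g : ℕ → G := fun i => [x, x⁻¹, y, y⁻¹, z].getD i 1
  have c1 : Commute z x := hzx
  have c2 : Commute z y := hzy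
  have h0 : H18.KB.Ok g R0 := by
    have e1 : x * x = x⁻¹ := by rw [eq_inv_iff_mul_eq_one, ← hx, pow_succ, pow_two]
    have e2 : x⁻¹ * x⁻¹ = x := by rw [← mul_inv_rev, e1, inv_inv]
    have e3 : y * (y * y) = y⁻¹ * y⁻¹ := by
      rw [← mul_inv_rev, eq_inv_iff_mul_eq_one, ← hy]; simp only [pow_succ, pow_zero, one_mul, mul_assoc]
    have e4 : y⁻¹ * (y⁻¹ * y⁻¹) = y * y := by
      rw [← mul_inv_rev, ← mul_inv_rev, mul_assoc, e3, mul_inv_rev, inv_inv]
    have e5 : z * z = 1 := by rw [← hz, pow_two]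
    have e6 : x * (y * (x * y)) = z := by rw [← hxy, pow_two, mul_assoc]
    intro p hp
    simp only [R0, List.mem_cons, List.not_mem_nil, or_false] at hp
    rcases hp with rfl | rfl | rfl | rfl | rfl | rfl | rfl | rfl | rfl | rfl | rfl | rfl | rfl | rfl <;>
      simp [g, e1, e2, e3, e4, e5, e6, c1.eq, c2.eq, c1.inv_right.eq, c2.inv_right.eq]
  rw [← chk.2]
  refine H18.KB.card_le (H18.KB.grow_ok cert h0) chk.1 ?_
  rw [eq_top_iff]
  rintro a -
  have ha : a ∈ Subgroup.closure {x, y, z} := hg ▸ trivial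
  have m : ∀ i, i < 5 → g i ∈ Submonoid.closure (g '' {i | i < 5}) := fun i hi =>
    Submonoid.subset_closure ⟨i, hi, rfl⟩
  have zi : z⁻¹ = z := by rw [inv_eq_iff_mul_eq_one, ← pow_two, hz]
  induction ha using closure_induction'' with
  | one => exact one_mem _
  | mem a ha =>
    rcases ha with rfl | rfl | rfl
    exacts [m 0 (by omega), m 2 (by omega), m 4 (by omega)]
  | inv_mem a ha =>
    rcases ha with rfl | rfl | rfl
    exacts [m 1 (by omega), m 3 (by omega), zi.symm ▸ m 4 (by omega)]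
  | mul a b _ _ ha hb => exact mul_mem ha hb

def rels : Set (FreeGroup (Fin 3)) := {FreeGroup.of (0 : Fin 3) ^ 3, FreeGroup.of (1 : Fin 3) ^ 5, FreeGroup.of (2 : Fin 3) ^ 2,
        (FreeGroup.of (2 : Fin 3))⁻¹ * FreeGroup.of 0 * FreeGroup.of 2 * (FreeGroup.of (0 : Fin 3))⁻¹,
        (FreeGroup.of (2 : Fin 3))⁻¹ * FreeGroup.of 1 * FreeGroup.of 2 * (FreeGroup.of (1 : Fin 3))⁻¹,
        (FreeGroup.of (0 : Fin 3) * FreeGroup.of 1) ^ 2 * (FreeGroup.of (2 : Fin 3))⁻¹}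

theorem pres_le : Finite (PresentedGroup rels) ∧ Nat.card (PresentedGroup rels) ≤ 120 := by
  have h : ∀ r ∈ rels, PresentedGroup.mk rels r = 1 := fun r hr => PresentedGroup.one_of_mem hr
  have h1 := h _ (by simp [rels] : FreeGroup.of (0 : Fin 3) ^ 3 ∈ rels)
  have h2 := h _ (by simp [rels] : FreeGroup.of (1 : Fin 3) ^ 5 ∈ rels)
  have h3 := h _ (by simp [rels] : FreeGroup.of (2 : Fin 3) ^ 2 ∈ rels)
  have h4 := h _ (by simp [rels] : (FreeGroup.of (2 : Fin 3))⁻¹ * FreeGroup.of 0 * FreeGroup.of 2 * (FreeGroup.of (0 : Fin 3))⁻¹ ∈ rels)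
  have h5 := h _ (by simp [rels] : (FreeGroup.of (2 : Fin 3))⁻¹ * FreeGroup.of 1 * FreeGroup.of 2 * (FreeGroup.of (1 : Fin 3))⁻¹ ∈ rels)
  have h6 := h _ (by simp [rels] : (FreeGroup.of (0 : Fin 3) * FreeGroup.of 1) ^ 2 * (FreeGroup.of (2 : Fin 3))⁻¹ ∈ rels)
  simp only [map_mul, map_pow, map_inv] at h1 h2 h3 h4 h5 h6
  refine card_le h1 h2 h3 ?_ ?_ (mul_inv_eq_one.1 h6) ?_
  · rw [mul_inv_eq_one, mul_assoc, inv_mul_eq_iff_eq_mul] at h4; exact h4.symm
  · rw [mul_inv_eq_one, mul_assoc, inv_mul_eq_iff_eq_mul] at h5; exact h5.symm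
  · rw [eq_top_iff, ← PresentedGroup.closure_range_of]
    apply Subgroup.closure_mono
    rintro _ ⟨i, rfl⟩
    fin_cases i <;> simp [PresentedGroup.of]

theorem equiv_of {G : Type*} [Group G] {x y z : G} (hx : x ^ 3 = 1) (hy : y ^ 5 = 1) (hz : z ^ 2 = 1)
    (hzx : z * x = x * z) (hzy : z * y = y * z) (hxy : (x * y) ^ 2 = z)
    (hg : closure {x, y, z} = ⊤) (hc : Nat.card G = 120) : Nonempty (PresentedGroup rels ≃* G) := by
  have h : ∀ r ∈ rels, FreeGroup.lift ![x, y, z] r = 1 := by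
    intro r hr
    simp only [rels, Set.mem_insert_iff, Set.mem_singleton_iff] at hr
    rcases hr with rfl | rfl | rfl | rfl | rfl | rfl <;> simp [hx, hy, hz, hxy, mul_assoc]
    · rw [← mul_assoc x, ← hzx]; simp
    · rw [← mul_assoc y, ← hzy]; simp
  let f := PresentedGroup.toGroup h
  have hs : Function.Surjective f := by
    rw [← MonoidHom.range_eq_top, eq_top_iff, ← hg, closure_le]
    rintro a (rfl | rfl | rfl)
    · exact ⟨.of 0, by simp [f]⟩
    · exact ⟨.of 1, by simp [f]⟩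
    · exact ⟨.of 2, by simp [f]⟩
  haveI := pres_le.1
  exact ⟨MulEquiv.ofBijective f ((Nat.bijective_iff_surjective_and_card f).2
    ⟨hs, le_antisymm (hc ▸ pres_le.2) (Nat.card_le_card_of_surjective f hs)⟩)⟩

def X : SL(2, ZMod 5) := ⟨!![0, -1; 1, -1], by decide⟩

theorem sl_equiv : Nonempty (PresentedGroup rels ≃* SL(2, ZMod 5)) := by
  have e : ∀ t : ZMod 5, H12.upSL t = H12.upSL (1 : ZMod 5) ^ t.val ∧
      H12.loSL t = X * H12.upSL 1 * H12.upSL (1 : ZMod 5) ^ (-t).val * (X * H12.upSL 1)⁻¹ := by decide +kernel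
  refine equiv_of (x := X) (y := H12.upSL 1) (z := -1) (by decide +kernel) (by decide +kernel) (by simp)
    (by simp) (by simp) (by decide +kernel) ?_ H18.card_sl25
  have hx : X ∈ Subgroup.closure {X, H12.upSL (1 : ZMod 5), -1} := subset_closure (by simp)
  have hy : H12.upSL (1 : ZMod 5) ∈ Subgroup.closure {X, H12.upSL (1 : ZMod 5), -1} := subset_closure (by simp)
  refine H12.sl2_induction (fun t => ?_) (fun t => ?_)
  · rw [(e t).1]; exact pow_mem hy _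
  · rw [(e t).2]; exact mul_mem (mul_mem (mul_mem hx hy) (pow_mem hy _)) (inv_mem (mul_mem hx hy))

def a3 : alternatingGroup (Fin 5) := ⟨Equiv.swap 0 1 * Equiv.swap 1 2, Equiv.Perm.mem_alternatingGroup.2 (by decide)⟩
def a2 : alternatingGroup (Fin 5) := ⟨Equiv.swap 0 3 * Equiv.swap 1 4, Equiv.Perm.mem_alternatingGroup.2 (by decide)⟩
def b2 : alternatingGroup (Fin 5) := ⟨Equiv.swap 0 1 * Equiv.swap 3 4, Equiv.Perm.mem_alternatingGroup.2 (by decide)⟩
def a5 : alternatingGroup (Fin 5) := a3⁻¹ * a2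

theorem a_rel : a3 ^ 3 = 1 ∧ a5 ^ 5 = 1 ∧ (a3 * a5) ^ 2 = 1 ∧ a3 ≠ 1 ∧ a5 ≠ 1 ∧ a3 * a5 ≠ 1 ∧
    a2 ^ 2 = 1 ∧ b2 ^ 2 = 1 ∧ a2 ≠ 1 ∧ b2 ≠ 1 ∧ a2 ≠ b2 ∧ a2 * b2 = b2 * a2 := by decide +kernel

theorem a_gen : Subgroup.closure {a3, a5} = ⊤ := by
  obtain ⟨h1, h2, h3, h4, h5, h6, -⟩ := a_rel
  set H := Subgroup.closure {a3, a5}
  have hx : a3 ∈ H := subset_closure (by simp)
  have hy : a5 ∈ H := subset_closure (by simp)
  haveI : Fact (Nat.Prime 3) := ⟨by norm_num⟩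
  have d3 := H.orderOf_dvd_natCard hx
  have d5 := H.orderOf_dvd_natCard hy
  have d2 := H.orderOf_dvd_natCard (mul_mem hx hy)
  rw [orderOf_eq_prime h1 h4] at d3
  rw [orderOf_eq_prime h2 h5] at d5
  rw [orderOf_eq_prime h3 h6] at d2
  have e := H.card_mul_index
  rw [H08.card_A5] at e
  obtain ⟨c, hc⟩ : 30 ∣ Nat.card H := by omega
  have : c * H.index = 2 := by rw [hc, mul_assoc] at e; omega
  rcases (Nat.dvd_prime Nat.prime_two).1 (Dvd.intro_left _ this) with h | h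
  · exact index_eq_one.1 h
  · rcases (normal_of_index_eq_two h).eq_bot_or_eq_top with h' | h'
    · exact absurd (mem_bot.1 (h' ▸ hx)) h4
    · exact h'

theorem q8_uniq : ∀ a b : QuaternionGroup 2, a ^ 2 = 1 → b ^ 2 = 1 → a ≠ 1 → b ≠ 1 → a = b := by decide

/-- Every non-solvable group of order 120 whose Sylow 2-subgroups are quaternion of order 8 is isomorphic to SL(2,5), and SL(2,5) has the presentation ⟨x, y, z | x³ = y⁵ = z² = 1, z⁻¹xz = x, z⁻¹yz = y, (xy)² = z⟩. -/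
theorem result :
    (∀ (G : Type*) [Group G] [Finite G], Nat.card G = 120 → ¬ Group.IsSolvable G →
      (∀ P : Sylow 2 G, Nonempty ((P : Subgroup G) ≃* QuaternionGroup 2)) →
      Nonempty (G ≃* Matrix.SpecialLinearGroup (Fin 2) (ZMod 5))) ∧
    Nonempty (PresentedGroup ({FreeGroup.of (0 : Fin 3) ^ 3, FreeGroup.of (1 : Fin 3) ^ 5, FreeGroup.of (2 : Fin 3) ^ 2,
        (FreeGroup.of (2 : Fin 3))⁻¹ * FreeGroup.of 0 * FreeGroup.of 2 * (FreeGroup.of (0 : Fin 3))⁻¹,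
        (FreeGroup.of (2 : Fin 3))⁻¹ * FreeGroup.of 1 * FreeGroup.of 2 * (FreeGroup.of (1 : Fin 3))⁻¹,
        (FreeGroup.of (0 : Fin 3) * FreeGroup.of 1) ^ 2 * (FreeGroup.of (2 : Fin 3))⁻¹} : Set (FreeGroup (Fin 3)))
      ≃* Matrix.SpecialLinearGroup (Fin 2) (ZMod 5)) := by
  refine ⟨fun G _ _ hc hns hQ => ?_, sl_equiv⟩
  have uq : ∀ (P : Sylow 2 G) (a b : G), a ∈ P → b ∈ P → a ^ 2 = 1 → b ^ 2 = 1 → a ≠ 1 → b ≠ 1 → a = b := by
    intro P a b ha hb a2 b2 a1 b1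
    obtain ⟨e⟩ := hQ P
    have := q8_uniq (e ⟨a, ha⟩) (e ⟨b, hb⟩) (by rw [← map_pow, map_eq_one_iff _ e.injective]; exact Subtype.ext a2)
      (by rw [← map_pow, map_eq_one_iff _ e.injective]; exact Subtype.ext b2)
      (fun h => a1 (congrArg Subtype.val ((map_eq_one_iff _ e.injective).1 h)))
      (fun h => b1 (congrArg Subtype.val ((map_eq_one_iff _ e.injective).1 h)))
    exact congrArg Subtype.val (e.injective this)
  have uc : ∀ a b : G, a * b = b * a → a ^ 2 = 1 → b ^ 2 = 1 → a ≠ 1 → b ≠ 1 → a = b := by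
    intro a b c a2 b2 a1 b1
    have hp : ∀ x : G, x ^ 2 = 1 → IsPGroup 2 (zpowers x) := fun x hx => by
      rintro ⟨_, k, rfl⟩
      exact ⟨1, Subtype.ext (by
        show (x ^ k) ^ 2 ^ 1 = 1
        rw [pow_one, ← zpow_natCast, ← zpow_mul, mul_comm, zpow_mul, zpow_natCast, hx, one_zpow])⟩
    have : IsPGroup 2 ↥(zpowers a ⊔ zpowers b) := (hp a a2).to_sup_of_normal_right' (hp b b2) (by
      rw [zpowers_le]
      exact centralizer_le_normalizer _ (by
        rintro _ ⟨k, rfl⟩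
        exact ((show Commute a b from c).zpow_right k).eq.symm))
    obtain ⟨P, hP⟩ := this.exists_le_sylow
    exact uq P a b (hP (mem_sup_left (mem_zpowers a))) (hP (mem_sup_right (mem_zpowers b))) a2 b2 a1 b1
  haveI : Nontrivial G := Finite.one_lt_card_iff_nontrivial.1 (by omega)
  have hs : ¬ IsSimpleGroup G := fun hs => by
    obtain ⟨u, hu⟩ := exists_prime_orderOf_dvd_card' (G := G) 2 (by omega)
    have u2 : u ^ 2 = 1 := hu ▸ pow_orderOf_eq_one u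
    have u1 : u ≠ 1 := fun h => by simp [h] at hu
    obtain ⟨P, hP⟩ := (IsPGroup.of_card (p := 2) (n := 1) (G := zpowers u) (by simp [hu])).exists_le_sylow
    obtain ⟨N, hN, ho, h⟩ := S0215.result P u hu (hP (mem_zpowers u)) fun g hg =>
      uq P _ _ hg (hP (mem_zpowers u)) (by rw [conj_pow, u2]; simp) u2 (by simpa using u1) u1
    rcases hN.eq_bot_or_eq_top with rfl | rfl
    · have : zpowers u ≤ center G := by
        rw [zpowers_le, mem_center_iff]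
        intro g
        have := mem_bot.1 (h g)
        rw [mul_inv_eq_one, mul_inv_eq_iff_eq_mul] at this
        exact this.symm
      have hn : (zpowers u).Normal := ⟨fun a ha g => by
        rwa [mem_center_iff.1 (this ha) g, mul_inv_cancel_right]⟩
      rcases hn.eq_bot_or_eq_top with h' | h'
      · exact u1 (mem_bot.1 (h' ▸ mem_zpowers u))
      · have := Nat.card_zpowers u
        rw [h', card_top] at this
        omega
    · rw [card_top, hc] at ho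
      exact absurd ho (by decide)
  obtain ⟨N, hN, h1, h2⟩ : ∃ N : Subgroup G, N.Normal ∧ N ≠ ⊥ ∧ N ≠ ⊤ := by
    by_contra hh
    push Not at hh
    exact hs ⟨fun N hN => by
      by_cases h1 : N = ⊥
      · exact Or.inl h1
      · exact Or.inr (hh N hN h1)⟩
  have e := N.card_mul_index
  have a1 : 1 < Nat.card N := (Subgroup.one_lt_card_iff_ne_bot N).2 h1
  have a2' : 1 < N.index := Subgroup.one_lt_index_of_ne_top h2
  have key : ∀ (H : Type _) [Group H] [Finite H], Nat.card H ≤ 60 → Group.IsSolvable H ∨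
      (Nat.card H = 60 ∧ Nonempty (H ≃* alternatingGroup (Fin 5))) := fun H _ _ h => by
    rcases h.lt_or_eq with h | h
    · exact Or.inl (S3669.solv_lt _ H rfl h)
    · by_cases hs : IsSimpleGroup H
      · exact Or.inr ⟨h, H08.A5_of_simple h⟩
      · exact Or.inl (S3669.solv_of_not_simple h hs)
  obtain ⟨r1, r2, r3, r4, r5, r6, r7, r8, r9, r10, r11, r12⟩ := a_rel
  rcases key N (by nlinarith) with s1 | ⟨-, ⟨e1⟩⟩
  swap
  · exfalso
    let f : alternatingGroup (Fin 5) →* G := N.subtype.comp e1.symm.toMonoidHom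
    have hf : Function.Injective f := N.subtype_injective.comp e1.symm.injective
    exact r11 (hf (uc _ _ (by rw [← map_mul, ← map_mul, r12]) (by rw [← map_pow, r7, map_one])
      (by rw [← map_pow, r8, map_one]) (fun h => r9 (hf (h.trans (map_one f).symm)))
      (fun h => r10 (hf (h.trans (map_one f).symm)))))
  rcases key (G ⧸ N) (by rw [← index_eq_card]; nlinarith) with s2 | ⟨c2, ⟨e2⟩⟩
  · exact absurd (Group.isSolvable_of_ker_le_range N.subtype (QuotientGroup.mk' N) (by simp)) hns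
  rw [← index_eq_card] at c2
  have cN : Nat.card N = 2 := by rw [c2, hc] at e; omega
  let f : G →* alternatingGroup (Fin 5) := e2.toMonoidHom.comp (QuotientGroup.mk' N)
  have hf : Function.Surjective f := e2.surjective.comp (QuotientGroup.mk'_surjective N)
  have hk : ∀ g, f g = 1 ↔ g ∈ N := fun g => by simp [f]
  obtain ⟨z, hz1, hz⟩ : ∃ z : N, z ≠ 1 ∧ ∀ y : N, y ≠ 1 → y = z := by
    obtain ⟨z, h1, h2⟩ := (Nat.card_eq_two_iff' (1 : N)).1 cN
    exact ⟨z, h1, h2⟩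
  have hz' : ∀ g ∈ N, g = 1 ∨ g = z := fun g hg => by
    by_cases h : (⟨g, hg⟩ : N) = 1
    · exact Or.inl (congrArg Subtype.val h)
    · exact Or.inr (congrArg Subtype.val (hz _ h))
  have z1 : (z : G) ≠ 1 := fun h => hz1 (Subtype.ext h)
  have z2 : (z : G) ^ 2 = 1 := by rw [← cN]; exact congrArg Subtype.val (pow_card_eq_one' (x := z))
  have zc : ∀ g : G, z * g = g * z := fun g => by
    rcases hz' _ (hN.conj_mem _ z.2 g) with h | h
    · exact absurd (by simpa using h) z1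
    · exact (mul_inv_eq_iff_eq_mul.1 h).symm
  have sq : ∀ g ∈ N, g ^ 2 = 1 := fun g hg => by
    rcases hz' g hg with rfl | rfl
    · simp
    · exact z2
  obtain ⟨x, hx⟩ := hf (a3 ^ 2)
  obtain ⟨y, hy⟩ := hf (a5 ^ 3)
  have fx : f (x ^ 2) = a3 := by rw [map_pow, hx, ← pow_mul, pow_succ, r1, one_mul]
  have fy : f (y ^ 2) = a5 := by rw [map_pow, hy, ← pow_mul, pow_succ, r2, one_mul]
  have x3 : (x ^ 2) ^ 3 = 1 := by
    rw [← pow_mul, mul_comm, pow_mul]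
    exact sq _ ((hk _).1 (by rw [map_pow, hx, ← pow_mul, mul_comm, pow_mul, r1, one_pow]))
  have y5 : (y ^ 2) ^ 5 = 1 := by
    rw [← pow_mul, mul_comm, pow_mul]
    exact sq _ ((hk _).1 (by rw [map_pow, hy, ← pow_mul, mul_comm, pow_mul, r2, one_pow]))
  generalize x ^ 2 = x' at fx x3
  generalize y ^ 2 = y' at fy y5
  have fxy : f (x' * y') = a3 * a5 := by rw [map_mul, fx, fy]
  have xy : (x' * y') ^ 2 = z := by
    rcases hz' _ ((hk _).1 (by rw [map_pow, fxy, r3] : f ((x' * y') ^ 2) = 1)) with h | h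
    · have := uc _ _ (zc (x' * y')) z2 h z1 (fun h => r6 (by rw [← fxy, h, map_one]))
      exact absurd (by rw [← fxy, ← this]; exact (hk _).2 z.2) r6
    · exact h
  have hg : Subgroup.closure {x', y', (z : G)} = ⊤ := by
    set H := Subgroup.closure {x', y', (z : G)}
    have h1 : H.map f = ⊤ := by
      rw [eq_top_iff, ← a_gen, closure_le]
      rintro _ (rfl | rfl)
      · exact ⟨x', subset_closure (by simp), fx⟩
      · exact ⟨y', subset_closure (by simp), fy⟩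
    have h2 : f.ker ≤ H := fun g hg => by
      rcases hz' g ((hk g).1 hg) with rfl | rfl
      · exact one_mem _
      · exact subset_closure (by simp)
    rw [← comap_map_eq_self h2, h1, comap_top]
  obtain ⟨e3⟩ := equiv_of x3 y5 z2 (zc _) (zc _) xy hg hc
  obtain ⟨e4⟩ := sl_equiv
  exact ⟨e3.symm.trans e4⟩

end Cfsg.Agent.S3378
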