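import Mathlib
import Cfsg.Statements.S3035
import Cfsg.Agent.H08.KleinC

set_option autoImplicit false
open Cfsg

namespace Cfsg.Agent.S3035

open Subgroup H08

/-- Let G be a finite group with an involution z whose centralizer is dihedral of order 8. Then G = C_G(z) O(G) with O(G) the largest normal subgroup of odd order, or G is isomorphic to the symmetric group of degree 4, the symmetric group of degree 5, the group SL₃(2), or the alternating group of degree 6. -/
theorem result {G : Type*} [Group G] [Finite G] (z : G) (hz : orderOf z = 2)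
    (hC : Nonempty (↥(Subgroup.centralizer ({z} : Set G)) ≃* DihedralGroup 4)) :
    Subgroup.centralizer ({z} : Set G) ⊔ Cfsg.oddCore G = ⊤ ∨ Nonempty (G ≃* Equiv.Perm (Fin 4)) ∨ Nonempty (G ≃* Equiv.Perm (Fin 5)) ∨
      Nonempty (G ≃* Matrix.SpecialLinearGroup (Fin 3) (ZMod 2)) ∨ Nonempty (G ≃* ↥(alternatingGroup (Fin 6))) := by
  obtain ⟨e⟩ := hC
  by_cases hG : ∀ H : Subgroup G, H.index ≠ 2
  · rcases A6_or_psl27 hG hz e with h | ⟨F, _, _, h, ⟨f⟩⟩
    · tauto
    · obtain ⟨g⟩ := (psl27_equiv_psl32 h (ZMod.card 2)).2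
      exact Or.inr (Or.inr (Or.inr (Or.inl ⟨f.trans g⟩)))
  have hc : Nat.card (centralizer ({z} : Set G)) = 2 ^ 3 := by
    rw [Nat.card_congr e.toEquiv, DihedralGroup.nat_card]; rfl
  obtain ⟨σ, τ, u, m, hm, h⟩ := exists_dih (IsPGroup.of_card hc) (by norm_num) e
  obtain rfl : m = 1 := by
    have := Nat.pow_right_injective le_rfl (show 2 ^ (m + 1) = 2 ^ 2 from hm.symm); omega
  obtain rfl := h.eq_t_of_central (by omega) hz (mem_centralizer_singleton_iff.2 rfl)
    (mem_centralizer_singleton_iff.1 h.σ_mem).symm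
  obtain ⟨S, hS⟩ := h.exists_sylow (by omega) rfl
  by_cases hnc : HasNormalPComplement 2 G
  · left
    have := (H03.HasNPC.isComplement' hnc S).sup_eq_top
    rwa [H03.HasNPC.pResidual_eq_pPrimeCore hnc, hS, sup_comm] at this
  right
  push Not at hG
  obtain ⟨H, hH⟩ := hG
  have := normal_of_index_eq_two hH
  have hnH : ¬ HasNormalPComplement 2 H := fun h' =>
    hnc (H03.hasNPC_of_normal_of_isPGroup_quotient H (IsPGroup.of_card (n := 1) hH) h')
  have hzH : z ∈ H := h.t_eq ▸ sq_mem_of_index_two hH σ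
  have hGH := H.card_mul_index
  have hSi := (S : Subgroup G).card_mul_index
  have hSo := S.not_dvd_index
  rw [hS, hc] at hSi
  rw [hS] at hSo
  rw [hH] at hGH
  have h8 : ¬ 8 ∣ Nat.card H := by omega
  have hSH : ¬ centralizer ({z} : Set G) ≤ H := fun e => hSo (hH ▸ index_dvd_of_le e)
  have hCH : centralizer ({⟨z, hzH⟩} : Set H) = (centralizer ({z} : Set G)).subgroupOf H := by
    ext g; simp [mem_centralizer_singleton_iff, mem_subgroupOf, Subtype.ext_iff]
  have h4 : Nat.card (centralizer ({⟨z, hzH⟩} : Set H)) = 4 := by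
    have h1 := (H.subgroupOf (centralizer ({z} : Set G))).card_mul_index
    have h2 : H.relIndex (centralizer ({z} : Set G)) = 2 := ((Nat.dvd_prime Nat.prime_two).1
      (hH ▸ relIndex_dvd_index_of_normal H _)).resolve_left fun e => hSH (relIndex_eq_one.1 e)
    rw [hc, show (H.subgroupOf _).index = 2 from h2, ← inf_subgroupOf_right,
      H01.card_subgroupOf_of_le inf_le_right] at h1
    rw [hCH, ← inf_subgroupOf_right, H01.card_subgroupOf_of_le inf_le_right, inf_comm]
    omega
  let P : Sylow 2 H := (IsPGroup.of_card (n := 2) h4).toSylow fun h => h8 (by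
    rw [← (centralizer ({⟨z, hzH⟩} : Set H)).card_mul_index, h4]; exact Nat.mul_dvd_mul_left 4 h)
  have hV := (one_class_of_not_hasNPC P h4 hnH).1
  have hcen : ∀ N : Subgroup G, N.Normal → ∀ u ∈ N, orderOf u = 2 → (∀ v ∈ N, orderOf v = 2 → v = u) →
      Nat.card G = 8 := fun N hN u hu h2 h3 => by
    have h5 : ∀ g, g * u = u * g := fun g => mul_inv_eq_iff_eq_mul.1
      (h3 _ (hN.conj_mem u hu g) (by rw [orderOf_conj', h2]))
    obtain rfl := h.eq_t_of_central (by omega) h2 (mem_centralizer_singleton_iff.2 (h5 z).symm) (h5 σ).symm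
    rw [← card_top, ← eq_top_iff.2 fun g _ => mem_centralizer_singleton_iff.2 (h5 g), hc]; rfl
  rcases cent_klein (x := (⟨z, hzH⟩ : H)) (by rw [orderOf_mk, hz]) hV h8 hnH with ⟨h12, -⟩ | ⟨⟨f⟩⟩
  · refine Or.inl (L.iso_S4 (fun N hN hcyc => ?_) (by omega))
    rcases Nat.even_or_odd (Nat.card N) with he | ho
    · obtain ⟨u, hu, h2⟩ := even_card_iff.1 he
      have := hcen N hN u hu h2 fun v hv h3 => invol_eq_of_isCyclic h3 h2 hv hu
      omega
    have h1 := N.card_mul_index
    have h2 : Nat.card N ∣ 3 := (Nat.Coprime.pow_right 3 (Nat.coprime_two_right.2 ho)).dvd_of_dvd_mul_left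
      (show _ ∣ 2 ^ 3 * 3 from Dvd.intro N.index (by omega))
    refine card_eq_one.1 (((Nat.dvd_prime Nat.prime_three).1 h2).resolve_right fun e =>
      hnc (H03.hasNPC_of_normal N (Nat.coprime_two_right.2 ho) (IsPGroup.of_card (n := 3) ?_)))
    rw [e] at h1
    rw [← index_eq_card]; omega
  have : IsSimpleGroup (alternatingGroup (Fin 5)) := alternatingGroup.isSimpleGroup (by simp)
  have := f.isSimpleGroup
  have h60 : Nat.card H = 60 := by rw [Nat.card_congr f.toEquiv, card_A5]
  have hcm := not_comm_of_four_dvd (G := H) (by omega)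
  have h5 : Nat.card (Sylow 2 H) = 5 := by
    have k1 := H19.one_lt_card_sylow (p := 2) hcm (by omega)
    have k2 := H19.two_mul_card_dvd_factorial_card_sylow (p := 2) hcm (by omega)
    have k3 := P.card_dvd_index
    have k4 := (P : Subgroup H).card_mul_index
    have k5 : Nat.card (Sylow 2 H) ≠ 15 := fun e => H19.not_normalizer_le_centralizer hcm (by omega) P (by
      have k6 := H19.card_sylow_mul_card_normalizer P
      rw [e, h60] at k6
      rw [← Sylow.coe_coe, ← eq_of_le_of_card_ge (le_normalizer (H := (P : Subgroup H))) (by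
        rw [hV.card_four, Sylow.coe_coe]; omega)]
      exact fun a ha b hb => (commute_of_mem_klein hV hb ha).eq)
    rw [hV.card_four, h60] at k4
    rw [show (P : Subgroup H).index = 15 by omega] at k3
    rw [h60] at k2
    have := Nat.le_of_dvd (by norm_num) k3
    generalize Nat.card (Sylow 2 H) = k at *
    interval_cases k <;> first | omega | exact absurd k2 (by decide)
  set M := normalizer ((centralizer ({z} : Set G) ⊓ H : Subgroup G) : Set G) with hM
  have hSM : centralizer ({z} : Set G) ≤ M := (le_inf le_normalizer (by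
    rw [normalizer_eq_top]; exact le_top)).trans inf_normalizer_le_normalizer_inf
  have hi : M.index = 5 := by
    rw [P.card_eq_index_normalizer, ← Sylow.coe_coe, show (P : Subgroup H) = _ from hCH, ← inf_subgroupOf_right,
      ← subgroupOf_normalizer_eq inf_le_right, ← hM] at h5
    have k1 := relIndex_mul_index (inf_le_right : M ⊓ H ≤ H)
    have k2 := relIndex_mul_index (inf_le_left : M ⊓ H ≤ M)
    have k3 : H.relIndex M = 2 := ((Nat.dvd_prime Nat.prime_two).1
      (hH ▸ relIndex_dvd_index_of_normal H _)).resolve_left fun e => hSH (hSM.trans (relIndex_eq_one.1 e))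
    rw [inf_relIndex_right, show M.relIndex H = 5 from h5, hH] at k1
    rw [inf_relIndex_left, k3] at k2
    omega
  refine Or.inr (Or.inl (L.iso_perm_of_core M hi ?_ (by simp [Nat.factorial]; omega)))
  have k1 : M.normalCore ⊓ H = ⊥ := by
    rcases (inferInstance : (M.normalCore.subgroupOf H).Normal).eq_bot_or_eq_top with e | e
    · exact disjoint_iff.1 (subgroupOf_eq_bot.1 e)
    · have := index_dvd_of_le ((subgroupOf_eq_top.1 e).trans M.normalCore_le)
      rw [hi, hH] at this; omega
  have k2 : ∀ u ∈ M.normalCore, u ≠ 1 → ∀ v ∈ M.normalCore, v ≠ 1 → u * v = 1 := fun u hu u1 v hv v1 =>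
    mem_bot.1 (k1 ▸ ⟨mul_mem hu hv, (mul_mem_iff_of_index_two hH).2 (iff_of_false
      (fun e => u1 (mem_bot.1 (k1 ▸ ⟨hu, e⟩))) fun e => v1 (mem_bot.1 (k1 ▸ ⟨hv, e⟩)))⟩)
  refine eq_bot_iff.2 fun u hu => by_contra fun u1 => ?_
  have k3 := orderOf_eq_two_iff'.2 ⟨k2 u hu u1 u hu u1, u1⟩
  have := hcen _ inferInstance u hu k3 fun v hv h3 => by
    rw [eq_inv_of_mul_eq_one_left (k2 v hv (ne_one_of_orderOf h3) u hu u1), inv_eq_of_orderOf k3]
  omega

end Cfsg.Agent.S3035
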