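import Mathlib
import Cfsg.Statements.S3222
import Cfsg.Agent.S3035
import Cfsg.Agent.S0215
import Cfsg.Agent.H10.Perm
import Cfsg.Agent.H03.Focal
import Cfsg.Agent.H08.Util
import Cfsg.Agent.H19.SylowCount
import Cfsg.Agent.H09.SLBasic
import Cfsg.Agent.H18.Zass
import Cfsg.Agent.H05.Burnside

set_option autoImplicit false
open scoped Pointwise
open Cfsg

namespace Cfsg.Agent.S3222

open Subgroup Equiv
open scoped commutatorElement
set_option synthInstance.maxSize 2000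

abbrev X := Multiplicative (ZMod 2) × Equiv.Perm (Fin 4)
def τ : X := (.ofAdd 1, 1)
def ζ : X := (1, swap 0 1 * swap 2 3)
def β : X := (1, swap 0 1)
def ν : X := (1, swap 0 2 * swap 1 3)
def ρ : X := (1, swap 0 1 * swap 1 2)
theorem f1 : ∀ x : X, ρ * x = x * ρ → ν * x = x * ν → x = 1 ∨ x = τ := by decide +kernel
theorem f2 : ∀ x : X, x * ζ = ζ * x → ∀ y : X, y * ζ = ζ * y → x * y * x⁻¹ * y⁻¹ = 1 ∨ x * y * x⁻¹ * y⁻¹ = ζ := by
  decide +kernel
theorem f3 : ∀ x : X, x * x = 1 → x ≠ 1 → x ≠ τ → ∀ y : X, y * y = 1 → y ≠ 1 → y ≠ τ → x * y = y * x → x * y ≠ 1 →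
    x * y ≠ τ → ∃ w ∈ [x, y, x * y, τ * x, τ * y, τ * (x * y)], ∃ c ∈ [1, ρ, ρ⁻¹], c * ζ * c⁻¹ = w := by decide +kernel
theorem f4 : ∀ x : X, x * x = 1 → x = 1 ∨ x = τ ∨ (∃ c, c * ζ * c⁻¹ = x) ∨ (x.1 ≠ 1 ∧ Perm.sign x.2 = 1 ∧
    ∃ c, c * (τ * ζ) * c⁻¹ = x) ∨ (x.1 = 1 ∧ Perm.sign x.2 ≠ 1 ∧ ∃ c, c * β * c⁻¹ = x) ∨
    (x.1 ≠ 1 ∧ ∃ c, c * (τ * β) * c⁻¹ = x) := by decide +kernel
theorem f5 : (Finset.univ.filter fun x : X => x * ζ = ζ * x).card = 16 := by decide +kernel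
theorem f6 : ∀ w ∈ [β, τ * β], (insert τ (Finset.univ.image fun c : X => c * w * c⁻¹)).card = 7 ∧
    w * (ρ * w * ρ⁻¹) ≠ ρ * w * ρ⁻¹ * w := by decide +kernel
theorem f7 : ∀ x : X, x * τ = τ * x := by decide +kernel
theorem f8 : ∀ w ∈ [β, τ * β], ((ν * w) ^ 4 = 1 ∧ ∀ m < 4, 0 < m → (ν * w) ^ m ≠ 1) ∧ w * w = 1 ∧
    w * (ν * w) * w⁻¹ = (ν * w)⁻¹ ∧ (∀ n < 4, (ν * w) ^ n ≠ w) ∧ ν * w * ζ = ζ * (ν * w) ∧ w * ζ = ζ * w ∧
    (∀ x : X, x * ζ = ζ * x → ∃ i < 4, ∃ j < 2, x = (ν * w) ^ i * w ^ j ∨ x = τ * ((ν * w) ^ i * w ^ j)) ∧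
    ρ⁻¹ * (ν * ρ * ν⁻¹) = ζ := by decide +kernel

theorem mem_zp2 {G : Type*} [Group G] {t x : G} (h : orderOf t = 2) (hx : x ∈ zpowers t) : x = 1 ∨ x = t := by
  obtain ⟨k, rfl⟩ := hx
  simp only
  rw [← zpow_mod_orderOf, h]
  rcases Int.emod_two_eq_zero_or_one k with e | e <;> simp [e]

theorem conj33 {x y : alternatingGroup (Fin 6)} (hx : (x : Perm (Fin 6)).cycleType = Multiset.replicate 2 3)
    (hy : (y : Perm (Fin 6)).cycleType = Multiset.replicate 2 3) : IsConj x y := by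
  let u : alternatingGroup (Fin 6) := ⟨swap 0 1 * swap 1 2 * (swap 3 4 * swap 4 5), by simp⟩
  let s : Perm (Fin 6) := swap 0 3 * swap 1 4 * swap 2 5
  have k : ∀ x : alternatingGroup (Fin 6), (x : Perm (Fin 6)).cycleType = Multiset.replicate 2 3 → IsConj u x := by
    intro x hx
    obtain ⟨g, hg⟩ := isConj_iff.1 ((Perm.isConj_iff_cycleType_eq (σ := u.1)).2 (Eq.trans (by decide +kernel) hx.symm))
    rcases Int.units_eq_one_or (Perm.sign g) with h | h
    · exact isConj_iff.2 ⟨⟨g, h⟩, Subtype.ext hg⟩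
    · refine isConj_iff.2 ⟨⟨g * s, by simp [s, h]⟩, Subtype.ext ?_⟩
      rw [← hg, ← show s * u.1 * s⁻¹ = u.1 by decide +kernel]
      simp [mul_assoc]
  exact (k x hx).symm.trans (k y hy)

theorem aut_fix (ψ : MulAut (alternatingGroup (Fin 6))) {x : alternatingGroup (Fin 6)} (hx : orderOf x = 3)
    (h : ψ x = x) : ∃ σ : Perm (Fin 6), ∀ g, (ψ g : Perm (Fin 6)) = σ * g * σ⁻¹ := by
  refine H10.aut_alt_conj (by simp) ψ fun c hc => (H10.aut_threeCycle ψ hc).resolve_right fun ⟨_, h1⟩ => ?_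
  rw [← orderOf_coe] at hx
  obtain ⟨n, hn⟩ := Perm.cycleType_prime_order (σ := x.1) (hx ▸ Nat.prime_three)
  have h2 := x.1.sum_cycleType.trans_le (Finset.card_le_univ _)
  rw [hx] at hn
  rw [hn, Multiset.sum_replicate, Fintype.card_fin, smul_eq_mul] at h2
  have k : ∀ {a b : alternatingGroup (Fin 6)}, IsConj a b → a.1.cycleType = b.1.cycleType := fun h =>
    Perm.isConj_iff_cycleType_eq.1 ((alternatingGroup _).subtype.map_isConj h)
  obtain rfl | rfl : n = 0 ∨ n = 1 := by omega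
  · have := k (ψ.toMonoidHom.map_isConj (alternatingGroup.isThreeCycle_isConj (by simp) hc hn))
    rw [MulEquiv.coe_toMonoidHom, h, h1, hn] at this
    exact absurd this (by decide)
  · have := k (ψ.symm.toMonoidHom.map_isConj (conj33 h1 (h.symm ▸ hn : (ψ x).1.cycleType = _)))
    simp only [MulEquiv.coe_toMonoidHom, MulEquiv.symm_apply_apply] at this
    rw [hc, hn] at this
    exact absurd this (by decide)

/-- Let G be a finite group of even order such that (1) some involution t lying in the centre of a Sylow 2-subgroup of G has C_G(t) ≅ Z₂ × S₄, and (2) every Sylow 2-subgroup S of G satisfies C_G(S′) = S, where S′ is the derived subgroup of S. Then G = C_G(t) if G is solvable, and G ≅ S₆ otherwise. -/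
theorem result {G : Type*} [Group G] [Finite G] (hev : Even (Nat.card G))
    (t : G) (ht : orderOf t = 2) (T : Sylow 2 G) (htT : t ∈ (T : Subgroup G)) (htc : ∀ s ∈ (T : Subgroup G), s * t = t * s)
    (e : ↥(Subgroup.centralizer ({t} : Set G)) ≃* (Multiplicative (ZMod 2) × Equiv.Perm (Fin 4)))
    (h2 : ∀ S : Sylow 2 G, Subgroup.centralizer ((⁅(S : Subgroup G), (S : Subgroup G)⁆ : Subgroup G) : Set G) = (S : Subgroup G)) :
    (Group.IsSolvable G → Subgroup.centralizer ({t} : Set G) = ⊤) ∧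
      (¬ Group.IsSolvable G → Nonempty (G ≃* Equiv.Perm (Fin 6))) := by
  classical
  let φ : X →* G := (centralizer ({t} : Set G)).subtype.comp e.symm.toMonoidHom
  have hφ : Function.Injective φ := (subtype_injective _).comp e.symm.injective
  have mC : ∀ g, g * t = t * g → ∃ x, φ x = g := fun g hg =>
    ⟨e ⟨g, mem_centralizer_singleton_iff.2 hg⟩, congrArg Subtype.val (e.symm_apply_apply _)⟩
  have cm : ∀ x, φ x * t = t * φ x := fun x => mem_centralizer_singleton_iff.1 (e.symm x).2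
  have t1 : t ≠ 1 := fun h => by simp [h] at ht
  have t2 : t * t = 1 := by rw [← sq, ← ht, pow_orderOf_eq_one]
  have ht' : φ τ = t := by
    obtain ⟨x, hx⟩ := mC t rfl
    rcases f1 x (hφ (by simpa [hx] using cm ρ)) (hφ (by simpa [hx] using cm ν)) with rfl | rfl
    · exact absurd (hx.symm.trans (map_one φ)) t1
    · exact hx
  have hC : Nat.card (centralizer ({t} : Set G)) = 48 := by rw [Nat.card_congr e.toEquiv]; simp [Nat.card_perm]; rfl
  let S₀ := (centralizer {ζ}).map φ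
  have hS₀ : Nat.card S₀ = 16 := by
    rw [card_map_of_injective hφ, ← f5, ← Fintype.card_subtype, ← Nat.card_eq_fintype_card]
    exact Nat.card_congr (Equiv.subtypeEquivRight fun x => mem_centralizer_singleton_iff)
  obtain ⟨S, hS⟩ : ∃ S : Sylow 2 G, S₀ = S := by
    obtain ⟨S, hS⟩ := (IsPGroup.of_card (p := 2) (n := 4) hS₀).exists_le_sylow
    refine ⟨S, eq_of_le_of_card_ge hS ?_⟩
    obtain ⟨k, hk⟩ := T.2.exists_card_eq
    have := card_dvd_of_le (show (T : Subgroup G) ≤ centralizer {t} from fun s hs => mem_centralizer_singleton_iff.2 (htc s hs))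
    rw [hk, hC] at this
    rw [H19.sylow_card_eq S T, hS₀, hk]
    exact Nat.le_of_dvd (by decide) ((Nat.Coprime.pow_left k (show Nat.Coprime 2 3 by decide)).dvd_of_dvd_mul_right
      (show _ ∣ 16 * 3 from this))
  have hD : ⁅S₀, S₀⁆ ≤ zpowers (φ ζ) := commutator_le.2 (by
    rintro _ ⟨x, hx, rfl⟩ _ ⟨y, hy, rfl⟩
    rw [← map_commutatorElement, commutatorElement_def]
    rcases f2 x (mem_centralizer_singleton_iff.1 hx) y (mem_centralizer_singleton_iff.1 hy) with h | h <;> rw [h]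
    · simp
    · exact mem_zpowers _)
  have hz : centralizer {φ ζ} = S₀ := by
    refine le_antisymm (fun g hg => ?_) ?_
    · have := h2 S
      rw [← hS] at this
      exact this.le (centralizer_le hD (by rwa [zpowers_eq_closure, centralizer_closure]))
    · rintro _ ⟨x, hx, rfl⟩
      simpa [mem_centralizer_singleton_iff] using congrArg φ (mem_centralizer_singleton_iff.1 hx)
  have z2 : orderOf (φ ζ) = 2 := by rw [orderOf_injective φ hφ]; exact orderOf_eq_prime (by decide) (by decide)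
  have mS : ∀ x : X, x * ζ = ζ * x → φ x ∈ S₀ := fun x hx => ⟨x, mem_centralizer_singleton_iff.2 hx, rfl⟩
  have nc : ∀ x y : X, (∀ s, s * ζ = ζ * s → s * x = x * s ∧ s * y = y * s) → x * ζ = ζ * x → IsConj (φ x) (φ y) → x = y := by
    intro x y h hx hc
    obtain ⟨g, hg⟩ := isConj_iff.1 hc
    obtain ⟨n, hn, e⟩ := H08.burnside_elt S (x := φ x) (g := g) (by
      rw [← hS]; rintro _ ⟨s, hs, rfl⟩; exact (show Commute s x from (h s (mem_centralizer_singleton_iff.1 hs)).1).map φ) (by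
      rw [← hS, hg]; rintro _ ⟨s, hs, rfl⟩; exact (show Commute s y from (h s (mem_centralizer_singleton_iff.1 hs)).2).map φ)
    rw [← hS] at hn
    have h1 : n * φ ζ * n⁻¹ ∈ zpowers (φ ζ) := hD (by
      rw [show ζ = ⁅ν, β⁆ by decide +kernel, map_commutatorElement, conjugate_commutatorElement]
      exact commutator_mem_commutator ((mem_normalizer_iff.1 hn _).1 (mS _ (by decide +kernel)))
        ((mem_normalizer_iff.1 hn _).1 (mS _ (by decide +kernel))))
    obtain ⟨s, hs, rfl⟩ : n ∈ S₀ := hz.le (mem_centralizer_singleton_iff.2 (mul_inv_eq_iff_eq_mul.1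
      ((mem_zp2 z2 h1).resolve_left (by simpa using fun h => by simp [h] at z2))))
    rw [hg, ← map_inv, ← map_mul, ← map_mul, (h s (mem_centralizer_singleton_iff.1 hs)).1, mul_inv_cancel_right] at e
    exact hφ e
  have n1 : ¬ IsConj t (φ ζ) := fun h => absurd (nc τ ζ (by decide +kernel) (by decide +kernel) (ht' ▸ h)) (by decide)
  have n2 : ¬ IsConj t (φ (τ * ζ)) := fun h =>
    absurd (nc τ (τ * ζ) (by decide +kernel) (by decide +kernel) (ht' ▸ h)) (by decide +kernel)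
  have n3 : ¬ IsConj (φ ζ) (φ (τ * ζ)) := fun h =>
    absurd (nc ζ (τ * ζ) (by decide +kernel) (by decide +kernel) h) (by decide +kernel)
  have cj : ∀ c x : X, IsConj (φ x) (φ (c * x * c⁻¹)) := fun c x => φ.map_isConj (isConj_iff.2 ⟨c, rfl⟩)
  have cls : ∀ x : X, IsConj t (φ x) → x = τ ∨ (x.1 = 1 ∧ Perm.sign x.2 ≠ 1 ∧ ∃ c, c * β * c⁻¹ = x) ∨
      (x.1 ≠ 1 ∧ ∃ c, c * (τ * β) * c⁻¹ = x) := fun x hx => by
    obtain ⟨g, hg⟩ := isConj_iff.1 hx
    rcases f4 x (hφ (by rw [map_mul, ← hg, conj_mul, t2]; simp)) with rfl | h | ⟨c, rfl⟩ | ⟨-, -, c, rfl⟩ | h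
    · simp [t1] at hx
    · exact Or.inl h
    · exact absurd (hx.trans (cj c _).symm) n1
    · exact absurd (hx.trans (cj c _).symm) n2
    · exact Or.inr h
  have fin : centralizer ({t} : Set G) = ⊤ → Group.IsSolvable G := fun h =>
    H05.burnside_paqb G (a := 4) (b := 1) Nat.prime_two Nat.prime_three (by rw [← card_top, ← h, hC]; rfl)
  by_cases hiso : IsIsolatedInvolution t
  · have hO : oddCore G = ⊥ := by
      have ho : Odd (Nat.card (oddCore G)) := Nat.not_even_iff_odd.1 fun h =>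
        H02.not_dvd_card_pPrimeCore (G := G) Nat.prime_two h.two_dvd
      have k1 : ∀ c : X, ∀ k ∈ oddCore G, φ (c * ζ * c⁻¹) * k = k * φ (c * ζ * c⁻¹) → k = 1 := fun c k hk e => by
        have h1 : (φ c)⁻¹ * k * φ c ∈ S₀ := hz.le (mem_centralizer_singleton_iff.2 (by
          simp only [map_mul, map_inv] at e
          calc _ = (φ c)⁻¹ * (k * (φ c * φ ζ * (φ c)⁻¹)) * φ c := by group
            _ = _ := by rw [← e]; group))
        have h3 := orderOf_dvd_natCard _ h1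
        rw [show orderOf ((φ c)⁻¹ * k * φ c) = orderOf k from (MulAut.conj (φ c)⁻¹).orderOf_eq k ▸ by simp, hS₀] at h3
        exact orderOf_eq_one_iff.1 (Nat.eq_one_of_dvd_coprimes ((Nat.coprime_two_left.2 ho).pow_left 4) h3
          (orderOf_dvd_natCard _ hk))
      have k2 : ∀ c : X, ∀ k ∈ oddCore G, φ (c * ζ * c⁻¹) * k * (φ (c * ζ * c⁻¹))⁻¹ = k⁻¹ := fun c k hk =>
        H02.fpf_involution_inverts (by rw [normalizer_eq_top]; trivial) (by
          rw [← map_mul, conj_mul, show ζ * ζ = 1 by decide +kernel]; simp) (H02.fpf_iff.2 (k1 c)) hk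
      refine eq_bot_iff.2 fun k hk => k1 ρ⁻¹ k hk (mul_inv_eq_iff_eq_mul.1 ?_)
      rw [show ρ⁻¹ * ζ * ρ⁻¹⁻¹ = 1 * ζ * 1⁻¹ * (ρ * ζ * ρ⁻¹) by decide +kernel, map_mul]
      calc _ = φ (1 * ζ * 1⁻¹) * (φ (ρ * ζ * ρ⁻¹) * k * (φ (ρ * ζ * ρ⁻¹))⁻¹) * (φ (1 * ζ * 1⁻¹))⁻¹ := by group
        _ = k := by rw [k2 _ k hk, k2 _ _ (inv_mem hk), inv_inv]
    have : centralizer ({t} : Set G) = ⊤ := eq_top_iff.2 fun g _ => mem_centralizer_singleton_iff.2 (by
      have := S0215.zstar hiso g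
      rw [hO, mem_bot, mul_inv_eq_one, mul_inv_eq_iff_eq_mul] at this
      exact this.symm)
    exact ⟨fun _ => this, fun h => absurd (fin this) h⟩
  have h8 : 8 ≤ (centralizer ({t} : Set G)).index := by
    obtain ⟨g, h1, h3⟩ : ∃ g, Commute t (g * t * g⁻¹) ∧ g * t * g⁻¹ ≠ t := by
      by_contra! h
      exact hiso ⟨ht, h⟩
    obtain ⟨x, hx⟩ := mC _ h1.symm
    obtain ⟨w, hw, hc⟩ : ∃ w ∈ [β, τ * β], IsConj t (φ w) := by
      have h4 : IsConj t (φ x) := isConj_iff.2 ⟨g, hx.symm⟩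
      rcases cls x h4 with rfl | ⟨-, -, c, rfl⟩ | ⟨-, c, rfl⟩
      · exact absurd (hx.symm.trans ht') h3
      · exact ⟨_, by simp, h4.trans (cj c _).symm⟩
      · exact ⟨_, by simp, h4.trans (cj c _).symm⟩
    obtain ⟨k, hk⟩ := isConj_iff.1 hc
    haveI := Fintype.ofFinite G
    rw [← H19.card_conj_eq_index_centralizer, Nat.card_eq_fintype_card, Fintype.card_subtype]
    have h4 : k⁻¹ * φ (ρ * w * ρ⁻¹) * k ∉ (insert τ (Finset.univ.image fun c : X => c * w * c⁻¹)).image φ := by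
      intro h
      obtain ⟨y, -, hy⟩ := Finset.mem_image.1 h
      refine (f6 w hw).2 (hφ ?_)
      have := cm y
      rw [hy] at this
      rw [map_mul, map_mul _ _ w, ← hk]
      calc _ = k * (t * (k⁻¹ * φ (ρ * w * ρ⁻¹) * k)) * k⁻¹ := by group
        _ = _ := by rw [← this]; group
    have := Finset.card_insert_of_notMem h4
    rw [Finset.card_image_of_injective _ hφ, (f6 w hw).1] at this
    refine this.ge.trans (Finset.card_le_card fun y hy => Finset.mem_filter.2 ⟨Finset.mem_univ _, ?_⟩)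
    simp only [Finset.mem_insert, Finset.mem_image, Finset.mem_univ, true_and] at hy
    rcases hy with rfl | ⟨_, rfl | ⟨c, rfl⟩, rfl⟩
    · exact (hc.trans (cj ρ w)).trans (isConj_iff.2 ⟨k⁻¹, by simp⟩)
    · rw [ht']
    · exact hc.trans (cj c w)
  have h9 : ¬ (IsConj t (φ β) ∧ IsConj t (φ (τ * β))) := fun ⟨a1, a2⟩ => by
    obtain ⟨g, hg⟩ := isConj_iff.1 a1
    have k : ∀ w : X, w * β = β * w → ∃ x, g * φ x * g⁻¹ = φ w := fun w hw => by
      obtain ⟨x, hx⟩ := mC (g⁻¹ * φ w * g) (by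
        have := congrArg φ hw
        rw [map_mul, map_mul, ← hg] at this
        calc _ = g⁻¹ * (φ w * (g * t * g⁻¹)) * g := by group
          _ = _ := by rw [this]; group)
      exact ⟨x, by rw [hx]; group⟩
    let ψ : X →* G := (MulAut.conj g).toMonoidHom.comp φ
    have hψ : Function.Injective ψ := (MulAut.conj g).injective.comp hφ
    obtain ⟨x, hx : ψ x = _⟩ := k τ (by decide +kernel)
    obtain ⟨y, hy : ψ y = _⟩ := k ζ (by decide +kernel)
    have hτ : ψ τ = φ β := by rw [← hg, ← ht']; rfl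
    have k1 : ∀ {a b c d : X}, ψ a = φ c → ψ b = φ d → (a = b ↔ c = d) := fun h1 h2 => by
      rw [← hψ.eq_iff, h1, h2, hφ.eq_iff]
    have k2 : ∀ {a b c d : X}, ψ a = φ c → ψ b = φ d → ψ (a * b) = φ (c * d) := fun h1 h2 => by
      rw [map_mul, map_mul, h1, h2]
    have k3 : ψ 1 = φ 1 := by simp
    obtain ⟨w, hw, c, -, rfl⟩ := f3 x ((k1 (k2 hx hx) k3).2 (by decide +kernel)) ((k1 hx k3).not.2 (by decide))
      ((k1 hx hτ).not.2 (by decide)) y ((k1 (k2 hy hy) k3).2 (by decide +kernel)) ((k1 hy k3).not.2 (by decide +kernel))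
      ((k1 hy hτ).not.2 (by decide +kernel)) ((k1 (k2 hx hy) (k2 hy hx)).2 (by decide +kernel))
      ((k1 (k2 hx hy) k3).not.2 (by decide +kernel)) ((k1 (k2 hx hy) hτ).not.2 (by decide +kernel))
    have h1 : IsConj (φ ζ) (ψ (c * ζ * c⁻¹)) := (cj c ζ).trans (isConj_iff.2 ⟨g, rfl⟩)
    simp only [List.mem_cons, List.not_mem_nil, or_false] at hw
    rcases hw with h | h | h | h | h | h
    · exact n1 (by rw [h, hx, ht'] at h1; exact h1.symm)
    · have h3 : (g * φ c)⁻¹ * φ ν * (g * φ c) ∈ centralizer {φ ζ} := mem_centralizer_singleton_iff.2 (by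
        have h4 : g * φ c * φ ζ * (g * φ c)⁻¹ = φ ζ := by
          rw [← h] at hy; simpa [ψ, mul_assoc] using hy
        have h5 : φ ν * φ ζ = φ ζ * φ ν := by rw [← map_mul, ← map_mul]; congr 1; decide +kernel
        calc _ = (g * φ c)⁻¹ * (φ ν * (g * φ c * φ ζ * (g * φ c)⁻¹)) * (g * φ c) := by group
          _ = (g * φ c)⁻¹ * ((g * φ c * φ ζ * (g * φ c)⁻¹) * φ ν) * (g * φ c) := by rw [h4, h5]
          _ = _ := by group)
      obtain ⟨s, -, hs⟩ := hz.le h3
      have h4 : ψ (c * s * c⁻¹) = φ ν := by simp [ψ, hs, mul_assoc]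
      exact absurd ((k1 (k2 h4 hτ) (k2 hτ h4)).1 (f7 _)) (by decide +kernel)
    · exact n3 (by rwa [h, k2 hx hy] at h1)
    · exact n1 (a2.trans (by rw [h, k2 hτ hx, f7] at h1; exact h1.symm))
    · refine n1 (a1.trans ((cj ν β).trans ?_))
      rw [h, k2 hτ hy] at h1
      rw [show ν * β * ν⁻¹ = β * ζ by decide +kernel]; exact h1.symm
    · refine n1 (a2.trans ((cj ν _).trans ?_))
      rw [h, k2 hτ (k2 hx hy)] at h1
      rw [show ν * (τ * β) * ν⁻¹ = β * (τ * ζ) by decide +kernel]; exact h1.symm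
  obtain ⟨M, _, hM, tM⟩ : ∃ M : Subgroup G, M.Normal ∧ M.index = 2 ∧ t ∉ M := by
    have k : ∀ χ : X →* ℤˣ, χ τ ≠ 1 → (∀ x, IsConj t (φ x) → χ x ≠ 1) → ∃ M : Subgroup G, M.Normal ∧ M.index = 2 ∧ t ∉ M :=
      fun χ h1 h3 => H03.thompson_transfer (P := S₀) (Q := (centralizer {ζ} ⊓ χ.ker).map φ) (hS ▸ S.not_dvd_index) (by
        rw [relIndex_map_map_of_injective _ _ hφ, inf_relIndex_left]
        exact H18.index_ker_eq_two (χ.comp (centralizer {ζ}).subtype) (g := ⟨τ, mem_centralizer_singleton_iff.2 (f7 _).symm⟩) h1)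
        t ht fun g ⟨x, hx, e⟩ => h3 x (isConj_iff.2 ⟨g, e.symm⟩) hx.2
    let χ : X →* ℤˣ := MonoidHom.mk' (fun x => if x.1 = 1 then 1 else -1) (by decide +kernel)
    by_cases h : IsConj t (φ β)
    · refine k (χ * Perm.sign.comp (MonoidHom.snd _ _)) (by decide +kernel) fun x hx => ?_
      rcases cls x hx with rfl | ⟨a, b, -⟩ | ⟨-, c, rfl⟩
      · decide +kernel
      · simpa [χ, a] using b
      · exact absurd ⟨h, hx.trans (cj c _).symm⟩ h9
    · refine k χ (by decide +kernel) fun x hx => ?_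
      rcases cls x hx with rfl | ⟨-, -, c, rfl⟩ | ⟨a, -⟩
      · decide +kernel
      · exact absurd (hx.trans (cj c _).symm) h
      · simp [χ, a]
  have sq : ∀ x y : X, x * x = y → φ y ∈ M := fun x y h => by rw [← h, map_mul]; exact mul_self_mem_of_index_two hM _
  have zM := sq (ν * β) ζ (by decide +kernel)
  have rM := sq ρ⁻¹ ρ (by decide +kernel)
  have nM : φ ν ∈ M := by
    rw [show ν = ρ⁻¹ * ζ * ρ⁻¹⁻¹ by decide +kernel, map_mul, map_mul, map_inv φ ρ⁻¹]
    exact ‹M.Normal›.conj_mem _ zM _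
  obtain ⟨w, hw, wM⟩ : ∃ w ∈ [β, τ * β], φ w ∈ M := by
    by_cases h : φ β ∈ M
    · exact ⟨_, by simp, h⟩
    · exact ⟨τ * β, by simp, by rw [map_mul, ht', mul_mem_iff_of_index_two hM]; simp [h, tM]⟩
  obtain ⟨a1, a2, a3, a4, a5, a6, a7, a8⟩ := f8 w hw
  have hr : orderOf (⟨φ (ν * w), by rw [map_mul]; exact mul_mem nM wM⟩ : M) = 4 := by
    rw [← orderOf_coe, orderOf_injective φ hφ]
    exact (orderOf_eq_iff (by decide)).2 a1
  obtain ⟨d⟩ := H08.nonempty_closure_equiv_dihedral (by decide) hr (s := ⟨φ w, wM⟩)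
    (Subtype.ext (by rw [coe_mul, ← map_mul, a2, map_one]; rfl))
    (Subtype.ext (by simpa using congrArg φ a3)) (fun h => by
      obtain ⟨n, hn, e⟩ := Finset.mem_image.1 (mem_zpowers_iff_mem_range_orderOf.1 h)
      exact a4 n (by rwa [hr, Finset.mem_range] at hn) (hφ (by rw [map_pow]; exact congrArg Subtype.val e)))
  have hd : closure {(⟨φ (ν * w), by rw [map_mul]; exact mul_mem nM wM⟩ : M), ⟨φ w, wM⟩} = centralizer {⟨φ ζ, zM⟩} := by
    refine le_antisymm ((closure_le _).2 ?_) fun g hg => ?_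
    · rintro _ (rfl | rfl)
      · exact mem_centralizer_singleton_iff.2 (Subtype.ext (by simpa using congrArg φ a5))
      · exact mem_centralizer_singleton_iff.2 (Subtype.ext (by simpa using congrArg φ a6))
    obtain ⟨x, hx, e⟩ := hz.le (mem_centralizer_singleton_iff.2 (congrArg Subtype.val (mem_centralizer_singleton_iff.1 hg)))
    obtain ⟨i, -, j, -, h⟩ := a7 x (mem_centralizer_singleton_iff.1 hx)
    have h1 := mul_mem (pow_mem (subset_closure (k := {(⟨φ (ν * w), by rw [map_mul]; exact mul_mem nM wM⟩ : M), ⟨φ w, wM⟩})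
      (Or.inl rfl)) i) (pow_mem (Subgroup.subset_closure (Set.mem_insert_of_mem _ (Set.mem_singleton _))) j)
    rcases h with rfl | rfl
    · convert h1 using 1
      exact Subtype.ext (by simpa using e.symm)
    · refine absurd ((mul_mem_cancel_right (Subtype.prop (⟨φ (ν * w), by rw [map_mul]; exact mul_mem nM wM⟩ ^ i *
        ⟨φ w, wM⟩ ^ j : M))).1 ?_) tM
      convert g.2 using 1
      simpa [ht'] using e
  have hc := M.card_mul_index
  rw [hM, ← (centralizer ({t} : Set G)).card_mul_index, hC] at hc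
  rcases S3035.result (⟨φ ζ, zM⟩ : M) (by rw [← orderOf_coe, z2]) ⟨hd ▸ d⟩ with h | ⟨⟨f⟩⟩ | ⟨⟨f⟩⟩ | ⟨⟨f⟩⟩ | ⟨⟨f⟩⟩
  · exfalso
    have h1 : (oddCore M).index ∣ 8 := by
      rw [← relIndex_top_right, ← h, relIndex_sup_right]
      refine (relIndex_dvd_card _ _).trans ?_
      rw [← hd, Nat.card_congr d.toEquiv, DihedralGroup.nat_card]
    have h3 : (⟨φ ρ, rM⟩ : M) ∈ oddCore M := by
      obtain ⟨k, hk⟩ := h1
      have := pow_mem (pow_mem ((oddCore M).pow_index_mem ⟨φ ρ, rM⟩) k) 2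
      rwa [← pow_mul, ← pow_mul, ← mul_assoc, ← hk, show (⟨φ ρ, rM⟩ : M) ^ (8 * 2) = ⟨φ ρ, rM⟩ from Subtype.ext (by
        rw [coe_pow, ← map_pow]; exact congrArg φ (by decide +kernel))] at this
    have h4 := orderOf_dvd_natCard _ (mul_mem (inv_mem h3) (Normal.conj_mem inferInstance _ h3 ⟨φ ν, nM⟩))
    rw [show (⟨φ ρ, rM⟩ : M)⁻¹ * (⟨φ ν, nM⟩ * ⟨φ ρ, rM⟩ * ⟨φ ν, nM⟩⁻¹) = ⟨φ ζ, zM⟩ from Subtype.ext (by
      simpa using congrArg φ a8), ← orderOf_coe, z2] at h4
    exact H02.not_dvd_card_pPrimeCore Nat.prime_two h4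
  · rw [Nat.card_congr f.toEquiv, Nat.card_perm, Nat.card_fin, show Nat.factorial 4 = 24 from rfl] at hc; omega
  · rw [Nat.card_congr f.toEquiv, Nat.card_perm, Nat.card_fin, show Nat.factorial 5 = 120 from rfl] at hc; omega
  · have := H09.card_SL_mul (ι := Fin 3) (F := ZMod 2)
    rw [H09.card_GL, ← Nat.card_congr f.toEquiv] at this
    rw [ZMod.card, show ∏ i : Fin (Fintype.card (Fin 3)), (2 ^ Fintype.card (Fin 3) - 2 ^ (i : ℕ)) = 168 by decide] at this
    omega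
  rw [Nat.card_congr f.toEquiv, nat_card_alternatingGroup] at hc
  let Φ : G →* MulAut (alternatingGroup (Fin 6)) := (MulAut.congr f).toMonoidHom.comp MulAut.conjNormal
  let Ψ : Perm (Fin 6) →* MulAut (alternatingGroup (Fin 6)) := MulAut.conjNormal
  have hΨ : Function.Injective Ψ := (injective_iff_map_eq_one _).2 fun g hg => H10.eq_one_of_centralizes_alt (by simp)
    fun c hc => by
      have := congrArg Subtype.val (DFunLike.congr_fun hg ⟨c, hc⟩)
      exact mul_inv_eq_iff_eq_mul.1 this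
  have hΦ : Function.Injective Φ := (injective_iff_map_eq_one _).2 fun g hg => by
    have h1 : ∀ m ∈ M, g * m = m * g := fun m hm => mul_inv_eq_iff_eq_mul.1
      (congrArg Subtype.val (f.injective (by simpa [Φ] using DFunLike.congr_fun hg (f ⟨m, hm⟩)) :
        MulAut.conjNormal g (⟨m, hm⟩ : M) = ⟨m, hm⟩))
    obtain ⟨x, -, rfl⟩ := hz.le (mem_centralizer_singleton_iff.2 (h1 _ zM))
    rcases f1 x (hφ (by simpa using (h1 _ rM).symm)) (hφ (by simpa using (h1 _ nM).symm)) with rfl | rfl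
    · simp
    have := card_le_of_le (show M ≤ centralizer {t} from fun m hm => mem_centralizer_singleton_iff.2 (ht' ▸ (h1 m hm).symm))
    rw [Nat.card_congr f.toEquiv, nat_card_alternatingGroup, hC] at this
    simp [Nat.factorial] at this
  have hle : ∀ g, Φ g ∈ Ψ.range := by
    have k : ∀ m ∈ M, Φ m ∈ Ψ.range := fun m hm => ⟨f ⟨m, hm⟩, MulEquiv.ext fun x => Subtype.ext (by
      obtain ⟨x, rfl⟩ := f.surjective x
      have : MulAut.conjNormal m x = ⟨m, hm⟩ * x * ⟨m, hm⟩⁻¹ := rfl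
      simp [Φ, Ψ, this])⟩
    obtain ⟨σ, hσ⟩ := aut_fix (Φ t) (x := f ⟨φ ρ, rM⟩) (by
      rw [f.orderOf_eq, ← orderOf_coe, orderOf_injective φ hφ]
      exact orderOf_eq_prime (by decide +kernel) (by decide +kernel)) (by
      have : MulAut.conjNormal t (⟨φ ρ, rM⟩ : M) = ⟨φ ρ, rM⟩ := Subtype.ext (mul_inv_eq_iff_eq_mul.2 (cm ρ).symm)
      simp [Φ, this])
    intro g
    by_cases hg : g ∈ M
    · exact k g hg
    have := mul_mem (k (g * t⁻¹) (by rw [mul_mem_iff_of_index_two hM]; simp [hg, tM]))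
      (show Φ t ∈ Ψ.range from ⟨σ, MulEquiv.ext fun x => Subtype.ext (hσ x).symm⟩)
    rwa [← map_mul, inv_mul_cancel_right] at this
  let E := MulEquiv.ofBijective ((MonoidHom.ofInjective hΨ).symm.toMonoidHom.comp (Φ.codRestrict _ hle))
    ((Nat.bijective_iff_injective_and_card _).2 ⟨(MonoidHom.ofInjective hΨ).symm.injective.comp
      fun a b h => hΦ (congrArg Subtype.val h), by
        rw [← (centralizer ({t} : Set G)).card_mul_index, hC, ← hc, Nat.card_perm]; simp [Nat.factorial]⟩)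
  exact ⟨fun h => absurd (solvable_of_surjective (f := E.toMonoidHom) E.surjective)
    (Perm.not_solvable _ (by simp; norm_num)), fun _ => ⟨E⟩⟩

end Cfsg.Agent.S3222
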