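import Mathlib
import Cfsg.Statements.S0168
import Cfsg.Agent.H05.Values
import Cfsg.Agent.H06.Induction

set_option autoImplicit false
open Cfsg

namespace Cfsg.Agent.S0168

/-- The Burnside–Brauer Theorem. Let χ be the character of a faithful complex representation of a finite group, taking m distinct values. Then every irreducible character has nonzero inner product with χ ^ i for some i < m. -/
theorem result {G : Type*} [Group G] [Fintype G] {V : Type*} [AddCommGroup V] [Module ℂ V] [FiniteDimensional ℂ V] (ρ : Representation ℂ G V) (hfaithful : Function.Injective ρ) (ψ : G → ℂ) (hψ : Cfsg.IsIrrCharacter G ψ) : ∃ i : ℕ, i < Nat.card (Set.range ρ.character) ∧ Cfsg.classInner (fun g => ρ.character g ^ i) ψ ≠ 0 := by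
  classical
  by_contra hc
  push Not at hc
  set χ := ρ.character with hχ
  let S : Finset ℂ := Finset.univ.image χ
  have hS : Nat.card (Set.range χ) = S.card := by
    rw [← Nat.card_eq_finsetCard]
    exact Nat.card_congr (Equiv.setCongr (by ext x; simp [S]))
  rw [hS] at hc
  have h1 : χ 1 ∈ S := Finset.mem_image_of_mem _ (Finset.mem_univ 1)
  let p : Polynomial ℂ := ∏ a ∈ S.erase (χ 1), (Polynomial.X - Polynomial.C a)
  have hdeg : p.natDegree < S.card := by
    rw [Polynomial.natDegree_prod_of_monic _ _ (fun a _ => Polynomial.monic_X_sub_C a)]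
    simp only [Polynomial.natDegree_X_sub_C, Finset.sum_const, smul_eq_mul, mul_one]
    exact Finset.card_erase_lt_of_mem h1
  have h2 : Cfsg.classInner (fun g => p.eval (χ g)) ψ = 0 := by
    have : (fun g => p.eval (χ g)) =
        ∑ i ∈ Finset.range S.card, p.coeff i • (fun g => χ g ^ i) := by
      funext g
      rw [Polynomial.eval_eq_sum_range' hdeg, Finset.sum_apply]
      simp
    rw [this, H06.classInner_sum_left]
    refine Finset.sum_eq_zero fun i hi => ?_
    rw [H06.classInner_smul_left, hc i (Finset.mem_range.1 hi), mul_zero]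
  unfold Cfsg.classInner at h2
  rw [Finset.sum_eq_single 1] at h2
  · simp only [mul_eq_zero, inv_eq_zero, map_eq_zero] at h2
    rcases h2 with h2 | h2 | h2
    · exact H06.natCard_ne_zero G h2
    · simp only [p, Polynomial.eval_prod, Polynomial.eval_sub, Polynomial.eval_X,
        Polynomial.eval_C, Finset.prod_eq_zero_iff, Finset.mem_erase, sub_eq_zero] at h2
      obtain ⟨a, ha, e⟩ := h2
      exact ha.1 e.symm
    · exact H05.Cfsg.IsIrrCharacter.apply_one_ne_zero hψ h2
  · intro g _ hg
    have hne : χ g ≠ χ 1 := by
      intro e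
      rw [hχ, H05.character_eq_one_iff_mem_ker, MonoidHom.mem_ker] at e
      exact hg (hfaithful (e.trans (map_one ρ).symm))
    have : p.eval (χ g) = 0 := by
      simp only [p, Polynomial.eval_prod, Polynomial.eval_sub, Polynomial.eval_X,
        Polynomial.eval_C, Finset.prod_eq_zero_iff, Finset.mem_erase, sub_eq_zero]
      exact ⟨χ g, ⟨hne, Finset.mem_image_of_mem _ (Finset.mem_univ g)⟩, rfl⟩
    simp [this]
  · simp

end Cfsg.Agent.S0168
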