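import Mathlib
import Cfsg.Statements.S4458
import Cfsg.Agent.H07.Deg4

set_option autoImplicit false
open Cfsg
open H05 H06 Cfsg H07
open scoped commutatorElement

namespace Cfsg.Agent.S4458

/-- If a finite group has exactly two irreducible character degrees, 1 and m with m ≠ 1, then its commutator subgroup is abelian. -/
theorem result {G : Type*} [Group G] [Finite G] (m : ℕ) (hcd : ∀ χ : Cfsg.IrrCharacter G, Cfsg.charDegree (χ : G → ℂ) = 1 ∨ Cfsg.charDegree (χ : G → ℂ) = m) (hm : ∃ χ : Cfsg.IrrCharacter G, Cfsg.charDegree (χ : G → ℂ) = m) (hm1 : m ≠ 1) : ∀ a ∈ commutator G, ∀ b ∈ commutator G, a * b = b * a := by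
  have h0 : ∀ H : Subgroup G, H.index = m → commutator G ≤ H := fun H h =>
    commutator_le_of_index H fun χ h1 => (hcd χ).resolve_right (h ▸ h1.ne)
  intro a ha b hb
  rcases two_deg hcd hm1 with ⟨A, h1, h2, h3⟩ | h
  · exact setLike_mul_comm (h0 A h3 ha) (h0 A h3 hb)
  have := Fintype.ofFinite G
  refine commutatorElement_eq_one_iff_mul_comm.1 (eq_one_of_forall_irr fun χ => ?_)
  rcases hcd χ with h1 | h1
  · exact apply_commutator_of_linear χ.2.isCharacter ((deg_eq_one_iff χ.2.isCharacter).1 h1) a b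
  obtain ⟨H, φ, h2⟩ := isMonomialChar_of_nilpotent χ.2
  have h3 := h0 H (by
    rw [← h1, h2, charDegree_indFun H (isCharacter_monoidHom φ), charDegree_eq_of_apply_one (n := 1) (by simp),
      mul_one])
  rw [h2, indFun_apply_eq_one_iff H (isCharacter_monoidHom φ) (isIrrCharacter_monoidHom φ).ne_zero]
  intro x
  have h4 := fun c hc => h3 (Subgroup.Normal.conj_mem' inferInstance c hc x)
  have h5 : x⁻¹ * ⁅a, b⁆ * x = (⁅(⟨_, h4 a ha⟩ : H), (⟨_, h4 b hb⟩ : H)⁆ : H) := by
    simp [commutatorElement_def, mul_assoc]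
  refine ⟨h5 ▸ Subtype.prop _, ?_⟩
  simp only [h5, Subtype.coe_eta, map_commutatorElement, map_one]
  rw [commutatorElement_eq_one_iff_mul_comm.2 (mul_comm _ _)]

end Cfsg.Agent.S4458
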