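import Mathlib
import Cfsg.Statements.S0997
import Cfsg.Agent.H19.BT

set_option autoImplicit false
open Cfsg

namespace Cfsg.Agent.S0997

/-- Let G be a non-cyclic finite simple group of order p * q^b * g₀, where p and q are distinct primes and g₀ < p - 1. Then either p has the form 2^m + 1 or 2^m - 1 and G is isomorphic to the projective special linear group of dimension 2 over the field with p elements, or p = 2^m + 1 > 3 and G is isomorphic to that group over the field with 2^m elements. -/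
theorem result {G : Type*} [Group G] [Finite G] [IsSimpleGroup G] (hG : ¬ IsCyclic G) (p q b g₀ : ℕ) (hp : p.Prime) (hq : q.Prime) (hpq : p ≠ q) (hG' : Nat.card G = p * q ^ b * g₀) (hg : g₀ < p - 1) : (∃ (m : ℕ) (F : Type) (_ : Field F) (_ : Fintype F), Fintype.card F = p ∧ (p = 2 ^ m + 1 ∨ p = 2 ^ m - 1) ∧ Nonempty (G ≃* Matrix.ProjectiveSpecialLinearGroup (Fin 2) F)) ∨ (∃ (m : ℕ) (F : Type) (_ : Field F) (_ : Fintype F), Fintype.card F = 2 ^ m ∧ p = 2 ^ m + 1 ∧ 3 < p ∧ Nonempty (G ≃* Matrix.ProjectiveSpecialLinearGroup (Fin 2) F)) := by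
  have := Fact.mk hp
  obtain ⟨⟨k, hk⟩, h3, h | ⟨m, hm, h⟩⟩ := H19.brauer_tuan (fun h => hG (by
    have := Fact.mk (Group.is_simple_iff_prime_card.mp (inferInstance : IsSimpleGroup G))
    exact isCyclic_of_prime_card rfl)) hq hpq hG' (by omega)
  · exact Or.inl ⟨k, ZMod p, inferInstance, inferInstance, ZMod.card p, by omega, h⟩
  · have hm0 : m ≠ 0 := by rintro rfl; omega
    obtain ⟨F, _, _, hF⟩ := H19.exists_field_two_pow hm0
    obtain ⟨e⟩ := h F hF
    obtain ⟨e'⟩ := H19.nonempty_sl_equiv_psl_of_even (F := F) (hF ▸ even_iff_two_dvd.2 (dvd_pow_self 2 hm0))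
    exact Or.inr ⟨m, F, _, _, hF, hm, h3, ⟨e.trans e'⟩⟩

end Cfsg.Agent.S0997
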