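import Mathlib
import Cfsg.Statements.S4710
import Cfsg.Agent.H21.BF

set_option autoImplicit false
open Cfsg

namespace Cfsg.Agent.S4710
open H05 Cfsg H20 H21 MonoidAlgebra Classical
open scoped ComplexConjugate

/-- Let p be a prime, M a maximal ideal of the algebraic integers containing p, and B a p-block of defect d of the finite group G containing k irreducible characters. If B contains a character of positive height then 2k ≤ p^(2d − 2); and every character in B has height 0 when d ≤ 1 and height at most d − 2 when d ≥ 2. -/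
theorem result {G : Type*} [Group G] [Finite G] (p : ℕ) [Fact p.Prime] (M : Ideal Cfsg.AlgInt) (hM : Cfsg.IsPModular p M) (B : Set (Cfsg.IrrCharacter G)) (hB : Cfsg.IsPBlock M B) (d : ℕ) (hd : Cfsg.blockDefect p B = d) : ((∃ χ ∈ B, 0 < Cfsg.blockHeight p B (χ : G → ℂ)) → 2 * Nat.card B ≤ p ^ (2 * d - 2)) ∧ ∀ χ ∈ B, (d ≤ 1 → Cfsg.blockHeight p B (χ : G → ℂ) = 0) ∧ (2 ≤ d → Cfsg.blockHeight p B (χ : G → ℂ) ≤ d - 2) := by
  haveI := hM.2.1
  haveI := Fintype.ofFinite G
  subst hd
  refine ⟨fun ⟨χ, hχ, h⟩ => ?_, fun χ hχ => ⟨fun h => height_eq_zero_of_defect_le hM hB (by omega) hχ,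
    fun h => ?_⟩⟩
  swap
  · by_cases h0 : blockHeight p B (χ : G → ℂ) = 0
    · omega
    · have := height_add_two_le hM hB hχ h0
      omega
  obtain ⟨ψ, hψ, h0⟩ := H21.exists_height_zero p (block_nonempty hB)
  have hd := height_add_two_le hM hB hχ h.ne'
  have hp : (1 : ℤ) ≤ p := by exact_mod_cast hM.1.one_le
  set s := Finset.univ.filter fun ψ : IrrCharacter G => ψ ∈ B with hs
  have h1 : ((s.filter fun θ : IrrCharacter G => blockHeight p B (θ : G → ℂ) = 0).card : ℤ) * p ^ 2 ≤
      ∑ θ ∈ s.erase χ, cm p B χ θ ^ 2 := by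
    rw [← nsmul_eq_mul]
    refine (Finset.card_nsmul_le_sum _ _ _ fun θ hθ => ?_).trans
      (Finset.sum_le_sum_of_subset_of_nonneg (fun θ hθ => ?_) fun _ _ _ => sq_nonneg _)
    · simp only [hs, Finset.mem_filter, Finset.mem_univ, true_and] at hθ
      exact (pow_le_pow_right₀ hp (by omega)).trans (pow_le_cm_sq hM hB hχ hθ.1 hθ.2)
    · rw [Finset.mem_filter] at hθ
      exact Finset.mem_erase.2 ⟨fun e => h.ne' (e ▸ hθ.2), hθ.1⟩
  have h2 : ((s.filter fun θ : IrrCharacter G => ¬ blockHeight p B (θ : G → ℂ) = 0).card : ℤ) * p ^ 2 ≤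
      ∑ θ ∈ s.erase ψ, cm p B ψ θ ^ 2 := by
    rw [← nsmul_eq_mul]
    refine (Finset.card_nsmul_le_sum _ _ _ fun θ hθ => ?_).trans
      (Finset.sum_le_sum_of_subset_of_nonneg (fun θ hθ => ?_) fun _ _ _ => sq_nonneg _)
    · simp only [hs, Finset.mem_filter, Finset.mem_univ, true_and] at hθ
      rw [cm_comm]
      exact (pow_le_pow_right₀ hp (by omega)).trans (pow_le_cm_sq hM hB hθ.1 hψ h0)
    · rw [Finset.mem_filter] at hθ
      exact Finset.mem_erase.2 ⟨fun e => hθ.2 (e ▸ h0), hθ.1⟩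
  have h3 := four_mul_sum_erase_le hM hB hχ
  have h4 := four_mul_sum_erase_le hM hB hψ
  have h5 := Finset.card_filter_add_card_filter_not (s := s)
    (fun θ : IrrCharacter G => blockHeight p B (θ : G → ℂ) = 0)
  rw [natCard_eq_card_filter, ← hs, ← h5]
  rw [← hs, show 2 * blockDefect p B = 2 * blockDefect p B - 2 + 2 by omega, pow_add] at h3 h4
  have h6 : (0 : ℤ) < (p : ℤ) ^ 2 := by positivity
  generalize (s.filter fun θ : IrrCharacter G => blockHeight p B (θ : G → ℂ) = 0).card = a at *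
  generalize (s.filter fun θ : IrrCharacter G => ¬ blockHeight p B (θ : G → ℂ) = 0).card = b at *
  zify
  nlinarith

end Cfsg.Agent.S4710
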