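import Mathlib
import Cfsg.Agent.H20.Defect
import Cfsg.Agent.H21.Principal
import Cfsg.Agent.H05.Burnside
-- Template for statement S4730 (row 4730; see /opt/grader/pristine/manifest.json for weights).
-- Copy to Cfsg/Agent/S4730.lean and replace the sorry. The statement below is byte-identical to the frozen
-- statement Cfsg.CfsgFrozen.S4730 (Cfsg/Statements/S4730.lean; the theorem Cfsg.blk7_faithful_p_power_degree_defect_le_sylow_exponent_sub_center);
-- the grader kernel-checks Cfsg.Agent.S4730.result against that frozen type. Keep the theorem IN THIS FILE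
-- (a `result` declared elsewhere and merely imported here is not credited); helpers may live anywhere
-- under Cfsg/Agent/.
import Cfsg.Statements.S4730
-- import your own Cfsg.Agent.* helpers here

set_option autoImplicit false
open Cfsg

open H20 H05 H21 MonoidAlgebra Cfsg Classical

namespace Cfsg.Agent.S4730

/-- Let p be a prime, M a maximal ideal of the algebraic integers containing p, and G a finite group with trivial centre, Sylow p-subgroup P of order p^a and centre Z(P) of order p^b. If χ is a faithful irreducible character of G whose degree is a power of p, then the p-block of χ has defect at most a − b; in particular, if P is abelian then χ lies in a block of defect zero. -/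
theorem result {G : Type*} [Group G] [Finite G] (p : ℕ) [Fact p.Prime] (M : Ideal Cfsg.AlgInt) (hM : Cfsg.IsPModular p M) (hZ : Subgroup.center G = ⊥) (P : Sylow p G) (a b : ℕ) (ha : Nat.card P = p ^ a) (hb : Nat.card (Subgroup.center ↥(P : Subgroup G)) = p ^ b) (χ : Cfsg.IrrCharacter G) (hfaith : ∀ g : G, (χ : G → ℂ) g = (χ : G → ℂ) 1 → g = 1) (n : ℕ) (hdeg : Cfsg.charDegree (χ : G → ℂ) = p ^ n) : Cfsg.blockDefect p (Cfsg.blockOf M (χ : G → ℂ)) ≤ a - b ∧ (IsMulCommutative ↥(P : Subgroup G) → Cfsg.blockDefect p (Cfsg.blockOf M (χ : G → ℂ)) = 0) := by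
  have := hM.2.1
  have hp := hM.1
  have hB := H20.isPBlock_blockOf (M := M) χ
  have ha' : (Nat.card G).factorization p = a := by
    rw [P.card_eq_multiplicity] at ha
    exact Nat.pow_right_injective hp.two_le ha
  have key : blockDefect p (blockOf M (χ : G → ℂ)) + b ≤ a := by
    obtain ⟨ψ, hψ, h0⟩ := H20.Cfsg.IsPBlock.exists_height_zero hB p
    set Z := (Subgroup.center (P : Subgroup G)).map (P : Subgroup G).subtype with hZd
    have := Fintype.ofFinite Z
    have hc : Nat.card Z = p ^ b := by rw [hZd, Subgroup.card_map_of_injective (Subgroup.subtype_injective _), hb]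
    have h1 : ∀ z : Z, z ≠ 1 → MemLocalIdeal M ((ψ : G → ℂ) z / (ψ : G → ℂ) 1) := by
      rintro ⟨_, z, hz, rfl⟩ h1
      have h2 : ¬ p ∣ (Subgroup.centralizer ({(z : G)} : Set G)).index := fun h =>
        P.not_dvd_index (h.trans (Subgroup.index_dvd_of_le fun y hy => Subgroup.mem_centralizer_singleton_iff.2
          (congrArg Subtype.val (Subgroup.mem_center_iff.1 hz ⟨y, hy⟩))))
      have h3 : (χ : G → ℂ) z = 0 := by
        refine (χ.2.eq_zero_or_norm_eq_of_coprime z ?_).resolve_right fun h => h1 ?_
        · rw [hdeg]; exact Nat.Coprime.pow_left _ ((Nat.Prime.coprime_iff_not_dvd hp).2 h2)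
        · have h4 := χ.2.mem_charCenter.2 h
          rw [charCenter_eq_center_of_charKer_eq_bot (eq_bot_iff.2 fun g hg =>
            hfaith g (χ.2.isCharacter.mem_charKer.1 hg)), hZ] at h4
          exact Subtype.ext h4
      have h4 := H20.Cfsg.SameBlock.ideal_omega_sub hψ χ.2 ψ.2 (isCen_classSum (z : G)) (isInt_classSum _)
      rw [omega, omega, ev_classSum χ.2.isClassFunction, ev_classSum ψ.2.isClassFunction, h3, mul_zero, zero_div,
        zero_sub, ideal_neg_iff, mul_div_assoc,
        ideal_unit_mul_iff (ring_natCast _) (by rwa [ideal_natCast_iff hM])] at h4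
      exact h4
    obtain ⟨m, hm⟩ := (ψ.2.isCharacter.restrict Z).exists_classInner_eq_nat isCharacter_one
    rw [classInner_one_right, inv_mul_eq_iff_eq_mul₀ card_ne_zero'] at hm
    have h2 : ¬ MemLocalIdeal M (((Nat.card Z * m : ℕ) : ℂ) / (charDegree (ψ : G → ℂ) : ℕ)) := by
      rw [Nat.cast_mul, ← hm, ψ.2.charDegree_eq, Finset.sum_div, ← Finset.add_sum_erase _ _ (Finset.mem_univ 1)]
      refine not_ideal_of_sub ?_ not_ideal_one
      rw [OneMemClass.coe_one, div_self ψ.2.apply_one_ne_zero, add_sub_cancel_left]
      exact ideal_sum fun z hz => h1 z (Finset.ne_of_mem_erase hz)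
    have h3 : m ≠ 0 := by rintro rfl; simp [ideal_zero] at h2
    rw [ideal_div_natCast_iff hM (mul_ne_zero Nat.card_pos.ne' h3) ψ.2.charDegree_pos.ne',
      Nat.factorization_mul Nat.card_pos.ne' h3, hc, Nat.factorization_pow] at h2
    have h4 := (blockHeight_eq_zero_iff p hψ).1 h0
    simp [hp.factorization_self] at h2
    omega
  refine ⟨by omega, fun h => ?_⟩
  rw [Subgroup.center_eq_top, Subgroup.card_top, ha] at hb
  have := Nat.pow_right_injective hp.two_le hb
  omega

end Cfsg.Agent.S4730
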