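import Mathlib
import Cfsg.Statements.S3332
import Cfsg.Agent.H22.SigW2
import Cfsg.Agent.S1221

set_option autoImplicit false
open Cfsg

namespace Cfsg.Agent.S3332

open BG H22

/-- Let G be a finite group of 2-rank at least 4 with O_{2'}(G) = 1 whose Sylow 2-subgroup S has a normal abelian subgroup of rank at least 3 that is its own centralizer in S. If the centralizer of every involution of G is solvable, then O_{2'}(C_G(t)) = 1 for every involution t of G. -/
theorem result {G : Type*} [Group G] [Finite G]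
    (hrank : ¬ Cfsg.PRankLE 2 3 G) (hO : Cfsg.oddCore G = ⊥) (S : Sylow 2 G)
    (A : Subgroup G) (hAS : A ≤ S) (hAn : (A.subgroupOf S).Normal) (hAc : IsMulCommutative A)
    (hAself : (S : Subgroup G) ⊓ Subgroup.centralizer (A : Set G) = A) (hA3 : ¬ Cfsg.PRankLE 2 2 A)
    (hsol : ∀ t : G, orderOf t = 2 → Group.IsSolvable (Subgroup.centralizer ({t} : Set G))) :
    ∀ t : G, orderOf t = 2 → Cfsg.oddCore (Subgroup.centralizer ({t} : Set G)) = ⊥ := by
    intro t ht
    have hS' := isSylowIn_top Nat.prime_two S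
    have hr : ¬ PRankLE 2 2 (S : Subgroup G) := not_pRankLE_of_le hA3 hAS
    obtain ⟨U, h⟩ := exists_ws (fun t ht => pLay_eq_bot_of_sol Nat.prime_two (hsol t ht)) hS' hr
    obtain ⟨E, hE⟩ := (not_pRankLE_iff Nat.prime_two).1 hA3
    have hn : (S : Subgroup G) ≤ Subgroup.normalizer (A : Set G) := (Subgroup.normal_subgroupOf_iff_le_normalizer hAS).1 hAn
    have hc : 2 ^ 2 < Nat.card (omegaOne 2 A) :=
      lt_of_lt_of_le (by rw [hE.card]; norm_num) (card_le (le_omega hE.elemAb hE.le))
    have h1 := h.core_le S1221.result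
      (rank_cent_of_normal S.2 ((omega_le _ _).trans hAS) (omega_elemAb 2 hAc) (norm_omega 2 hn) hc) ht
    rw [hO, le_bot_iff] at h1
    exact (Subgroup.map_eq_bot_iff_of_injective _ (Subgroup.subtype_injective _)).1 h1

end Cfsg.Agent.S3332
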