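import Cfsg.Statements.S3286
import Cfsg.Agent.H07.W4
import Cfsg.Agent.H14.P24

set_option autoImplicit false
set_option maxRecDepth 100000
open Cfsg

namespace Cfsg.Agent.S3286
open H07.Wg H13 H14 H14.PK H14.PK.TS H27.PKx H27.MG L.DC Subgroup

def T12 : List ℕ := [nat_lit 0xabef47196db4e018a9283c8a400983, nat_lit 0xabee59ca30b39a159d0951a8201183, nat_lit 0x9adc5b85e38d406b1c82532898224d, nat_lit 0xadae774a2d7ce0c59444a194802423, nat_lit 0xb5dea5c1d2ac4c09d0442b4e80a46c, nat_lit 0x9ddd4b4a21abd8059488518e28246d, nat_lit 0xb4df4bca237540d59c48299490920c, nat_lit 0xb5df49c96daba0389d28518a261001, nat_lit 0x2c674a8ed03b98d5a92179ae090904]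

def W12 : List (List ℕ) := [[], [8], [5, 8], [7, 8], [1, 8], [2, 8], [3, 8], [4, 8], [6, 8], [8, 5, 8], [7, 5, 8], [1, 5, 8], [2, 5, 8], [3, 5, 8], [4, 5, 8], [8, 7, 8], [5, 7, 8], [1, 7, 8], [2, 7, 8], [3, 7, 8], [8, 1, 8], [2, 1, 8], [3, 1, 8], [4, 1, 8], [6, 1, 8], [8, 2, 8], [5, 2, 8], [7, 2, 8], [1, 2, 8], [3, 2, 8], [4, 2, 8], [6, 2, 8], [8, 3, 8], [5, 3, 8], [7, 3, 8], [6, 3, 8], [7, 4, 8], [3, 4, 8], [6, 4, 8], [8, 6, 8], [2, 6, 8], [3, 6, 8], [5, 8, 5, 8], [7, 8, 5, 8], [1, 8, 5, 8], [2, 8, 5, 8], [3, 8, 5, 8], [4, 8, 5, 8], [6, 8, 5, 8], [8, 7, 5, 8], [1, 7, 5, 8], [2, 7, 5, 8], [3, 7, 5, 8], [4, 7, 5, 8], [8, 1, 5, 8], [4, 1, 5, 8], [7, 2, 5, 8], [1, 2, 5, 8], [3, 2, 5, 8], [7, 3, 5, 8], [4, 3, 5, 8], [7, 4, 5, 8], [3, 4, 5, 8], [5,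 8, 7, 8], [7, 8, 7, 8], [1, 8, 7, 8], [2, 8, 7, 8], [3, 8, 7, 8], [4, 8, 7, 8], [6, 8, 7, 8], [8, 5, 7, 8], [1, 5, 7, 8], [2, 5, 7, 8], [4, 5, 7, 8], [8, 1, 7, 8], [2, 1, 7, 8], [8, 2, 7, 8], [5, 2, 7, 8], [7, 2, 7, 8], [1, 2, 7, 8], [8, 3, 7, 8], [5, 3, 7, 8], [4, 3, 7, 8], [5, 8, 1, 8], [7, 8, 1, 8], [3, 8, 1, 8], [4, 8, 1, 8], [6, 8, 1, 8], [7, 2, 1, 8], [3, 2, 1, 8], [6, 2, 1, 8], [8, 3, 1, 8], [7, 4, 1, 8], [3, 4, 1, 8], [6, 4, 1, 8], [8, 6, 1, 8], [2, 6, 1, 8], [5, 8, 2, 8], [2, 8, 2, 8], [6, 8, 2, 8], [8, 5, 2, 8], [7, 5, 2, 8], [1, 5, 2, 8], [8, 7, 2, 8], [5, 7, 2, 8], [1, 7, 2, 8], [8, 3, 2, 8], [6, 3, 2, 8], [8, 4, 2, 8], [7, 4, 2, 8], [3, 4, 2, 8], [3, 6, 2, 8], [5, 8, 3, 8], [2, 8, 3, 8], [3, 8, 3, 8], [4, 8, 3, 8], [6, 8, 3, 8], [8,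 5, 3, 8], [8, 7, 3, 8], [4, 7, 3, 8], [8, 7, 4, 8], [5, 7, 4, 8], [2, 7, 4, 8], [6, 3, 4, 8], [3, 6, 4, 8], [5, 8, 6, 8], [7, 8, 6, 8], [1, 8, 6, 8], [2, 8, 6, 8], [3, 8, 6, 8], [4, 8, 6, 8], [6, 8, 6, 8], [8, 2, 6, 8], [7, 2, 6, 8], [1, 2, 6, 8], [3, 2, 6, 8], [7, 5, 8, 5, 8], [1, 5, 8, 5, 8], [2, 5, 8, 5, 8], [3, 5, 8, 5, 8], [4, 5, 8, 5, 8], [5, 7, 8, 5, 8], [1, 7, 8, 5, 8], [2, 7, 8, 5, 8], [3, 7, 8, 5, 8], [3, 1, 8, 5, 8], [4, 1, 8, 5, 8], [6, 1, 8, 5, 8], [8, 2, 8, 5, 8], [5, 2, 8, 5, 8], [7, 2, 8, 5, 8], [1, 2, 8, 5, 8], [3, 2, 8, 5, 8], [4, 2, 8, 5, 8], [6, 2, 8, 5, 8], [7, 3, 8, 5, 8], [4, 3, 8, 5, 8], [6, 3, 8, 5, 8], [8, 4, 8, 5, 8], [7, 4, 8, 5, 8], [3, 4, 8, 5, 8], [6, 4, 8, 5, 8], [8, 6, 8, 5, 8], [2, 6, 8, 5, 8], [3, 6, 8, 5, 8],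 [5, 8, 7, 5, 8], [7, 8, 7, 5, 8], [1, 8, 7, 5, 8], [2, 8, 7, 5, 8], [4, 8, 7, 5, 8], [6, 8, 7, 5, 8], [8, 1, 7, 5, 8], [2, 1, 7, 5, 8], [8, 2, 7, 5, 8], [7, 2, 7, 5, 8], [1, 2, 7, 5, 8], [8, 4, 7, 5, 8], [5, 8, 1, 5, 8], [2, 8, 1, 5, 8], [4, 8, 1, 5, 8], [8, 4, 1, 5, 8], [7, 4, 1, 5, 8], [1, 7, 2, 5, 8], [2, 7, 2, 5, 8], [3, 7, 2, 5, 8], [8, 3, 2, 5, 8], [7, 3, 2, 5, 8], [8, 7, 3, 5, 8], [8, 4, 3, 5, 8], [8, 7, 4, 5, 8], [8, 5, 8, 7, 8], [7, 5, 8, 7, 8], [2, 5, 8, 7, 8], [3, 5, 8, 7, 8], [4, 5, 8, 7, 8], [5, 7, 8, 7, 8], [1, 7, 8, 7, 8], [3, 7, 8, 7, 8], [8, 1, 8, 7, 8], [3, 1, 8, 7, 8], [5, 2, 8, 7, 8], [3, 2, 8, 7, 8], [4, 2, 8, 7, 8], [4, 3, 8, 7, 8], [8, 4, 8, 7, 8], [6, 4, 8, 7, 8], [2, 6, 8, 7, 8], [7, 8, 5, 7, 8], [2, 8, 5, 7, 8], [3, 8,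 5, 7, 8], [4, 8, 5, 7, 8], [6, 8, 5, 7, 8], [8, 1, 5, 7, 8], [2, 1, 5, 7, 8], [8, 2, 5, 7, 8], [3, 4, 5, 7, 8], [7, 8, 1, 7, 8], [2, 8, 1, 7, 8], [3, 8, 1, 7, 8], [4, 8, 1, 7, 8], [8, 2, 1, 7, 8], [5, 8, 2, 7, 8], [7, 8, 2, 7, 8], [1, 8, 2, 7, 8], [2, 8, 2, 7, 8], [3, 8, 2, 7, 8], [6, 8, 2, 7, 8], [8, 5, 2, 7, 8], [1, 5, 2, 7, 8], [3, 5, 2, 7, 8], [8, 7, 2, 7, 8], [8, 1, 2, 7, 8], [2, 5, 3, 7, 8], [7, 5, 8, 1, 8], [8, 7, 8, 1, 8], [5, 7, 8, 1, 8], [7, 3, 8, 1, 8], [7, 4, 8, 1, 8], [3, 4, 8, 1, 8], [6, 4, 8, 1, 8], [8, 7, 2, 1, 8], [5, 7, 2, 1, 8], [8, 3, 2, 1, 8], [8, 6, 2, 1, 8], [7, 8, 3, 1, 8], [3, 8, 3, 1, 8], [4, 8, 3, 1, 8], [5, 7, 4, 1, 8], [8, 6, 4, 1, 8], [2, 8, 6, 1, 8], [6, 8, 6, 1, 8], [8, 5, 8, 2, 8], [4, 5, 8, 2, 8], [6, 2, 8, 2, 8],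 [8, 6, 8, 2, 8], [5, 8, 5, 2, 8], [7, 8, 5, 2, 8], [1, 8, 5, 2, 8], [2, 8, 5, 2, 8], [4, 8, 5, 2, 8], [6, 8, 5, 2, 8], [8, 7, 5, 2, 8], [5, 8, 7, 2, 8], [8, 5, 7, 2, 8], [8, 1, 7, 2, 8], [5, 8, 3, 2, 8], [7, 8, 3, 2, 8], [1, 8, 3, 2, 8], [2, 8, 3, 2, 8], [3, 8, 3, 2, 8], [4, 8, 3, 2, 8], [6, 8, 3, 2, 8], [7, 8, 4, 2, 8], [8, 7, 4, 2, 8], [8, 3, 4, 2, 8], [8, 3, 6, 2, 8], [8, 5, 8, 3, 8], [7, 2, 8, 3, 8], [8, 4, 8, 3, 8], [3, 4, 8, 3, 8], [8, 6, 8, 3, 8], [7, 8, 5, 3, 8], [4, 8, 5, 3, 8], [1, 8, 7, 4, 8], [3, 8, 7, 4, 8], [4, 8, 7, 4, 8], [8, 6, 3, 4, 8], [1, 5, 8, 6, 8], [2, 5, 8, 6, 8], [3, 5, 8, 6, 8], [4, 5, 8, 6, 8], [8, 7, 8, 6, 8], [1, 7, 8, 6, 8], [2, 7, 8, 6, 8], [3, 7, 8, 6, 8], [4, 7, 8, 6, 8], [3, 1, 8, 6, 8], [4, 1, 8, 6, 8], [8, 2,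 8, 6, 8], [7, 2, 8, 6, 8], [3, 2, 8, 6, 8], [4, 2, 8, 6, 8], [5, 3, 8, 6, 8], [7, 3, 8, 6, 8], [4, 3, 8, 6, 8], [8, 4, 8, 6, 8], [7, 4, 8, 6, 8], [3, 4, 8, 6, 8], [6, 4, 8, 6, 8], [2, 6, 8, 6, 8], [3, 6, 8, 6, 8], [5, 8, 2, 6, 8], [7, 8, 2, 6, 8], [1, 8, 2, 6, 8], [4, 8, 2, 6, 8], [6, 8, 2, 6, 8], [8, 7, 2, 6, 8], [4, 7, 5, 8, 5, 8], [4, 1, 5, 8, 5, 8], [1, 2, 5, 8, 5, 8], [7, 3, 5, 8, 5, 8], [8, 4, 5, 8, 5, 8], [3, 4, 5, 8, 5, 8], [8, 5, 7, 8, 5, 8], [1, 5, 7, 8, 5, 8], [3, 5, 7, 8, 5, 8], [2, 1, 7, 8, 5, 8], [8, 2, 7, 8, 5, 8], [5, 2, 7, 8, 5, 8], [7, 2, 7, 8, 5, 8], [3, 2, 7, 8, 5, 8], [5, 3, 7, 8, 5, 8], [4, 3, 1, 8, 5, 8], [3, 4, 1, 8, 5, 8], [5, 8, 2, 8, 5, 8], [7, 8, 2, 8, 5, 8], [3, 8, 2, 8, 5, 8], [6, 8, 2, 8, 5, 8], [8, 7, 2, 8, 5, 8],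 [1, 7, 2, 8, 5, 8], [4, 7, 2, 8, 5, 8], [3, 1, 2, 8, 5, 8], [6, 1, 2, 8, 5, 8], [4, 3, 2, 8, 5, 8], [6, 3, 2, 8, 5, 8], [3, 4, 2, 8, 5, 8], [3, 6, 2, 8, 5, 8], [8, 7, 3, 8, 5, 8], [6, 4, 3, 8, 5, 8], [2, 6, 3, 8, 5, 8], [5, 8, 4, 8, 5, 8], [3, 8, 4, 8, 5, 8], [6, 8, 4, 8, 5, 8], [4, 3, 4, 8, 5, 8], [7, 8, 6, 8, 5, 8], [2, 8, 6, 8, 5, 8], [4, 8, 6, 8, 5, 8], [8, 2, 6, 8, 5, 8], [1, 2, 6, 8, 5, 8], [3, 2, 6, 8, 5, 8], [1, 5, 8, 7, 5, 8], [2, 5, 8, 7, 5, 8], [4, 5, 8, 7, 5, 8], [4, 7, 8, 7, 5, 8], [8, 1, 8, 7, 5, 8], [4, 1, 8, 7, 5, 8], [4, 2, 8, 7, 5, 8], [5, 8, 1, 7, 5, 8], [5, 8, 2, 7, 5, 8], [1, 8, 2, 7, 5, 8], [2, 8, 2, 7, 5, 8], [3, 8, 2, 7, 5, 8], [4, 8, 2, 7, 5, 8], [6, 8, 2, 7, 5, 8], [8, 1, 2, 7, 5, 8], [3, 8, 4, 1, 5, 8], [6, 8, 4, 1, 5,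 8], [8, 2, 7, 2, 5, 8], [7, 8, 3, 2, 5, 8], [3, 8, 3, 2, 5, 8], [6, 8, 3, 2, 5, 8], [8, 7, 3, 2, 5, 8], [3, 8, 7, 3, 5, 8], [5, 8, 4, 3, 5, 8], [7, 8, 4, 3, 5, 8], [3, 8, 4, 3, 5, 8], [2, 8, 5, 8, 7, 8], [5, 8, 1, 8, 7, 8], [7, 8, 1, 8, 7, 8], [1, 8, 1, 8, 7, 8], [2, 8, 1, 8, 7, 8], [6, 8, 1, 8, 7, 8], [8, 5, 2, 8, 7, 8], [8, 4, 2, 8, 7, 8], [8, 4, 3, 8, 7, 8], [8, 6, 4, 8, 7, 8], [8, 7, 8, 5, 7, 8], [8, 2, 8, 5, 7, 8], [1, 2, 8, 5, 7, 8], [3, 2, 8, 5, 7, 8], [4, 2, 8, 5, 7, 8], [7, 4, 8, 5, 7, 8], [8, 6, 8, 5, 7, 8], [3, 6, 8, 5, 7, 8], [7, 8, 1, 5, 7, 8], [2, 8, 1, 5, 7, 8], [3, 8, 1, 5, 7, 8], [4, 8, 1, 5, 7, 8], [6, 8, 1, 5, 7, 8], [1, 8, 2, 5, 7, 8], [3, 8, 2, 5, 7, 8], [4, 8, 2, 5, 7, 8], [8, 3, 4, 5, 7, 8], [8, 4, 8, 1, 7, 8], [3, 4, 8, 1,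 7, 8], [6, 4, 8, 1, 7, 8], [1, 8, 2, 1, 7, 8], [2, 8, 2, 1, 7, 8], [7, 5, 8, 2, 7, 8], [3, 5, 8, 2, 7, 8], [8, 7, 8, 2, 7, 8], [2, 7, 8, 2, 7, 8], [2, 1, 8, 2, 7, 8], [8, 2, 8, 2, 7, 8], [7, 2, 8, 2, 7, 8], [3, 2, 8, 2, 7, 8], [6, 2, 8, 2, 7, 8], [8, 3, 8, 2, 7, 8], [5, 3, 8, 2, 7, 8], [6, 3, 8, 2, 7, 8], [8, 6, 8, 2, 7, 8], [2, 6, 8, 2, 7, 8], [1, 8, 5, 2, 7, 8], [4, 8, 5, 2, 7, 8], [6, 8, 5, 2, 7, 8], [1, 8, 7, 2, 7, 8], [2, 8, 1, 2, 7, 8], [2, 7, 5, 8, 1, 8], [5, 8, 7, 8, 1, 8], [3, 8, 7, 8, 1, 8], [8, 7, 4, 8, 1, 8], [5, 8, 3, 2, 1, 8], [7, 8, 3, 2, 1, 8], [2, 8, 3, 2, 1, 8], [6, 8, 3, 2, 1, 8], [5, 8, 6, 2, 1, 8], [7, 8, 6, 2, 1, 8], [6, 8, 6, 2, 1, 8], [7, 3, 8, 3, 1, 8], [8, 4, 8, 3, 1, 8], [3, 4, 8, 3, 1, 8], [4, 8, 6, 4, 1, 8], [8, 5, 8,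 5, 2, 8], [6, 1, 8, 5, 2, 8], [7, 8, 7, 5, 2, 8], [1, 8, 7, 5, 2, 8], [2, 8, 7, 5, 2, 8], [6, 8, 7, 5, 2, 8], [8, 5, 8, 7, 2, 8], [3, 8, 5, 7, 2, 8], [7, 5, 8, 3, 2, 8], [1, 7, 8, 3, 2, 8], [2, 7, 8, 3, 2, 8], [4, 7, 8, 3, 2, 8], [2, 1, 8, 3, 2, 8], [7, 2, 8, 3, 2, 8], [1, 2, 8, 3, 2, 8], [4, 2, 8, 3, 2, 8], [4, 3, 8, 3, 2, 8], [8, 6, 8, 3, 2, 8], [2, 6, 8, 3, 2, 8], [7, 8, 7, 4, 2, 8], [5, 8, 3, 4, 2, 8], [7, 8, 3, 4, 2, 8], [6, 8, 3, 4, 2, 8], [5, 8, 4, 8, 3, 8], [2, 8, 4, 8, 3, 8], [3, 8, 4, 8, 3, 8], [4, 8, 4, 8, 3, 8], [6, 8, 4, 8, 3, 8], [4, 8, 7, 8, 6, 8], [2, 1, 7, 8, 6, 8], [5, 3, 7, 8, 6, 8], [3, 8, 2, 8, 6, 8], [8, 4, 3, 8, 6, 8], [6, 3, 4, 8, 6, 8], [8, 4, 1, 5, 8, 5, 8], [7, 8, 4, 5, 8, 5, 8], [6, 8, 4, 5, 8, 5, 8], [8, 6, 8, 2, 8,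 5, 8], [8, 1, 7, 2, 8, 5, 8], [4, 8, 7, 3, 8, 5, 8], [3, 1, 8, 2, 7, 5, 8], [1, 5, 8, 1, 8, 7, 8], [8, 5, 3, 8, 2, 7, 8]]

theorem model : ∃ e : ℕ → Spor.M12, Cen 192 MM IM e := by
  have a : ∀ t ∈ T12, (SP.sub Spor.M12).In ⊤ t := fun t ht =>
    (in_M12 (allL_iff.1 (by decide +kernel : allL (okS [] [0x5335f] []) _ = true) t ht)).sub
  have c : gn (SP.sub Spor.M12) T12 0 ≠ 1 := fun r => by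
    have := apV_spec a [0] 0 (by decide)
    rw [evalW_cons, r, evalW_nil, mul_one, TS.ap_one _ (by decide)] at this
    exact absurd this (by decide +kernel)
  have h := CG.ofRules (rulesX (baseM inf_le_left) a (RL := RUM) (by decide +kernel)) c twoM
  have e1 := el_eq (g := gn (SP.sub Spor.M12) T12) (band_eq_true.1 zokM).1
  exact ⟨_, h.cen (e1 ▸ c) (e1 ▸ cent_le a (ws := W12) (M := 192) card_M12 (by decide) (by decide +kernel)) (band_eq_true.1 zokM).2⟩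

/-- Let G be a non-abelian finite simple group containing an involution whose centralizer is isomorphic to the centralizer, in the Mathieu group M₁₂, of an involution lying in the centre of a Sylow 2-subgroup of M₁₂. Then G is isomorphic to M₁₂. -/
theorem result {G : Type*} [Group G] [Finite G] [IsSimpleGroup G] (hG : ¬ IsMulCommutative G)
    (u : ↥Cfsg.Spor.M12) (hu : Cfsg.IsTwoCentralInvolution u)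
    (t : G) (ht : orderOf t = 2) (e : ↥(Subgroup.centralizer ({t} : Set G)) ≃* ↥(Subgroup.centralizer ({u} : Set ↥Cfsg.Spor.M12))) :
    Cfsg.Spor.IsoM12 G := by
  have : Fact (Nat.Prime 2) := ⟨Nat.prime_two⟩
  obtain ⟨e', h'⟩ := model
  obtain ⟨T, hT⟩ := H26.exists_isSyl 2 h'.sub
  obtain ⟨t1, -, t3⟩ := h'.syl qokM treeM hT
  obtain ⟨u2, P, p1, p2⟩ := hu
  obtain ⟨g, -, rfl⟩ := (H26.isSyl_top P).exists_cj_eq t1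
  have k : g * u * g⁻¹ = e' 1 := (t3 _ (H26.conj_mem_cj p1) fun y hy => by
    obtain ⟨x, hx, rfl⟩ := hy
    exact cj_comm (p2 x hx).symm).resolve_left fun r => by simp [conj_eq_one_iff.1 r] at u2
  obtain ⟨f, h⟩ := h'.transport qokM (by rintro rfl; simp at ht) (e.trans ((equivMapOfInjective _ _ (MulAut.conj g).injective).trans
    (MulEquiv.subgroupCongr (k ▸ H26.cj_centralizer_singleton g u))))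
  have c : IsConj (f 1) (f 2) := by
    by_contra n
    obtain ⟨L, -, o, l1, l2⟩ := zo2 (D := ⊤) (mem_top _) h.z2 fun g _ r => by
      obtain ⟨a, s, s1, s2⟩ := h.cls cokM (h.mem.2 r.symm) (cj_sq h.z2) (mt conj_eq_one_iff.1 h.z1)
      have j : IsConj (f 1) (f s) := (isConj_iff.2 ⟨g, rfl⟩).trans (isConj_iff.2 ⟨_, s2⟩)
      simp only [List.mem_cons, List.not_mem_nil, or_false] at s1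
      rcases s1 with rfl | rfl | rfl | rfl
      · rw [mul_inv_eq_iff_eq_mul, ← h.zc, mul_right_inj] at s2; exact s2
      exacts [(n j).elim, (nstM h j).elim, (n (fuseM h j)).elim]
    rcases (⟨fun x p g => l1 g (le_normalizer (H := ⊤) trivial) x p⟩ : L.Normal).eq_bot_or_eq_top with rfl | rfl
    · rcases (inferInstance : (center G).Normal).eq_bot_or_eq_top with r | r
      · exact h.z1 (mem_bot.1 (r ▸ mem_center_iff.2 fun g => mul_inv_eq_iff_eq_mul.1 (mul_inv_eq_one.1 (l2 g trivial))))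
      · exact absurd (h.meq.1 (mem_center_iff.1 (r.ge (mem_top (f 2))) (f 4))) (by decide +kernel)
    · rw [card_top] at o
      exact absurd (o.of_dvd_nat (ht ▸ orderOf_dvd_natCard t)) (by decide)
  refine (typeM h c).resolve_left fun ⟨N, n, _, _, r, _⟩ => ?_
  rcases n.eq_bot_or_eq_top with rfl | rfl
  · simp at r
  · have := card_le_card_group (centralizer {f 1})
    rw [h.card_cen, ← card_top, r] at this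
    omega

end Cfsg.Agent.S3286
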