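import Cfsg.Statements.S1476
import Cfsg.Agent.H24.CN
-- import your own Cfsg.Agent.* helpers here

set_option autoImplicit false
open Cfsg

namespace Cfsg.Agent.S1476

open BG Subgroup H24.CN

/-- Let G be a finite solvable group in which every non-identity element has nilpotent centralizer. Then either G is nilpotent; or G has a normal subgroup K with a Frobenius complement E (K E = G, K ∩ E = 1, E meets its conjugates by outside elements trivially) such that E is cyclic or E is generated by two elementwise-commuting subgroups, one cyclic of odd order and one isomorphic to a generalized quaternion group; or G is a three-step group with respect to some prime p. -/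
theorem result {G : Type*} [Group G] [Finite G] [Group.IsSolvable G] (hCN : Cfsg.IsCNGroup G) :
    Group.IsNilpotent G ∨
      (∃ K E : Subgroup G, K.Normal ∧ Subgroup.IsComplement' K E ∧ Cfsg.IsFrobeniusComplement E ∧
        (IsCyclic E ∨ ∃ C Q : Subgroup G, C ⊔ Q = E ∧ (∀ a ∈ C, ∀ b ∈ Q, a * b = b * a) ∧ IsCyclic C ∧ Odd (Nat.card C) ∧
          ∃ n : ℕ, Nonempty (↥Q ≃* QuaternionGroup (2 ^ n)))) ∨
      ∃ p : ℕ, p.Prime ∧ Cfsg.IsThreeStepGroup p G := by
  refine or_iff_not_imp_left.2 fun hn => ?_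
  have hfr : ∀ K E : Subgroup G, Frob ⊤ K E → ∃ K E : Subgroup G, K.Normal ∧ Subgroup.IsComplement' K E ∧ Cfsg.IsFrobeniusComplement E ∧
      (IsCyclic E ∨ ∃ C Q : Subgroup G, C ⊔ Q = E ∧ (∀ a ∈ C, ∀ b ∈ Q, a * b = b * a) ∧ IsCyclic C ∧ Odd (Nat.card C) ∧
        ∃ n : ℕ, Nonempty (↥Q ≃* QuaternionGroup (2 ^ n))) := fun K E h =>
    have : K.Normal := normalizer_eq_top_iff.1 (top_le_iff.1 h.sd.normal)
    ⟨K, E, this, isCompl h.sd, (H02.isFrob_iff_fpf (isCompl h.sd) h.ker_ne h.compl_ne).2 h.reg, compl hCN h⟩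
  obtain ⟨p, hp, hd⟩ := exists_prime_dvd_card (fit_ne_bot (X := (⊤ : Subgroup G)) inferInstance fun e => hn (nil_top (e ▸ inferInstance)))
  have h0 := nil_pcore_ne_bot (π := {p}) (fit_nil _) hp rfl hd
  have := Fact.mk hp
  by_cases hm : H16.NoMix {p} G
  swap
  · simp only [H16.NoMix, not_forall] at hm
    obtain ⟨g, r, q, -, hq, hr, h2, h3, h4, -⟩ := hm
    obtain rfl : p = r := hr.symm
    rw [← card_zpowers] at h3 h4
    obtain ⟨X, x1, x2⟩ := exists_card_eq_prime hp h3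
    obtain ⟨Y, y1, y2⟩ := exists_card_eq_prime hq h4
    obtain ⟨P, p1, p2⟩ := sylow_superset hp (pg_of_card_eq x2) le_top
    obtain ⟨Q, q1, q2⟩ := sylow_superset hq (pg_of_card_eq y2) le_top
    rw [pcore_fit hp] at h0
    have : (piCoreOf {p} (⊤ : Subgroup G)).Normal := normalizer_eq_top_iff.1 (top_le_iff.1 (le_norm_pcore _ _))
    have a := cent hCN hp (p1.pg hp) (pg_not_dvd hp hq (pg_of_card_eq y2) (Ne.symm h2)) (ne_bot_mono (ne_bot_of_prime (x2 ▸ hp))
      (le_inf p2 (le_cent_of_abelian inferInstance x1 y1)))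
    have b := cent hCN hq (q1.pg hq) (pg_not_dvd hq hp (pcore_pg hp ⊤) h2) (ne_bot_mono (ne_bot_of_prime (y2 ▸ hq))
      (le_inf q2 (a.trans (cent_anti p1.pcore_le))))
    obtain ⟨E, hE⟩ := frob hCN hn (ne_bot_mono (ne_bot_of_prime (y2 ▸ hq)) (q2.trans (sylow_le_fh hq q1 (sylow_normal hCN hq q1 h0 (cent_symm b)))))
    exact .inl (hfr _ _ hE)
  have hreg : ∀ {K L : Subgroup G}, IsPGroup p K → ¬ p ∣ Nat.card L → Semiregular K L := fun a b =>
    hm.semiregular (isPi_of_pg hp a rfl) ((isPi_compl hp).2 b)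
  obtain ⟨K, C, hF⟩ | ⟨H, B, C, hF⟩ := hm.frob_or_twoFrob inferInstance ⟨p, hp, rfl, hd.trans (card_dvd_top _)⟩ (by
    by_contra! e
    exact hn (nil_top (pg_nil hp ((isPi_singleton hp).1 fun q a b => by_contra fun c => e q a c (card_top (G := G) ▸ b)))))
  · exact .inl (hfr _ _ hF)
  refine .inr ⟨p, hp, ?_⟩
  have := hF.normal
  have := hF.normal_sup
  have hH : IsPGroup p H := by
    refine pg_le (pcore_pg hp _) ((le_fit hF.nil_H le_top le_normalizer_of_normal).trans ((nil_dprod {p} (fit_nil _)).sdprod.eq_left ?_).ge)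
    exact by_contra fun e => h0 (eq_bot_mono ((hreg (pcore_pg hp _) (pcore_not_dvd hp _)).cent le_rfl e) (le_inf le_rfl (pcore_cent_compl _ _)))
  have hB := not_dvd_of_coprime hp hF.frob1.coprime (pg_dvd hp hH hF.frob1.ker_ne)
  have key : ∀ x : G, ∀ a ∈ B, a ≠ 1 → x * a * x⁻¹ * a⁻¹ ∈ H → x ∈ H ⊔ B := fun x a a1 a2 h => by
    have := hF.frob_quot.cent1_ker (mem_map_of_mem _ (mem_sup_right a1)) (fun e => a2 (eq_one_of_mem_of_disj hF.frob1.sd.disj
      ((QuotientGroup.eq_one_iff a).1 e) a1)) (show QuotientGroup.mk' H x ∈ _ from ⟨mem_top _, mem_cent1.2 (by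
        simpa [mul_inv_eq_iff_eq_mul] using (QuotientGroup.eq_one_iff _).2 h)⟩)
    rwa [← mem_comap, comap_map_eq, QuotientGroup.ker_mk', sup_eq_left.2 le_sup_left] at this
  have hO : pCore p G = H := by
    have h1 : pCore p G ⊓ (H ⊔ B) = H := by
      rw [dedekind (H02.le_pCore hH) (.inl le_normalizer_of_normal), pg_inf_eq_bot hp (H02.pCore_isPGroup p G) hB, sup_bot_eq]
    obtain ⟨⟨b, b1⟩, b2⟩ := ne_bot_iff_exists_ne_one.1 hF.frob1.compl_ne
    exact le_antisymm (fun x hx => h1.le ⟨hx, key x b b1 (fun e => b2 (Subtype.ext e)) (h1.le ⟨by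
      simpa [mul_assoc] using (pCore p G).mul_mem hx (Normal.conj_mem inferInstance _ ((pCore p G).inv_mem hx) b),
      (H ⊔ B).mul_mem (this.conj_mem _ (mem_sup_right b1) x) ((H ⊔ B).inv_mem (mem_sup_right b1))⟩)⟩) (H02.le_pCore hH)
  have hC : IsPGroup p C := (isPi_singleton hp).1 fun q a b => by_contra fun c => by
    obtain ⟨g, hg⟩ := hF.exists_order hp a (Ne.symm c) (pg_dvd hp hH hF.frob1.ker_ne) b
    exact hm g p q hp a rfl c (hg ▸ dvd_mul_right _ _) (hg ▸ dvd_mul_left _ _)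
  have hsd : Sdprod (H ⊔ B) C ⊤ := ⟨by rw [sup_assoc, hF.sup], le_normalizer_of_normal, eq_bot_iff.2 fun x ⟨x1, x2⟩ => by
    obtain ⟨h, h1, b, b1, rfl⟩ := hF.frob1.sd.mem.1 x1
    obtain rfl := eq_one_of_mem_of_disj hF.disj h1 (by simpa using mul_mem (mem_sup_right x2) (inv_mem (mem_sup_left b1)))
    exact hF.frob2.sd.disj.le ⟨by simpa using b1, x2⟩⟩
  rw [IsThreeStepGroup, hO]
  exact ⟨hF.frob1.ker_ne, B, hF.frob1.compl_ne, hF.cyclic_B, hF.odd_B, ((Nat.Prime.coprime_iff_not_dvd hp).2 hB).symm, this,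
    fun e => hF.frob2.compl_ne (by simpa [e] using hsd.disj), by rw [← relIndex_top_right, hsd.relIndex_left]; exact pg_card hp hC,
    hF.frob1.reg, fun x hx a a1 a2 h => hx (key x a a1 a2 h)⟩

end Cfsg.Agent.S1476
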