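import Cfsg.Statements.S4040
import Mathlib
import Cfsg.Agent.H27.NilpMax2
-- import your own Cfsg.Agent.* helpers here

set_option autoImplicit false
open Cfsg

namespace Cfsg.Agent.S4040

open scoped Pointwise commutatorElement

/-- A finite group possessing a maximal subgroup that is nilpotent of odd order is solvable. -/
theorem result {G : Type*} [Group G] [Finite G]
    (M : Subgroup G) (hmax : IsCoatom M) (hnil : Group.IsNilpotent M) (hodd : Odd (Nat.card M)) :
    Group.IsSolvable G := by
  exact H27.isSolvable_of_coatom_nilpotent hmax (S := ⊥)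
    (H26.isSyl_of_not_dvd bot_le IsPGroup.of_bot (by
      rw [Subgroup.relIndex_bot_left]; exact hodd.not_two_dvd_nat))
    (fun a ha b _ c _ => by simp [Subgroup.mem_bot.1 ha])

end Cfsg.Agent.S4040
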