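import Mathlib
import Cfsg.Agent.L.PSL2Max4
-- Template for statement S5891 (row 5891; see /opt/grader/pristine/manifest.json for weights).
-- Copy to Cfsg/Agent/S5891.lean and replace the sorry. The statement below is byte-identical to the frozen
-- statement Cfsg.CfsgFrozen.S5891 (Cfsg/Statements/S5891.lean; the theorem Cfsg.cmax7_projective_general_linear_two_odd_maximal_subgroup_types);
-- the grader kernel-checks Cfsg.Agent.S5891.result against that frozen type. Keep the theorem IN THIS FILE
-- (a `result` declared elsewhere and merely imported here is not credited); helpers may live anywhere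
-- under Cfsg/Agent/.
import Cfsg.Statements.S5891
-- import your own Cfsg.Agent.* helpers here

set_option autoImplicit false
open Cfsg

namespace Cfsg.Agent.S5891

/-- Let F be a finite field of odd order q > 3 and characteristic p, and let M be a maximal subgroup of PGL₂(F) not containing the image L of SL₂(F) (a copy of PSL₂(F) of index 2). Then one of the following holds: |M| = q(q − 1) (M is the stabiliser of a point of the projective line); q ≠ 5 and M is dihedral of order 2(q − 1); M is dihedral of order 2(q + 1); q = p ≡ ±3 (mod 8) and M ≅ S₄; or q = q₀^r for an odd prime r and M ≅ PGL₂(F₀) with |F₀| = q₀. -/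
theorem result {F : Type*} [Field F] [Fintype F]
    (hodd : Odd (Fintype.card F)) (h3 : 3 < Fintype.card F) (M : Subgroup (Matrix.ProjGenLinGroup (Fin 2) F)) (hM : IsCoatom M)
    (hML : ¬ (Matrix.ProjGenLinGroup.mk.comp Matrix.SpecialLinearGroup.toGL).range ≤ M) :
    Nat.card M = Fintype.card F * (Fintype.card F - 1) ∨
    (Fintype.card F ≠ 5 ∧ Nonempty (M ≃* DihedralGroup (Fintype.card F - 1))) ∨
    Nonempty (M ≃* DihedralGroup (Fintype.card F + 1)) ∨
    ((Fintype.card F).Prime ∧ (Fintype.card F % 8 = 3 ∨ Fintype.card F % 8 = 5) ∧ Nonempty (M ≃* Equiv.Perm (Fin 4))) ∨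
    (∃ (F₀ : Type) (_ : Field F₀) (_ : Fintype F₀) (r : ℕ), r.Prime ∧ Odd r ∧ Fintype.card F = Fintype.card F₀ ^ r ∧
        Nonempty (M ≃* Matrix.ProjGenLinGroup (Fin 2) F₀)) := by
  classical
  rw [L.Dk.range_eq_pslRange] at hML
  rcases L.Dk.coatom_pgl_cases hodd h3 hM hML with ⟨x, rfl⟩ | ⟨A, h1, rfl, h2⟩ | h | ⟨F₁, σ, r, h1, h2, h4, rfl⟩
  · exact Or.inl (L.Dk.card_stab_pgl x)
  · have h4 := L.Dk.torN_iso h1
    rcases L.Dk.card_tor h1 with h | h <;> rw [h] at h4 h2
    · exact Or.inr (Or.inl ⟨fun e => h2 ⟨e, by rw [e]⟩, h4⟩)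
    · exact Or.inr (Or.inr (Or.inl h4))
  · exact Or.inr (Or.inr (Or.inr (Or.inl h)))
  · obtain ⟨K, _, _, ⟨φ⟩⟩ := L.Dk.exists_field_zero F₁
    exact Or.inr (Or.inr (Or.inr (Or.inr ⟨K, inferInstance, inferInstance, r, h1, h2,
      by rw [← h4, Nat.card_congr φ.toEquiv, Nat.card_eq_fintype_card],
      ⟨(L.Dk.subPGLEquiv σ F₁).trans (H09.pglMapEquiv φ)⟩⟩)))

end Cfsg.Agent.S5891
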