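import Mathlib
import Cfsg.Agent.L.PSL2Max4
-- Template for statement S5893 (row 5893; see /opt/grader/pristine/manifest.json for weights).
-- Copy to Cfsg/Agent/S5893.lean and replace the sorry. The statement below is byte-identical to the frozen
-- statement Cfsg.CfsgFrozen.S5893 (Cfsg/Statements/S5893.lean; the theorem Cfsg.cmax7_projective_special_linear_two_even_maximal_subgroup_types);
-- the grader kernel-checks Cfsg.Agent.S5893.result against that frozen type. Keep the theorem IN THIS FILE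
-- (a `result` declared elsewhere and merely imported here is not credited); helpers may live anywhere
-- under Cfsg/Agent/.
import Cfsg.Statements.S5893
-- import your own Cfsg.Agent.* helpers here

set_option autoImplicit false
open Cfsg

namespace Cfsg.Agent.S5893

/-- Let F be a finite field of even order q ≥ 4 and let M be a maximal subgroup of PSL₂(F) (= SL₂(F) = PGL₂(F)). Then one of the following holds: |M| = q(q − 1) (the stabiliser of a point of the projective line, elementary abelian of order q extended by a cyclic group of order q − 1); M is dihedral of order 2(q − 1); M is dihedral of order 2(q + 1); or q = q₀^r for a prime r with q₀ ≠ 2 and M ≅ PSL₂(F₀) with |F₀| = q₀. -/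
theorem result {F : Type*} [Field F] [Fintype F]
    (heven : Even (Fintype.card F)) (h4 : 4 ≤ Fintype.card F) (M : Subgroup (Matrix.ProjectiveSpecialLinearGroup (Fin 2) F)) (hM : IsCoatom M) :
    Nat.card M = Fintype.card F * (Fintype.card F - 1) ∨
    Nonempty (M ≃* DihedralGroup (Fintype.card F - 1)) ∨
    Nonempty (M ≃* DihedralGroup (Fintype.card F + 1)) ∨
    (∃ (F₀ : Type) (_ : Field F₀) (_ : Fintype F₀) (r : ℕ), r.Prime ∧ Fintype.card F₀ ≠ 2 ∧
        Fintype.card F = Fintype.card F₀ ^ r ∧ Nonempty (M ≃* Matrix.ProjectiveSpecialLinearGroup (Fin 2) F₀)) := by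
  classical
  have h2 := H09.two_eq_zero_of_even_card heven
  have : CharP F 2 := ringChar.of_eq (L.ringChar_eq_two h2)
  have hd : L.Dk.dd F = 1 := ((L.Dk.dd_cases (F := F)).resolve_right (by rw [Nat.even_iff] at heven; omega)).2
  have e := L.Dk.mapEquiv M
  have hb : ∀ x : H09.P1 F, (∀ g : M, g • x = x) → Nat.card M = Fintype.card F * (Fintype.card F - 1) := fun x h => by
    rw [L.Dk.coatom_eq hM (fun g hg => h ⟨g, hg⟩) (L.Dk.isCoatom_stab_psl x).1, ← L.Dk.card_stab_psl x, hd, one_mul]
  have hD : ∀ C : Subgroup M, IsCyclic C → C.index = 2 → ¬ 2 ∣ Nat.card C →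
      Nonempty (M ≃* DihedralGroup (Fintype.card F - 1)) ∨ Nonempty (M ≃* DihedralGroup (Fintype.card F + 1)) := by
    intro C _ h1 h3
    obtain ⟨s, hs, rfl⟩ := L.Dk.coatom_dih h4 2 hM C h1 h3
    have h5 := L.Dk.torusNBar_iso hs
    rcases L.Dk.card_torusBar' hs with h | h <;> rw [hd, one_mul] at h <;> rw [h] at h5
    exacts [Or.inl h5, Or.inr h5]
  have hV : ∀ {A : Type} [Group A] (f : M ≃* A) (V : Subgroup A) [V.Normal], Nat.card V = 2 ^ 2 →
      Nat.card M = Fintype.card F * (Fintype.card F - 1) := by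
    intro A _ f V _ h
    have h1 : Nat.card (V.map f.symm.toMonoidHom) = 2 ^ 2 := (Subgroup.card_map_of_injective f.symm.injective).trans h
    have := Subgroup.Normal.map ‹V.Normal› f.symm.toMonoidHom f.symm.surjective
    obtain ⟨x, hx⟩ := L.Dk.fix_of_normal_pGroup 2 (Matrix.ProjectiveSpecialLinearGroup.toPGL.comp M.subtype)
      (Matrix.ProjectiveSpecialLinearGroup.toPGL_injective.comp M.subtype_injective) (fun g x => H09.toPGL_smul _ x)
      (V.map f.symm.toMonoidHom) (fun e => by rw [e, Subgroup.card_bot] at h1; omega) (IsPGroup.of_card h1)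
    exact hb x hx
  have hsub : ∀ (F₀ : Subfield F) σ, M.map Matrix.ProjectiveSpecialLinearGroup.toPGL ≤ L.Dk.cj σ (L.Dk.subPGL F₀) →
      F₀ ≠ ⊤ → (Nonempty (M ≃* DihedralGroup (Fintype.card F - 1)) ∨
        Nonempty (M ≃* DihedralGroup (Fintype.card F + 1))) ∨
      (∃ (F₀ : Type) (_ : Field F₀) (_ : Fintype F₀) (r : ℕ), r.Prime ∧ Fintype.card F₀ ≠ 2 ∧
        Fintype.card F = Fintype.card F₀ ^ r ∧ Nonempty (M ≃* Matrix.ProjectiveSpecialLinearGroup (Fin 2) F₀)) := by
    intro F₀ σ h h0
    obtain ⟨K, _, _, r, hr, h1, ⟨-, ⟨f⟩⟩ | ⟨-, h3, -⟩⟩ := L.Dk.coatom_sub hM h0 h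
    · by_cases hK : Fintype.card K = 2
      · have h3 : Nat.card M = 6 := by rw [Nat.card_congr f.toEquiv, L.Dk.card_PGL2, hK]; rfl
        obtain ⟨C, hC⟩ := Sylow.exists_subgroup_card_pow_prime (G := M) 3 (n := 1) (by rw [h3]; decide)
        have h5 := C.index_mul_card
        rw [hC, h3] at h5
        exact Or.inl (hD C (isCyclic_of_prime_card (p := 3) hC) (by omega) (by omega))
      · have h3 : Even (Fintype.card K) := by rw [h1, Nat.even_pow] at heven; exact heven.1
        have h5 := L.Dk.index_pslRange (F := K)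
        rw [((L.Dk.dd_cases (F := K)).resolve_right (by rw [Nat.even_iff] at h3; omega)).2, Subgroup.index_eq_one] at h5
        exact Or.inr ⟨K, inferInstance, inferInstance, r, hr, hK, h1, ⟨f.trans (Subgroup.topEquiv.symm.trans
          ((MulEquiv.subgroupCongr h5.symm).trans (L.Dk.pslEquiv K).symm))⟩⟩
    · exact absurd heven (Nat.not_even_iff_odd.2 h3)
  have htop : ¬ L.Dk.pslRange F ≤ M.map Matrix.ProjectiveSpecialLinearGroup.toPGL := fun h => hM.1 (by
    rw [eq_top_iff, ← Subgroup.map_le_map_iff_of_injective Matrix.ProjectiveSpecialLinearGroup.toPGL_injective,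
      ← MonoidHom.range_eq_map]; exact h)
  rw [← or_assoc (a := Nonempty _)]
  rcases L.Dk.clsX 2 (M.map Matrix.ProjectiveSpecialLinearGroup.toPGL) with ⟨x, h⟩ | ⟨h, hp⟩ | ⟨C, h, hp, hi, -⟩ |
    ⟨⟨f⟩⟩ | ⟨⟨f⟩⟩ | ⟨⟨f⟩⟩ | ⟨F₀, σ, h⟩ | ⟨F₀, σ, h⟩
  · exact Or.inl (hb x fun g => (H09.toPGL_smul _ x).symm.trans (h ⟨_, g, g.2, rfl⟩))
  · exact absurd (isCyclic_of_surjective e e.surjective) (L.Dk.coatom_cyc h4 hM)
  · exact Or.inr (Or.inl (hD (C.map e.toMonoidHom) (isCyclic_of_surjective _ (e.subgroupMap C).surjective)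
      ((Subgroup.index_map_of_bijective e.bijective C).trans hi) (by rwa [Subgroup.card_map_of_injective e.injective])))
  · have := alternatingGroup.normal_kleinFour (α := Fin 4) (by simp)
    exact Or.inl (hV (e.symm.trans f) (alternatingGroup.kleinFour (Fin 4)) (alternatingGroup.kleinFour_card_of_card_eq_four (by simp)))
  · have := L.Dk.mod_eight_of_S4 (e.symm.trans f)
    rw [Nat.even_iff] at heven; omega
  · obtain ⟨j, h1, h3, -⟩ := L.Dk.tri_A5' f
    obtain ⟨σ, h⟩ := h3.descend (by convert one_ne_zero (α := F) using 1; linear_combination -h1) (L.Dk.fixF F 2 2)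
      (L.Dk.mem_fixF.2 (by linear_combination (j ^ 2 + 3 * j + 8) * h1 + (10 * j - 4) * h2))
    refine Or.inr (hsub _ σ h fun h0 => hM.1 (Subgroup.eq_top_of_card_eq _ ?_))
    have := L.Dk.card_le_of_fixF two_ne_zero h0
    rw [Nat.card_congr (e.symm.trans f).toEquiv, L.Dk.card_A5, L.Dk.card_psl_of (q := 4) (n := 60) (by omega) rfl]
  · exact Or.inr (hsub F₀ σ h.le (by rintro rfl; exact htop (by rw [h, L.Dk.subPGL_top, L.Dk.cj_top]; exact le_top)))
  · exact Or.inr (hsub F₀ σ (h.le.trans (Subgroup.map_mono (Subgroup.map_le_range _ _)))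
      (by rintro rfl; exact htop (by rw [h, L.Dk.subPSL_top, L.Dk.cj_pslRange])))

end Cfsg.Agent.S5893
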