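import Mathlib
import Cfsg.Statements.S0369
import Cfsg.Agent.H14.M24Bound

set_option autoImplicit false
open Cfsg

namespace Cfsg.Agent.S0369

open H14 in
theorem basis_oct : ∀ i < 12, toSet (cw (2 ^ i)) ∈ octads ∨
    ∃ j < 4096, toSet (cw j) ∈ octads ∧ toSet (cw (j ^^^ 2 ^ i)) ∈ octads := by
  have h : ∀ i < 12, pc (cw (2 ^ i)) = 8 ∨
      (pc (cw 3) = 8 ∧ pc (cw (3 ^^^ 2 ^ i)) = 8) ∨ (pc (cw 2) = 8 ∧ pc (cw (2 ^^^ 2 ^ i)) = 8) := by
    decide +kernel
  have o : ∀ a < 4096, pc (cw a) = 8 → toSet (cw a) ∈ octads := fun a ha h =>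
    ⟨toSet_cw_mem ha, by rw [card_toSet (cw_lt ha), h]⟩
  intro i hi
  have hp : 2 ^ i < 2 ^ 12 := Nat.pow_lt_pow_right (by norm_num) hi
  rcases h i hi with h | h | h
  · exact Or.inl (o _ hp h)
  · exact Or.inr ⟨3, by norm_num, o _ (by norm_num) h.1, o _ (Nat.xor_lt_two_pow (n := 12) (by norm_num) hp) h.2⟩
  · exact Or.inr ⟨2, by norm_num, o _ (by norm_num) h.1, o _ (Nat.xor_lt_two_pow (n := 12) (by norm_num) hp) h.2⟩

/-- The group of the length-24 code coincides with the automorphism group of its octad system. -/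
theorem result : Cfsg.M24 = Cfsg.setSystemAut Cfsg.octads := by
  ext σ
  rw [H14.mem_setSystemAut_iff octads]
  refine ⟨fun h s hs => H14.smul_octad h hs, fun h => ?_⟩
  apply H14.mem_M24_of_basis
  intro i hi
  have hp : 2 ^ i < 2 ^ 12 := Nat.pow_lt_pow_right (by norm_num) hi
  rcases basis_oct i hi with h1 | ⟨j, hj, h1, h2⟩
  · exact (h _ h1).1
  · have := H14.Code_symmDiff (h _ h1).1 (h _ h2).1
    rwa [← H14.smul_symmDiff', ← H14.toSet_xor, H14.cw_xor hj hp, ← Nat.xor_assoc, Nat.xor_self,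
      Nat.zero_xor] at this

end Cfsg.Agent.S0369
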