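import Cfsg.Statements.S2077
import Mathlib
import Cfsg.Agent.H27.WK2
import Cfsg.Agent.H27.RuM
-- import your own Cfsg.Agent.* helpers here

set_option autoImplicit false
open Cfsg

namespace Cfsg.Agent.S2077

open scoped Pointwise commutatorElement

open H13 H14.PK H14.PK.TS H27.PKx H27.MG H27.Ru H15

set_option maxRecDepth 100000

noncomputable def C : ℕ := (J (nat_lit 32768) (J (nat_lit 8192) (J (nat_lit 4096) (nat_lit 0x8c4f54dd30c703c10f1b7733abd494ca228517cf97f0b7c07f3dab7ca8d0fbb7080351ca0fb8c7f1c3a9c6695cb3161544bbcf3553295e1eeb7dd2a9cb50551629dfc1e7e6ea72aecef6d70edd7d22f6a214b49d4314f9b0cd726ac2406c4ae6b20ab4464951a8cedc1d1706f0249860d20b6b5b252e8c9240515c72be74bd19de3d25fc9c954632ec5455f0a00a80a1099a67338a02c32bd73b472f1a4688fc42ca4d6e118f87c8e0caface3250f6d12d00575adc869e84880d68bacb3d677bdd697ec5547d5d74079d081124a4d8bc95dab659e3b55863224de51a9276d9a61034afa9d46b495c335bd01449563e8ae55e7b81ed43835a699062e2c5ca53b70528680d278494259bdf06d3ee34ea4819e3146096dfb0f76f4507f1371da754003f610c26df164b0b6390426ffb4641f8cd7fefa5765255f15db2dda92f67c1091fe59ff58632e73ab9b043c49ab3a214d178e8ffc55c22e000a2db3becd629b1235319867d58cc09d50fde1533cfc94ac5696fe8e9f4e4f3a8293abf521b79144aeb469432843f252bce49f49e0b4c9478423c2252972754dce9c633b0850d324e283dee0141fbabc66dad4ccb852f4e0b4ffc9a28600c96cb29d175caaa969e863c2999d187f6e42b)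
 (nat_lit 0x2d6c3227e0424720e3166dd4a373dd11de6fb76a9321f9f416619b540a9f3b92a09ef50c75a88dd79dcb196a80fce80fcfcbc581a6e2a2616264c25e430852f69eb78eddc54cc06e587e049947e6782b40e6eeae9f930f38af65b810249c1b0ae808ab98e199f0f9397a0250a40bd4939846f1e4e3a73ffcb6a543bf3113f3323c9fa64dc1413897a6c24e98711ba824cd77d815bf1cd184514a4022c67d4466f2ad2f36181f2e9657dde0f9b6726fb3cb340d6866701b18b21c9ecc97f96cf05f0d1eb0254aea39351c5a50abcb0966edd92decc06bcc7eaead0ba8ecd0972df2ef1d8b225d655059438e36c607a20052e0e783f6a46dc719e235c26dac080c3f22ed895b6e6c1de0b2752a83e5e069002b4b80f00a3769ed1b874a6a559ca1cf84142944f2f72cd15f7f2eba4b5eb839ccfe071cfa703296089617eec60bead2fd0d3e397e7b2faa7cba96a05ee8d084e10ca85eb268dfa319a5ee3c0e126efacb2637fc265a944e9e89d6a57c77bcc97057e0954dd3bbe075eaf1711564fee7646497f520319d8aed75f5662a3c00c40bb7c2150628906f0bc5ddac7e6e1adba2be2962dca41704a42078240b06e7f0cdcb7df4cd63c61c9981c1d7ae9d5adbef1422ef09c68cab2d5013a2c5a27ec0d28c57b7ea19bef1e127c84cafb97fcb284513996926c85776359fcc4765029ed2a72941b95a83242b9bd0834d79aa))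
 (J (nat_lit 4096) (nat_lit 0xdef182946c155e2b69c72e68cc761664dcb6682eb62cddf56e77f5c4a265ab83ebcd6d5ec7fbe755b2e6fcd0be0a6650045f6cdf816d03d3161d762e3aaba6bb01e7ab7fb38320a16a611f4909e124094d75c9b96ba56c73174d55e4d9323b45704be1391fb2c403072f60635f5d070df3a4ba602b060434be9c64ae79ba63e3f537d7ece825cbd2fe3e66cbac60f8f6e5e21c83757b0a4f34916d01c2b7a376bf8fd8e82236a4891885d16d893f8d6cce1742689bb27a5a106ca15a8e5f0384ce8ce00dcbbe7e96f75a1c4ab21d7055cee62d6f3b9b85adb4a88d97f5d5b7c3eaaf01e08e6be017eb3dbebe522fb1712a891ef98cb933f1f46d6e80a89cb3e474b94d061c32fc3af2421835247d6e5ba565322abcd78cbd2a18f52b6d1c2fca0134577149ba915b03f4ed9a5fbd6efc4cd71d07d62fd38758bb8278553dee971078d4665ae5e7f91e2f1300341148541d1a95546834de9d7f725959ba0476a4ebea3222793be4ec8c077722153507ee5e73540ecf7cfab286a593c0e2eaa187aaafbfbc19c8bc906c9c31d05a4867bb4cebfbe80498d79244f3667e717ad52e90cc9774dedfb178868fb02984ab7cd94afcf946826a1efc18d388e9536774927cc78ea076d7f153d9fb25eab7b82537e3a4c38644f83033ebc737efc33983f9105df6fce08f211441c88b4f0dadf2224da5018e66f2d9206e9382f46f0cfa4e)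
 (nat_lit 0xc0cf3c90fe2fed23e23f56abc467e2893b9ac62f335ca50c7c6dffc0aa8d9cf2dab57ba1186fd936399c0238a08febbc0b83df8d1be36360eeac238f6633bd8deea274f8aac53f395d9dc48a33b818c9f891a9a11dbdd4677b75942961eb26b37907253684a5fda1a81b43f47079ce7ce5c4dbb534ce7477ab1b2a41bc7995dc3f865aee39a271547f2d3280b7723d124b74855652e6dac2383e54b35589108b823c640aff4bdeffd24ce59e1d0a568d5036674c8cfca4aa513e8e7609c434f235154843ad88921154a46870c4521790aadd9595114e8be925ad998fc40ca9b2085bdd97d20bc2795d0e59597facaefaa24d6674ed0b7438523da418309a0779b3ce0aa5d245e8b97a9ba48ef239857693668535a74a089c31c287c37af4b57fdc6972c2338419be68c5d2acd48757b03fa361ed22f4856e66de539d2c6ce1d2194df9b980f19f173cf4973050ae39adc2aa0389fb5071a2eb85133f8209cd42f61d5702c5a35b6b88ef7e28e11d78b46ed96bc730f7ab13bd1e60f5dfa5bf2965fd9e362bf879de65325cadd45200f65446d56945a15f42947e7c5cb33970ae205dcad980e7997be2c00ff6213a4adc764db08ffb4e6e54a4def9bcd4d39718ad346729ea370adec38a47db3b436ba62a86953a75930862f49a64ca0652c45884ff8f02acc5b5c27d3addee189c81016d369049fd5ed4c434453c86d43fcd31)))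
 (J (nat_lit 16384) (J (nat_lit 8192) (J (nat_lit 4096) (nat_lit 0xcdc308588065d4b6993fca6a7de8b4aa54bd4e1bcd3186a1e6b1dbe1c3456f184bd69b40d08a8b4b3e01968d569b86f229964a2555c56a758587c4482cec9aa028ad618d638195805b662e33ed6bd5f2c342da59b2b052f94544b9a2ecd8dd96aec7da98f87737a449d9db97cf00e48f9198da8a2bf27aa5ba34e4ea5afced40f91862c623f40a3d0acc5e58ad03a79d1db0633366b30758dc2885311ad2c1ecaf4b004ceb9293ebedbca2313057e83d48f4bde096143eda1d327bbdbac1a6d66072dbcd1f85d1555098f5f31569a8b24849806275d86fedb146b3827a4f86ef58e28b11ae9c77c4a22da7c042038c92b687f4f6bb17813dd87ef6435e828a904bbb2919174aa6fd60a409e4cc017ecc8f733129d473f5c678779a4b0cf7628da37156974c0e59949d9dd447797dea0db39b10d5f1c7cb1e4d9a9b8e5a61d6c248aba705015745f17bd2c3f9d2b3c425ef4cf86baf14557af1abd4956d908d8778dec095aadf77ca5d8ae71bd819c88c0bd9d3313922d20caa2e0362edc0269d5d1d099018126a2b1abb968df43d05f69b87243278b4a5a56c7dc52044345d751d3b2ece188ac1d4586d093cb8a4d78009dd165027aeed62549050826cecfdfc345c142e5caae2aeb6f9c5856e1bbe313d3a9541e77b9ca10f291653bf0c9357c27ea82463a9175839efd02ef976bbac81a3735ee00cb3d12a7fc8ba6f6204da)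
 (nat_lit 0xadf98a77cdaf8f78b7820a7b1c511196448dc874f10fa08e18e4f57eb789dd17b094279ec5828a6fd14adfb970e42135317602e93680bd84b8c3fc963629e238163cd25c804c099d713c01e46284dd236de16ceaceb1817f621772c9648045f8aa8164d7c59baf161af3efc49d756ed6058c6e918d38e9e50e15ef48f38fa9339febea6244c2a6a9f1abeb9095295e58ea412d72cc58c1999122871a721ef26d5cfc299377f3781c16a6d54b1c91d9b1c60e7e8839fced8a0f7a88db76f007f3dc69e1b07cc0f1955b037cd35d40a7ba7c813b47681f18956ad8884e05cd4a018cebd3db7b36a7e131f6c33d2748339538b0d391ee017ad6ad242a9412bbdececba3c35295768a717f85a1e086c64af363d6fb0ea0db28033ca2a2527a36868774f166cc9899e93b202ebd9b316f2d05f8f67ec63920fdada5c1fd29941b594e97b0586af6e4881c01bf721be22a1aa3be98ede5d0ad3193c7ad30caebbb9019976aa0dfa3ee0a4be1a0bb400494bab0775194c27f1b43ebf416781db9b4110110c1343bf58e0710f08dd8f05c94a92576a9c8997d01a102188715174b6a0212a33669eca079a3a58bed4d9b58fda0ad46f05a06ebace07d006340337106792948a4d117dfe02f18771f065ee28eebab915f8374757d083baf7fd913c8f2f8b80a95e811bea23ba38ebd9f97419de9b6e96b2dce59cf04c1cb7b5880f516e372))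
 (J (nat_lit 4096) (nat_lit 0x6e8bc181bd86903821a8315dc0def7c1b414d8ba99e179ae90e347ad76bcad54c51f35f4a3fda4e36f0ab0a118a8416b9147c14fc8a971e415a9abe6d9c068a32bf6451c48a9f57148af7a8bc1b8f30c93a51a939f6ef3683f370f4b9da978ecbeb35d69636a20d205a17c17037ef6b911605f73fde99664cea979a96472f1d8e33d104825b4ecc2c35703032bf5b88abb0d83bd4f2470b5272f59a7ed3170b7e1571971e9d4fd1b48d66104d37d6305d3b2b3ee2799b6198eb42734752f39989ffdd2854c12214c3ed3837b928bfd94633a0c982db8d75b9cc67f180569044da2651c3c27ffae9071c451893d0daf1a9a319af44e88da6d8f346299a9e9f319289a2908bd26b3809765d58680519bf24521f4e98007527d38b3e84653e51054b77ee819e23e1ed8794c162bb8a365888dd033e1b10c47bc3b2220f3113d093074bf98ed1563a61f1900b4545ccc34e4977561ec7d85cf3d04d4293804189b22cdc91004f56b9aefbfa08da313ac060185fa7d0898855d33150da2d1eb9a0a00145334c37bfe99f51e8ad33b42b0deb9ea49db8e630f16f41f05567e5027cc6ab82ceab51c589e1e30b2d2d6111f656b188efe5f3a4213f21a57a4af08887b943ae0091e5eb48a86bf3673bdc4cb1d912cab22c84ac8bed7b0365527d998be943c31c951917afc7bb9bb6168c11c72f714ffb9541e5f591185bd3799b249056f)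
 (nat_lit 0xaa8c857cf4f5e583717b1e25e3c9b12bf98a8abb5d8a982120a213e7a1d39f33651b18be2d61425db40d5998f5b71eacdb8f6f694426a757231e14cabc113d98e7859396515997ddf648025fb727db929515b7a08f8600d7ded36eb6c671d800cd2e1f07cf5b5a1f758096c0b5dbc3fa04e579179847803082f8c3e9b8932c4d1ddbb88fd5cbfa520102754d43f947a1dd01dd00b5b05c77a29c6f809f902d64c05fc8514218e4b6d6e28301c7bb4a35837ee35b44fd7ebb5ac2b8d3c29fc7c75622a960b14d268ca78f920af20a7e1fe44e06d4b491814c08153a7271843677416578809006609be1e83b015d47b0739872137712e6f72d3f0fd28840dc317f0c3ceb2ade2cee1674a7ff21d146c2e38fade1cae74348309afca3d195c578c2bff9ae46b3fb6d83fe1ac41acc6b61016c6e4187335ab2e23225844dd8d30a0463b688c450ef2261ec2f27e4a92ebf05b3cd211c4b1aa98393ab1742a8ea99bbdebb5e038cc4e3f0dd91c6b768fde273cd581f50a68769c6fa495f69f1bfa7824b43d6a3dc532d48875d00df430a50184d939bf7064202c063cd50ce2d4735a11d522d63892531e41fc56798ebddb37659a4c4385dbf7b7162370409915097445a3cf9cf2889e2499222ba27a75a056face8f9bcf642601a995fce0d46334485fd711f72f63ab67bf3b572ad701e89ee1a3b429340d5fca12f584753d15bd81a)))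
 (J (nat_lit 8192) (J (nat_lit 4096) (nat_lit 0x5495175f34f96a71376af976c32f10cb81aba931e25f2b057b32b4107bcde6b05e9831e612f22ff9851dc2cfb3bf232c71fb543507526f591691309c2f0dca91357e9260b0fafec8a8f7e40b74fbf7d8020f8928c0085f96dbf3e471f11e3d8f928f4fe7614104454d2043c392564d3516c362b5087440439f3a0e9e6463cf9e50368e2bd3f62099c005385cd74b843edb863c7842d2b1fd809ccda5f2de53681874164b233cb90cc7289b027067d23ae56c6ba2b5383046a5e52bad7f8047bcb2c4fa87b3a1f03deb5b61bdf4333a1ed010bac4eaf6c531dc86de91b32cbcdf7132afdf7152c29eb3481f2ff1fde77dadbf7e1fb3f4d57b17dcc2f7910d38b7ff3b3c7fcb343795b65bb7131b2ee9397801ce5cc29d0d969892bf417b6e091f2e32740172f472d1400b58b5f406453c87ba00eb5fabb8734246cc1a63f66e60463d51292b1a211ba76912aac88daeee3df2e902f0c9543c971a80ab35454cc679b02655d53846b1fc80122266ccbb649256ce87115e88d61b4791e53f7aa6805126b154920c62b22fa3304b4c4bac3c9dc8dcff6f2bc4ec1077291226b5942d6990b0cfb3f0e872132a1369c4d7d1f927edf7d30bc74afd0ba47f00b8024e76fdbee530c033ae96bbbd60a310a1929e77137101282b408d0c92232255be9e76eee6257a0ec1a3913c52889c5c9c5bfb99bbf39d2366e2452c89d77e21b76ccc)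
 (nat_lit 0x92e45f884fbb518944355c8c3b675fb23d77364302dd1baa58483643e290e83ba262c5a98d55a1dfb08241aec2e4bff78905ae5c94ca856e6549cca4e6459687a687555b4364a779d59dd03941a6d2aac44c03498a2829377c906ca0cd2eb30844af5441e48fcd0782a4b1bcb71b2bcef8492c9f93145109d3fbe96e136c57cfdcf0de347bf2e83864e48644a0cb2e72d2002335f6b6385b5a39b12067a8e94f890f3fd90b244a0b53163b4d10e59e51f591d6a5627c706dc9163e5b91034e3b23f19e5dacfc50de823d1b6f909cbb130d884bd69722b63ea6baa87885947040ee3e8624a7a91026bef768d0dcac2eaccf7b50bf1d2d9124314755e210cb406247c0fa5fbdafe0f84e04f150e6d158d7ef8d110c4edeab60bdafb6128aa8496146e7d36fb1168d51a6e350a91b41939ef3606a1c0124cece83bba7b4f7fc8e2639f22959f73906065bca3669410a2fbd7f83c5926180b4e472f42dc0b311698161c2215bef74f32e0d777efd544932efbe82763695404c5fa0b5b16fc748473fd4c6ae70c65424374c70e6916ae576e7f77a14d5531c4d009a6582658c1d4a6564011e16ad31ac82d25ce2f009e90dcddd647a2973942cfc12c20e0c83d6b905412c3a09cdf083a09445aa137e465c770444de4b6f6b860161a9ace3bd95ddf867d41fa1216ccec3501bbc01cbd3f465125892e660690ae0b62786d4267b525))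
 (J (nat_lit 4096) (nat_lit 0x231a630d6c8810a87d10e14e67e76fd628d396d8cac8c1dbc33ec07ef6880885d7b8a26be51040a263fcd91ac2770e44562a0138745b1eb9f785a8b51d1219fa832a65f5e3aa4aef0e01f93ce4c798a2ff138c26850e3baec2dbd25605abd1f8806222ba9a66ec7b2022504dfb599b33fb57049aa6bec5b4477670284ee5cfd73a382258f128bec499de6a45ba5c73865d89600f5730c5ac9a1279f4bf0cad828bfafbc9a73aa0aea5becb0d9dbac538a4b60016eead1f8b33234f6d59503e44ef3ca7df5c7105a1838d38cf827ba93ae30edb8b57d21f9af77fae5f03bdb553f38708ec15b28cbb4a911e283a347e373b1bbc6eda1ec3dc27a0f35589fb40613fe0b1014f2870f171b8fd7cd5e281dbaeefa76a9d612ae185e69d726ee579c41d0e5f8079ebc80e206456439548c08170cdcdc2bc7e85f3839235aa71da4354fa73c105e6d13b3a2be40d8f5702b9c8ea6bda9414e032da86928266030f772090d0add1c8237466f94877868a186ccf85bb79148ecf16847315c00ef88299ac13670a308b65903c830cc0b59a6cc379d65302750cbeb3577eed50fe975ae4d57394613c476269b742ec1897838687d0afc16822dfd5a45965ad796bfc773a097005ae207306778a7a0f6f20602df590b07666e7bb97c5576f33c9ee4230c20ea8b8b3c68d29a26b1714c0e108348cdaa1b20ffa6c67f4ac1f1126524e594429)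
 (nat_lit 0x840a6d8eab59dbb38dffbcb0e73ed676c07ace023a088f3e834cacd7660f3e16d925759e77cca8f6d363736d4f43fbb68719af04f714f52d075d8e3a5c6d4e15f062002d4fdfa24224deb561d58aff5103aa4aaae5cd4bcf4e70d24ce9255429a3dc49bf998a5ce443b67a2c161fdc78f03d96e003e9c14283e17f4a620bbfd8356db69891c6faf6493cc54e6f5e5a48b1ff1427a6ef84dbe37da9b5d360ee96b436b86e4ca641dcc8013eac021aa6dc3cffc6b737ae32627e4c73b18ddc58080140b168073a33c138585a2012350e76346314ba9f5ec5e9a559540e267299e0f95c8c6d95a7ef062d75e72c5fe9c4fd00334dabc5eee65457819004cc2ec520c01338d8e891cc08c11f7a1db402454ac6f08b78a1de05994d4b22975f2927aa483624876219ced99da0c8542967e855537601e04fa9a41fa489dbddf89e549ea452d84c6df1fb8fc01a21bd23f6bb8611117328567cb5ff2340003d52a5d2179430e67e1297a73d8e54ae250b073e722a68984a1676f8e461244512812517d3dd68c3d7979b5539ed7dd5ca771c13a8b7d0f399dcf5e88c321c24f60cc4afc301953e4670be32afdb505b6a65e49f4c863b872784c599403bc9a8ca55984826669e6aa35513b76455de60ecee50e5251825a1eb966a46ad7a228709ce66087a2132f5a8e6251d29f12730f553180b9e2735f82ae6c31f5b6c4f6ea59727207a)))))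
noncomputable def D : ℕ := (J (nat_lit 32768) (J (nat_lit 8192) (J (nat_lit 4096) (nat_lit 0xbaee570835ac3df8829bddf2a525660ecdb77f886551e329e852d8cd324b46ea17136668bdaf06d7810c0ca0b1ecc0fea807185d9d629fd9a66abdae12e6df22ad4eda9c945ae23bc3bdddc882fcdb43060fd4b7560b1d3efda67df9e09544f708ef91487e1c4bedbcb0658b47c016f9a5c3af0c95babeb7a77628f0b13b3899e6a284e5d9934bea267d7cd3ee19cc82f6b31d8d3482f47a5d794811839a1cb491dbf433959337e1f7ba4e44d23790031045f4f806104ec037e43b24c7e42b621117543036bd9b6ca4e2731145c657b9271d82de7a13533fca52ba331156f77f2fec0477f6f6b5377147ba429207cd1fbcb47bdfc60c7c6d0f5bb54f97d12d82a1e0f469d6d013806528e9e541488469984526b7171a9e9ba9be49d6dad13013d8f42799c3f52d782472b2fddeee863f638f7b08864a0abbf8980d3a29bb1cafc24263731c9b1a8d89cb9907fc52dd7c1935623723acd9fc0d5a354c83525caeccdb85295c318d8526aed836aa7479edb30124809f15ec39ec24069a123e3c26dec47a034eea22b405e921a4705a181b01bca3ab59307fbd27f64089622e5da79d0a4cb19d55d0617f45d6f8374da5821f632daab8a4f8c635dc5ddb62e7441ee00facb43fa8aae7d0c7)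
 (nat_lit 0x2346365a95fb7d8af1a1184f817ad7eedeaab27c59b5228c4f677b575154d5e48c2e1d7ed597604cd6973fce56af1b64d7ae8bc0e75f12fcbd5942c3cec6a86c81f6ec304903211f4e7c21f9844c34e87a8f8db3463ad0428f51eb3c5b9adef0a7842b1ca0818a3543621800c648b96f9613e506326317392c9de9e3fda73418cf29ac20d0182b5e002ae2605e38b028d130ce951d2ae98d7cf09ddf5d28bcca9062332a4c7b42ada7150e4cc7f8260d6e02633c814929c0257d037d3235a5fc3e1f0248f558b0adc2dda615709ed397d0009cc8cf98338aac4f662da46945869b431dacad94f2edb8325db4c09938205a69042dc009fc19a81a2e6e344007ca280dc9cf2f398fecb26c45c762789049622cd6cfd45637d2e6bf134c6edb12ce9f676585adb1cfc353d3a6f5a640e98c98fbb3faaa0beb444a87544571c8a569ed7edbd34dd673f3689b529634c0b8e6addfe07383cc90eb5314d336373c1208d163fadd3f96cfe1b335e3a6fd0615cdefa7ee69740cf575da0fb48f3d530e01e7faf09fe3afa05c9719a4a8835e2dafef767125e43d29fc32f8309b79b7025bc2cd4ce7472e7155f1bcb586b28e4362b723d36fb183c4eec916cfcc045e84ac660dd4c65efc437c529f3fc189c1aacf7ae6d0b031c41178ebf18ea56df31a708be8f2dedd1897d2bce97c9fb80cd4304023eb163159b8110de84a1ec7c7564d))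
 (J (nat_lit 4096) (nat_lit 0x43e2dac77f3924ed330fb0b6358f2e1b4450155dd434d6b863bfd47aed16a35093cc9f822ba843b0951cd5ed7a80150aaaf5dc3bd40e32c80010e186401dd65bb211a2cf1d6c72c3892b6660c1af803ef3ca7375f2ada47527cd0229a3ddbf7a7421f1d0dd347361f362cc97aeabd73ce02093570ed1b1222051e2e96af2de1f722dbb441d835068c9644a7fd75ce41e2207465dfd604e44b1746ac8469cce636bd64bdbcb3cebe8dcf64b4379898d0a05edb5047c9aef03d140b2d45226be14287dfc99d85dcd1906a568ae3ac0797e40451c4950a5694b61ada6a10554a23cba10a8440ad948f5d21146a5c9c629d8e59ece7dfaec44b04b8c08e12403c1953b3277326ed4d3f4bf5648c360332b25d3e64a296cb787ecdc04524f05f358f8efae80c600b30dc6548b8a363e1d2993c75e3fa907b650a6bced164f7ce32674e3761b856d57e3c1e67938127741fc2bc79ab3ed2677e91249726e9cac310d7e81a95c4dbac634d7d5f06866028ccc28778afa93a2e53f79c67b7b3ca4c8e65b1965253d7a758b3fe9ab2cc6898aa5c30fcc87696fe3fe8510205a8ab9d715c293de2a5142b1fab27a609d254018b8de5e7683ad9ac6c1f855ee943bcb56507a94057c60447edc802ee09e43da7047bfa0e6466e3a035301f7cab1272d06fb5e933c5a2b8c4604e64cd294ef690275760a030cae830b280dfd82f618a7a1ae07)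
 (nat_lit 0x64126b6244132258e38c625f1ff80153100717767b5e631b7c489b4238595376c187465135a81b44937ea0fb6126204841c6315cd8dace8fc3b2e9478a227c462d329c12595919809383b13d2742f3b95baff91e59d34a7b167258a218580e88831a88a1f3992f6b71a0c275860b697ea88fdded2a4a775d9e2fdb366c67f8d76256ed3caeb8496d4f3f535a13cbf5ba5afb297e09ae467e6c6d2b508b69a35099f783df516979a8499dcb3cdc122bbc8e4d8b1b6ffd45711ad0e0f50dd5b816094817ea633d8473e77f15d6b1984a08f8e591f619bba94829581e5ca0269189acbb6b5510763c3378f2d4df5cbe2387731e502b02554fe1f4ece967e98c2cb683098cddce4c8b987b4393a70e0d4d0993f7181073e2a2b2dd4ae1418d02daf1c50c739f8c589cf8e2220a437061a369626d949854727c91736bd9b45c4e0be8c4b9ec06036894ca017db1680a4ee0c81c8805fa2e68b88f02b77d87cefb236d983e87745b05da5431778829da5871f6bb1cc151041f953fd1d439fe4b534064bc966c502678888c5e4a4d214f458ed3487162a140b40f8f5567fbd42ef1ba7ad6e46e89eacd7483433bccde4e0d154782113e1c1e25de754ecbc219370aea2b23be44620e7edb842e47904142a3eaf8a090455a70b7ec71345e4aae53326ccc1ae133623234f0c49bc422746e649443560d245e9e7797075838182c4e1aeb98)))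
 (J (nat_lit 16384) (J (nat_lit 8192) (J (nat_lit 4096) (nat_lit 0xb3a2751a8f69236b95b250b59837844b000f224ca2712c986f1263e92a173dc69c2a5874d941b2f0e746431672af7d9ead39bbbe6f93ba94c7c851f5df249fbbcf866a0ce11951251874656cf8b922750ee8d1e2217b2b4dde32b43d5597c85cc30726585927a214fa06a0270ee23210e2b6cdf76c4b1fb489037b0c285d6d144b103a5fd335994014af6a29ac571bbda30bf009d1be1792e8dfb380106491ea45d1e4d17120089ecf4a55f16a47c74a13530c973910364b3f46875740db06d31f51cf85aa97777250c472f0237dc5b9bbdd584bdf72192c0104bed2fc602957f1d0ba2ede5b7364be3c1f240bb9ddc2ae025e67367a6403b6a1c1ca6310a47246c6f5fb7e063a83f268bb3db947e890d5c5d797c0ee30af301431e2190c91511e1667b50e5f86260c23e58baf039f9e72ee59e4328425090a781cd25b6f2eec38ec38d9c3703254b3b5bd973021f00c6d0bc5d768fc5a5039829d29abbd3e30553f20fd57faf08f212d9508046f57e9c5db6017ba13c96b02cb9c4bab6a9c238e2f3b906a6fb676896cb9671516c7bb98357c52bf190845ab699f260777e730210fb4a0ba52feffddf4fb154de02dac4c14b4c42d300c07576b99f9c483bbd077b89af3396d77ad0d13237a78be9131cdb29cd9556f622fe6093097c9a49b0d0269d910b58067c54638dcd800e5f15cea78062e8eeebca1b76de76146f5ff97)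
 (nat_lit 0x2f9d0e232c06b02be1178a0b2a858ca57eb33b70bd875be162767866590d5a500a6760c3fd3f5e0c5d765bcf1025f720c82ef6d7b303f96e77ca451dee5ad248157715d12cb7a30058e0aa6a767d002ab73bc85f28b279565f6cfb6b129d849eb6ac53cc705f896878f2bd9f59ec04d9da72974f4ade3f5beac9e7cc0c782f670f7dfb7765b37214750a902e656aa7e6f0fadadb645c88282f97642d69d478067cf2a636594c56b74798bfab3a097924a4426676a61ee73bdc6aef01e4585a8d2814f798d5e4a738145104b53c6105894bcfa14c109bf9070b2a18f75e18b3212911060b555f01c0da4b3c366eab971e50c2aaa91c0b7e26ea52c255c16921e76769a408c02101dd6eb85b4bd712aaca4f9189080d77bee97e006ce1d66ec9375b265260436a8df6bb40b32c573b7b86b0724afb47ef0e0f842eda2fd651b09d645c9bcd42ef6948760f476eb1387add9be92445cfaf430aa9a6c861ae80d8d444e1563f5903defced2d146246625bb72ca38c25a75a0fc8d6bec6db03dc7d0a1b322aceefc452325c051057176659fb76ba682fb7bf2776fe773e4e697db215773b14b93dc7981c33f7362cebe351ef3ae555854dbbfc07848934f4f6c60b8f311158f0714e3681cf16478d3dadf349e7fb6e13f825be6e04520aaeb7eb8092a8d42fec78f74b4849f7f6f0ac93019b221082ab2f595eb1e65c606c25bf6962))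
 (J (nat_lit 4096) (nat_lit 0x64c6647d8efeaee9bc38afcf7b680e428143616454b791cb4fdea0ad1ac6450bb53369f69961341c3f6007616ef6cb9df9f505056a21841138a8b7fd5a91c02dc0e4e2ddf006e92108d4c5f7f22d088e00d63a84a36f37e9dbef73ae794399f2c206f019b0eb9a09b20de88bc597f79e8b4f932a71bc5f0f0e9014ea17001d170f160d37d15740123708926a660745405a4ee7ec65b8d97c740d28e4ccb6e291bf75c7972c44eace90f0271751a297794e03cb0e7489431c765400b9019d98ebd52c7154492f97f97bab1c5fa268fd770c7783f6a79297758458786f26eb9848ddc489a58aa84c9398ee17abaa95893ed1d8c2bb02b894685c060c51c0bd5615ff5a5a06626fca759080ae28f71a08a46d087787d92a79692eb268ebcc01f7a6e8eb47a9659688c7c3a328d032bb2f23ee560f0ca8b5f488a239df008792f150a3909593b316f3a25889eaacff8fb068b0b6a0f50dd72b574cda4fba60b4299a2827ac5420b856ee7aaa623810f1ac739a0a27a4ab0b37ed3c219d1d961727acb87c472e9751c163bba871965889719fe35d72676d1df7be3ec710ca7e7e76c8b70503f959cab744f09ac1d7966306b2fb29595ad64f858f1eb154100713221b8ba54ccb992a63ea91949aa5e31628a5bf41686e66b82c4a6df9122283bea0ac470cd6f58308b0a3c2aa5459f24626f421ce5816e028c88ae8c8d9dca914fb52)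
 (nat_lit 0xdf6838917729a7cb8a37667404a0471e5f3dd5969cec0b68a9999673b91b3552987b2ec7453c6e099c77432c05959f90bbdcf5d8a2ec633484c96a906f3d961021b4e4f808eabf239416dafce99de941fc80698bc4d9e4de07d3ff365afe6c7a7e61dfc46a3d234117fe086752551d7f91a34e20f804325ea8942a68f528f72fb7843b8f2bbe8c866dc4862f27ffa30c9ea41620513c1e87fcf9a8e1c5bffeca8685aa053b66469418093964dc28e8eb6c66e332ebbde6e1100eb3e18838195af3cb6f8adf76b6861bfdabd0d424e6483a98dc669319c7e86db72313ec17f3db628214d1a51706802d2315ab4f38717c0ac394984b2803e4dcf1538c629b3c929560171bd0cc3354641b591193620d27717e69f91da38c6459b1e1d38ee20792a9c15d8137bbf11813cac89da119193ba82251059cd19b4ec7fb96889c8b7819001e20acba928ec2872466bdd07f4a2b6dda58f1df85789f4202f90c4047f84f6ca9059ced95f35ba0a2079ca119d71858a38fcaa4c553e8b9ffad6ddfd899a63e7d7c434cfde200e79fef5c133b675384bcb4bc76e75ef37d0f3aa2a6c73c68c8e7728a67bd1867d4caf63fc11cf94bc33ab6f7a9339cde8297aafebc6b3bc1a1594a18799e3f142f04f5c619d217db0a2d21311084de2219eba9269a7841e078cc6cce200fd216b374df1efa12bfa38bcc2fd488ad07eac8098833066aef1f)))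
 (J (nat_lit 8192) (J (nat_lit 4096) (nat_lit 0x13a19bf1d5661265f34ada832ef407acc1113c8fae01584bb77d12848a2167a02124090f5913caa12f2ce603beb1faba3b013421ddbf5c1b9912a8efd39099d4b1695081d1a8934f32ea3d8cd7241819a83fcd165a29881aa847da7a4fc3b9e97c3d647a7b15384e4322b3b820b4aa3cc7b959b8c2bcfb7de3a79c5afdd490c040db5b7ef51798e21f89ff64f9ce1929eaf75252f819f2e0162b21d5005408511d2791a8369c10f8467e42511f1e82814856703851c233eebda92b89e8ad46e96d55ca630b424b4b5a7d93c0f6d3116a9d684b51f5eded7ce98805c1f5096dcc236f97a1d3cc5459ad125caffa4cc5288ce38b960752acb0391226907d800ffac31790efbb16c5a39af932e5cba35f0d80f0eaf1f238aba6ceb8f608c6fdf50cbab60f2e312f4044cbb08c1afca3e61542a5a730f9964e4df3680a0f78422ee45c1887519f93f3aeda168823f442018fa2ff0ada0005b6bf957fc774a9ff13acee63b320b9b5cecf35faea9bd5052c11f65ac4a3ff53b121dc6b821d25b1d92867f20bdf25cc97eb6e5791f6924caa0ddabe5371c27ad3dd886a23f27bcfdcbdeae1c6d9c3c3d3b2477c142bd7bd8bab523109150f9eed6057a884e08e83438e3b7167f5f1af054e34d1bed481d1471267556b1ecbdfa911521f363a2986c936dacdbfc15a6656d834cde14ff3b7cd93cb53e8a8242183ed66a2cacd5fc37e01)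
 (nat_lit 0x66ec46b0558d035dbe6e8252c5bf11f18a2fdd09fa57b06cfa1f7e3966efd5e6d0a985b0b7a29ce5e843eddd5437c0e6fd786632a3db3dcc226815231d32c6a6d2eede4bcdcda230206e82b8d4bc40a5e4118090c8a691e6dd8643c6badc1384d44ad43aac2d6faa8651665340c5a10d81570f6f5fbce34f2241fee71ef85893bd61f9fb504db8a533a33a4f0955435bb03ee1352586a8970abbc24de203edf6e67ab4ed514af52cf109aa9d385e3567f9f8709eb603234dd3c01d8e0b70df2c0d3be459a3e15e7978ce2aa1f412e2895564f04ef9448ad7d88092415239ceaee94e7484a07bad66da10c8de64d10ca2333db96f431a3a0be7a51c96d0838b258e65a3439d836d403b065edd240ff82bc6820685d11e7221404026753333a176f4c4dbb7cc14ae434129be1bb657e95fb04935fca1f49d4f2db4a3eba9527373ddfcc2c7ca9ac165b2c13866d68c0468a2a10bf7a975bf035c61ceedb0f6cc60edc46182d5f54f66c4a293130e494d2870b546bcecdfa617be7df599959ef1be474813f14fa86551e38ef4f22bebbb8074919a964d197a9087c3d4e106936325246fd95dd91e03c5cacf1a0376d4b4f06aad68e247d532f98b9b9fcaf178ed312cd898760f21cc17d28539d94d0e92785fa9bd303283d688daad0388ae32468d1a62f790ec75b8bf4a26475cd8a27871ba6e50ead5c3cb5da8ca0ad1c8538080))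
 (J (nat_lit 4096) (nat_lit 0x655ea52e0e86d11bae3daccb46a971acd9b4f5b0d3e6339a4dc8b417584c9db6fc0e30ef3e8bf01874dd8c2896b1e416cb28d4b51c4455a579dc6c26144e0dffecb1310d9bd6442c3a4e92b65f5944bb8ab80b9161a9c03a02fc6eb341abbfeeeb56d15b3438de5502b9e5cbe11419e5bf8d9de0eef245785dbd2355e2f033b5c9d0c533f85de9dbc9862139844cfc815ea81e2843a862ab3873186407521a0d443735d89cc0fac12136c49cf684bfe2cabce3e8504343d0970ec87ccdf4ed7fb1d18e9b0824aebfb3af1efd05a72b394fa8ab4582d167f137ad8bc257654184034557353fe7ba6065dad25f69351745d3d09dc0cf43cf1390c31b45c4476567bf73ae0dcc76a5b536e78c30c1aebb4c2b5a4190e7555e29223eb116f41de6ea4013d4e1daac7a8b5a3e2facf55eef306f192d53245af70e13456383e93d27552b043d7e477aba14de66b4d39b097f0f07f03b1f78543e6422877e54dcadd7d60c73005fded0a4b2a51126d595ae8b5f9203dba0a5d06ed148dabfcc42a026cd761244e8d6b2bf612ed4b3678cea42e34f156f577f7d7bde0511714e2f16f862b10eefba1b5e15d58c3d6eb42e558c1e6689e05557d2435b5ea3406e515e5e631495f4b2415d3057634a9d70bf334078d20be5b701f236111ed7e26799a1565d418ac479a8d9e951dc83d5d4ef2727a975524a17c960268412d5c5463b4f48d9)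
 (nat_lit 0x98d51141ab08e39a651986138c8989a4f17ff28f408638cfa557f4cd5261af281dade1e99b1f8846b2057da21afc5f4d7e6abe97927e30d53afb3f32deb5618a1917543c18a994b91a97a56c323aa3c4e29ea4ea58c0f9d29a7c3c91994cb829cb95491b9f5b572994194d5afc031ea018c7809b678becc28cea319378a662f4abfbcfa585b0ee8f411b8858ff3b353d87959949370c7334a80fbd07fd17bc49e7af2a71f23e09e77d4d31953d2edabc057b9d121fda2c8ba27d3b5c6be3594162237f799ae1e52db1a7dd615fc495fbfa33b201bfe62004a242048b4d22500a49b2b4539c968a99227382b8b169b8bd50c88e94dfbe0329f074e4736c001ad358f9cbee6a93f1b2ec572a709855483da8388880e1ed986e4e0c5598e14c1d3ab7f63936e4333c8b75f9b7cf48ed6a74ba3b7cb7496634eb99bfd922752889d5cc55b66ff3dc8754b5eb56a9977e39857a1dc8a696d78c56827d1a2b3f0951ccfedf7209665572aab00e5d028f63759c97cdfb114c3471e0a5dd8cbc297dd1884ec63d461d046e9579f6290be90a19003334be0cdd9b7c99490892e70b07344931d20857789a052709e12c3a59b273fbed92560b0d72c0926f8f8b419af950920a1606278eb6ca09011a2201b9ccc447415d4d2c8bb0220ab80b2905fef92d367aef1cee5024a42eb05a500a98678300da4872dbf48999250c504ae4fd2fa9f)))))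
noncomputable def Xs : List ℕ := [(J (nat_lit 32768) (J (nat_lit 8192) (J (nat_lit 4096) (nat_lit 0xfdbfdafd9fd8fd7fd6fd5fd4fd3fd2fd1fd0fcffcefcdfccfcbfcafc9fc8fc7fc6fc5fc4fc3fc2fc1fc0fbffbefbdfbcfbbfbafb9fb8fb7fb6fb5fb4fb3fb2fb1fb0faffaefadfacfabfaafa9fa8fa7fa6fa5fa4fa3fa2fa1fa0f9ff9ef9df9cf9bf9af99f98f97f96f95f94f93f92f91f90f8ff8ef8df8cf8bf8af89f88f87f86f85f84f83f82f81f80f7ff7ef7df7cf7bf7af79f78f77f76f75f74f73f72f71f70f6ff6ef6df6cf6bf6af69f68f67f66f65f64f63f62f61f60f5ff5ef5df5cf5bf5af59f58f57f56f55f54f53f52f51f50f4ff4ef4df4cf4bf4af49f48f47f46f45f44f43f42f41f40f3ff3ef3df3cf3bf3af39f38f37f36f35f34f33f32f31f30f2ff2ef2df2cf2bf2af29f28f27f26f25f24f23f22f21f20f1ff1ef1df1cf1bf1af19f18f17f16f15f14f13f12f11f10f0ff0ef0df0cf0bf0af09f08f07f06f05f04f03f02f01f00effefeefdefcefbefaef9ef8ef7ef6ef5ef4ef3ef2ef1ef0eefeeeeedeeceebeeaee9ee8ee7ee6ee5ee4ee3ee2ee1ee0edfedeeddedcedbedaed9ed8ed7ed6ed5ed4ed3ed2ed1ed0ecfeceecdeccecbecaec9ec8ec7ec6ec5ec4ec3ec2ec1ec0ebfebeebdebcebbebaeb9eb8eb7eb6eb5eb4eb3eb2eb1eb0eafeaeeadeaceabe)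
 (nat_lit 0xaaea9ea8ea7ea6ea5ea4ea3ea2ea1ea0e9fe9ee9de9ce9be9ae99e98e97e96e95e94e93e92e91e90e8fe8ee8de8ce8be8ae89e88e87e86e85e84e83e82e81e80e7fe7ee7de7ce7be7ae79e78e77e76e75e74e73e72e71e70e6fe6ee6de6ce6be6ae69e68e67e66e65e64e63e62e61e60e5fe5ee5de5ce5be5ae59e58e57e56e55e54e53e52e51e50e4fe4ee4de4ce4be4ae49e48e47e46e45e44e43e42e41e40e3fe3ee3de3ce3be3ae39e38e37e36e35e34e33e32e31e30e2fe2ee2de2ce2be2ae29e28e27e26e25e24e23e22e21e20e1fe1ee1de1ce1be1ae19e18e17e16e15e14e13e12e11e10e0fe0ee0de0ce0be0ae09e08e07e06e05e04e03e02e01e00dffdfedfddfcdfbdfadf9df8df7df6df5df4df3df2df1df0defdeededdecdebdeade9de8de7de6de5de4de3de2de1de0ddfddedddddcddbddadd9dd8dd7dd6dd5dd4dd3dd2dd1dd0dcfdcedcddccdcbdcadc9dc8dc7dc6dc5dc4dc3dc2dc1dc0dbfdbedbddbcdbbdbadb9db8db7db6db5db4db3db2db1db0dafdaedaddacdabdaada9da8da7da6da5da4da3da2da1da0d9fd9ed9dd9cd9bd9ad99d98d97d96d95d94d93d92d91d90d8fd8ed8dd8cd8bd8ad89d88d87d86d85d84d83d82d81d80d7fd7ed7dd7cd7bd7ad79d78d77d76d75d74d73d72d71d70d6fd6ed6dd6cd6bd6ad69d68d67d66d65d64d63d62d61d60d5fd5ed5dd5cd5bd5ad59d58d57d56d5))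
 (J (nat_lit 4096) (nat_lit 0x5d54d53d52d51d50d4fd4ed4dd4cd4bd4ad49d48d47d46d45d44d43d42d41d40d3fd3ed3dd3cd3bd3ad39d38d37d36d35d34d33d32d31d30d2fd2ed2dd2cd2bd2ad29d28d27d26d25d24d23d22d21d20d1fd1ed1dd1cd1bd1ad19d18d17d16d15d14d13d12d11d10d0fd0ed0dd0cd0bd0ad09d08d07d06d05d04d03d02d01d00cffcfecfdcfccfbcfacf9cf8cf7cf6cf5cf4cf3cf2cf1cf0cefceecedceccebceace9ce8ce7ce6ce5ce4ce3ce2ce1ce0cdfcdecddcdccdbcdacd9cd8cd7cd6cd5cd4cd3cd2cd1cd0ccfcceccdcccccbccacc9cc8cc7cc6cc5cc4cc3cc2cc1cc0cbfcbecbdcbccbbcbacb9cb8cb7cb6cb5cb4cb3cb2cb1cb0cafcaecadcaccabcaaca9ca8ca7ca6ca5ca4ca3ca2ca1ca0c9fc9ec9dc9cc9bc9ac99c98c97c96c95c94c93c92c91c90c8fc8ec8dc8cc8bc8ac89c88c87c86c85c84c83c82c81c80c7fc7ec7dc7cc7bc7ac79c78c77c76c75c74c73c72c71c70c6fc6ec6dc6cc6bc6ac69c68c67c66c65c64c63c62c61c60c5fc5ec5dc5cc5bc5ac59c58c57c56c55c54c53c52c51c50c4fc4ec4dc4cc4bc4ac49c48c47c46c45c44c43c42c41c40c3fc3ec3dc3cc3bc3ac39c38c37c36c35c34c33c32c31c30c2fc2ec2dc2cc2bc2ac29c28c27c26c25c24c23c22c21c20c1fc1ec1dc1cc1bc1ac19c18c17c16c15c14c13c12c11c10c0fc0ec0dc0cc0bc0ac09c08c07c06c05c04c03c02c01c00)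
 (nat_lit 0xbffbfebfdbfcbfbbfabf9bf8bf7bf6bf5bf4bf3bf2bf1bf0befbeebedbecbebbeabe9be8be7be6be5be4be3be2be1be0bdfbdebddbdcbdbbdabd9bd8bd7bd6bd5bd4bd3bd2bd1bd0bcfbcebcdbccbcbbcabc9bc8bc7bc6bc5bc4bc3bc2bc1bc0bbfbbebbdbbcbbbbbabb9bb8bb7bb6bb5bb4bb3bb2bb1bb0bafbaebadbacbabbaaba9ba8ba7ba6ba5ba4ba3ba2ba1ba0b9fb9eb9db9cb9bb9ab99b98b97b96b95b94b93b92b91b90b8fb8eb8db8cb8bb8ab89b88b87b86b85b84b83b82b81b80b7fb7eb7db7cb7bb7ab79b78b77b76b75b74b73b72b71b70b6fb6eb6db6cb6bb6ab69b68b67b66b65b64b63b62b61b60b5fb5eb5db5cb5bb5ab59b58b57b56b55b54b53b52b51b50b4fb4eb4db4cb4bb4ab49b48b47b46b45b44b43b42b41b40b3fb3eb3db3cb3bb3ab39b38b37b36b35b34b33b32b31b30b2fb2eb2db2cb2bb2ab29b28b27b26b25b24b23b22b21b20b1fb1eb1db1cb1bb1ab19b18b17b16b15b14b13b12b11b10b0fb0eb0db0cb0bb0ab09b08b07b06b05b04b03b02b01b00affafeafdafcafbafaaf9af8af7af6af5af4af3af2af1af0aefaeeaedaecaebaeaae9ae8ae7ae6ae5ae4ae3ae2ae1ae0adfadeaddadcadbadaad9ad8ad7ad6ad5ad4ad3ad2ad1ad0acfaceacdaccacbacaac9ac8ac7ac6ac5ac4ac3ac2ac1ac0abfabeabdabcabbabaab9ab8ab7ab6ab5ab4ab3ab2ab1ab0aafaaeaadaacaaba)))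
 (J (nat_lit 16384) (J (nat_lit 8192) (J (nat_lit 4096) (nat_lit 0xaaaa9aa8aa7aa6aa5aa4aa3aa2aa1aa0a9fa9ea9da9ca9ba9aa99a98a97a96a95a94a93a92a91a90a8fa8ea8da8ca8ba8aa89a88a87a86a85a84a83a82a81a80a7fa7ea7da7ca7ba7aa79a78a77a76a75a74a73a72a71a70a6fa6ea6da6ca6ba6aa69a68a67a66a65a64a63a62a61a60a5fa5ea5da5ca5ba5aa59a58a57a56a55a54a53a52a51a50a4fa4ea4da4ca4ba4aa49a48a47a46a45a44a43a42a41a40a3fa3ea3da3ca3ba3aa39a38a37a36a35a34a33a32a31a30a2fa2ea2da2ca2ba2aa29a28a27a26a25a24a23a22a21a20a1fa1ea1da1ca1ba1aa19a18a17a16a15a14a13a12a11a10a0fa0ea0da0ca0ba0aa09a08a07a06a05a04a03a02a01a009ff9fe9fd9fc9fb9fa9f99f89f79f69f59f49f39f29f19f09ef9ee9ed9ec9eb9ea9e99e89e79e69e59e49e39e29e19e09df9de9dd9dc9db9da9d99d89d79d69d59d49d39d29d19d09cf9ce9cd9cc9cb9ca9c99c89c79c69c59c49c39c29c19c09bf9be9bd9bc9bb9ba9b99b89b79b69b59b49b39b29b19b09af9ae9ad9ac9ab9aa9a99a89a79a69a59a49a39a29a19a099f99e99d99c99b99a99999899799699599499399299199098f98e98d98c98b98a98998898798698598498398298198097f97e97d97c97b97a97997897797697597497397297197096f96e96d96c96b96a96996896796696596496396296196095f95e95d95c95b95a95995895795695)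
 (nat_lit 0x595495395295195094f94e94d94c94b94a94994894794694594494394294194093f93e93d93c93b93a93993893793693593493393293193092f92e92d92c92b92a92992892792692592492392292192091f91e91d91c91b91a91991891791691591491391291191090f90e90d90c90b90a9099089079069059049039029019008ff8fe8fd8fc8fb8fa8f98f88f78f68f58f48f38f28f18f08ef8ee8ed8ec8eb8ea8e98e88e78e68e58e48e38e28e18e08df8de8dd8dc8db8da8d98d88d78d68d58d48d38d28d18d08cf8ce8cd8cc8cb8ca8c98c88c78c68c58c48c38c28c18c08bf8be8bd8bc8bb8ba8b98b88b78b68b58b48b38b28b18b08af8ae8ad8ac8ab8aa8a98a88a78a68a58a48a38a28a18a089f89e89d89c89b89a89989889789689589489389289189088f88e88d88c88b88a88988888788688588488388288188087f87e87d87c87b87a87987887787687587487387287187086f86e86d86c86b86a86986886786686586486386286186085f85e85d85c85b85a85985885785685585485385285185084f84e84d84c84b84a84984884784684584484384284184083f83e83d83c83b83a83983883783683583483383283183082f82e82d82c82b82a82982882782682582482382282182081f81e81d81c81b81a81981881781681581481381281181080f80e80d80c80b80a809808807806805804803802801800))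
 (J (nat_lit 4096) (nat_lit 0x7ff7fe7fd7fc7fb7fa7f97f87f77f67f57f47f37f27f17f07ef7ee7ed7ec7eb7ea7e97e87e77e67e57e47e37e27e17e07df7de7dd7dc7db7da7d97d87d77d67d57d47d37d27d17d07cf7ce7cd7cc7cb7ca7c97c87c77c67c57c47c37c27c17c07bf7be7bd7bc7bb7ba7b97b87b77b67b57b47b37b27b17b07af7ae7ad7ac7ab7aa7a97a87a77a67a57a47a37a27a17a079f79e79d79c79b79a79979879779679579479379279179078f78e78d78c78b78a78978878778678578478378278178077f77e77d77c77b77a77977877777677577477377277177076f76e76d76c76b76a76976876776676576476376276176075f75e75d75c75b75a75975875775675575475375275175074f74e74d74c74b74a74974874774674574474374274174073f73e73d73c73b73a73973873773673573473373273173072f72e72d72c72b72a72972872772672572472372272172071f71e71d71c71b71a71971871771671571471371271171070f70e70d70c70b70a7097087077067057047037027017006ff6fe6fd6fc6fb6fa6f96f86f76f66f56f46f36f26f16f06ef6ee6ed6ec6eb6ea6e96e86e76e66e56e46e36e26e16e06df6de6dd6dc6db6da6d96d86d76d66d56d46d36d26d16d06cf6ce6cd6cc6cb6ca6c96c86c76c66c56c46c36c26c16c06bf6be6bd6bc6bb6ba6b96b86b76b66b56b46b36b26b16b06af6ae6ad6ac6ab6)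
 (nat_lit 0xaa6a96a86a76a66a56a46a36a26a16a069f69e69d69c69b69a69969869769669569469369269169068f68e68d68c68b68a68968868768668568468368268168067f67e67d67c67b67a67967867767667567467367267167066f66e66d66c66b66a66966866766666566466366266166065f65e65d65c65b65a65965865765665565465365265165064f64e64d64c64b64a64964864764664564464364264164063f63e63d63c63b63a63963863763663563463363263163062f62e62d62c62b62a62962862762662562462362262162061f61e61d61c61b61a61961861761661561461361261161060f60e60d60c60b60a6096086076066056046036026016005ff5fe5fd5fc5fb5fa5f95f85f75f65f55f45f35f25f15f05ef5ee5ed5ec5eb5ea5e95e85e75e65e55e45e35e25e15e05df5de5dd5dc5db5da5d95d85d75d65d55d45d35d25d15d05cf5ce5cd5cc5cb5ca5c95c85c75c65c55c45c35c25c15c05bf5be5bd5bc5bb5ba5b95b85b75b65b55b45b35b25b15b05af5ae5ad5ac5ab5aa5a95a85a75a65a55a45a35a25a15a059f59e59d59c59b59a59959859759659559459359259159058f58e58d58c58b58a58958858758658558458358258158057f57e57d57c57b57a57957857757657557457357257157056f56e56d56c56b56a56956856756656556456356256156055f55e55d55c55b55a55955855755655)))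
 (J (nat_lit 8192) (J (nat_lit 4096) (nat_lit 0x555455355255155054f54e54d54c54b54a54954854754654554454354254154053f53e53d53c53b53a53953853753653553453353253153052f52e52d52c52b52a52952852752652552452352252152051f51e51d51c51b51a51951851751651551451351251151050f50e50d50c50b50a5095085075065055045035025015004ff4fe4fd4fc4fb4fa4f94f84f74f64f54f44f34f24f14f04ef4ee4ed4ec4eb4ea4e94e84e74e64e54e44e34e24e14e04df4de4dd4dc4db4da4d94d84d74d64d54d44d34d24d14d04cf4ce4cd4cc4cb4ca4c94c84c74c64c54c44c34c24c14c04bf4be4bd4bc4bb4ba4b94b84b74b64b54b44b34b24b14b04af4ae4ad4ac4ab4aa4a94a84a74a64a54a44a34a24a14a049f49e49d49c49b49a49949849749649549449349249149048f48e48d48c48b48a48948848748648548448348248148047f47e47d47c47b47a47947847747647547447347247147046f46e46d46c46b46a46946846746646546446346246146045f45e45d45c45b45a45945845745645545445345245145044f44e44d44c44b44a44944844744644544444344244144043f43e43d43c43b43a43943843743643543443343243143042f42e42d42c42b42a42942842742642542442342242142041f41e41d41c41b41a41941841741641541441341241141040f40e40d40c40b40a409408407406405404403402401400)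
 (nat_lit 0x3ff3fe3fd3fc3fb3fa3f93f83f73f63f53f43f33f23f13f03ef3ee3ed3ec3eb3ea3e93e83e73e63e53e43e33e23e13e03df3de3dd3dc3db3da3d93d83d73d63d53d43d33d23d13d03cf3ce3cd3cc3cb3ca3c93c83c73c63c53c43c33c23c13c03bf3be3bd3bc3bb3ba3b93b83b73b63b53b43b33b23b13b03af3ae3ad3ac3ab3aa3a93a83a73a63a53a43a33a23a13a039f39e39d39c39b39a39939839739639539439339239139038f38e38d38c38b38a38938838738638538438338238138037f37e37d37c37b37a37937837737637537437337237137036f36e36d36c36b36a36936836736636536436336236136035f35e35d35c35b35a35935835735635535435335235135034f34e34d34c34b34a34934834734634534434334234134033f33e33d33c33b33a33933833733633533433333233133032f32e32d32c32b32a32932832732632532432332232132031f31e31d31c31b31a31931831731631531431331231131030f30e30d30c30b30a3093083073063053043033023013002ff2fe2fd2fc2fb2fa2f92f82f72f62f52f42f32f22f12f02ef2ee2ed2ec2eb2ea2e92e82e72e62e52e42e32e22e12e02df2de2dd2dc2db2da2d92d82d72d62d52d42d32d22d12d02cf2ce2cd2cc2cb2ca2c92c82c72c62c52c42c32c22c12c02bf2be2bd2bc2bb2ba2b92b82b72b62b52b42b32b22b12b02af2ae2ad2ac2ab2))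
 (J (nat_lit 4096) (nat_lit 0xaa2a92a82a72a62a52a42a32a22a12a029f29e29d29c29b29a29929829729629529429329229129028f28e28d28c28b28a28928828728628528428328228128027f27e27d27c27b27a27927827727627527427327227127026f26e26d26c26b26a26926826726626526426326226126025f25e25d25c25b25a25925825725625525425325225125024f24e24d24c24b24a24924824724624524424324224124023f23e23d23c23b23a23923823723623523423323223123022f22e22d22c22b22a22922822722622522422322222122021f21e21d21c21b21a21921821721621521421321221121020f20e20d20c20b20a2092082072062052042032022012001ff1fe1fd1fc1fb1fa1f91f81f71f61f51f41f31f21f11f01ef1ee1ed1ec1eb1ea1e91e81e71e61e51e41e31e21e11e01df1de1dd1dc1db1da1d91d81d71d61d51d41d31d21d11d01cf1ce1cd1cc1cb1ca1c91c81c71c61c51c41c31c21c11c01bf1be1bd1bc1bb1ba1b91b81b71b61b51b41b31b21b11b01af1ae1ad1ac1ab1aa1a91a81a71a61a51a41a31a21a11a019f19e19d19c19b19a19919819719619519419319219119018f18e18d18c18b18a18918818718618518418318218118017f17e17d17c17b17a17917817717617517417317217117016f16e16d16c16b16a16916816716616516416316216116015f15e15d15c15b15a15915815715615)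
 (nat_lit 0x515415315215115014f14e14d14c14b14a14914814714614514414314214114013f13e13d13c13b13a13913813713613513413313213113012f12e12d12c12b12a12912812712612512412312212112011f11e11d11c11b11a11911811711611511411311211111010f10e10d10c10b10a1091081071061051041031021011000ff0fe0fd0fc0fb0fa0f90f80f70f60f50f40f30f20f10f00ef0ee0ed0ec0eb0ea0e90e80e70e60e50e40e30e20e10e00df0de0dd0dc0db0da0d90d80d70d60d50d40d30d20d10d00cf0ce0cd0cc0cb0ca0c90c80c70c60c50c40c30c20c10c00bf0be0bd0bc0bb0ba0b90b80b70b60b50b40b30b20b10b00af0ae0ad0ac0ab0aa0a90a80a70a60a50a40a30a20a10a009f09e09d09c09b09a09909809709609509409309209109008f08e08d08c08b08a08908808708608508408308208108007f07e07d07c07b07a07907807707607507407307207107006f06e06d06c06b06a06906806706606506406306206106005f05e05d05c05b05a05905805705605505405305205105004f04e04d04c04b04a04904804704604504404304204104003f03e03d03c03b03a03903803703603503403303203103002f02e02d02c02b02a02902802702602502402302202102001f01e01d01c01b01a01901801701601501401301201101000f00e00d00c00b00a009008007006005004003002001000))))),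
  (J (nat_lit 32768) (J (nat_lit 8192) (J (nat_lit 4096) (nat_lit 0xb2a311dbd1bf78999495a0f0623ab6360a5715d4bef899f26160e0e00738a807a43fbf070ee10901361f634eee727db6aa0938258fcc19126a0565ead8e1884ef72e64613495fa0ab17071d07c65970404989f1f9ee89fa58031914a0ddf9d740c860d5fa06b2afc267abb37b1a608ab4174f42ca095d600ed6960f15a8f591e59bcd0cc0bc1584a39658bc483cbe855e0c592e1ba63d9a8a2157a23ed45d866885fd4694f02ea84099c5e4b49db933f3292585c073dd582ff0a9f9eaf2c697f8a589a5b15199c8242254f7415eb89affec7337e58b681463afc35124944c32680bc6c884d6f71f903a0f2dbe5df14d718c211b6ed47ef3072e3f3762e53a59480816101d6ba64e3fd5fc2c9fe021a1520492c1197cd4ea5dec05cc21ae13f5a04ac038b4fb2c8371f093e70b872a2675b536640fd939b5c72b97444a77c8ea8c73ae84b6bd2eb8dbc421d4d869c2f09613d70d69136c404f000d32fad46be3397a5bf500c2dcc6188043240e342d8357e8e6e6073f5c50029fb30e1ae2417f1a55ba763b50f3e4452c7530c331382684823bed3da695b31832d6468634f232bd411fb93c2426171834af1e58f6a59912817b4cd3f85c92358dfa7032b88b369df126ba69922980ef5db)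
 (nat_lit 0x4512208281a43aad26cc5ad32ea963471cf9fd6838c07df6c9b723098f9bcb81538871d2bcbbe71c284b7789185b86c7f8ad96b32b4b467f32b98029dd4ebbbb915027a0bef4b289e3b9db8f887afca6e3e0ed8dea96e60c58e79c937238ed1e8974bb504f60af47cd0da09ec54530f276b1dfae250466e629b10d44f54dd0386d3ea063c1bfcd665976212d30f95dfc0f54492a5e65dc76fa4fd5f3d60e45ce8e9001d10e7f6fdf52bb311b10702fc5826de353de172d874ee64a45138a919c97ae100f9d0ad6b4ea2900e01a4b00673e31defbd95150a43fb84d3c3078e16aa87c38380ab782658e79aa2394b25b946125d00ba4e74a77ebaf31ab34cccc939fae1037581ebea98c0364b1b1493be09950caf73372ac481b06ff6c5144c6dde67db7166e52bed9475545432d2888a4586dbb6d78c99d1c9da3bec1d85717a8af1437f1509967368f65d2d02cdfce599b2ed73207915bcb261c6cdc7bd2ec6e23b8940d3edc7d77917b5f2e28577474222f94ad3a3856fac002a92d78296dc79ec1ec6f657d72cd2d42d1dfd2acce075c2860704cfb28d6829c905970b1ebcc4a13b618006ad298003712901cd97d11cbc9aea633f7c98cc045825e93e4610d3fa2fdec83a2c4dc19312f1c0dbc13ac6799070c597adf206dac18ced4b88b6e859dc6477e77a3a6b8fda51329201afde210e8c0e112c432c1264980ae59f32c))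
 (J (nat_lit 4096) (nat_lit 0x4aec1159ffd90a5fcec9df5951fc9e91c263c934f5c047ca4844b625cbea8e0f582a56ee2aeee87aa48f5d190487a20c0f65a5eea23eade42721aa1a0eb9c85534f4e094a43468029e23b5a729cad53ee8ada59a36d466bb0fe963ca4cefac25ba191dab73c4ecaca697e4eb6e428c5d6c1bb210b5dcf1f829b5c9e7c2849edd45c5a9b5981c44081329c28a7ec885395da1b1f895f0f14a8206798bbd8a6a44707766361efa376a80f8dbf23d252df3898bccdcfd2a1233645bf412b741c97666af7cab8e35a4d5794f720ff458ed34660c6ebf516711de70ef6ae428b8173a7238d842ddef4004503dc837cd722a42039b223de083d57bf2f18eb22d77c732ff9f71b17e5fa82244074062ea1c0173d6d1dd808522058bb28c399d2a655eb257e619d17f56e268931d50768ecc3ec98ac410edfb8a52dd901c7140a1866515b6781441183481fbc81971be33af28216527972320dd27c57b6bd25ef6a18dd085184d05c7937e22e8306a7840d40ea037be65fd1c82c3b455037384d03378876583225cab299dc6416c6c222009bf2e0dd6f651334e458e05256a33adea12a89ec05f28f069ceff0e721a16b7633d2cd67858b06fa04d7cb4209ee48a07087bd68127ee6f2b790f53a8d9d6e650dbebda705cd2df64f59d5eb3e4fd83a99ff9ab11f43d0ab64cb9bdf7b82e08f3a9e398940d6e07d9b93cf1d7848957db1f6a)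
 (nat_lit 0x902d1f78f257a18d54f18fb53fe16e526e6c60297db6d0b4f3728060a167b3b98be98cbf243083c8df19a22acadfb39982bfd7e4aa0f8e80fbe53f100863aa266f81908767253dfcfb93145b4653e55b3d65f16cf70d7ee9908f659e5f744581acea25484a39e574e8203a2fab05bd4c5202cfeb01cb3f447798c4a917932e893dfce7fb70aa9cae0d012c78b1eaa0ddfa44df16be03d5349ce5e8b9833968c36cc0ecabc9a1d99092be8d039ce0cce4edbad71a145f566b9ade594c395a82f8836c8f24736f7d098de1730a8515769da1c16de1531a887485df835b33b72c9dc09ce79b03e21891b2cc68c77b8a05620c48970aed7368eeefc2263ab54367d97e82d35cbaac44b3160f3f2f936c03d2ecfc4ba3ee8e679d24dc2ef978ca5a15c909559e43c07bdb1c93a85355dc0b39f5608dc0c1156ba9365ac29c3c31c8cad84852d949f4f1e5b2079cd6e9ccd4baa94c1c4f9b9874c632c45f4c34997357a669e2288d4a19180b33eed8c4ea977fc770259dc4a1d1f88a732d2a821fbe5491a671e6425fec635465be12b8656745fad3756e1657f6b5bd89034a229b39a397cd1cbc7f60d26f068d4ab24e3a3e258ee5750f739344faf9e6b7fab63e20e66af5bc411ead713ed25d1bee6e143c2af3e1512f0606bc1006ce7ffa6439021d5c0af09204b62550d9e71f1389ee32f92015ac9fb7d3898804091361aeaefc9d)))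
 (J (nat_lit 16384) (J (nat_lit 8192) (J (nat_lit 4096) (nat_lit 0x391f86db95e01ebb60a64d30ce1b6ac307afb0ed00e3444c7afa2262e7619eea327c5dbe524084d00e66f88d20b6a9ad186387258ad078c51a930206c689644b6cb0cd85a70d7614717526334054623805335c97ba3fd8ef7f21256872d48758d98563e938932b8df78135e08d5a5cbb6cfbdcbd767b70fba065e11db9fc8434cb6b838abd147d176c0afabc3e2e74675ff9535f6c7ecd3fcc602acd2901d41d871064d93f5176042395b43417b9f62ee0fa6314c17f447a3d7442ce83263d5d7f0083d2c309281f15593b260e8a991c368bd0df7688c470cf13ae0b7089e65a3b3a0b7abf68fbef023e3ad821b4cfa278645e194a79d932ac9b4f8db98f02f0545b9e5e146dde34301eac2323c5f4c498392d58ece8e578748c74cb0d75f8aa4a9a2b91dcc9deb3325e3bfab1505240220a54402785ec46052f3dcbde2d27ee021eb4dd49a2da3819b03895450eab959b5a7d8db402860e926c50126974fb18175f451b782192ff762c22b55e85d7321b2edc32057cc9355982e6eb320856d163a14eff5e5eebc3cf0c91022c23020d508889ca90c2489a78a2181923fa3f6fc43b69362d169b0439c20940aeb8fc1a48d67c86c3a3188610449b81aba3af3921433cc5c53bc3e6354f7de8630a88618095f9ddaa0de332493d84caaabb20ce79bb5f16418129aaf30196a372984c67e04f041e19869f88a1efe0da9710c31e)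
 (nat_lit 0x76c4c02f7fd214825d65d3bc5758a7ccf961ebe938fda60977989b6f8c080a3d1ccf1a90cebc1010ec9075d9a62d14a343408f85f7019916c1258ddcdcb6a61b80b8def265c0305b69b15d4bd55716669599a1ae71eeb7e04ebf3a9b620c996282492f2e9df2182448dfa1cc8cf7ca7e4dbf9976f79f2ab5e86954cdad475f6d6f56c1bfd1f5cc3ee31339a832c806af6649f17d0e11c117c701c4d6b8ab998159f06b4ad52aa1add9a73e2e685f213cc286ecda2e06eeabe3d37e73845bf407ca95338f3d4cd62b3e83e10aa3505121192fe73e3d93f55ff21942e19a87d10a1049c1fd01a366a27e7e1b7cab85580e2e261cdeb15feaea20ee3b0d5b8bedb27f12039d46f0bb60ba28d586635f062a053c1649ea2cdffc1431f3f8926c63b1319fafe24f57c5e05c44da6011edc1791190079dd51fa554e47f56610f5f978a77a8cbe8c09a51ba1a1ff67f570c01089b57a12ec2446efb1e62c8c082f67820772dfc051e405af972e388f0c58ca70777010e447d8f1c6007a8d13f467665024d222675319246ee9bb445426fae4d9217271006921ea49cc47eb0808a71e53f0c961d6405ebecff941a429fd4cdaf3be7be75376c79066f899176b658be72cb7029a199dc926f57db0b2aa5ec764f8d9ebd99d92187fd99e27d853c5484f2816c69c6a30072f535780ef7db25772280506e0b526e7373a038476f753d7e2ef9))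
 (J (nat_lit 4096) (nat_lit 0x3f9580be63c4e7cadf51f17cef6d9f530acd436126a46b9c2bdd113703082b27ce41917e45d71982680d6bb3c97c85656ac43951769a6a036d86f81b43d720739801cc976900084d54231d55f6d51e080c3595877e88356a97c68797e02a19d45376f4b35ee95f6139fc62d0a59c0d6977a9936b056777fe36b13273da00d13bfacdabe0457054b56d08c097371116b075dcfcd326b7ac7d1a8076a67056118173b42f113d330a471af55190b59a6e120a0bef7e4e9f5714eddb0b98fa9a9f2646c34db32b8c345e2a5ed5e75d162475b341a33f4f3cd94602121be63cc6490883be82b1ecbc944ad287a7ac3f8ba427b96e05477bc0fa0f1be72c8bf22d79a1b97e0180b5bfef2ce9119063fd04553ab34fa279962662e2daaad593b81824ecb19a7456f73516f0f4096195c8e66dafb3f34dbd06a240ebf5fb3982a1e96397a18c62d6f48db8555f67b2df53a6a67e78b12b5daeec465051aedbcfb07beedf4dfe62f29eaa55568e37cf103ef87595b5db43574c4d48f49b82574e6e7bb4728cf04940126b983fcd55cae44387b9b290bf3a618070c35de29aef1c378e5692745394356421892fa94d864170ebb41e0557fc69f01081d13742f3917cb6947865474333e58103ba1776988da116456debe9ed30d80106437b271d5a8b2dac2e43cf0347d76346ea0cb69479460d26b4940d50956b2775f80fc7a8084a817ddd)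
 (nat_lit 0xdd14c99e82d181ebe305cf5c8987e561e1cead7ea2b79c4a3c7dcb7a4bdb037e98818c17d3282e0eaf1e84ddfa11a40ef0aa744d27b77211010b8c823454909b1f9728c54d5cf33890ee4bf8619841771e973e7b75bb7c6b4c6092026d9e4acd61d4b1ca1e21f4c1abc19a48bdf96dbef6204f4a9b7b606227eb7a984d8952424eb4b1b9bdba1fd3a42bb8d556e8eda532d2ce1f4fe4c397b3e6196da8c0cce90df24bc3dbc2b023222489efe3c993c96be40d6d4a3df1f6fd875cba8d9bd57d56fb115c83ec7294b90f02a140e6ad00cf09fc2e12f48d4cae511221fbad8bc7751db0e3c8557d9809c981d36d4304124d8fbf41fb35889877b02cf215d33149204ce6d1c23539ec80cf89ba421283e4c5aef98eac231c0702c48ccd09f41a21a6f91ae9c505ca773aacd712a36268a682c28b244be7bd9850355f6986b8709b75a173b7eb25c1415d08468d1a4531b8fc9d858c52aa27f7358920b52e463f0812ce502c31ad906d128b2f249c75a6596a1e4c293f87ac5a4b7ea75f30c756cfc8d9c667eb5eba730bb000af6f1b2290a92a891db1c59afe5d142a7dcd823e5b777f8edf87c53a3ec762004fb5cd706942c5742b9b4f6b429f6834452fb95eb2ef5644dfd7242dd0baed7aa975003b3bbbdb08ece4f050ab302865622e333711bdb85a1c061494c200d80a31784e1431b3618d82e9412d853a2975a07a794761)))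
 (J (nat_lit 8192) (J (nat_lit 4096) (nat_lit 0x20cb78d54fdbc7b22e24a46eb2dbfc0d5b49b03fadc652c2985402dc87db588ac15bbf48b64d47407545ad289cf171328a5b128c2b8933038ac30d9ab4a0327f4d3369e531766c3c7656cca8e50ca7fdc44f0b6b172d1b585829205b3f62a40a974db5b9586d8dd830b892609033ca63b98b871b749cbd7c147b7af362b669e09c574390ef11d09e3063d75aae6ad0396d45c8ae69d650dc108ae3e2bd681faaae01fa30e3e1145fc59396b03af801217340d706d603e7dcb80d0366fcfcddf3baad2fc932bbd857dc5be241c0915541bc31e45eacb4a6f7a650676dba92705eac5a8c62741a05762e422f4649dadb138d16f6c12e1353f1b241058d3d5a35664c0f6e37ce7d7bbca325bbabf03d47658eb6b407fb0d27d673d243777f76900e7c817a6701f7721ce019677311830bd07b5ba7bc464275e5686254aa0231096fea9392f3ef02e7baeb3c6065fa9fb49f1fd404ca90f8e3c36f6fbb2454bb6d316de4b2fbdacf271c86746c38de7978f200549aaf424a2c5c7e1688b5c5b923b1ea996d9e31e62ad51e3d4fce3a5c4aa29636372276d6726179978bf4aeecee0899903250606ce75573a974e7c6806e016ad119c4d279a5029925c1783c253692e989bc1bf611fe9b0a1fc0af6604b4f5929448ee50b88a8eaba766d607eab2878db3e2fc1f1f74afe6d4b5503cb76ca6d28313524bf796f255e389c9ed84aac0)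
 (nat_lit 0x36e8d713b98e4c8b26ab58f1fab41f6df1d3b2fd60e242a5b0c0a0a8e1f02a7a86be19c6154ac86f1151521ef1acf64103ce0a263a8594cab7113e40c106b8a2e65815f8a3a10f8bec3e439e1152b99e1a24ced9c4c614102d633f0bb90e1c91e77d34cfde9551e56ae3db88c9c0a53b14e5e5a68bdc484e38d0b1930fc5a4c441e44a6ff3a9d662c48664edda495d9160fe4f5fbf7b9641854a545b966643e11df6ba415517df0d8cdd5da70194cb4a83bd108befaa36a2bb305aaa20a31425b1699c0632e4b3f585d89e8b5c3f008773b559fe8fcffd4db7d76276ebec6bfde1233246bb141bb6c7c49a597a40352406a9e8a49e472e7186f40c2fa6059e028f938f4335da0b83510579e393c5546dd4bab572b2ce9f387fc39a654351adf5863304d8805d2c0aa8c1dcc77951f3ee1d0fccf7d61a969c42cb71b4f7cdb8ae5c7c0b6fb9452c803d957c787ba01655660dc7a6731350c1d24917d588e4cb83b319a7290581112db4ca2652d77d7b31933ce17a5296a2778ddcc557517870addf2e81042d7d4d1564912842d41fda59cf471d04d4975b4b6e4a6855018bb448f7c375eedca35cf7cc383799cb1661fdfaa51351ca32e83d788aedab1641a75be15a27ae1e7d2c33b7f1dcba2f6080477586a3d32954599b386db6a42a5bc98f59016a3ef541568de5022e887f093ccf34b904318aedf74e69b2b6ba5343dce3))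
 (J (nat_lit 4096) (nat_lit 0xd82bf13086eb486f9361b43a08c348822893ed28e55a6e358a6ef55b2372ab25a88b7774498ce70986840b2a05f57d41d91ac7da6928055af1c77d916523a3f254d14f4c73bd226886741d3fe388e43f4dee75e348d31fdb3bc259fa399af3c09d0d4f4afb6e7ea7101b3a78fe0f39496abc2138ecd63f7c278aa062b21872d0b5f1bfb5c8e41cb152b0a7b12c4b8d020fec9eb0213004904ede5a4236fbfc04291888cdc7c32ae8af85929d2507137f9cc5d2f7107eda77ca13b01b802b8431625e4f9fdf8cc2ed29d385e34b9b2c5d9c0dec1e5df0e784f49bc961a05cde212b60f9b5e9c0648f1799ea6c235307688ca4b26e5e29d56375405bb3abdaef63c46fbe7ae1487aaf23499efc3eb4e01b38529224ca1a50d138c9696f30125b81ec9e767dee791e953b00374f6eca35280f196350761b2ca1d8aa663ef50b38f34d1e4e6bf1f1d8e22f74ffe6fd969ae67cf58c2a1980b009f745e365388ff0689f54732ad478a79a87f9994312ae80a7ff3544e08c6044c9b5f84f4a8fd65ab5a24de64bb97867090e4975737d316ce2d2b995a750a8696c71e92fbc31c33bc7c67a14d6fe6b604688412737a323cd49f06fbd3dcf279f73c6dd6e241383f0257acfadcf4fa6c5f5183b39bec6249604d7e33ff9a096d0667261184803d07bf65a2bb6918d571528c8272948096853d119265d306bac2baa0e1b9f2bf8427641)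
 (nat_lit 0x73cb410d0cbc7ddea440fe788b47dd10ac700e3435bbb45b040f41484c599945747db00e522de744ccdc2415af7035b55da4f8ff9ca65efd985cb5a539ca1e8c64648b417efb1d481670c2c552ea5b92270da3818bdd3cce7a38144ced53a1a4d3dbaba487dd6cf6d3b3943243a983c8286816b2d20bd37f537c14370e68a5ac38b61514b43eda9a414bcada9fe92ce61bf7cd57403ac33ec7ffaf2b0ca236a1cecea6c8a9dbff4c0bf66d08a7d7664f206a1791f014ac1131f5ebce76ab3c89daf2b232f53a4dc14dd8d6476e2c1f2c66bde9ad90d0a4c4f0987a08b0909f9eb06e1db154cfcdbe188c2792017982db7256ebd7b195c7845c65d5e90e94d7a500abef01ae8b0948e4e2074fa7011cc1497d6a94e92d5dd0b260758491d2cb5b2351e28baaf7d03490ab2048ab58fcb9bf93ef3021f96c536a5add35c72600ea92efcaded563d6210c78c5fd443b0a625f5bca8c7d088956abca9fa6d1baaf8f752934e4917d15523f29e4eaa3dc83466d1ce1a35de9c95052873a7bc784fc8222de514ccbe9c2ce22b69e6eddd746b6eaf36bbc689d8118f2d1c98f3830fbda80b409b9bb2b3ddbae7de9ac34e80fb514695cf6547b7a50c2db90f4baa2f78d23f8650b66140c87f25131546a2b34f3e513b6aaba7eceec52e9b0a2ceb498a66979754c565de11ae86488e27eed273f55333f31b9aa2a9d7e9a8b7a6c16154b)))))]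

section
variable {G : Type*} [Group G] {S : TS G 12 4060} (M : Mdl S [Ta, Tb] rb 145926144000)
include M

theorem s1 : (∀ t ∈ [Tb], S.In ⊤ t) ∧ ∃ LV, WCh S ⊤ LV ∧ trOk 12 4060 29 Tb Tb [Tb] [idv 12 4060] [(nat_lit 0, [[nat_lit 0]], [(nat_lit 855, nat_lit 0), (nat_lit 11, nat_lit 0), (nat_lit 567, nat_lit 0), (nat_lit 0x956, nat_lit 0), (nat_lit 0xc71, nat_lit 0), (nat_lit 278, nat_lit 0), (nat_lit 0x897, nat_lit 0), (nat_lit 0x780, nat_lit 0), (nat_lit 0x9aa, nat_lit 0), (nat_lit 0x63d, nat_lit 0), (nat_lit 534, nat_lit 0), (nat_lit 0x523, nat_lit 0), (nat_lit 0xa78, nat_lit 0), (nat_lit 927, nat_lit 0), (nat_lit 0xa14, nat_lit 0), (nat_lit 0xa1f, nat_lit 0), (nat_lit 467, nat_lit 0), (nat_lit 0xed7, nat_lit 0), (nat_lit 876, nat_lit 0), (nat_lit 0x47a, nat_lit 0), (nat_lit 0xd78, nat_lit 0), (nat_lit 174, nat_lit 0), (nat_lit 0xa32, nat_lit 0), (nat_lit 0x441, nat_lit 0), (nat_lit 0xd43, nat_lit 0), (nat_lit 710, nat_lit 0), (nat_lit 0xa53, nat_lit 0), (nat_lit 0x4a7, nat_lit 0), (nat_lit 114, nat_lit 0), (nat_lit 557, nat_lit 0), (nat_lit 0xee6, nat_lit 0), (nat_lit 0xf43, nat_lit 0), (nat_lit 0xe43, nat_lit 0), (nat_lit 0x91b, nat_lit 0), (nat_lit 0x7cd, nat_lit 0), (nat_lit 748, nat_lit 0), (nat_lit 0xbc7, nat_lit 0), (nat_lit 0xe47, nat_lit 0), (nat_lit 0xd3e, nat_lit 0), (nat_lit 0xc7f, nat_lit 0), (nat_lit 0x3ed, nat_lit 0), (nat_lit 0x965, nat_lit 0), (nat_lit 947, nat_lit 0), (nat_lit 0xddf, nat_lit 0), (nat_lit 0xf15, nat_lit 0), (nat_lit 0x7ce, nat_lit 0), (nat_lit 0x619, nat_lit 0), (nat_lit 0x9a9, nat_lit 0), (nat_lit 0xc99, nat_lit 0), (nat_lit 0x600, nat_lit 0), (nat_lit 0x71e, nat_lit 0), (nat_lit 0x572, nat_lit 0), (nat_lit 821, nat_lit 0), (nat_lit 0xa05, nat_lit 0), (nat_lit 0xef8, nat_lit 0), (nat_lit 0x46c, nat_lit 0), (nat_lit 0x92c, nat_lit 0), (nat_lit 0x8c1, nat_lit 0), (nat_lit 0x856, nat_lit 0), (nat_lit 0x561, nat_lit 0), (nat_lit 924, nat_lit 0), (nat_lit 475, nat_lit 0), (nat_lit 0x6d5, nat_lit 0), (nat_lit 0xcf6, nat_lit 0), (nat_lit 0x639, nat_lit 0), (nat_lit 0xbf1, nat_lit 0), (nat_lit 0x94a, nat_lit 0), (nat_lit 926, nat_lit 0), (nat_lit 0xf7a, nat_lit 0), (nat_lit 0xd6d, nat_lit 0), (nat_lit 0xd46, nat_lit 0), (nat_lit 989, nat_lit 0), (nat_lit 339, nat_lit 0), (nat_lit 263, nat_lit 0), (nat_lit 0x402, nat_lit 0), (nat_lit 0xfc5, nat_lit 0), (nat_lit 464, nat_lit 0), (nat_lit 0x643, nat_lit 0), (nat_lit 0x817, nat_lit 0), (nat_lit 0x545, nat_lit 0), (nat_lit 399, nat_lit 0), (nat_lit 0x583, nat_lit 0), (nat_lit 0x8bc, nat_lit 0), (nat_lit 0xb61, nat_lit 0), (nat_lit 0x4e2, nat_lit 0), (nat_lit 0x80c, nat_lit 0), (nat_lit 0x75c, nat_lit 0), (nat_lit 0xb2b, nat_lit 0), (nat_lit 0xe7b, nat_lit 0), (nat_lit 432, nat_lit 0), (nat_lit 0xc04, nat_lit 0), (nat_lit 0xe12, nat_lit 0), (nat_lit 179, nat_lit 0), (nat_lit 0xdb7, nat_lit 0), (nat_lit 0xb25, nat_lit 0), (nat_lit 0x5fb, nat_lit 0), (nat_lit 862, nat_lit 0), (nat_lit 0x81f, nat_lit 0), (nat_lit 0x8b7, nat_lit 0), (nat_lit 0x968, nat_lit 0), (nat_lit 0x74c, nat_lit 0), (nat_lit 0x56b, nat_lit 0), (nat_lit 0xac1, nat_lit 0), (nat_lit 451, nat_lit 0), (nat_lit 230, nat_lit 0), (nat_lit 0x5fd, nat_lit 0), (nat_lit 946, nat_lit 0), (nat_lit 291, nat_lit 0), (nat_lit 0x437, nat_lit 0), (nat_lit 0x891, nat_lit 0), (nat_lit 261, nat_lit 0), (nat_lit 0xae7, nat_lit 0), (nat_lit 134, nat_lit 0), (nat_lit 455, nat_lit 0), (nat_lit 254, nat_lit 0), (nat_lit 33, nat_lit 0), (nat_lit 0x948, nat_lit 0), (nat_lit 0x42c, nat_lit 0), (nat_lit 542, nat_lit 0), (nat_lit 0x8ad, nat_lit 0), (nat_lit 0xbcd, nat_lit 0), (nat_lit 939, nat_lit 0), (nat_lit 0xc0f, nat_lit 0), (nat_lit 236, nat_lit 0), (nat_lit 0xa5c, nat_lit 0), (nat_lit 0x9f2, nat_lit 0), (nat_lit 0xb5a, nat_lit 0), (nat_lit 0xd63, nat_lit 0), (nat_lit 0xc1b, nat_lit 0), (nat_lit 0x680, nat_lit 0), (nat_lit 437, nat_lit 0), (nat_lit 0x528, nat_lit 0), (nat_lit 0x6cf, nat_lit 0), (nat_lit 0xc81, nat_lit 0), (nat_lit 105, nat_lit 0), (nat_lit 0xad3, nat_lit 0), (nat_lit 0x511, nat_lit 0), (nat_lit 0xf55, nat_lit 0), (nat_lit 0xd4c, nat_lit 0), (nat_lit 0xb5b, nat_lit 0), (nat_lit 0xfb1, nat_lit 0), (nat_lit 556, nat_lit 0), (nat_lit 0x5f3, nat_lit 0), (nat_lit 142, nat_lit 0), (nat_lit 981, nat_lit 0), (nat_lit 0xd31, nat_lit 0), (nat_lit 0xcde, nat_lit 0), (nat_lit 870, nat_lit 0), (nat_lit 170, nat_lit 0), (nat_lit 0xd2c, nat_lit 0), (nat_lit 0xda5, nat_lit 0), (nat_lit 0x7b2, nat_lit 0), (nat_lit 0x9ea, nat_lit 0), (nat_lit 378, nat_lit 0), (nat_lit 167, nat_lit 0), (nat_lit 0x7d3, nat_lit 0), (nat_lit 0xc07, nat_lit 0), (nat_lit 0x9bf, nat_lit 0), (nat_lit 0xf64, nat_lit 0), (nat_lit 443, nat_lit 0), (nat_lit 810, nat_lit 0), (nat_lit 0xca3, nat_lit 0), (nat_lit 0x5e0, nat_lit 0), (nat_lit 0xd10, nat_lit 0), (nat_lit 0x7ba, nat_lit 0), (nat_lit 0x431, nat_lit 0), (nat_lit 0xa33, nat_lit 0), (nat_lit 320, nat_lit 0), (nat_lit 930, nat_lit 0), (nat_lit 0x4a5, nat_lit 0), (nat_lit 0x761, nat_lit 0), (nat_lit 0xb3c, nat_lit 0), (nat_lit 0x438, nat_lit 0), (nat_lit 0xa54, nat_lit 0), (nat_lit 921, nat_lit 0), (nat_lit 860, nat_lit 0), (nat_lit 541, nat_lit 0), (nat_lit 0x93e, nat_lit 0), (nat_lit 747, nat_lit 0), (nat_lit 0x5f5, nat_lit 0), (nat_lit 421, nat_lit 0), (nat_lit 0x6ce, nat_lit 0), (nat_lit 0x546, nat_lit 0), (nat_lit 0x795, nat_lit 0), (nat_lit 0x8df, nat_lit 0), (nat_lit 0x58d, nat_lit 0), (nat_lit 0xf5e, nat_lit 0), (nat_lit 0xefa, nat_lit 0), (nat_lit 0xe79, nat_lit 0), (nat_lit 0x8d0, nat_lit 0), (nat_lit 0xb11, nat_lit 0), (nat_lit 0xf66, nat_lit 0), (nat_lit 778, nat_lit 0), (nat_lit 0x7f3, nat_lit 0), (nat_lit 0x5d9, nat_lit 0), (nat_lit 0x9d2, nat_lit 0), (nat_lit 0x972, nat_lit 0), (nat_lit 0x763, nat_lit 0), (nat_lit 0x886, nat_lit 0), (nat_lit 0x60d, nat_lit 0), (nat_lit 0xaed, nat_lit 0), (nat_lit 0x6d3, nat_lit 0), (nat_lit 0x6cd, nat_lit 0), (nat_lit 0xf1a, nat_lit 0), (nat_lit 0xc2b, nat_lit 0), (nat_lit 0xbcb, nat_lit 0), (nat_lit 0x90e, nat_lit 0), (nat_lit 0x4f4, nat_lit 0), (nat_lit 633, nat_lit 0), (nat_lit 0xaea, nat_lit 0), (nat_lit 480, nat_lit 0), (nat_lit 0x452, nat_lit 0), (nat_lit 355, nat_lit 0), (nat_lit 0x938, nat_lit 0), (nat_lit 0xba8, nat_lit 0), (nat_lit 603, nat_lit 0), (nat_lit 0x9fa, nat_lit 0), (nat_lit 307, nat_lit 0), (nat_lit 0xdc1, nat_lit 0), (nat_lit 0x924, nat_lit 0), (nat_lit 0x78a, nat_lit 0), (nat_lit 654, nat_lit 0), (nat_lit 0xa76, nat_lit 0), (nat_lit 0x6c6, nat_lit 0), (nat_lit 0xf73, nat_lit 0), (nat_lit 566, nat_lit 0), (nat_lit 0xddb, nat_lit 0), (nat_lit 0xb7f, nat_lit 0), (nat_lit 0xbc1, nat_lit 0), (nat_lit 559, nat_lit 0), (nat_lit 0x735, nat_lit 0), (nat_lit 0x939, nat_lit 0), (nat_lit 0x912, nat_lit 0), (nat_lit 0x864, nat_lit 0), (nat_lit 0x8a9, nat_lit 0), (nat_lit 318, nat_lit 0), (nat_lit 0xf2c, nat_lit 0), (nat_lit 705, nat_lit 0), (nat_lit 0x60a, nat_lit 0), (nat_lit 0x701, nat_lit 0), (nat_lit 0x91a, nat_lit 0), (nat_lit 0x426, nat_lit 0), (nat_lit 0x6d1, nat_lit 0), (nat_lit 184, nat_lit 0), (nat_lit 697, nat_lit 0), (nat_lit 0xe36, nat_lit 0), (nat_lit 698, nat_lit 0), (nat_lit 0x613, nat_lit 0), (nat_lit 0x482, nat_lit 0), (nat_lit 0x7f9, nat_lit 0), (nat_lit 0xe85, nat_lit 0), (nat_lit 430, nat_lit 0), (nat_lit 0x8eb, nat_lit 0), (nat_lit 0x77f, nat_lit 0), (nat_lit 0x508, nat_lit 0), (nat_lit 0xf8f, nat_lit 0), (nat_lit 56, nat_lit 0), (nat_lit 0x960, nat_lit 0), (nat_lit 664, nat_lit 0), (nat_lit 422, nat_lit 0), (nat_lit 0xf35, nat_lit 0), (nat_lit 797, nat_lit 0), (nat_lit 893, nat_lit 0), (nat_lit 877, nat_lit 0), (nat_lit 630, nat_lit 0), (nat_lit 0x86c, nat_lit 0), (nat_lit 0x58a, nat_lit 0), (nat_lit 0xcf9, nat_lit 0), (nat_lit 941, nat_lit 0), (nat_lit 0xb4c, nat_lit 0), (nat_lit 0x778, nat_lit 0), (nat_lit 0x7de, nat_lit 0), (nat_lit 0xc73, nat_lit 0), (nat_lit 0x8b3, nat_lit 0), (nat_lit 343, nat_lit 0), (nat_lit 0xe13, nat_lit 0), (nat_lit 0xcfa, nat_lit 0), (nat_lit 0xbf7, nat_lit 0), (nat_lit 0xf67, nat_lit 0), (nat_lit 0x7ff, nat_lit 0), (nat_lit 0x84d, nat_lit 0), (nat_lit 163, nat_lit 0), (nat_lit 0x7c8, nat_lit 0), (nat_lit 0xd04, nat_lit 0), (nat_lit 0xbe2, nat_lit 0), (nat_lit 0x776, nat_lit 0), (nat_lit 0x890, nat_lit 0), (nat_lit 0x99f, nat_lit 0), (nat_lit 0xafb, nat_lit 0), (nat_lit 0xe9e, nat_lit 0), (nat_lit 0x4cb, nat_lit 0), (nat_lit 0xdd3, nat_lit 0), (nat_lit 0xf76, nat_lit 0), (nat_lit 825, nat_lit 0), (nat_lit 0xd70, nat_lit 0), (nat_lit 0x4a1, nat_lit 0), (nat_lit 0xc8b, nat_lit 0), (nat_lit 0x56e, nat_lit 0), (nat_lit 0xf94, nat_lit 0), (nat_lit 0x43d, nat_lit 0), (nat_lit 485, nat_lit 0), (nat_lit 652, nat_lit 0), (nat_lit 858, nat_lit 0), (nat_lit 0x770, nat_lit 0), (nat_lit 0x7c2, nat_lit 0), (nat_lit 0xec3, nat_lit 0), (nat_lit 0x823, nat_lit 0), (nat_lit 0xe39, nat_lit 0), (nat_lit 0xe0e, nat_lit 0), (nat_lit 0xc15, nat_lit 0), (nat_lit 102, nat_lit 0), (nat_lit 0x9b3, nat_lit 0), (nat_lit 0x4d9, nat_lit 0), (nat_lit 0xd19, nat_lit 0), (nat_lit 568, nat_lit 0), (nat_lit 0x9ef, nat_lit 0), (nat_lit 0x4e6, nat_lit 0), (nat_lit 0xf8b, nat_lit 0), (nat_lit 723, nat_lit 0), (nat_lit 0x992, nat_lit 0), (nat_lit 75, nat_lit 0), (nat_lit 0xe97, nat_lit 0), (nat_lit 0x64a, nat_lit 0), (nat_lit 0xeeb, nat_lit 0), (nat_lit 0xf1e, nat_lit 0), (nat_lit 0xb02, nat_lit 0), (nat_lit 0x6d7, nat_lit 0), (nat_lit 0xac6, nat_lit 0), (nat_lit 0x617, nat_lit 0), (nat_lit 0x7e6, nat_lit 0), (nat_lit 0x89b, nat_lit 0), (nat_lit 137, nat_lit 0), (nat_lit 0xb77, nat_lit 0), (nat_lit 0xc18, nat_lit 0), (nat_lit 0x7e9, nat_lit 0), (nat_lit 194, nat_lit 0), (nat_lit 0xce7, nat_lit 0), (nat_lit 586, nat_lit 0), (nat_lit 0xcd8, nat_lit 0), (nat_lit 121, nat_lit 0), (nat_lit 0xc3b, nat_lit 0), (nat_lit 0xee5, nat_lit 0), (nat_lit 0xa01, nat_lit 0), (nat_lit 0xbaa, nat_lit 0), (nat_lit 0xe3b, nat_lit 0), (nat_lit 0x52e, nat_lit 0), (nat_lit 0xadc, nat_lit 0), (nat_lit 0x6e1, nat_lit 0), (nat_lit 0x49d, nat_lit 0), (nat_lit 342, nat_lit 0), (nat_lit 0xc55, nat_lit 0), (nat_lit 727, nat_lit 0), (nat_lit 325, nat_lit 0), (nat_lit 0x58f, nat_lit 0), (nat_lit 0xc36, nat_lit 0), (nat_lit 0x933, nat_lit 0), (nat_lit 0xe48, nat_lit 0), (nat_lit 0xc67, nat_lit 0), (nat_lit 476, nat_lit 0), (nat_lit 0x4e3, nat_lit 0), (nat_lit 344, nat_lit 0), (nat_lit 0x907, nat_lit 0), (nat_lit 0xdf7, nat_lit 0), (nat_lit 562, nat_lit 0), (nat_lit 0x525, nat_lit 0), (nat_lit 0x732, nat_lit 0), (nat_lit 0xdfd, nat_lit 0), (nat_lit 86, nat_lit 0), (nat_lit 717, nat_lit 0), (nat_lit 0x72a, nat_lit 0), (nat_lit 0xea9, nat_lit 0), (nat_lit 281, nat_lit 0), (nat_lit 752, nat_lit 0), (nat_lit 0x68b, nat_lit 0), (nat_lit 0xfd7, nat_lit 0), (nat_lit 14, nat_lit 0), (nat_lit 0xdef, nat_lit 0), (nat_lit 898, nat_lit 0), (nat_lit 0x49b, nat_lit 0), (nat_lit 0xced, nat_lit 0), (nat_lit 0xf4e, nat_lit 0), (nat_lit 0x9b2, nat_lit 0), (nat_lit 0x832, nat_lit 0), (nat_lit 441, nat_lit 0), (nat_lit 0xcfd, nat_lit 0), (nat_lit 0xe90, nat_lit 0), (nat_lit 895, nat_lit 0), (nat_lit 0x550, nat_lit 0), (nat_lit 523, nat_lit 0), (nat_lit 0x5c9, nat_lit 0), (nat_lit 0xc98, nat_lit 0), (nat_lit 0x53b, nat_lit 0), (nat_lit 0x5ed, nat_lit 0), (nat_lit 560, nat_lit 0), (nat_lit 0xc80, nat_lit 0), (nat_lit 0x469, nat_lit 0), (nat_lit 0xfae, nat_lit 0), (nat_lit 398, nat_lit 0), (nat_lit 0xe09, nat_lit 0), (nat_lit 0x59f, nat_lit 0), (nat_lit 983, nat_lit 0), (nat_lit 0xd14, nat_lit 0), (nat_lit 0xd6f, nat_lit 0), (nat_lit 0xdd8, nat_lit 0), (nat_lit 0x73f, nat_lit 0), (nat_lit 0xd7a, nat_lit 0), (nat_lit 0x88d, nat_lit 0), (nat_lit 0x964, nat_lit 0), (nat_lit 0x57a, nat_lit 0), (nat_lit 0xfb6, nat_lit 0), (nat_lit 0xcf7, nat_lit 0), (nat_lit 0xdd9, nat_lit 0), (nat_lit 0xf19, nat_lit 0), (nat_lit 0x611, nat_lit 0), (nat_lit 0xb9a, nat_lit 0), (nat_lit 0x605, nat_lit 0), (nat_lit 0xd03, nat_lit 0), (nat_lit 0xfaa, nat_lit 0), (nat_lit 0x716, nat_lit 0), (nat_lit 0x529, nat_lit 0), (nat_lit 0xa9a, nat_lit 0), (nat_lit 0x887, nat_lit 0), (nat_lit 250, nat_lit 0), (nat_lit 0x98a, nat_lit 0), (nat_lit 0xd2a, nat_lit 0), (nat_lit 0x5fe, nat_lit 0), (nat_lit 814, nat_lit 0), (nat_lit 0xcdf, nat_lit 0), (nat_lit 0xafa, nat_lit 0), (nat_lit 970, nat_lit 0), (nat_lit 0xd22, nat_lit 0), (nat_lit 0xb67, nat_lit 0), (nat_lit 0x54b, nat_lit 0), (nat_lit 78, nat_lit 0), (nat_lit 0xd5b, nat_lit 0), (nat_lit 0x516, nat_lit 0), (nat_lit 0xe60, nat_lit 0), (nat_lit 0x58e, nat_lit 0), (nat_lit 792, nat_lit 0), (nat_lit 0x90d, nat_lit 0), (nat_lit 0xdc3, nat_lit 0), (nat_lit 0xce0, nat_lit 0), (nat_lit 0x72b, nat_lit 0), (nat_lit 0xa1d, nat_lit 0), (nat_lit 0xee8, nat_lit 0), (nat_lit 0x816, nat_lit 0), (nat_lit 0x728, nat_lit 0), (nat_lit 602, nat_lit 0), (nat_lit 0x677, nat_lit 0), (nat_lit 0xb39, nat_lit 0), (nat_lit 734, nat_lit 0), (nat_lit 42, nat_lit 0), (nat_lit 0xe8f, nat_lit 0), (nat_lit 0x4b8, nat_lit 0), (nat_lit 8, nat_lit 0), (nat_lit 0xd50, nat_lit 0), (nat_lit 442, nat_lit 0), (nat_lit 0x45d, nat_lit 0), (nat_lit 0xbdd, nat_lit 0), (nat_lit 0xcb8, nat_lit 0), (nat_lit 0xfb8, nat_lit 0), (nat_lit 0xa5d, nat_lit 0), (nat_lit 0xcc2, nat_lit 0), (nat_lit 0xe45, nat_lit 0), (nat_lit 0x7cb, nat_lit 0), (nat_lit 0x7c0, nat_lit 0), (nat_lit 0x9a5, nat_lit 0), (nat_lit 0xbb4, nat_lit 0), (nat_lit 0x5a3, nat_lit 0), (nat_lit 280, nat_lit 0), (nat_lit 0x55e, nat_lit 0), (nat_lit 0x7fc, nat_lit 0), (nat_lit 0x785, nat_lit 0), (nat_lit 0x87b, nat_lit 0), (nat_lit 0xef4, nat_lit 0), (nat_lit 0x566, nat_lit 0), (nat_lit 0xc75, nat_lit 0), (nat_lit 0x67a, nat_lit 0), (nat_lit 0x8f4, nat_lit 0), (nat_lit 0xb34, nat_lit 0), (nat_lit 0x8af, nat_lit 0), (nat_lit 0xe80, nat_lit 0), (nat_lit 647, nat_lit 0), (nat_lit 0xea3, nat_lit 0), (nat_lit 0xb1e, nat_lit 0), (nat_lit 0x849, nat_lit 0), (nat_lit 0x95d, nat_lit 0), (nat_lit 911, nat_lit 0), (nat_lit 787, nat_lit 0), (nat_lit 749, nat_lit 0), (nat_lit 0x56d, nat_lit 0), (nat_lit 0xae2, nat_lit 0), (nat_lit 0x9e9, nat_lit 0), (nat_lit 0x842, nat_lit 0), (nat_lit 901, nat_lit 0), (nat_lit 535, nat_lit 0), (nat_lit 0x657, nat_lit 0), (nat_lit 953, nat_lit 0), (nat_lit 468, nat_lit 0), (nat_lit 0x5e5, nat_lit 0), (nat_lit 0x7ec, nat_lit 0), (nat_lit 0xe5a, nat_lit 0), (nat_lit 0x8a1, nat_lit 0), (nat_lit 0x43a, nat_lit 0), (nat_lit 0xfcd, nat_lit 0), (nat_lit 0xd76, nat_lit 0), (nat_lit 0xa64, nat_lit 0), (nat_lit 0x8f7, nat_lit 0), (nat_lit 0x676, nat_lit 0), (nat_lit 742, nat_lit 0), (nat_lit 0x84a, nat_lit 0), (nat_lit 0x712, nat_lit 0), (nat_lit 0xa50, nat_lit 0), (nat_lit 0xae4, nat_lit 0), (nat_lit 0x7f4, nat_lit 0), (nat_lit 0x7b1, nat_lit 0), (nat_lit 0x82d, nat_lit 0), (nat_lit 0x942, nat_lit 0), (nat_lit 996, nat_lit 0), (nat_lit 0x408, nat_lit 0), (nat_lit 0xcc4, nat_lit 0), (nat_lit 0x594, nat_lit 0), (nat_lit 527, nat_lit 0), (nat_lit 0x8e0, nat_lit 0), (nat_lit 0x69d, nat_lit 0), (nat_lit 777, nat_lit 0), (nat_lit 0x930, nat_lit 0), (nat_lit 0x8e8, nat_lit 0), (nat_lit 626, nat_lit 0), (nat_lit 0xb00, nat_lit 0), (nat_lit 0x6f1, nat_lit 0), (nat_lit 0x4e1, nat_lit 0), (nat_lit 0xa5a, nat_lit 0), (nat_lit 0xab0, nat_lit 0), (nat_lit 0x937, nat_lit 0), (nat_lit 0x5de, nat_lit 0), (nat_lit 419, nat_lit 0), (nat_lit 94, nat_lit 0), (nat_lit 0x4fa, nat_lit 0), (nat_lit 188, nat_lit 0), (nat_lit 233, nat_lit 0), (nat_lit 0x7cf, nat_lit 0), (nat_lit 186, nat_lit 0), (nat_lit 0x9ed, nat_lit 0), (nat_lit 0xcc0, nat_lit 0), (nat_lit 0x747, nat_lit 0), (nat_lit 0x6db, nat_lit 0), (nat_lit 195, nat_lit 0), (nat_lit 0xafd, nat_lit 0), (nat_lit 0xee4, nat_lit 0), (nat_lit 0x79a, nat_lit 0), (nat_lit 0x68c, nat_lit 0), (nat_lit 0xb43, nat_lit 0), (nat_lit 0xf0e, nat_lit 0), (nat_lit 0x6bd, nat_lit 0), (nat_lit 292, nat_lit 0), (nat_lit 0xab4, nat_lit 0), (nat_lit 0x904, nat_lit 0), (nat_lit 165, nat_lit 0), (nat_lit 0xf08, nat_lit 0), (nat_lit 0xbc5, nat_lit 0), (nat_lit 0xef9, nat_lit 0), (nat_lit 0x3f0, nat_lit 0), (nat_lit 123, nat_lit 0), (nat_lit 113, nat_lit 0), (nat_lit 0x57f, nat_lit 0), (nat_lit 644, nat_lit 0), (nat_lit 0xde0, nat_lit 0), (nat_lit 0xabd, nat_lit 0), (nat_lit 0xb8a, nat_lit 0), (nat_lit 0xebd, nat_lit 0), (nat_lit 0x3fe, nat_lit 0), (nat_lit 0x863, nat_lit 0), (nat_lit 0x959, nat_lit 0), (nat_lit 0xda2, nat_lit 0), (nat_lit 0x4ec, nat_lit 0), (nat_lit 0x51c, nat_lit 0), (nat_lit 0x58c, nat_lit 0), (nat_lit 0x4ae, nat_lit 0), (nat_lit 0xc8d, nat_lit 0), (nat_lit 856, nat_lit 0), (nat_lit 0x903, nat_lit 0), (nat_lit 0x9df, nat_lit 0), (nat_lit 0xdf3, nat_lit 0), (nat_lit 0x996, nat_lit 0), (nat_lit 0x9ba, nat_lit 0), (nat_lit 0xfcc, nat_lit 0), (nat_lit 0x7e2, nat_lit 0), (nat_lit 0x574, nat_lit 0), (nat_lit 897, nat_lit 0), (nat_lit 0x6d2, nat_lit 0), (nat_lit 666, nat_lit 0), (nat_lit 0xdb0, nat_lit 0), (nat_lit 804, nat_lit 0), (nat_lit 0xca2, nat_lit 0), (nat_lit 0xb19, nat_lit 0), (nat_lit 0x6fd, nat_lit 0), (nat_lit 0xc42, nat_lit 0), (nat_lit 0xa8e, nat_lit 0), (nat_lit 0x867, nat_lit 0), (nat_lit 0xc63, nat_lit 0), (nat_lit 402, nat_lit 0), (nat_lit 0xbad, nat_lit 0), (nat_lit 0xb2e, nat_lit 0), (nat_lit 0x45c, nat_lit 0), (nat_lit 459, nat_lit 0), (nat_lit 0xbe9, nat_lit 0), (nat_lit 0x926, nat_lit 0), (nat_lit 563, nat_lit 0), (nat_lit 154, nat_lit 0), (nat_lit 0x6a0, nat_lit 0), (nat_lit 0x579, nat_lit 0), (nat_lit 961, nat_lit 0), (nat_lit 848, nat_lit 0), (nat_lit 0x646, nat_lit 0), (nat_lit 0x8b2, nat_lit 0), (nat_lit 0x60e, nat_lit 0), (nat_lit 0x81c, nat_lit 0), (nat_lit 0x786, nat_lit 0), (nat_lit 0x50b, nat_lit 0), (nat_lit 0x4bf, nat_lit 0), (nat_lit 0xf01, nat_lit 0), (nat_lit 0x3ec, nat_lit 0), (nat_lit 0xf6f, nat_lit 0), (nat_lit 0x83a, nat_lit 0), (nat_lit 0x818, nat_lit 0), (nat_lit 598, nat_lit 0), (nat_lit 0x976, nat_lit 0), (nat_lit 0x668, nat_lit 0), (nat_lit 525, nat_lit 0), (nat_lit 0x9f6, nat_lit 0), (nat_lit 0xc8e, nat_lit 0), (nat_lit 0x78e, nat_lit 0), (nat_lit 0x97a, nat_lit 0), (nat_lit 0x8dc, nat_lit 0), (nat_lit 0xb18, nat_lit 0), (nat_lit 0x7e7, nat_lit 0), (nat_lit 0xc6d, nat_lit 0), (nat_lit 841, nat_lit 0), (nat_lit 0x648, nat_lit 0), (nat_lit 0xa2a, nat_lit 0), (nat_lit 0xca0, nat_lit 0), (nat_lit 0x6f3, nat_lit 0), (nat_lit 815, nat_lit 0), (nat_lit 0xc2c, nat_lit 0), (nat_lit 0x781, nat_lit 0), (nat_lit 0x440, nat_lit 0), (nat_lit 846, nat_lit 0), (nat_lit 0x8c2, nat_lit 0), (nat_lit 0x6c1, nat_lit 0), (nat_lit 54, nat_lit 0), (nat_lit 0xbd6, nat_lit 0), (nat_lit 0xed5, nat_lit 0), (nat_lit 784, nat_lit 0), (nat_lit 0x7bd, nat_lit 0), (nat_lit 0xa17, nat_lit 0), (nat_lit 629, nat_lit 0), (nat_lit 0xd73, nat_lit 0), (nat_lit 0x4e8, nat_lit 0), (nat_lit 0x905, nat_lit 0), (nat_lit 0xeed, nat_lit 0), (nat_lit 0xb1d, nat_lit 0), (nat_lit 0xeab, nat_lit 0), (nat_lit 620, nat_lit 0), (nat_lit 0xcdc, nat_lit 0), (nat_lit 0x655, nat_lit 0), (nat_lit 0x559, nat_lit 0), (nat_lit 783, nat_lit 0), (nat_lit 0xea4, nat_lit 0), (nat_lit 0xd07, nat_lit 0), (nat_lit 0x690, nat_lit 0), (nat_lit 0xe70, nat_lit 0), (nat_lit 0x6cb, nat_lit 0), (nat_lit 0xe2e, nat_lit 0), (nat_lit 0xabb, nat_lit 0), (nat_lit 0xc62, nat_lit 0), (nat_lit 746, nat_lit 0), (nat_lit 0xc77, nat_lit 0), (nat_lit 0x777, nat_lit 0), (nat_lit 0x8ab, nat_lit 0), (nat_lit 0xe98, nat_lit 0), (nat_lit 913, nat_lit 0), (nat_lit 327, nat_lit 0), (nat_lit 324, nat_lit 0), (nat_lit 328, nat_lit 0), (nat_lit 0x5dd, nat_lit 0), (nat_lit 0xa1e, nat_lit 0), (nat_lit 0x429, nat_lit 0), (nat_lit 0xb33, nat_lit 0), (nat_lit 0x82b, nat_lit 0), (nat_lit 0xfbc, nat_lit 0), (nat_lit 90, nat_lit 0), (nat_lit 0xf33, nat_lit 0), (nat_lit 67, nat_lit 0), (nat_lit 143, nat_lit 0), (nat_lit 0xbf5, nat_lit 0), (nat_lit 245, nat_lit 0), (nat_lit 0x5f1, nat_lit 0), (nat_lit 0x5b1, nat_lit 0), (nat_lit 0x89d, nat_lit 0), (nat_lit 0xf0a, nat_lit 0), (nat_lit 0x84c, nat_lit 0), (nat_lit 0x433, nat_lit 0), (nat_lit 0xbf9, nat_lit 0), (nat_lit 0x5ad, nat_lit 0), (nat_lit 761, nat_lit 0), (nat_lit 0x862, nat_lit 0), (nat_lit 0x70b, nat_lit 0), (nat_lit 0x9ad, nat_lit 0), (nat_lit 0x75d, nat_lit 0), (nat_lit 0x488, nat_lit 0), (nat_lit 0xd74, nat_lit 0), (nat_lit 0xf69, nat_lit 0), (nat_lit 0xa27, nat_lit 0), (nat_lit 0xecb, nat_lit 0), (nat_lit 522, nat_lit 0), (nat_lit 0x79c, nat_lit 0), (nat_lit 0xc89, nat_lit 0), (nat_lit 0xfc7, nat_lit 0), (nat_lit 445, nat_lit 0), (nat_lit 0x5f9, nat_lit 0), (nat_lit 0xd8c, nat_lit 0), (nat_lit 0x485, nat_lit 0), (nat_lit 0xc41, nat_lit 0), (nat_lit 0x595, nat_lit 0), (nat_lit 951, nat_lit 0), (nat_lit 0xf68, nat_lit 0), (nat_lit 0xfad, nat_lit 0), (nat_lit 0x95a, nat_lit 0), (nat_lit 0xf45, nat_lit 0), (nat_lit 0xb0e, nat_lit 0), (nat_lit 683, nat_lit 0), (nat_lit 0x444, nat_lit 0), (nat_lit 0x538, nat_lit 0), (nat_lit 0x931, nat_lit 0), (nat_lit 0xc20, nat_lit 0), (nat_lit 0, nat_lit 0), (nat_lit 0xc23, nat_lit 0), (nat_lit 0x9f8, nat_lit 0), (nat_lit 972, nat_lit 0), (nat_lit 839, nat_lit 0), (nat_lit 0x834, nat_lit 0), (nat_lit 0xaa3, nat_lit 0), (nat_lit 0xa65, nat_lit 0), (nat_lit 0xb6d, nat_lit 0), (nat_lit 0x63b, nat_lit 0), (nat_lit 0xa4b, nat_lit 0), (nat_lit 0xa68, nat_lit 0), (nat_lit 536, nat_lit 0), (nat_lit 0xba9, nat_lit 0), (nat_lit 0x8a7, nat_lit 0), (nat_lit 340, nat_lit 0), (nat_lit 0xbb9, nat_lit 0), (nat_lit 0x838, nat_lit 0), (nat_lit 0xc24, nat_lit 0), (nat_lit 0xd2f, nat_lit 0), (nat_lit 0xeb6, nat_lit 0), (nat_lit 0x5cf, nat_lit 0), (nat_lit 0x4d3, nat_lit 0), (nat_lit 0xe5b, nat_lit 0), (nat_lit 0x9fc, nat_lit 0), (nat_lit 0xbbe, nat_lit 0), (nat_lit 0x713, nat_lit 0), (nat_lit 0xdb8, nat_lit 0), (nat_lit 831, nat_lit 0), (nat_lit 0xf07, nat_lit 0), (nat_lit 0xe73, nat_lit 0), (nat_lit 0xe83, nat_lit 0), (nat_lit 0xa3f, nat_lit 0), (nat_lit 643, nat_lit 0), (nat_lit 0xe29, nat_lit 0), (nat_lit 0xb21, nat_lit 0), (nat_lit 0x59b, nat_lit 0), (nat_lit 382, nat_lit 0), (nat_lit 0x4d6, nat_lit 0), (nat_lit 0x83b, nat_lit 0), (nat_lit 0xf8d, nat_lit 0), (nat_lit 0x4ed, nat_lit 0), (nat_lit 0x58b, nat_lit 0), (nat_lit 0x57d, nat_lit 0), (nat_lit 0xd00, nat_lit 0), (nat_lit 0x661, nat_lit 0), (nat_lit 0x913, nat_lit 0), (nat_lit 0x9b6, nat_lit 0), (nat_lit 0xdff, nat_lit 0), (nat_lit 604, nat_lit 0), (nat_lit 0xa1a, nat_lit 0), (nat_lit 489, nat_lit 0), (nat_lit 974, nat_lit 0), (nat_lit 34, nat_lit 0), (nat_lit 0xccb, nat_lit 0), (nat_lit 743, nat_lit 0), (nat_lit 0x532, nat_lit 0), (nat_lit 0x99d, nat_lit 0), (nat_lit 621, nat_lit 0), (nat_lit 0x53f, nat_lit 0), (nat_lit 0x66c, nat_lit 0), (nat_lit 0xdfc, nat_lit 0), (nat_lit 0xaa8, nat_lit 0), (nat_lit 0x7ed, nat_lit 0), (nat_lit 0xe06, nat_lit 0), (nat_lit 0xa55, nat_lit 0), (nat_lit 0x6b4, nat_lit 0), (nat_lit 0x774, nat_lit 0), (nat_lit 0xcf4, nat_lit 0), (nat_lit 0x923, nat_lit 0), (nat_lit 0xf7c, nat_lit 0), (nat_lit 0xe6d, nat_lit 0), (nat_lit 0xd0b, nat_lit 0), (nat_lit 0xe4d, nat_lit 0), (nat_lit 0xede, nat_lit 0), (nat_lit 812, nat_lit 0), (nat_lit 0x427, nat_lit 0), (nat_lit 218, nat_lit 0), (nat_lit 0xefb, nat_lit 0), (nat_lit 0x98e, nat_lit 0), (nat_lit 0xd4a, nat_lit 0), (nat_lit 900, nat_lit 0), (nat_lit 0xd8b, nat_lit 0), (nat_lit 0xacb, nat_lit 0), (nat_lit 0xe38, nat_lit 0), (nat_lit 873, nat_lit 0), (nat_lit 600, nat_lit 0), (nat_lit 376, nat_lit 0), (nat_lit 968, nat_lit 0), (nat_lit 0x918, nat_lit 0), (nat_lit 0x501, nat_lit 0), (nat_lit 0x7e0, nat_lit 0), (nat_lit 0x673, nat_lit 0), (nat_lit 0xa39, nat_lit 0), (nat_lit 975, nat_lit 0), (nat_lit 405, nat_lit 0), (nat_lit 0xf2b, nat_lit 0), (nat_lit 466, nat_lit 0), (nat_lit 0x44a, nat_lit 0), (nat_lit 0xa35, nat_lit 0), (nat_lit 0xb7e, nat_lit 0), (nat_lit 0x8b5, nat_lit 0), (nat_lit 0x95b, nat_lit 0), (nat_lit 301, nat_lit 0), (nat_lit 0x70d, nat_lit 0), (nat_lit 0xc8a, nat_lit 0), (nat_lit 0xb23, nat_lit 0), (nat_lit 28, nat_lit 0), (nat_lit 0x4d0, nat_lit 0), (nat_lit 433, nat_lit 0), (nat_lit 0xa71, nat_lit 0), (nat_lit 0x9e3, nat_lit 0), (nat_lit 490, nat_lit 0), (nat_lit 0x895, nat_lit 0), (nat_lit 0x7e3, nat_lit 0), (nat_lit 313, nat_lit 0), (nat_lit 60, nat_lit 0), (nat_lit 0x517, nat_lit 0), (nat_lit 0xcd2, nat_lit 0), (nat_lit 0x6eb, nat_lit 0), (nat_lit 0x730, nat_lit 0), (nat_lit 0xa13, nat_lit 0), (nat_lit 0x52b, nat_lit 0), (nat_lit 0x487, nat_lit 0), (nat_lit 0xed1, nat_lit 0), (nat_lit 116, nat_lit 0), (nat_lit 767, nat_lit 0), (nat_lit 0xece, nat_lit 0), (nat_lit 0x5b9, nat_lit 0), (nat_lit 0x6c3, nat_lit 0), (nat_lit 0x7be, nat_lit 0), (nat_lit 0xdd7, nat_lit 0), (nat_lit 0xb48, nat_lit 0), (nat_lit 0x575, nat_lit 0), (nat_lit 0xeb2, nat_lit 0), (nat_lit 0x616, nat_lit 0), (nat_lit 0x72c, nat_lit 0), (nat_lit 0x425, nat_lit 0), (nat_lit 818, nat_lit 0), (nat_lit 0x5c0, nat_lit 0), (nat_lit 27, nat_lit 0), (nat_lit 0xd95, nat_lit 0), (nat_lit 0x888, nat_lit 0), (nat_lit 0xe7a, nat_lit 0), (nat_lit 623, nat_lit 0), (nat_lit 920, nat_lit 0), (nat_lit 0x4ad, nat_lit 0), (nat_lit 420, nat_lit 0), (nat_lit 0xc35, nat_lit 0), (nat_lit 0x9a0, nat_lit 0), (nat_lit 0x7c5, nat_lit 0), (nat_lit 0xac5, nat_lit 0), (nat_lit 0x788, nat_lit 0), (nat_lit 0xf62, nat_lit 0), (nat_lit 416, nat_lit 0), (nat_lit 0x703, nat_lit 0), (nat_lit 0xa63, nat_lit 0), (nat_lit 942, nat_lit 0), (nat_lit 0xa3c, nat_lit 0), (nat_lit 849, nat_lit 0), (nat_lit 0xf0b, nat_lit 0), (nat_lit 0xd84, nat_lit 0), (nat_lit 925, nat_lit 0), (nat_lit 0xa3d, nat_lit 0), (nat_lit 0x5a2, nat_lit 0), (nat_lit 0x993, nat_lit 0), (nat_lit 0x4a8, nat_lit 0), (nat_lit 704, nat_lit 0), (nat_lit 0x9d9, nat_lit 0), (nat_lit 0x685, nat_lit 0), (nat_lit 0xd52, nat_lit 0), (nat_lit 0x414, nat_lit 0), (nat_lit 0x952, nat_lit 0), (nat_lit 0xf29, nat_lit 0), (nat_lit 0x4a9, nat_lit 0), (nat_lit 0xe99, nat_lit 0), (nat_lit 0x7db, nat_lit 0), (nat_lit 241, nat_lit 0), (nat_lit 0x9b1, nat_lit 0), (nat_lit 823, nat_lit 0), (nat_lit 794, nat_lit 0), (nat_lit 0x67d, nat_lit 0), (nat_lit 0xbb5, nat_lit 0), (nat_lit 0xeb7, nat_lit 0), (nat_lit 0x576, nat_lit 0), (nat_lit 0xd0f, nat_lit 0), (nat_lit 0xe82, nat_lit 0), (nat_lit 0xb08, nat_lit 0), (nat_lit 676, nat_lit 0), (nat_lit 212, nat_lit 0), (nat_lit 0x6dd, nat_lit 0), (nat_lit 0x541, nat_lit 0), (nat_lit 0xa73, nat_lit 0), (nat_lit 0x621, nat_lit 0), (nat_lit 0xa03, nat_lit 0), (nat_lit 0xdf6, nat_lit 0), (nat_lit 0x83f, nat_lit 0), (nat_lit 0x715, nat_lit 0), (nat_lit 0xa9c, nat_lit 0), (nat_lit 0xa41, nat_lit 0), (nat_lit 0x6bc, nat_lit 0), (nat_lit 0x74b, nat_lit 0), (nat_lit 0x5ee, nat_lit 0), (nat_lit 0xfa3, nat_lit 0), (nat_lit 0xcb6, nat_lit 0), (nat_lit 109, nat_lit 0), (nat_lit 0xb53, nat_lit 0), (nat_lit 0xad2, nat_lit 0), (nat_lit 0xc64, nat_lit 0), (nat_lit 59, nat_lit 0), (nat_lit 545, nat_lit 0), (nat_lit 758, nat_lit 0), (nat_lit 531, nat_lit 0), (nat_lit 0xb89, nat_lit 0), (nat_lit 613, nat_lit 0), (nat_lit 0x745, nat_lit 0), (nat_lit 0xa20, nat_lit 0), (nat_lit 971, nat_lit 0), (nat_lit 0xfd1, nat_lit 0), (nat_lit 918, nat_lit 0), (nat_lit 0x4d8, nat_lit 0), (nat_lit 0xb70, nat_lit 0), (nat_lit 0x841, nat_lit 0), (nat_lit 0xda9, nat_lit 0), (nat_lit 0xa7c, nat_lit 0), (nat_lit 0xd5a, nat_lit 0), (nat_lit 0x9cb, nat_lit 0), (nat_lit 0x755, nat_lit 0), (nat_lit 695, nat_lit 0), (nat_lit 751, nat_lit 0), (nat_lit 0xc61, nat_lit 0), (nat_lit 0x9d1, nat_lit 0), (nat_lit 0xade, nat_lit 0), (nat_lit 0x42a, nat_lit 0), (nat_lit 0xec9, nat_lit 0), (nat_lit 0x722, nat_lit 0), (nat_lit 0x4e7, nat_lit 0), (nat_lit 208, nat_lit 0), (nat_lit 0x4b2, nat_lit 0), (nat_lit 277, nat_lit 0), (nat_lit 0xe8e, nat_lit 0), (nat_lit 703, nat_lit 0), (nat_lit 0x5db, nat_lit 0), (nat_lit 0xd66, nat_lit 0), (nat_lit 0x581, nat_lit 0), (nat_lit 0xa40, nat_lit 0), (nat_lit 0xf8a, nat_lit 0), (nat_lit 729, nat_lit 0), (nat_lit 0xd05, nat_lit 0), (nat_lit 0x71f, nat_lit 0), (nat_lit 0xf50, nat_lit 0), (nat_lit 0x530, nat_lit 0), (nat_lit 0xcff, nat_lit 0), (nat_lit 0x6a5, nat_lit 0), (nat_lit 0x457, nat_lit 0), (nat_lit 47, nat_lit 0), (nat_lit 0x66e, nat_lit 0), (nat_lit 0x750, nat_lit 0), (nat_lit 0x6d4, nat_lit 0), (nat_lit 0xb91, nat_lit 0), (nat_lit 0xecc, nat_lit 0), (nat_lit 0xa07, nat_lit 0), (nat_lit 0xf13, nat_lit 0), (nat_lit 798, nat_lit 0), (nat_lit 0x724, nat_lit 0), (nat_lit 0x9b5, nat_lit 0), (nat_lit 80, nat_lit 0), (nat_lit 0xd9f, nat_lit 0), (nat_lit 0xf0d, nat_lit 0), (nat_lit 0x5af, nat_lit 0), (nat_lit 0xbae, nat_lit 0), (nat_lit 0x902, nat_lit 0), (nat_lit 389, nat_lit 0), (nat_lit 0xdc6, nat_lit 0), (nat_lit 667, nat_lit 0), (nat_lit 0x5fc, nat_lit 0), (nat_lit 0x577, nat_lit 0), (nat_lit 0x64f, nat_lit 0), (nat_lit 0xf25, nat_lit 0), (nat_lit 176, nat_lit 0), (nat_lit 0xc3e, nat_lit 0), (nat_lit 0x709, nat_lit 0), (nat_lit 0x6ed, nat_lit 0), (nat_lit 0xb4d, nat_lit 0), (nat_lit 0xdf4, nat_lit 0), (nat_lit 0x4f6, nat_lit 0), (nat_lit 580, nat_lit 0), (nat_lit 0xecf, nat_lit 0), (nat_lit 0xf56, nat_lit 0), (nat_lit 0x7d0, nat_lit 0), (nat_lit 0xf0f, nat_lit 0), (nat_lit 0x68e, nat_lit 0), (nat_lit 912, nat_lit 0), (nat_lit 0x870, nat_lit 0), (nat_lit 0x999, nat_lit 0), (nat_lit 158, nat_lit 0), (nat_lit 0x4ac, nat_lit 0), (nat_lit 0xee2, nat_lit 0), (nat_lit 0xf51, nat_lit 0), (nat_lit 0x603, nat_lit 0), (nat_lit 0xe27, nat_lit 0), (nat_lit 0xd1f, nat_lit 0), (nat_lit 0xc9c, nat_lit 0), (nat_lit 0xaa2, nat_lit 0), (nat_lit 434, nat_lit 0), (nat_lit 0xd01, nat_lit 0), (nat_lit 0xf92, nat_lit 0), (nat_lit 0xbfe, nat_lit 0), (nat_lit 0x974, nat_lit 0), (nat_lit 0xb38, nat_lit 0), (nat_lit 0x9ce, nat_lit 0), (nat_lit 0xdce, nat_lit 0), (nat_lit 0xebc, nat_lit 0), (nat_lit 0x7f7, nat_lit 0), (nat_lit 0x76e, nat_lit 0), (nat_lit 70, nat_lit 0), (nat_lit 829, nat_lit 0), (nat_lit 0xea8, nat_lit 0), (nat_lit 0x626, nat_lit 0), (nat_lit 834, nat_lit 0), (nat_lit 0x6e9, nat_lit 0), (nat_lit 0x839, nat_lit 0), (nat_lit 779, nat_lit 0), (nat_lit 180, nat_lit 0), (nat_lit 0xe6e, nat_lit 0), (nat_lit 0x91f, nat_lit 0), (nat_lit 0xe96, nat_lit 0), (nat_lit 0x624, nat_lit 0), (nat_lit 0x467, nat_lit 0), (nat_lit 0xeb1, nat_lit 0), (nat_lit 0xb85, nat_lit 0), (nat_lit 315, nat_lit 0), (nat_lit 191, nat_lit 0), (nat_lit 23, nat_lit 0), (nat_lit 18, nat_lit 0), (nat_lit 0xeaf, nat_lit 0), (nat_lit 0x674, nat_lit 0), (nat_lit 0x46e, nat_lit 0), (nat_lit 0xa48, nat_lit 0), (nat_lit 0x8a5, nat_lit 0), (nat_lit 0xc8c, nat_lit 0), (nat_lit 205, nat_lit 0), (nat_lit 0xab7, nat_lit 0), (nat_lit 0xe8d, nat_lit 0), (nat_lit 0x7b0, nat_lit 0), (nat_lit 0xf34, nat_lit 0), (nat_lit 874, nat_lit 0), (nat_lit 0xe77, nat_lit 0), (nat_lit 0x8cc, nat_lit 0), (nat_lit 0xb94, nat_lit 0), (nat_lit 0xe22, nat_lit 0), (nat_lit 323, nat_lit 0), (nat_lit 267, nat_lit 0), (nat_lit 0xc7b, nat_lit 0), (nat_lit 0x954, nat_lit 0), (nat_lit 0x733, nat_lit 0), (nat_lit 0x6dc, nat_lit 0), (nat_lit 0x81b, nat_lit 0), (nat_lit 0x738, nat_lit 0), (nat_lit 0x8d5, nat_lit 0), (nat_lit 0xb8f, nat_lit 0), (nat_lit 796, nat_lit 0), (nat_lit 0x714, nat_lit 0), (nat_lit 906, nat_lit 0), (nat_lit 0x8c3, nat_lit 0), (nat_lit 0xe6a, nat_lit 0), (nat_lit 601, nat_lit 0), (nat_lit 0x608, nat_lit 0), (nat_lit 512, nat_lit 0), (nat_lit 117, nat_lit 0), (nat_lit 595, nat_lit 0), (nat_lit 458, nat_lit 0), (nat_lit 0xeff, nat_lit 0), (nat_lit 0xcfc, nat_lit 0), (nat_lit 329, nat_lit 0), (nat_lit 0x8c7, nat_lit 0), (nat_lit 0xc2a, nat_lit 0), (nat_lit 0x9cc, nat_lit 0), (nat_lit 0xafc, nat_lit 0), (nat_lit 0x811, nat_lit 0), (nat_lit 0xe54, nat_lit 0), (nat_lit 0xc78, nat_lit 0), (nat_lit 0x536, nat_lit 0), (nat_lit 347, nat_lit 0), (nat_lit 0x84e, nat_lit 0), (nat_lit 0xa89, nat_lit 0), (nat_lit 0xa6b, nat_lit 0), (nat_lit 0x90a, nat_lit 0), (nat_lit 0xecd, nat_lit 0), (nat_lit 0x464, nat_lit 0), (nat_lit 0x496, nat_lit 0), (nat_lit 0xcc8, nat_lit 0), (nat_lit 0x45b, nat_lit 0), (nat_lit 0x9ec, nat_lit 0), (nat_lit 0xbf4, nat_lit 0), (nat_lit 0x585, nat_lit 0), (nat_lit 364, nat_lit 0), (nat_lit 0xc08, nat_lit 0), (nat_lit 0x5f7, nat_lit 0), (nat_lit 26, nat_lit 0), (nat_lit 835, nat_lit 0), (nat_lit 0x6e2, nat_lit 0), (nat_lit 0x6aa, nat_lit 0), (nat_lit 0xab1, nat_lit 0), (nat_lit 0x766, nat_lit 0), (nat_lit 0x3f4, nat_lit 0), (nat_lit 0x9f1, nat_lit 0), (nat_lit 0x6d9, nat_lit 0), (nat_lit 894, nat_lit 0), (nat_lit 0xa4c, nat_lit 0), (nat_lit 0x840, nat_lit 0), (nat_lit 0xed9, nat_lit 0), (nat_lit 0xa43, nat_lit 0), (nat_lit 0xbc4, nat_lit 0), (nat_lit 0x81a, nat_lit 0), (nat_lit 0x82e, nat_lit 0), (nat_lit 0x901, nat_lit 0), (nat_lit 0x762, nat_lit 0), (nat_lit 514, nat_lit 0), (nat_lit 0xc7a, nat_lit 0), (nat_lit 0xaa7, nat_lit 0), (nat_lit 0xb13, nat_lit 0), (nat_lit 0x4f1, nat_lit 0), (nat_lit 0xac9, nat_lit 0), (nat_lit 274, nat_lit 0), (nat_lit 0x486, nat_lit 0), (nat_lit 0xc0a, nat_lit 0), (nat_lit 202, nat_lit 0), (nat_lit 397, nat_lit 0), (nat_lit 0x612, nat_lit 0), (nat_lit 0x4d2, nat_lit 0), (nat_lit 854, nat_lit 0), (nat_lit 0x48c, nat_lit 0), (nat_lit 0x7f1, nat_lit 0), (nat_lit 243, nat_lit 0), (nat_lit 199, nat_lit 0), (nat_lit 0xe61, nat_lit 0), (nat_lit 206, nat_lit 0), (nat_lit 375, nat_lit 0), (nat_lit 708, nat_lit 0), (nat_lit 0x42d, nat_lit 0), (nat_lit 790, nat_lit 0), (nat_lit 0x89f, nat_lit 0), (nat_lit 0x696, nat_lit 0), (nat_lit 79, nat_lit 0), (nat_lit 688, nat_lit 0), (nat_lit 0xe42, nat_lit 0), (nat_lit 0x7a4, nat_lit 0), (nat_lit 0xe05, nat_lit 0), (nat_lit 605, nat_lit 0), (nat_lit 0x5ab, nat_lit 0), (nat_lit 0xa2f, nat_lit 0), (nat_lit 0x98b, nat_lit 0), (nat_lit 0xf38, nat_lit 0), (nat_lit 0xbb2, nat_lit 0), (nat_lit 0x8c5, nat_lit 0), (nat_lit 0x49f, nat_lit 0), (nat_lit 682, nat_lit 0), (nat_lit 0x4d1, nat_lit 0), (nat_lit 0x64b, nat_lit 0), (nat_lit 957, nat_lit 0), (nat_lit 871, nat_lit 0), (nat_lit 0x584, nat_lit 0), (nat_lit 0xe50, nat_lit 0), (nat_lit 700, nat_lit 0), (nat_lit 755, nat_lit 0), (nat_lit 0xe0d, nat_lit 0), (nat_lit 0x7d5, nat_lit 0), (nat_lit 0x5ca, nat_lit 0), (nat_lit 0x411, nat_lit 0), (nat_lit 0x42e, nat_lit 0), (nat_lit 62, nat_lit 0), (nat_lit 0x644, nat_lit 0), (nat_lit 488, nat_lit 0), (nat_lit 64, nat_lit 0), (nat_lit 0xe21, nat_lit 0), (nat_lit 2, nat_lit 0), (nat_lit 0xf6b, nat_lit 0), (nat_lit 0xb36, nat_lit 0), (nat_lit 53, nat_lit 0), (nat_lit 0xa67, nat_lit 0), (nat_lit 0x85f, nat_lit 0), (nat_lit 0xaca, nat_lit 0), (nat_lit 0xb3a, nat_lit 0), (nat_lit 0xc84, nat_lit 0), (nat_lit 0x943, nat_lit 0), (nat_lit 0x700, nat_lit 0), (nat_lit 0x6f8, nat_lit 0), (nat_lit 0xcdd, nat_lit 0), (nat_lit 248, nat_lit 0), (nat_lit 0x629, nat_lit 0), (nat_lit 0xc8f, nat_lit 0), (nat_lit 0xe5c, nat_lit 0), (nat_lit 0xe28, nat_lit 0), (nat_lit 0xcd4, nat_lit 0), (nat_lit 87, nat_lit 0), (nat_lit 0xcc7, nat_lit 0), (nat_lit 246, nat_lit 0), (nat_lit 0xe92, nat_lit 0), (nat_lit 289, nat_lit 0), (nat_lit 646, nat_lit 0), (nat_lit 0x975, nat_lit 0), (nat_lit 737, nat_lit 0), (nat_lit 0xe3a, nat_lit 0), (nat_lit 0xd75, nat_lit 0), (nat_lit 0x3fc, nat_lit 0), (nat_lit 0xe34, nat_lit 0), (nat_lit 0xc69, nat_lit 0), (nat_lit 0xbd8, nat_lit 0), (nat_lit 99, nat_lit 0), (nat_lit 0xb76, nat_lit 0), (nat_lit 0x6a6, nat_lit 0), (nat_lit 0xb7d, nat_lit 0), (nat_lit 0xa34, nat_lit 0), (nat_lit 0x8ee, nat_lit 0), (nat_lit 0xbab, nat_lit 0), (nat_lit 0x9c2, nat_lit 0), (nat_lit 207, nat_lit 0), (nat_lit 0x990, nat_lit 0), (nat_lit 439, nat_lit 0), (nat_lit 270, nat_lit 0), (nat_lit 0xe8b, nat_lit 0), (nat_lit 0xf2d, nat_lit 0), (nat_lit 0xdfe, nat_lit 0), (nat_lit 0xf5f, nat_lit 0), (nat_lit 0xa18, nat_lit 0), (nat_lit 0xa72, nat_lit 0), (nat_lit 0x473, nat_lit 0), (nat_lit 0xd1e, nat_lit 0), (nat_lit 32, nat_lit 0), (nat_lit 0xde5, nat_lit 0), (nat_lit 0x472, nat_lit 0), (nat_lit 0xad9, nat_lit 0), (nat_lit 282, nat_lit 0), (nat_lit 938, nat_lit 0), (nat_lit 0xf90, nat_lit 0), (nat_lit 0xc7c, nat_lit 0), (nat_lit 0x6ab, nat_lit 0), (nat_lit 0x94b, nat_lit 0), (nat_lit 0xa61, nat_lit 0), (nat_lit 0xa56, nat_lit 0), (nat_lit 0xd5c, nat_lit 0), (nat_lit 0xe10, nat_lit 0), (nat_lit 0x96d, nat_lit 0), (nat_lit 391, nat_lit 0), (nat_lit 0x5c1, nat_lit 0), (nat_lit 0x631, nat_lit 0), (nat_lit 275, nat_lit 0), (nat_lit 639, nat_lit 0), (nat_lit 0xdbd, nat_lit 0), (nat_lit 0x892, nat_lit 0), (nat_lit 115, nat_lit 0), (nat_lit 0xd4e, nat_lit 0), (nat_lit 0x4b3, nat_lit 0), (nat_lit 0x95e, nat_lit 0), (nat_lit 674, nat_lit 0), (nat_lit 232, nat_lit 0), (nat_lit 0xfaf, nat_lit 0), (nat_lit 0x49a, nat_lit 0), (nat_lit 0xd61, nat_lit 0), (nat_lit 805, nat_lit 0), (nat_lit 454, nat_lit 0), (nat_lit 290, nat_lit 0), (nat_lit 733, nat_lit 0), (nat_lit 0xc53, nat_lit 0), (nat_lit 0xd8d, nat_lit 0), (nat_lit 0x809, nat_lit 0), (nat_lit 173, nat_lit 0), (nat_lit 0xace, nat_lit 0), (nat_lit 0x412, nat_lit 0), (nat_lit 0xfa0, nat_lit 0), (nat_lit 0xb4b, nat_lit 0), (nat_lit 552, nat_lit 0), (nat_lit 519, nat_lit 0), (nat_lit 0x53a, nat_lit 0), (nat_lit 302, nat_lit 0), (nat_lit 0x9f3, nat_lit 0), (nat_lit 0x98f, nat_lit 0), (nat_lit 529, nat_lit 0), (nat_lit 0xdba, nat_lit 0), (nat_lit 0xa28, nat_lit 0), (nat_lit 588, nat_lit 0), (nat_lit 0x7f5, nat_lit 0), (nat_lit 0xe2b, nat_lit 0), (nat_lit 0xb72, nat_lit 0), (nat_lit 0xb42, nat_lit 0), (nat_lit 0x845, nat_lit 0), (nat_lit 0x6f9, nat_lit 0), (nat_lit 0xc5d, nat_lit 0), (nat_lit 0xd86, nat_lit 0), (nat_lit 0xf30, nat_lit 0), (nat_lit 0x871, nat_lit 0), (nat_lit 0x647, nat_lit 0), (nat_lit 408, nat_lit 0), (nat_lit 0x8ec, nat_lit 0), (nat_lit 0x8d1, nat_lit 0), (nat_lit 0x666, nat_lit 0), (nat_lit 0x881, nat_lit 0), (nat_lit 689, nat_lit 0), (nat_lit 0xebe, nat_lit 0), (nat_lit 0x9dc, nat_lit 0), (nat_lit 731, nat_lit 0), (nat_lit 0x5c4, nat_lit 0), (nat_lit 809, nat_lit 0), (nat_lit 0xf2f, nat_lit 0), (nat_lit 0xab6, nat_lit 0), (nat_lit 13, nat_lit 0), (nat_lit 0x8a2, nat_lit 0), (nat_lit 0x78d, nat_lit 0), (nat_lit 0x9d8, nat_lit 0), (nat_lit 200, nat_lit 0), (nat_lit 0xc74, nat_lit 0), (nat_lit 0x75a, nat_lit 0), (nat_lit 0x3fd, nat_lit 0), (nat_lit 0x687, nat_lit 0), (nat_lit 0xbde, nat_lit 0), (nat_lit 0x746, nat_lit 0), (nat_lit 0xda3, nat_lit 0), (nat_lit 0x6d0, nat_lit 0), (nat_lit 0xe16, nat_lit 0), (nat_lit 611, nat_lit 0), (nat_lit 0xa7a, nat_lit 0), (nat_lit 0x742, nat_lit 0), (nat_lit 785, nat_lit 0), (nat_lit 387, nat_lit 0), (nat_lit 0xe89, nat_lit 0), (nat_lit 0xa91, nat_lit 0), (nat_lit 354, nat_lit 0), (nat_lit 257, nat_lit 0), (nat_lit 0x451, nat_lit 0), (nat_lit 192, nat_lit 0), (nat_lit 0x950, nat_lit 0), (nat_lit 0x403, nat_lit 0), (nat_lit 0x66f, nat_lit 0), (nat_lit 0xaab, nat_lit 0), (nat_lit 0xe1c, nat_lit 0), (nat_lit 0xd48, nat_lit 0), (nat_lit 0x86f, nat_lit 0), (nat_lit 581, nat_lit 0), (nat_lit 577, nat_lit 0), (nat_lit 255, nat_lit 0), (nat_lit 0xfd8, nat_lit 0), (nat_lit 0x4d4, nat_lit 0), (nat_lit 0x95f, nat_lit 0), (nat_lit 0x88f, nat_lit 0), (nat_lit 0x894, nat_lit 0), (nat_lit 0xbed, nat_lit 0), (nat_lit 0x50f, nat_lit 0), (nat_lit 321, nat_lit 0), (nat_lit 0x919, nat_lit 0), (nat_lit 0x446, nat_lit 0), (nat_lit 146, nat_lit 0), (nat_lit 885, nat_lit 0), (nat_lit 931, nat_lit 0), (nat_lit 497, nat_lit 0), (nat_lit 0xc26, nat_lit 0), (nat_lit 0x598, nat_lit 0), (nat_lit 470, nat_lit 0), (nat_lit 0x86b, nat_lit 0), (nat_lit 0xdcf, nat_lit 0), (nat_lit 345, nat_lit 0), (nat_lit 0xc2f, nat_lit 0), (nat_lit 481, nat_lit 0), (nat_lit 0x53d, nat_lit 0), (nat_lit 0xad0, nat_lit 0), (nat_lit 0x42b, nat_lit 0), (nat_lit 0xee3, nat_lit 0), (nat_lit 55, nat_lit 0), (nat_lit 670, nat_lit 0), (nat_lit 238, nat_lit 0), (nat_lit 979, nat_lit 0), (nat_lit 0xeb4, nat_lit 0), (nat_lit 881, nat_lit 0), (nat_lit 0xdac, nat_lit 0), (nat_lit 0xb5e, nat_lit 0), (nat_lit 0x93a, nat_lit 0), (nat_lit 0xde9, nat_lit 0), (nat_lit 886, nat_lit 0), (nat_lit 0xd85, nat_lit 0), (nat_lit 0xa81, nat_lit 0), (nat_lit 153, nat_lit 0), (nat_lit 0x587, nat_lit 0), (nat_lit 0x98d, nat_lit 0), (nat_lit 0xf31, nat_lit 0), (nat_lit 0xd80, nat_lit 0), (nat_lit 0xe14, nat_lit 0), (nat_lit 0x8ae, nat_lit 0), (nat_lit 0xa92, nat_lit 0), (nat_lit 0x5ea, nat_lit 0), (nat_lit 0xe0b, nat_lit 0), (nat_lit 0xf52, nat_lit 0), (nat_lit 0x8ca, nat_lit 0), (nat_lit 462, nat_lit 0), (nat_lit 0xd82, nat_lit 0), (nat_lit 0x8b4, nat_lit 0), (nat_lit 0xc3c, nat_lit 0), (nat_lit 0x65a, nat_lit 0), (nat_lit 483, nat_lit 0), (nat_lit 0xa9b, nat_lit 0), (nat_lit 0xedc, nat_lit 0), (nat_lit 0xd6b, nat_lit 0), (nat_lit 0xcae, nat_lit 0), (nat_lit 0x764, nat_lit 0), (nat_lit 0x505, nat_lit 0), (nat_lit 366, nat_lit 0), (nat_lit 0x76d, nat_lit 0), (nat_lit 736, nat_lit 0), (nat_lit 3, nat_lit 0), (nat_lit 923, nat_lit 0), (nat_lit 0x7f6, nat_lit 0), (nat_lit 0x582, nat_lit 0), (nat_lit 0xaf5, nat_lit 0), (nat_lit 0xba1, nat_lit 0), (nat_lit 0xa10, nat_lit 0), (nat_lit 369, nat_lit 0), (nat_lit 570, nat_lit 0), (nat_lit 215, nat_lit 0), (nat_lit 0x526, nat_lit 0), (nat_lit 0x491, nat_lit 0), (nat_lit 0xf39, nat_lit 0), (nat_lit 92, nat_lit 0), (nat_lit 0xc09, nat_lit 0), (nat_lit 0x772, nat_lit 0), (nat_lit 0x5bc, nat_lit 0), (nat_lit 494, nat_lit 0), (nat_lit 1, nat_lit 0), (nat_lit 0xc47, nat_lit 0), (nat_lit 0x524, nat_lit 0), (nat_lit 0xcb5, nat_lit 0), (nat_lit 0x94d, nat_lit 0), (nat_lit 0x41b, nat_lit 0), (nat_lit 0x851, nat_lit 0), (nat_lit 0xce8, nat_lit 0), (nat_lit 299, nat_lit 0), (nat_lit 0xe53, nat_lit 0), (nat_lit 0xc37, nat_lit 0), (nat_lit 259, nat_lit 0), (nat_lit 555, nat_lit 0), (nat_lit 350, nat_lit 0), (nat_lit 0xe71, nat_lit 0), (nat_lit 0xe5e, nat_lit 0), (nat_lit 0xd2e, nat_lit 0), (nat_lit 0xb9c, nat_lit 0), (nat_lit 406, nat_lit 0), (nat_lit 0xbc3, nat_lit 0), (nat_lit 0xe0f, nat_lit 0), (nat_lit 0xb57, nat_lit 0), (nat_lit 0xa3e, nat_lit 0), (nat_lit 0xd94, nat_lit 0), (nat_lit 429, nat_lit 0), (nat_lit 0xaaa, nat_lit 0), (nat_lit 0xdb9, nat_lit 0), (nat_lit 0x5f6, nat_lit 0), (nat_lit 0xec6, nat_lit 0), (nat_lit 0x436, nat_lit 0), (nat_lit 0xfbe, nat_lit 0), (nat_lit 0x683, nat_lit 0), (nat_lit 0xe58, nat_lit 0), (nat_lit 317, nat_lit 0), (nat_lit 0xb92, nat_lit 0), (nat_lit 0x62f, nat_lit 0), (nat_lit 0xc2d, nat_lit 0), (nat_lit 0x96b, nat_lit 0), (nat_lit 0xdaf, nat_lit 0), (nat_lit 0x3ee, nat_lit 0), (nat_lit 0xb12, nat_lit 0), (nat_lit 448, nat_lit 0), (nat_lit 0xc44, nat_lit 0), (nat_lit 0x69e, nat_lit 0), (nat_lit 0xf79, nat_lit 0), (nat_lit 0x9bb, nat_lit 0), (nat_lit 0x535, nat_lit 0), (nat_lit 889, nat_lit 0), (nat_lit 780, nat_lit 0), (nat_lit 0x46a, nat_lit 0), (nat_lit 0x6fa, nat_lit 0), (nat_lit 0xb40, nat_lit 0), (nat_lit 0x737, nat_lit 0), (nat_lit 0xb73, nat_lit 0), (nat_lit 0x8f1, nat_lit 0), (nat_lit 0x7fb, nat_lit 0), (nat_lit 0x911, nat_lit 0), (nat_lit 178, nat_lit 0), (nat_lit 0xddd, nat_lit 0), (nat_lit 0xfd3, nat_lit 0), (nat_lit 0xf4c, nat_lit 0), (nat_lit 0xe24, nat_lit 0), (nat_lit 0x635, nat_lit 0), (nat_lit 0xd67, nat_lit 0), (nat_lit 0x63a, nat_lit 0), (nat_lit 0x542, nat_lit 0), (nat_lit 0xdfa, nat_lit 0), (nat_lit 511, nat_lit 0), (nat_lit 0x7a6, nat_lit 0), (nat_lit 0x449, nat_lit 0), (nat_lit 0xd0a, nat_lit 0), (nat_lit 0xbf6, nat_lit 0), (nat_lit 0x43c, nat_lit 0), (nat_lit 0xd69, nat_lit 0), (nat_lit 0x88e, nat_lit 0), (nat_lit 0x76a, nat_lit 0), (nat_lit 635, nat_lit 0), (nat_lit 0xfb0, nat_lit 0), (nat_lit 0xd62, nat_lit 0), (nat_lit 0x7b3, nat_lit 0), (nat_lit 0x869, nat_lit 0), (nat_lit 0x8fa, nat_lit 0), (nat_lit 0x602, nat_lit 0), (nat_lit 0xcb4, nat_lit 0), (nat_lit 0xf99, nat_lit 0), (nat_lit 0x93d, nat_lit 0), (nat_lit 0x61a, nat_lit 0), (nat_lit 0x406, nat_lit 0), (nat_lit 0xbb8, nat_lit 0), (nat_lit 0x589, nat_lit 0), (nat_lit 847, nat_lit 0), (nat_lit 0xe17, nat_lit 0), (nat_lit 589, nat_lit 0), (nat_lit 0x91e, nat_lit 0), (nat_lit 0x853, nat_lit 0), (nat_lit 322, nat_lit 0), (nat_lit 0x634, nat_lit 0), (nat_lit 0x806, nat_lit 0), (nat_lit 0xb75, nat_lit 0), (nat_lit 0x9f5, nat_lit 0), (nat_lit 0x978, nat_lit 0), (nat_lit 0x570, nat_lit 0), (nat_lit 0xbaf, nat_lit 0), (nat_lit 189, nat_lit 0), (nat_lit 144, nat_lit 0), (nat_lit 0xd2b, nat_lit 0), (nat_lit 832, nat_lit 0), (nat_lit 0x8db, nat_lit 0), (nat_lit 0xadd, nat_lit 0), (nat_lit 0xe25, nat_lit 0), (nat_lit 0xdda, nat_lit 0), (nat_lit 0xde6, nat_lit 0), (nat_lit 0xd42, nat_lit 0), (nat_lit 0xa15, nat_lit 0), (nat_lit 0x64c, nat_lit 0), (nat_lit 0xa0a, nat_lit 0), (nat_lit 0xab2, nat_lit 0), (nat_lit 0x93f, nat_lit 0), (nat_lit 0x995, nat_lit 0), (nat_lit 414, nat_lit 0), (nat_lit 0x642, nat_lit 0), (nat_lit 0x8c8, nat_lit 0), (nat_lit 0x489, nat_lit 0), (nat_lit 0x66d, nat_lit 0), (nat_lit 0xd0e, nat_lit 0), (nat_lit 0x4b5, nat_lit 0), (nat_lit 0xaf8, nat_lit 0), (nat_lit 0x779, nat_lit 0), (nat_lit 0x9ca, nat_lit 0), (nat_lit 934, nat_lit 0), (nat_lit 0xb5d, nat_lit 0), (nat_lit 0xd3d, nat_lit 0), (nat_lit 0xeca, nat_lit 0), (nat_lit 0xaa6, nat_lit 0), (nat_lit 0x711, nat_lit 0), (nat_lit 995, nat_lit 0), (nat_lit 0x5ae, nat_lit 0), (nat_lit 0xeea, nat_lit 0), (nat_lit 0x3ff, nat_lit 0), (nat_lit 0xdbc, nat_lit 0), (nat_lit 71, nat_lit 0), (nat_lit 0xc25, nat_lit 0), (nat_lit 0x74a, nat_lit 0), (nat_lit 0x64d, nat_lit 0), (nat_lit 0xa3a, nat_lit 0), (nat_lit 0xaf4, nat_lit 0), (nat_lit 0x725, nat_lit 0), (nat_lit 0x9c8, nat_lit 0), (nat_lit 744, nat_lit 0), (nat_lit 0xa8b, nat_lit 0), (nat_lit 256, nat_lit 0), (nat_lit 0x3fa, nat_lit 0), (nat_lit 0xa5f, nat_lit 0), (nat_lit 209, nat_lit 0), (nat_lit 0x9d6, nat_lit 0), (nat_lit 0xc96, nat_lit 0), (nat_lit 0xb37, nat_lit 0), (nat_lit 0xae3, nat_lit 0), (nat_lit 326, nat_lit 0), (nat_lit 0xec2, nat_lit 0), (nat_lit 0xcf2, nat_lit 0), (nat_lit 44, nat_lit 0), (nat_lit 0x67c, nat_lit 0), (nat_lit 0xea6, nat_lit 0), (nat_lit 0xe8a, nat_lit 0), (nat_lit 0x48d, nat_lit 0), (nat_lit 800, nat_lit 0), (nat_lit 615, nat_lit 0), (nat_lit 0xa38, nat_lit 0), (nat_lit 0x45a, nat_lit 0), (nat_lit 0x7eb, nat_lit 0), (nat_lit 0x8e5, nat_lit 0), (nat_lit 0x936, nat_lit 0), (nat_lit 0x4f0, nat_lit 0), (nat_lit 0xb58, nat_lit 0), (nat_lit 0x6b7, nat_lit 0), (nat_lit 0xe46, nat_lit 0), (nat_lit 0xf41, nat_lit 0), (nat_lit 0xe55, nat_lit 0), (nat_lit 0x5c7, nat_lit 0), (nat_lit 0x5b2, nat_lit 0), (nat_lit 0xe56, nat_lit 0), (nat_lit 45, nat_lit 0), (nat_lit 0x9ac, nat_lit 0), (nat_lit 0x7f8, nat_lit 0), (nat_lit 0xe49, nat_lit 0), (nat_lit 361, nat_lit 0), (nat_lit 0x8d6, nat_lit 0), (nat_lit 0x872, nat_lit 0), (nat_lit 0xe78, nat_lit 0), (nat_lit 625, nat_lit 0), (nat_lit 631, nat_lit 0), (nat_lit 0x9be, nat_lit 0), (nat_lit 0x9b8, nat_lit 0), (nat_lit 0xf05, nat_lit 0), (nat_lit 579, nat_lit 0), (nat_lit 750, nat_lit 0), (nat_lit 0x79d, nat_lit 0), (nat_lit 0x7a1, nat_lit 0), (nat_lit 0x75b, nat_lit 0), (nat_lit 0x6ef, nat_lit 0), (nat_lit 0xfb7, nat_lit 0), (nat_lit 0xa93, nat_lit 0), (nat_lit 0xb9d, nat_lit 0), (nat_lit 0xfce, nat_lit 0), (nat_lit 929, nat_lit 0), (nat_lit 0xe9c, nat_lit 0), (nat_lit 0xee0, nat_lit 0), (nat_lit 0x706, nat_lit 0), (nat_lit 211, nat_lit 0), (nat_lit 0x8a0, nat_lit 0), (nat_lit 101, nat_lit 0), (nat_lit 0xcfb, nat_lit 0), (nat_lit 0xbd7, nat_lit 0), (nat_lit 0xbfd, nat_lit 0), (nat_lit 0xdde, nat_lit 0), (nat_lit 226, nat_lit 0), (nat_lit 0x6e3, nat_lit 0), (nat_lit 0x93b, nat_lit 0), (nat_lit 0x465, nat_lit 0), (nat_lit 204, nat_lit 0), (nat_lit 0xfda, nat_lit 0), (nat_lit 520, nat_lit 0), (nat_lit 0xc6a, nat_lit 0), (nat_lit 0x55a, nat_lit 0), (nat_lit 728, nat_lit 0), (nat_lit 0x8f8, nat_lit 0), (nat_lit 0xbec, nat_lit 0), (nat_lit 0x8e9, nat_lit 0), (nat_lit 0xf17, nat_lit 0), (nat_lit 0xa97, nat_lit 0), (nat_lit 0xe4e, nat_lit 0), (nat_lit 0x4bb, nat_lit 0), (nat_lit 0xe6f, nat_lit 0), (nat_lit 0x9a7, nat_lit 0), (nat_lit 0xf71, nat_lit 0), (nat_lit 0x5aa, nat_lit 0), (nat_lit 0xf8c, nat_lit 0), (nat_lit 0xc79, nat_lit 0), (nat_lit 0x8d7, nat_lit 0), (nat_lit 0x916, nat_lit 0), (nat_lit 484, nat_lit 0), (nat_lit 0xab5, nat_lit 0), (nat_lit 0xc50, nat_lit 0), (nat_lit 905, nat_lit 0), (nat_lit 0x819, nat_lit 0), (nat_lit 0xdaa, nat_lit 0), (nat_lit 0xc32, nat_lit 0), (nat_lit 0x855, nat_lit 0), (nat_lit 977, nat_lit 0), (nat_lit 762, nat_lit 0), (nat_lit 0x759, nat_lit 0), (nat_lit 0x4fc, nat_lit 0), (nat_lit 0x4b4, nat_lit 0), (nat_lit 0x623, nat_lit 0), (nat_lit 0xf58, nat_lit 0), (nat_lit 58, nat_lit 0), (nat_lit 0x622, nat_lit 0), (nat_lit 82, nat_lit 0), (nat_lit 0xedd, nat_lit 0), (nat_lit 0xaae, nat_lit 0), (nat_lit 599, nat_lit 0), (nat_lit 0xf16, nat_lit 0), (nat_lit 0xf10, nat_lit 0), (nat_lit 0xca1, nat_lit 0), (nat_lit 0x455, nat_lit 0), (nat_lit 0xa0b, nat_lit 0), (nat_lit 677, nat_lit 0), (nat_lit 0x462, nat_lit 0), (nat_lit 0x6e7, nat_lit 0), (nat_lit 0x9d7, nat_lit 0), (nat_lit 0xd5e, nat_lit 0), (nat_lit 0xd25, nat_lit 0), (nat_lit 0x810, nat_lit 0), (nat_lit 0x76b, nat_lit 0), (nat_lit 0x3fb, nat_lit 0), (nat_lit 0x97f, nat_lit 0), (nat_lit 904, nat_lit 0), (nat_lit 0x87e, nat_lit 0), (nat_lit 0x48f, nat_lit 0), (nat_lit 0xc68, nat_lit 0), (nat_lit 0x92d, nat_lit 0), (nat_lit 0xec1, nat_lit 0), (nat_lit 0x56c, nat_lit 0), (nat_lit 0xc85, nat_lit 0), (nat_lit 0x6a7, nat_lit 0), (nat_lit 899, nat_lit 0), (nat_lit 0xcbf, nat_lit 0), (nat_lit 0x65b, nat_lit 0), (nat_lit 852, nat_lit 0), (nat_lit 0x8ba, nat_lit 0), (nat_lit 0x754, nat_lit 0), (nat_lit 0xc3d, nat_lit 0), (nat_lit 41, nat_lit 0), (nat_lit 0x614, nat_lit 0), (nat_lit 0xf1f, nat_lit 0), (nat_lit 0xa6e, nat_lit 0), (nat_lit 0xaa9, nat_lit 0), (nat_lit 0x8d9, nat_lit 0), (nat_lit 0xa88, nat_lit 0), (nat_lit 0x549, nat_lit 0), (nat_lit 0xf6e, nat_lit 0), (nat_lit 0xd37, nat_lit 0), (nat_lit 0x848, nat_lit 0), (nat_lit 0xbd3, nat_lit 0), (nat_lit 0xe7c, nat_lit 0), (nat_lit 902, nat_lit 0), (nat_lit 0x79e, nat_lit 0), (nat_lit 0x502, nat_lit 0), (nat_lit 0xca4, nat_lit 0), (nat_lit 0x989, nat_lit 0), (nat_lit 426, nat_lit 0), (nat_lit 0x966, nat_lit 0), (nat_lit 0xbf0, nat_lit 0), (nat_lit 0x88c, nat_lit 0), (nat_lit 370, nat_lit 0), (nat_lit 0xbe3, nat_lit 0), (nat_lit 0x8de, nat_lit 0), (nat_lit 853, nat_lit 0), (nat_lit 543, nat_lit 0), (nat_lit 0x758, nat_lit 0), (nat_lit 0xfab, nat_lit 0), (nat_lit 0xa58, nat_lit 0), (nat_lit 0x471, nat_lit 0), (nat_lit 0xf42, nat_lit 0), (nat_lit 386, nat_lit 0), (nat_lit 0x7a2, nat_lit 0), (nat_lit 0x7cc, nat_lit 0), (nat_lit 0x9e5, nat_lit 0), (nat_lit 412, nat_lit 0), (nat_lit 0x6ca, nat_lit 0), (nat_lit 0x96c, nat_lit 0), (nat_lit 0xa8c, nat_lit 0), (nat_lit 0xbb0, nat_lit 0), (nat_lit 0x7d7, nat_lit 0), (nat_lit 266, nat_lit 0), (nat_lit 0xea2, nat_lit 0), (nat_lit 739, nat_lit 0), (nat_lit 0x934, nat_lit 0), (nat_lit 49, nat_lit 0), (nat_lit 692, nat_lit 0), (nat_lit 0xd56, nat_lit 0), (nat_lit 0x6b6, nat_lit 0), (nat_lit 0xbc6, nat_lit 0), (nat_lit 0xe08, nat_lit 0), (nat_lit 0x7bf, nat_lit 0), (nat_lit 177, nat_lit 0), (nat_lit 431, nat_lit 0), (nat_lit 231, nat_lit 0), (nat_lit 0x3e9, nat_lit 0), (nat_lit 0x46f, nat_lit 0), (nat_lit 0xde3, nat_lit 0), (nat_lit 0xdd6, nat_lit 0), (nat_lit 0x68a, nat_lit 0), (nat_lit 0x9cd, nat_lit 0), (nat_lit 0xae1, nat_lit 0), (nat_lit 283, nat_lit 0), (nat_lit 0xcca, nat_lit 0), (nat_lit 0xbd9, nat_lit 0), (nat_lit 0x400, nat_lit 0), (nat_lit 0xe11, nat_lit 0), (nat_lit 357, nat_lit 0), (nat_lit 0xeaa, nat_lit 0), (nat_lit 546, nat_lit 0), (nat_lit 0xbe0, nat_lit 0), (nat_lit 127, nat_lit 0), (nat_lit 0x803, nat_lit 0), (nat_lit 0x963, nat_lit 0), (nat_lit 0x9ae, nat_lit 0), (nat_lit 0x4b9, nat_lit 0), (nat_lit 0x47c, nat_lit 0), (nat_lit 0xfba, nat_lit 0), (nat_lit 0xb51, nat_lit 0), (nat_lit 0xc30, nat_lit 0), (nat_lit 305, nat_lit 0), (nat_lit 0x633, nat_lit 0), (nat_lit 837, nat_lit 0), (nat_lit 0x7a8, nat_lit 0), (nat_lit 0x89a, nat_lit 0), (nat_lit 0x875, nat_lit 0), (nat_lit 0xd6a, nat_lit 0), (nat_lit 0xa25, nat_lit 0), (nat_lit 0x74d, nat_lit 0), (nat_lit 0xf4f, nat_lit 0), (nat_lit 88, nat_lit 0), (nat_lit 0xaba, nat_lit 0), (nat_lit 0x9e6, nat_lit 0), (nat_lit 0xf95, nat_lit 0), (nat_lit 0xdf9, nat_lit 0), (nat_lit 0x47e, nat_lit 0), (nat_lit 0xfbd, nat_lit 0), (nat_lit 0xce6, nat_lit 0), (nat_lit 830, nat_lit 0), (nat_lit 0xd40, nat_lit 0), (nat_lit 513, nat_lit 0), (nat_lit 0x8e6, nat_lit 0), (nat_lit 0x771, nat_lit 0), (nat_lit 572, nat_lit 0), (nat_lit 393, nat_lit 0), (nat_lit 962, nat_lit 0), (nat_lit 0xd53, nat_lit 0), (nat_lit 171, nat_lit 0), (nat_lit 0x6a8, nat_lit 0), (nat_lit 0x515, nat_lit 0), (nat_lit 0x969, nat_lit 0), (nat_lit 0xacd, nat_lit 0), (nat_lit 0x664, nat_lit 0), (nat_lit 0xa80, nat_lit 0), (nat_lit 0xaa5, nat_lit 0), (nat_lit 0xdc7, nat_lit 0), (nat_lit 738, nat_lit 0), (nat_lit 819, nat_lit 0), (nat_lit 0xa8f, nat_lit 0), (nat_lit 0xe7f, nat_lit 0), (nat_lit 0x40e, nat_lit 0), (nat_lit 436, nat_lit 0), (nat_lit 0xe4b, nat_lit 0), (nat_lit 0x9e4, nat_lit 0), (nat_lit 0xb52, nat_lit 0), (nat_lit 0xd9b, nat_lit 0), (nat_lit 0xa79, nat_lit 0), (nat_lit 0x41a, nat_lit 0), (nat_lit 119, nat_lit 0), (nat_lit 0x9fb, nat_lit 0), (nat_lit 0xa98, nat_lit 0), (nat_lit 0xc4e, nat_lit 0), (nat_lit 719, nat_lit 0), (nat_lit 353, nat_lit 0), (nat_lit 0xe5f, nat_lit 0), (nat_lit 0x6f0, nat_lit 0), (nat_lit 0x80b, nat_lit 0), (nat_lit 6, nat_lit 0), (nat_lit 0x865, nat_lit 0), (nat_lit 0xca6, nat_lit 0), (nat_lit 0x537, nat_lit 0), (nat_lit 298, nat_lit 0), (nat_lit 0x957, nat_lit 0), (nat_lit 0xa44, nat_lit 0), (nat_lit 122, nat_lit 0), (nat_lit 842, nat_lit 0), (nat_lit 0x40a, nat_lit 0), (nat_lit 0x8fc, nat_lit 0), (nat_lit 606, nat_lit 0), (nat_lit 0x983, nat_lit 0), (nat_lit 341, nat_lit 0), (nat_lit 0x78c, nat_lit 0), (nat_lit 0xa4d, nat_lit 0), (nat_lit 379, nat_lit 0), (nat_lit 0x794, nat_lit 0), (nat_lit 0x889, nat_lit 0), (nat_lit 0x8e7, nat_lit 0), (nat_lit 0x628, nat_lit 0), (nat_lit 0x4c5, nat_lit 0), (nat_lit 438, nat_lit 0), (nat_lit 0xc4a, nat_lit 0), (nat_lit 0x744, nat_lit 0), (nat_lit 0x879, nat_lit 0), (nat_lit 0x80f, nat_lit 0), (nat_lit 0x5bd, nat_lit 0), (nat_lit 515, nat_lit 0), (nat_lit 0xf48, nat_lit 0), (nat_lit 0xab9, nat_lit 0), (nat_lit 0xc19, nat_lit 0), (nat_lit 0xddc, nat_lit 0), (nat_lit 0xbff, nat_lit 0), (nat_lit 0xabe, nat_lit 0), (nat_lit 681, nat_lit 0), (nat_lit 312, nat_lit 0), (nat_lit 0x57e, nat_lit 0), (nat_lit 0x9e1, nat_lit 0), (nat_lit 0xd13, nat_lit 0), (nat_lit 707, nat_lit 0), (nat_lit 0xa7d, nat_lit 0), (nat_lit 0x6de, nat_lit 0), (nat_lit 0xd26, nat_lit 0), (nat_lit 0xcba, nat_lit 0), (nat_lit 0x48e, nat_lit 0), (nat_lit 0xf3b, nat_lit 0), (nat_lit 296, nat_lit 0), (nat_lit 0x52f, nat_lit 0), (nat_lit 0xba6, nat_lit 0), (nat_lit 0x78f, nat_lit 0), (nat_lit 718, nat_lit 0), (nat_lit 0xc0d, nat_lit 0), (nat_lit 0x498, nat_lit 0), (nat_lit 0x4df, nat_lit 0), (nat_lit 0xed4, nat_lit 0), (nat_lit 0x67f, nat_lit 0), (nat_lit 0xf3c, nat_lit 0), (nat_lit 596, nat_lit 0), (nat_lit 0x932, nat_lit 0), (nat_lit 0x5e8, nat_lit 0), (nat_lit 0xd3a, nat_lit 0), (nat_lit 0x4d7, nat_lit 0), (nat_lit 51, nat_lit 0), (nat_lit 879, nat_lit 0), (nat_lit 684, nat_lit 0), (nat_lit 0xcd7, nat_lit 0), (nat_lit 0x5b8, nat_lit 0), (nat_lit 0x4bc, nat_lit 0), (nat_lit 610, nat_lit 0), (nat_lit 0xc72, nat_lit 0), (nat_lit 0x8f0, nat_lit 0), (nat_lit 0x5ce, nat_lit 0), (nat_lit 0x971, nat_lit 0), (nat_lit 0xdd4, nat_lit 0), (nat_lit 0x4a3, nat_lit 0), (nat_lit 0xac2, nat_lit 0), (nat_lit 0x7f2, nat_lit 0), (nat_lit 0x783, nat_lit 0), (nat_lit 0xce2, nat_lit 0), (nat_lit 456, nat_lit 0), (nat_lit 0x60b, nat_lit 0), (nat_lit 0xbeb, nat_lit 0), (nat_lit 374, nat_lit 0), (nat_lit 0xf0c, nat_lit 0), (nat_lit 0xcdb, nat_lit 0), (nat_lit 0xeee, nat_lit 0), (nat_lit 0xc59, nat_lit 0), (nat_lit 0x69b, nat_lit 0), (nat_lit 0xf9d, nat_lit 0), (nat_lit 0x731, nat_lit 0), (nat_lit 293, nat_lit 0), (nat_lit 0x477, nat_lit 0), (nat_lit 932, nat_lit 0), (nat_lit 0x4ca, nat_lit 0), (nat_lit 0xd79, nat_lit 0), (nat_lit 0x5df, nat_lit 0), (nat_lit 0xc3a, nat_lit 0), (nat_lit 0xd33, nat_lit 0), (nat_lit 0x7ef, nat_lit 0), (nat_lit 136, nat_lit 0), (nat_lit 0xe18, nat_lit 0), (nat_lit 0xe52, nat_lit 0), (nat_lit 499, nat_lit 0), (nat_lit 776, nat_lit 0), (nat_lit 314, nat_lit 0), (nat_lit 0x4d5, nat_lit 0), (nat_lit 0xe26, nat_lit 0), (nat_lit 0x718, nat_lit 0), (nat_lit 169, nat_lit 0), (nat_lit 0xb0d, nat_lit 0), (nat_lit 0xb3e, nat_lit 0), (nat_lit 0xda4, nat_lit 0), (nat_lit 477, nat_lit 0), (nat_lit 0x787, nat_lit 0), (nat_lit 910, nat_lit 0), (nat_lit 640, nat_lit 0), (nat_lit 157, nat_lit 0), (nat_lit 0xcb9, nat_lit 0), (nat_lit 0xf91, nat_lit 0), (nat_lit 0x760, nat_lit 0), (nat_lit 311, nat_lit 0), (nat_lit 0x405, nat_lit 0), (nat_lit 0x7a7, nat_lit 0), (nat_lit 903, nat_lit 0), (nat_lit 124, nat_lit 0), (nat_lit 960, nat_lit 0), (nat_lit 0xd17, nat_lit 0), (nat_lit 0xac0, nat_lit 0), (nat_lit 0x89e, nat_lit 0), (nat_lit 0xf70, nat_lit 0), (nat_lit 417, nat_lit 0), (nat_lit 0xa9d, nat_lit 0), (nat_lit 994, nat_lit 0), (nat_lit 0xb7b, nat_lit 0), (nat_lit 0x94c, nat_lit 0), (nat_lit 0xb1b, nat_lit 0), (nat_lit 0xdbb, nat_lit 0), (nat_lit 404, nat_lit 0), (nat_lit 0xae9, nat_lit 0), (nat_lit 0xe9a, nat_lit 0), (nat_lit 0xc05, nat_lit 0), (nat_lit 0x5f8, nat_lit 0), (nat_lit 428, nat_lit 0), (nat_lit 0xc14, nat_lit 0), (nat_lit 0x8b9, nat_lit 0), (nat_lit 0xc17, nat_lit 0), (nat_lit 0x640, nat_lit 0), (nat_lit 642, nat_lit 0), (nat_lit 0x73c, nat_lit 0), (nat_lit 0xdcd, nat_lit 0), (nat_lit 0xbe6, nat_lit 0), (nat_lit 661, nat_lit 0), (nat_lit 0x7c6, nat_lit 0), (nat_lit 500, nat_lit 0), (nat_lit 0xc66, nat_lit 0), (nat_lit 0x67e, nat_lit 0), (nat_lit 0x497, nat_lit 0), (nat_lit 0x7d2, nat_lit 0), (nat_lit 945, nat_lit 0), (nat_lit 0xbe5, nat_lit 0), (nat_lit 0xd55, nat_lit 0), (nat_lit 0x4f8, nat_lit 0), (nat_lit 0x7b4, nat_lit 0), (nat_lit 0x5b4, nat_lit 0), (nat_lit 463, nat_lit 0), (nat_lit 0xad8, nat_lit 0), (nat_lit 0x4ab, nat_lit 0), (nat_lit 0xe81, nat_lit 0), (nat_lit 712, nat_lit 0), (nat_lit 0xcc5, nat_lit 0), (nat_lit 0x929, nat_lit 0), (nat_lit 0x8e1, nat_lit 0), (nat_lit 0x630, nat_lit 0), (nat_lit 213, nat_lit 0), (nat_lit 0x9de, nat_lit 0), (nat_lit 651, nat_lit 0), (nat_lit 686, nat_lit 0), (nat_lit 0xf49, nat_lit 0), (nat_lit 0x500, nat_lit 0), (nat_lit 0x757, nat_lit 0), (nat_lit 0x53e, nat_lit 0), (nat_lit 0xeb0, nat_lit 0), (nat_lit 0xa00, nat_lit 0), (nat_lit 0x4c8, nat_lit 0), (nat_lit 668, nat_lit 0), (nat_lit 0xe8c, nat_lit 0), (nat_lit 827, nat_lit 0), (nat_lit 0xf87, nat_lit 0), (nat_lit 0xf80, nat_lit 0), (nat_lit 0x812, nat_lit 0), (nat_lit 0x689, nat_lit 0), (nat_lit 0x775, nat_lit 0), (nat_lit 0xfc3, nat_lit 0), (nat_lit 0x4af, nat_lit 0), (nat_lit 0x54e, nat_lit 0), (nat_lit 0x62a, nat_lit 0), (nat_lit 0xcb0, nat_lit 0), (nat_lit 0x5b3, nat_lit 0), (nat_lit 554, nat_lit 0), (nat_lit 0xe68, nat_lit 0), (nat_lit 0x597, nat_lit 0), (nat_lit 0xc1a, nat_lit 0), (nat_lit 63, nat_lit 0), (nat_lit 0x8bb, nat_lit 0), (nat_lit 0xe0c, nat_lit 0), (nat_lit 0x47f, nat_lit 0), (nat_lit 935, nat_lit 0), (nat_lit 0xa84, nat_lit 0), (nat_lit 675, nat_lit 0), (nat_lit 0xed2, nat_lit 0), (nat_lit 0xe19, nat_lit 0), (nat_lit 0x420, nat_lit 0), (nat_lit 0x41e, nat_lit 0), (nat_lit 0x4c3, nat_lit 0), (nat_lit 0xf7b, nat_lit 0), (nat_lit 0x66b, nat_lit 0), (nat_lit 0xdae, nat_lit 0), (nat_lit 816, nat_lit 0), (nat_lit 0x7b7, nat_lit 0), (nat_lit 0x784, nat_lit 0), (nat_lit 544, nat_lit 0), (nat_lit 0x914, nat_lit 0), (nat_lit 0x72d, nat_lit 0), (nat_lit 0x84b, nat_lit 0), (nat_lit 0x625, nat_lit 0), (nat_lit 0x475, nat_lit 0), (nat_lit 0xd30, nat_lit 0), (nat_lit 0x5be, nat_lit 0), (nat_lit 0x71c, nat_lit 0), (nat_lit 999, nat_lit 0), (nat_lit 0x9b9, nat_lit 0), (nat_lit 0xda7, nat_lit 0), (nat_lit 0x6f7, nat_lit 0), (nat_lit 0xbda, nat_lit 0), (nat_lit 0xb9b, nat_lit 0), (nat_lit 0xaad, nat_lit 0), (nat_lit 0xeef, nat_lit 0), (nat_lit 228, nat_lit 0), (nat_lit 0xde4, nat_lit 0), (nat_lit 0x85c, nat_lit 0), (nat_lit 0xbe4, nat_lit 0), (nat_lit 632, nat_lit 0), (nat_lit 0xadb, nat_lit 0), (nat_lit 352, nat_lit 0), (nat_lit 0x593, nat_lit 0), (nat_lit 425, nat_lit 0), (nat_lit 973, nat_lit 0), (nat_lit 0xd58, nat_lit 0), (nat_lit 0x7b6, nat_lit 0), (nat_lit 0xf9e, nat_lit 0), (nat_lit 0x91d, nat_lit 0), (nat_lit 702, nat_lit 0), (nat_lit 0xc48, nat_lit 0), (nat_lit 0x551, nat_lit 0), (nat_lit 0xebb, nat_lit 0), (nat_lit 0x9bc, nat_lit 0), (nat_lit 788, nat_lit 0), (nat_lit 0x85d, nat_lit 0), (nat_lit 128, nat_lit 0), (nat_lit 907, nat_lit 0), (nat_lit 867, nat_lit 0), (nat_lit 0xef3, nat_lit 0), (nat_lit 0xb10, nat_lit 0), (nat_lit 954, nat_lit 0), (nat_lit 0xbbd, nat_lit 0), (nat_lit 0x6f5, nat_lit 0), (nat_lit 390, nat_lit 0), (nat_lit 869, nat_lit 0), (nat_lit 0xf72, nat_lit 0), (nat_lit 0xa51, nat_lit 0), (nat_lit 0x880, nat_lit 0), (nat_lit 0x46b, nat_lit 0), (nat_lit 118, nat_lit 0), (nat_lit 0x9d3, nat_lit 0), (nat_lit 0x49c, nat_lit 0), (nat_lit 0xf9b, nat_lit 0), (nat_lit 880, nat_lit 0), (nat_lit 306, nat_lit 0), (nat_lit 0x7e8, nat_lit 0), (nat_lit 0xbd2, nat_lit 0), (nat_lit 0x599, nat_lit 0), (nat_lit 774, nat_lit 0), (nat_lit 0xa95, nat_lit 0), (nat_lit 0x694, nat_lit 0), (nat_lit 0xb55, nat_lit 0), (nat_lit 0x6a2, nat_lit 0), (nat_lit 0xe23, nat_lit 0), (nat_lit 152, nat_lit 0), (nat_lit 175, nat_lit 0), (nat_lit 716, nat_lit 0), (nat_lit 0x702, nat_lit 0), (nat_lit 952, nat_lit 0), (nat_lit 197, nat_lit 0), (nat_lit 0x97e, nat_lit 0), (nat_lit 966, nat_lit 0), (nat_lit 410, nat_lit 0), (nat_lit 0x940, nat_lit 0), (nat_lit 0x846, nat_lit 0), (nat_lit 988, nat_lit 0), (nat_lit 0xd81, nat_lit 0), (nat_lit 653, nat_lit 0), (nat_lit 0xb93, nat_lit 0), (nat_lit 0x7d8, nat_lit 0), (nat_lit 0xc58, nat_lit 0), (nat_lit 0x59d, nat_lit 0), (nat_lit 0x804, nat_lit 0), (nat_lit 0x85e, nat_lit 0), (nat_lit 0x88a, nat_lit 0), (nat_lit 0x7b8, nat_lit 0), (nat_lit 478, nat_lit 0), (nat_lit 0x8d2, nat_lit 0), (nat_lit 0x6e6, nat_lit 0), (nat_lit 0xbfa, nat_lit 0), (nat_lit 0xbb3, nat_lit 0), (nat_lit 0x63f, nat_lit 0), (nat_lit 0xb50, nat_lit 0), (nat_lit 0x5b5, nat_lit 0), (nat_lit 532, nat_lit 0), (nat_lit 0xe01, nat_lit 0), (nat_lit 0xde7, nat_lit 0), (nat_lit 0x4db, nat_lit 0), (nat_lit 0x5d8, nat_lit 0), (nat_lit 0x799, nat_lit 0), (nat_lit 164, nat_lit 0), (nat_lit 993, nat_lit 0), (nat_lit 0x620, nat_lit 0), (nat_lit 0xcb2, nat_lit 0), (nat_lit 0xb96, nat_lit 0), (nat_lit 0xb4f, nat_lit 0), (nat_lit 0x5b0, nat_lit 0), (nat_lit 0xfb5, nat_lit 0), (nat_lit 0x419, nat_lit 0), (nat_lit 0xcd6, nat_lit 0), (nat_lit 0x665, nat_lit 0), (nat_lit 0x866, nat_lit 0), (nat_lit 0xbc2, nat_lit 0), (nat_lit 0xe51, nat_lit 0), (nat_lit 741, nat_lit 0), (nat_lit 0xdb4, nat_lit 0), (nat_lit 0xd97, nat_lit 0), (nat_lit 963, nat_lit 0), (nat_lit 0x650, nat_lit 0), (nat_lit 0x45f, nat_lit 0), (nat_lit 0x9ab, nat_lit 0), (nat_lit 95, nat_lit 0), (nat_lit 0xb0c, nat_lit 0), (nat_lit 756, nat_lit 0), (nat_lit 0x3e8, nat_lit 0), (nat_lit 304, nat_lit 0), (nat_lit 346, nat_lit 0), (nat_lit 0x652, nat_lit 0), (nat_lit 508, nat_lit 0), (nat_lit 0xb4e, nat_lit 0), (nat_lit 418, nat_lit 0), (nat_lit 0x8d3, nat_lit 0), (nat_lit 0xb7c, nat_lit 0), (nat_lit 502, nat_lit 0), (nat_lit 0xb17, nat_lit 0), (nat_lit 0x83e, nat_lit 0), (nat_lit 46, nat_lit 0), (nat_lit 0x5cc, nat_lit 0), (nat_lit 0xc56, nat_lit 0), (nat_lit 0x6ee, nat_lit 0), (nat_lit 0x815, nat_lit 0), (nat_lit 0x944, nat_lit 0), (nat_lit 0x828, nat_lit 0), (nat_lit 0x7fa, nat_lit 0), (nat_lit 0x793, nat_lit 0), (nat_lit 0x87a, nat_lit 0), (nat_lit 0xc3f, nat_lit 0), (nat_lit 547, nat_lit 0), (nat_lit 0xc7e, nat_lit 0), (nat_lit 0xc83, nat_lit 0), (nat_lit 745, nat_lit 0), (nat_lit 0x65d, nat_lit 0), (nat_lit 0x43e, nat_lit 0), (nat_lit 909, nat_lit 0), (nat_lit 0x981, nat_lit 0), (nat_lit 0x4fe, nat_lit 0), (nat_lit 0xe94, nat_lit 0), (nat_lit 450, nat_lit 0), (nat_lit 0xef1, nat_lit 0), (nat_lit 0xed6, nat_lit 0), (nat_lit 0x90b, nat_lit 0), (nat_lit 89, nat_lit 0), (nat_lit 0x604, nat_lit 0), (nat_lit 0xeae, nat_lit 0), (nat_lit 288, nat_lit 0), (nat_lit 0xb3f, nat_lit 0), (nat_lit 0xdab, nat_lit 0), (nat_lit 24, nat_lit 0), (nat_lit 0xa08, nat_lit 0), (nat_lit 0x847, nat_lit 0), (nat_lit 0xb78, nat_lit 0), (nat_lit 0x822, nat_lit 0), (nat_lit 0x70a, nat_lit 0), (nat_lit 0xc93, nat_lit 0), (nat_lit 0x77a, nat_lit 0), (nat_lit 0x9a2, nat_lit 0), (nat_lit 0xd45, nat_lit 0), (nat_lit 806, nat_lit 0), (nat_lit 0x6c7, nat_lit 0), (nat_lit 0xe4a, nat_lit 0), (nat_lit 0xb83, nat_lit 0), (nat_lit 65, nat_lit 0), (nat_lit 0xb69, nat_lit 0), (nat_lit 0xc52, nat_lit 0), (nat_lit 0xfb4, nat_lit 0), (nat_lit 465, nat_lit 0), (nat_lit 0x5eb, nat_lit 0), (nat_lit 0x57c, nat_lit 0), (nat_lit 888, nat_lit 0), (nat_lit 0xb27, nat_lit 0), (nat_lit 0xf00, nat_lit 0), (nat_lit 0x8f9, nat_lit 0), (nat_lit 0xb8d, nat_lit 0), (nat_lit 0xd51, nat_lit 0), (nat_lit 106, nat_lit 0), (nat_lit 0x7ea, nat_lit 0), (nat_lit 0x73a, nat_lit 0), (nat_lit 0xb31, nat_lit 0), (nat_lit 992, nat_lit 0), (nat_lit 0xdb3, nat_lit 0), (nat_lit 0xc16, nat_lit 0), (nat_lit 0x6a4, nat_lit 0), (nat_lit 0x9eb, nat_lit 0), (nat_lit 0x580, nat_lit 0), (nat_lit 0xa0c, nat_lit 0), (nat_lit 0xe7d, nat_lit 0), (nat_lit 648, nat_lit 0), (nat_lit 0xaa0, nat_lit 0), (nat_lit 0x463, nat_lit 0), (nat_lit 0x4ef, nat_lit 0), (nat_lit 0x946, nat_lit 0), (nat_lit 0xac8, nat_lit 0), (nat_lit 0x47b, nat_lit 0), (nat_lit 0xb98, nat_lit 0), (nat_lit 251, nat_lit 0), (nat_lit 252, nat_lit 0), (nat_lit 0x5d7, nat_lit 0), (nat_lit 724, nat_lit 0), (nat_lit 381, nat_lit 0), (nat_lit 0x68d, nat_lit 0), (nat_lit 0xa9e, nat_lit 0), (nat_lit 0x3eb, nat_lit 0), (nat_lit 0xaf9, nat_lit 0), (nat_lit 0xbd1, nat_lit 0), (nat_lit 0x831, nat_lit 0), (nat_lit 25, nat_lit 0), (nat_lit 0x756, nat_lit 0), (nat_lit 0xc54, nat_lit 0), (nat_lit 0xe86, nat_lit 0), (nat_lit 0xa7e, nat_lit 0), (nat_lit 0x3f1, nat_lit 0), (nat_lit 446, nat_lit 0), (nat_lit 0xa90, nat_lit 0), (nat_lit 0x607, nat_lit 0), (nat_lit 501, nat_lit 0), (nat_lit 0x8f6, nat_lit 0), (nat_lit 781, nat_lit 0), (nat_lit 0x678, nat_lit 0), (nat_lit 0xdc4, nat_lit 0), (nat_lit 0xa69, nat_lit 0), (nat_lit 0xdf2, nat_lit 0), (nat_lit 0x4e9, nat_lit 0), (nat_lit 0xcc9, nat_lit 0), (nat_lit 309, nat_lit 0), (nat_lit 0x4cf, nat_lit 0), (nat_lit 0xad4, nat_lit 0), (nat_lit 0xb87, nat_lit 0), (nat_lit 701, nat_lit 0), (nat_lit 0x5d1, nat_lit 0), (nat_lit 564, nat_lit 0), (nat_lit 0xd49, nat_lit 0), (nat_lit 0xf9c, nat_lit 0), (nat_lit 656, nat_lit 0), (nat_lit 103, nat_lit 0), (nat_lit 0x707, nat_lit 0), (nat_lit 0xde2, nat_lit 0), (nat_lit 0x97b, nat_lit 0), (nat_lit 0x695, nat_lit 0), (nat_lit 0x850, nat_lit 0), (nat_lit 0x494, nat_lit 0), (nat_lit 0xcce, nat_lit 0), (nat_lit 0x67b, nat_lit 0), (nat_lit 657, nat_lit 0), (nat_lit 0xcea, nat_lit 0), (nat_lit 0xfd9, nat_lit 0), (nat_lit 93, nat_lit 0), (nat_lit 0x5a9, nat_lit 0), (nat_lit 714, nat_lit 0), (nat_lit 0xdd2, nat_lit 0), (nat_lit 0xf6c, nat_lit 0), (nat_lit 916, nat_lit 0), (nat_lit 0x6cc, nat_lit 0), (nat_lit 0x562, nat_lit 0), (nat_lit 0xc33, nat_lit 0), (nat_lit 0x5dc, nat_lit 0), (nat_lit 444, nat_lit 0), (nat_lit 0xdf1, nat_lit 0), (nat_lit 0xd64, nat_lit 0), (nat_lit 0x416, nat_lit 0), (nat_lit 0xaec, nat_lit 0), (nat_lit 0xb30, nat_lit 0), (nat_lit 0x51d, nat_lit 0), (nat_lit 518, nat_lit 0), (nat_lit 0x921, nat_lit 0), (nat_lit 0xd93, nat_lit 0), (nat_lit 574, nat_lit 0), (nat_lit 0xf21, nat_lit 0), (nat_lit 0xc51, nat_lit 0), (nat_lit 0x458, nat_lit 0), (nat_lit 0x96a, nat_lit 0), (nat_lit 0x882, nat_lit 0), (nat_lit 0x71a, nat_lit 0), (nat_lit 473, nat_lit 0), (nat_lit 0x9da, nat_lit 0), (nat_lit 0xbee, nat_lit 0), (nat_lit 0xb54, nat_lit 0), (nat_lit 0xc9e, nat_lit 0), (nat_lit 0x893, nat_lit 0), (nat_lit 0x61e, nat_lit 0), (nat_lit 0xb24, nat_lit 0), (nat_lit 0xb5c, nat_lit 0), (nat_lit 0x48b, nat_lit 0), (nat_lit 0x792, nat_lit 0), (nat_lit 928, nat_lit 0), (nat_lit 533, nat_lit 0), (nat_lit 0x434, nat_lit 0), (nat_lit 0x615, nat_lit 0), (nat_lit 844, nat_lit 0), (nat_lit 0x656, nat_lit 0), (nat_lit 0x876, nat_lit 0), (nat_lit 0x461, nat_lit 0), (nat_lit 0xe02, nat_lit 0), (nat_lit 833, nat_lit 0), (nat_lit 234, nat_lit 0), (nat_lit 0xc5c, nat_lit 0), (nat_lit 0x873, nat_lit 0), (nat_lit 0x928, nat_lit 0), (nat_lit 612, nat_lit 0), (nat_lit 591, nat_lit 0), (nat_lit 0x980, nat_lit 0), (nat_lit 0x481, nat_lit 0), (nat_lit 0xb2d, nat_lit 0), (nat_lit 0x512, nat_lit 0), (nat_lit 72, nat_lit 0), (nat_lit 0xb1a, nat_lit 0), (nat_lit 0xf82, nat_lit 0), (nat_lit 637, nat_lit 0), (nat_lit 828, nat_lit 0), (nat_lit 0xbcf, nat_lit 0), (nat_lit 0xbbc, nat_lit 0), (nat_lit 0xe59, nat_lit 0), (nat_lit 0xa3b, nat_lit 0), (nat_lit 0x45e, nat_lit 0), (nat_lit 0xa45, nat_lit 0), (nat_lit 0xfc8, nat_lit 0), (nat_lit 0xfcb, nat_lit 0), (nat_lit 0xefc, nat_lit 0), (nat_lit 0x588, nat_lit 0), (nat_lit 0xccc, nat_lit 0), (nat_lit 0x555, nat_lit 0), (nat_lit 335, nat_lit 0), (nat_lit 0xd02, nat_lit 0), (nat_lit 0x5d6, nat_lit 0), (nat_lit 0x868, nat_lit 0), (nat_lit 0xe35, nat_lit 0), (nat_lit 0xe03, nat_lit 0), (nat_lit 0x6b1, nat_lit 0), (nat_lit 0xb65, nat_lit 0), (nat_lit 0xe44, nat_lit 0), (nat_lit 0xdc8, nat_lit 0), (nat_lit 15, nat_lit 0), (nat_lit 0xe63, nat_lit 0), (nat_lit 0xccf, nat_lit 0), (nat_lit 0xf02, nat_lit 0), (nat_lit 0xd18, nat_lit 0), (nat_lit 0x4c1, nat_lit 0), (nat_lit 0x61d, nat_lit 0), (nat_lit 0x87d, nat_lit 0), (nat_lit 0x7aa, nat_lit 0), (nat_lit 0x699, nat_lit 0), (nat_lit 482, nat_lit 0), (nat_lit 0x6da, nat_lit 0), (nat_lit 0xb41, nat_lit 0), (nat_lit 0x9a1, nat_lit 0), (nat_lit 773, nat_lit 0), (nat_lit 0xf18, nat_lit 0), (nat_lit 0xcac, nat_lit 0), (nat_lit 0xa0f, nat_lit 0), (nat_lit 138, nat_lit 0), (nat_lit 0x417, nat_lit 0), (nat_lit 0xa30, nat_lit 0), (nat_lit 0xbbf, nat_lit 0), (nat_lit 84, nat_lit 0), (nat_lit 0xf46, nat_lit 0), (nat_lit 0x8b6, nat_lit 0), (nat_lit 0xeb9, nat_lit 0), (nat_lit 0x401, nat_lit 0), (nat_lit 0x821, nat_lit 0), (nat_lit 0x9a8, nat_lit 0), (nat_lit 0xba4, nat_lit 0), (nat_lit 377, nat_lit 0), (nat_lit 407, nat_lit 0), (nat_lit 0x92e, nat_lit 0), (nat_lit 0x59a, nat_lit 0), (nat_lit 524, nat_lit 0), (nat_lit 0xc01, nat_lit 0), (nat_lit 0xaa1, nat_lit 0), (nat_lit 0xe1b, nat_lit 0), (nat_lit 0xc5a, nat_lit 0), (nat_lit 0x90c, nat_lit 0), (nat_lit 0x556, nat_lit 0), (nat_lit 0xd88, nat_lit 0), (nat_lit 0x52d, nat_lit 0), (nat_lit 908, nat_lit 0), (nat_lit 0xb80, nat_lit 0), (nat_lit 641, nat_lit 0), (nat_lit 0xc1f, nat_lit 0), (nat_lit 0x8d4, nat_lit 0), (nat_lit 0x8e4, nat_lit 0), (nat_lit 0x820, nat_lit 0), (nat_lit 0xfd5, nat_lit 0), (nat_lit 0x827, nat_lit 0), (nat_lit 279, nat_lit 0), (nat_lit 0x669, nat_lit 0), (nat_lit 0xc5f, nat_lit 0), (nat_lit 0x6af, nat_lit 0), (nat_lit 0xf12, nat_lit 0), (nat_lit 0xd68, nat_lit 0), (nat_lit 0x6df, nat_lit 0), (nat_lit 0x8e3, nat_lit 0), (nat_lit 37, nat_lit 0), (nat_lit 0x610, nat_lit 0), (nat_lit 0x89c, nat_lit 0), (nat_lit 0xa21, nat_lit 0), (nat_lit 0xf75, nat_lit 0), (nat_lit 0x833, nat_lit 0), (nat_lit 0xa22, nat_lit 0), (nat_lit 917, nat_lit 0), (nat_lit 0x632, nat_lit 0), (nat_lit 0xfc9, nat_lit 0), (nat_lit 0x553, nat_lit 0), (nat_lit 538, nat_lit 0), (nat_lit 0x5e4, nat_lit 0), (nat_lit 284, nat_lit 0), (nat_lit 0x55b, nat_lit 0), (nat_lit 0xf4b, nat_lit 0), (nat_lit 715, nat_lit 0), (nat_lit 330, nat_lit 0), (nat_lit 0xeda, nat_lit 0), (nat_lit 976, nat_lit 0), (nat_lit 0xd4b, nat_lit 0), (nat_lit 0xca8, nat_lit 0), (nat_lit 0x645, nat_lit 0), (nat_lit 0xd1b, nat_lit 0), (nat_lit 548, nat_lit 0), (nat_lit 0xb44, nat_lit 0), (nat_lit 155, nat_lit 0), (nat_lit 0x5e7, nat_lit 0), (nat_lit 0x65c, nat_lit 0), (nat_lit 0x7ca, nat_lit 0), (nat_lit 219, nat_lit 0), (nat_lit 0x85b, nat_lit 0), (nat_lit 0x6c0, nat_lit 0), (nat_lit 373, nat_lit 0), (nat_lit 0x69a, nat_lit 0), (nat_lit 0xb46, nat_lit 0), (nat_lit 0xaeb, nat_lit 0), (nat_lit 0xaf7, nat_lit 0), (nat_lit 948, nat_lit 0), (nat_lit 0x513, nat_lit 0), (nat_lit 0xa77, nat_lit 0), (nat_lit 0xe1a, nat_lit 0), (nat_lit 0x5a0, nat_lit 0), (nat_lit 392, nat_lit 0), (nat_lit 358, nat_lit 0), (nat_lit 0x5cd, nat_lit 0), (nat_lit 789, nat_lit 0), (nat_lit 0xd54, nat_lit 0), (nat_lit 0xd06, nat_lit 0), (nat_lit 0xfca, nat_lit 0), (nat_lit 0x8fd, nat_lit 0), (nat_lit 0x40c, nat_lit 0), (nat_lit 0x435, nat_lit 0), (nat_lit 0xbb6, nat_lit 0), (nat_lit 0x415, nat_lit 0), (nat_lit 401, nat_lit 0), (nat_lit 0x432, nat_lit 0), (nat_lit 0xcd0, nat_lit 0), (nat_lit 619, nat_lit 0), (nat_lit 0xf3f, nat_lit 0), (nat_lit 0xd27, nat_lit 0), (nat_lit 0xc6f, nat_lit 0), (nat_lit 362, nat_lit 0), (nat_lit 0x5c5, nat_lit 0), (nat_lit 0xd12, nat_lit 0), (nat_lit 10, nat_lit 0), (nat_lit 950, nat_lit 0), (nat_lit 0x80d, nat_lit 0), (nat_lit 0xd3f, nat_lit 0), (nat_lit 0x8b8, nat_lit 0), (nat_lit 0x80a, nat_lit 0), (nat_lit 0xd96, nat_lit 0), (nat_lit 0x9fe, nat_lit 0), (nat_lit 0x9af, nat_lit 0), (nat_lit 0x6fc, nat_lit 0), (nat_lit 0x808, nat_lit 0), (nat_lit 0x5d5, nat_lit 0), (nat_lit 0xa74, nat_lit 0), (nat_lit 0xa62, nat_lit 0), (nat_lit 0x81d, nat_lit 0), (nat_lit 365, nat_lit 0), (nat_lit 634, nat_lit 0), (nat_lit 0xab3, nat_lit 0), (nat_lit 0x99b, nat_lit 0), (nat_lit 0x55f, nat_lit 0), (nat_lit 0x503, nat_lit 0), (nat_lit 0x9f7, nat_lit 0), (nat_lit 0x430, nat_lit 0), (nat_lit 0xacc, nat_lit 0), (nat_lit 0xf9a, nat_lit 0), (nat_lit 0x4dd, nat_lit 0), (nat_lit 36, nat_lit 0), (nat_lit 0xd99, nat_lit 0), (nat_lit 0xd5f, nat_lit 0), (nat_lit 0x5ff, nat_lit 0), (nat_lit 0xd4d, nat_lit 0), (nat_lit 817, nat_lit 0), (nat_lit 0x84f, nat_lit 0), (nat_lit 965, nat_lit 0), (nat_lit 135, nat_lit 0), (nat_lit 0x42f, nat_lit 0), (nat_lit 0x51a, nat_lit 0), (nat_lit 0x9ee, nat_lit 0), (nat_lit 457, nat_lit 0), (nat_lit 0x5a1, nat_lit 0), (nat_lit 0x860, nat_lit 0), (nat_lit 0x5a7, nat_lit 0), (nat_lit 0x5ba, nat_lit 0), (nat_lit 0x519, nat_lit 0), (nat_lit 0x540, nat_lit 0), (nat_lit 875, nat_lit 0), (nat_lit 0x4c4, nat_lit 0), (nat_lit 0x4de, nat_lit 0), (nat_lit 866, nat_lit 0), (nat_lit 0x48a, nat_lit 0), (nat_lit 0x70e, nat_lit 0), (nat_lit 0xd36, nat_lit 0), (nat_lit 0x96f, nat_lit 0), (nat_lit 0x62d, nat_lit 0), (nat_lit 0xe41, nat_lit 0), (nat_lit 0xe15, nat_lit 0), (nat_lit 0x527, nat_lit 0), (nat_lit 0x4b0, nat_lit 0), (nat_lit 0xc0b, nat_lit 0), (nat_lit 140, nat_lit 0), (nat_lit 0x5b7, nat_lit 0), (nat_lit 0x7c3, nat_lit 0), (nat_lit 0x898, nat_lit 0), (nat_lit 0x92f, nat_lit 0), (nat_lit 0x87c, nat_lit 0), (nat_lit 0x800, nat_lit 0), (nat_lit 0x9c0, nat_lit 0), (nat_lit 0xa6d, nat_lit 0), (nat_lit 0xfa5, nat_lit 0), (nat_lit 0x909, nat_lit 0), (nat_lit 9, nat_lit 0), (nat_lit 760, nat_lit 0), (nat_lit 732, nat_lit 0), (nat_lit 0xd20, nat_lit 0), (nat_lit 0xb01, nat_lit 0), (nat_lit 0x8ed, nat_lit 0), (nat_lit 0xc49, nat_lit 0), (nat_lit 268, nat_lit 0), (nat_lit 0xceb, nat_lit 0), (nat_lit 0x447, nat_lit 0), (nat_lit 0xa5e, nat_lit 0), (nat_lit 0xdd5, nat_lit 0), (nat_lit 0xbba, nat_lit 0), (nat_lit 0x693, nat_lit 0), (nat_lit 0xd6c, nat_lit 0), (nat_lit 0x5a8, nat_lit 0), (nat_lit 0xce1, nat_lit 0), (nat_lit 486, nat_lit 0), (nat_lit 147, nat_lit 0), (nat_lit 0xe3d, nat_lit 0), (nat_lit 0xe65, nat_lit 0), (nat_lit 914, nat_lit 0), (nat_lit 0x627, nat_lit 0), (nat_lit 0x493, nat_lit 0), (nat_lit 0xaac, nat_lit 0), (nat_lit 0x649, nat_lit 0), (nat_lit 0x533, nat_lit 0), (nat_lit 30, nat_lit 0), (nat_lit 0x858, nat_lit 0), (nat_lit 0x6ad, nat_lit 0), (nat_lit 0x3f2, nat_lit 0), (nat_lit 161, nat_lit 0), (nat_lit 0xad7, nat_lit 0), (nat_lit 0x507, nat_lit 0), (nat_lit 0x6be, nat_lit 0), (nat_lit 258, nat_lit 0), (nat_lit 0x46d, nat_lit 0), (nat_lit 807, nat_lit 0), (nat_lit 0xdb1, nat_lit 0), (nat_lit 112, nat_lit 0), (nat_lit 0x40f, nat_lit 0), (nat_lit 0x560, nat_lit 0), (nat_lit 229, nat_lit 0), (nat_lit 0x987, nat_lit 0), (nat_lit 0x4ff, nat_lit 0), (nat_lit 0x5e9, nat_lit 0), (nat_lit 0x9dd, nat_lit 0), (nat_lit 0xabf, nat_lit 0), (nat_lit 826, nat_lit 0), (nat_lit 0x671, nat_lit 0), (nat_lit 0xcee, nat_lit 0), (nat_lit 0xf7f, nat_lit 0), (nat_lit 0x5e2, nat_lit 0), (nat_lit 0xb6e, nat_lit 0), (nat_lit 0x705, nat_lit 0), (nat_lit 0xec8, nat_lit 0), (nat_lit 0xcf0, nat_lit 0), (nat_lit 0xb81, nat_lit 0), (nat_lit 0xfd6, nat_lit 0), (nat_lit 0xbea, nat_lit 0), (nat_lit 0xb06, nat_lit 0), (nat_lit 0xb35, nat_lit 0), (nat_lit 66, nat_lit 0), (nat_lit 0xf2a, nat_lit 0), (nat_lit 0xfd0, nat_lit 0), (nat_lit 0xc9b, nat_lit 0), (nat_lit 0x6ac, nat_lit 0), (nat_lit 125, nat_lit 0), (nat_lit 479, nat_lit 0), (nat_lit 262, nat_lit 0), (nat_lit 982, nat_lit 0), (nat_lit 0xda0, nat_lit 0), (nat_lit 0xdbe, nat_lit 0), (nat_lit 0xfc6, nat_lit 0), (nat_lit 0x791, nat_lit 0), (nat_lit 0xb82, nat_lit 0), (nat_lit 0x8ce, nat_lit 0), (nat_lit 0xce4, nat_lit 0), (nat_lit 182, nat_lit 0), (nat_lit 0xd11, nat_lit 0), (nat_lit 0xc39, nat_lit 0), (nat_lit 690, nat_lit 0), (nat_lit 294, nat_lit 0), (nat_lit 0xf36, nat_lit 0), (nat_lit 0x52a, nat_lit 0), (nat_lit 0x4fd, nat_lit 0), (nat_lit 0x979, nat_lit 0), (nat_lit 0x5b6, nat_lit 0), (nat_lit 0xfd2, nat_lit 0), (nat_lit 0x7af, nat_lit 0), (nat_lit 0xbce, nat_lit 0), (nat_lit 0xe2d, nat_lit 0), (nat_lit 0xdee, nat_lit 0), (nat_lit 0x9c3, nat_lit 0), (nat_lit 0xbb7, nat_lit 0), (nat_lit 0xec7, nat_lit 0), (nat_lit 0x443, nat_lit 0), (nat_lit 0xe76, nat_lit 0), (nat_lit 0x748, nat_lit 0), (nat_lit 0x835, nat_lit 0), (nat_lit 111, nat_lit 0), (nat_lit 919, nat_lit 0), (nat_lit 775, nat_lit 0), (nat_lit 0xc4b, nat_lit 0), (nat_lit 680, nat_lit 0), (nat_lit 0x474, nat_lit 0), (nat_lit 0x9c9, nat_lit 0), (nat_lit 0xa26, nat_lit 0), (nat_lit 0x753, nat_lit 0), (nat_lit 0x87f, nat_lit 0), (nat_lit 699, nat_lit 0), (nat_lit 0xb8e, nat_lit 0), (nat_lit 0xf78, nat_lit 0), (nat_lit 0x796, nat_lit 0), (nat_lit 0x75f, nat_lit 0), (nat_lit 0x4ba, nat_lit 0), (nat_lit 0xd77, nat_lit 0), (nat_lit 0xcbc, nat_lit 0), (nat_lit 0xa86, nat_lit 0), (nat_lit 0xd1a, nat_lit 0), (nat_lit 0xded, nat_lit 0), (nat_lit 0x8a8, nat_lit 0), (nat_lit 151, nat_lit 0), (nat_lit 0xd8f, nat_lit 0), (nat_lit 0xcd3, nat_lit 0), (nat_lit 264, nat_lit 0), (nat_lit 0x504, nat_lit 0), (nat_lit 0xf88, nat_lit 0), (nat_lit 107, nat_lit 0), (nat_lit 187, nat_lit 0), (nat_lit 91, nat_lit 0), (nat_lit 0x442, nat_lit 0), (nat_lit 0xdc2, nat_lit 0), (nat_lit 198, nat_lit 0), (nat_lit 0x653, nat_lit 0), (nat_lit 991, nat_lit 0), (nat_lit 77, nat_lit 0), (nat_lit 0x9e0, nat_lit 0), (nat_lit 0xf74, nat_lit 0), (nat_lit 380, nat_lit 0), (nat_lit 0xfa6, nat_lit 0), (nat_lit 0x8f2, nat_lit 0), (nat_lit 0x424, nat_lit 0), (nat_lit 0x568, nat_lit 0), (nat_lit 372, nat_lit 0), (nat_lit 0xad1, nat_lit 0), (nat_lit 609, nat_lit 0), (nat_lit 0xf4d, nat_lit 0), (nat_lit 394, nat_lit 0), (nat_lit 0x3ea, nat_lit 0), (nat_lit 0x736, nat_lit 0), (nat_lit 0xa19, nat_lit 0), (nat_lit 0x573, nat_lit 0), (nat_lit 622, nat_lit 0), (nat_lit 802, nat_lit 0), (nat_lit 0xa24, nat_lit 0), (nat_lit 0x854, nat_lit 0), (nat_lit 0xbe7, nat_lit 0), (nat_lit 618, nat_lit 0), (nat_lit 0xe6c, nat_lit 0), (nat_lit 0xa36, nat_lit 0), (nat_lit 0x814, nat_lit 0), (nat_lit 0x92b, nat_lit 0), (nat_lit 460, nat_lit 0), (nat_lit 247, nat_lit 0), (nat_lit 0x7c9, nat_lit 0), (nat_lit 943, nat_lit 0), (nat_lit 0xed3, nat_lit 0), (nat_lit 0xbef, nat_lit 0), (nat_lit 0xda8, nat_lit 0), (nat_lit 754, nat_lit 0), (nat_lit 0xdea, nat_lit 0), (nat_lit 0x6c8, nat_lit 0), (nat_lit 0x78b, nat_lit 0), (nat_lit 0xfac, nat_lit 0), (nat_lit 808, nat_lit 0), (nat_lit 104, nat_lit 0), (nat_lit 658, nat_lit 0), (nat_lit 978, nat_lit 0), (nat_lit 0x813, nat_lit 0), (nat_lit 0x945, nat_lit 0), (nat_lit 593, nat_lit 0), (nat_lit 0x6ec, nat_lit 0), (nat_lit 0xfbf, nat_lit 0), (nat_lit 216, nat_lit 0), (nat_lit 813, nat_lit 0), (nat_lit 0xccd, nat_lit 0), (nat_lit 0x675, nat_lit 0), (nat_lit 0xf86, nat_lit 0), (nat_lit 0xd35, nat_lit 0), (nat_lit 0xd23, nat_lit 0), (nat_lit 540, nat_lit 0), (nat_lit 0xc1c, nat_lit 0), (nat_lit 0x8c4, nat_lit 0), (nat_lit 0xabc, nat_lit 0), (nat_lit 0x428, nat_lit 0), (nat_lit 0x826, nat_lit 0), (nat_lit 0x7b5, nat_lit 0), (nat_lit 0x684, nat_lit 0), (nat_lit 0x80e, nat_lit 0), (nat_lit 0x641, nat_lit 0), (nat_lit 0x915, nat_lit 0), (nat_lit 0xe93, nat_lit 0), (nat_lit 0xd15, nat_lit 0), (nat_lit 685, nat_lit 0), (nat_lit 628, nat_lit 0), (nat_lit 0xb22, nat_lit 0), (nat_lit 624, nat_lit 0), (nat_lit 0x9f9, nat_lit 0), (nat_lit 0x824, nat_lit 0), (nat_lit 0x4da, nat_lit 0), (nat_lit 413, nat_lit 0), (nat_lit 0xb56, nat_lit 0), (nat_lit 81, nat_lit 0), (nat_lit 0xa57, nat_lit 0), (nat_lit 0xe88, nat_lit 0), (nat_lit 0xc4d, nat_lit 0), (nat_lit 0x448, nat_lit 0), (nat_lit 371, nat_lit 0), (nat_lit 0xe1d, nat_lit 0), (nat_lit 0x99e, nat_lit 0), (nat_lit 0x52c, nat_lit 0), (nat_lit 0xee1, nat_lit 0), (nat_lit 0x72e, nat_lit 0), (nat_lit 0x985, nat_lit 0), (nat_lit 76, nat_lit 0), (nat_lit 0x606, nat_lit 0), (nat_lit 0x7e1, nat_lit 0), (nat_lit 0xd8e, nat_lit 0), (nat_lit 0xa47, nat_lit 0), (nat_lit 50, nat_lit 0), (nat_lit 883, nat_lit 0), (nat_lit 786, nat_lit 0), (nat_lit 0xa0e, nat_lit 0), (nat_lit 469, nat_lit 0), (nat_lit 0xe67, nat_lit 0), (nat_lit 0x586, nat_lit 0), (nat_lit 0xd72, nat_lit 0), (nat_lit 0xa29, nat_lit 0), (nat_lit 0x86e, nat_lit 0), (nat_lit 0xb28, nat_lit 0), (nat_lit 0x857, nat_lit 0), (nat_lit 0xbfb, nat_lit 0), (nat_lit 0xc1e, nat_lit 0), (nat_lit 0x44e, nat_lit 0), (nat_lit 0x7df, nat_lit 0), (nat_lit 0x782, nat_lit 0), (nat_lit 0x698, nat_lit 0), (nat_lit 836, nat_lit 0), (nat_lit 0xda1, nat_lit 0), (nat_lit 0x6b2, nat_lit 0), (nat_lit 0xc6c, nat_lit 0), (nat_lit 0x479, nat_lit 0), (nat_lit 0x60f, nat_lit 0), (nat_lit 0x9f0, nat_lit 0), (nat_lit 415, nat_lit 0), (nat_lit 265, nat_lit 0), (nat_lit 0x769, nat_lit 0), (nat_lit 0x69c, nat_lit 0), (nat_lit 0xa7b, nat_lit 0), (nat_lit 172, nat_lit 0), (nat_lit 0xacf, nat_lit 0), (nat_lit 0x6c5, nat_lit 0), (nat_lit 0x43b, nat_lit 0), (nat_lit 427, nat_lit 0), (nat_lit 0x908, nat_lit 0), (nat_lit 0xf1d, nat_lit 0), (nat_lit 0xa6a, nat_lit 0), (nat_lit 0xa4e, nat_lit 0), (nat_lit 0xd47, nat_lit 0), (nat_lit 0x4f9, nat_lit 0), (nat_lit 0xd08, nat_lit 0), (nat_lit 0xb9f, nat_lit 0), (nat_lit 0x510, nat_lit 0), (nat_lit 0x721, nat_lit 0), (nat_lit 0x896, nat_lit 0), (nat_lit 0x667, nat_lit 0), (nat_lit 0xada, nat_lit 0), (nat_lit 940, nat_lit 0), (nat_lit 0x53c, nat_lit 0), (nat_lit 0xdbf, nat_lit 0), (nat_lit 0xf85, nat_lit 0), (nat_lit 614, nat_lit 0), (nat_lit 0x4ee, nat_lit 0), (nat_lit 0x920, nat_lit 0), (nat_lit 0x682, nat_lit 0), (nat_lit 453, nat_lit 0), (nat_lit 0xb0b, nat_lit 0), (nat_lit 0x47d, nat_lit 0), (nat_lit 17, nat_lit 0), (nat_lit 0x5a6, nat_lit 0), (nat_lit 0x8cd, nat_lit 0), (nat_lit 0xfdb, nat_lit 0), (nat_lit 868, nat_lit 0), (nat_lit 679, nat_lit 0), (nat_lit 0x7d6, nat_lit 0), (nat_lit 0xaf2, nat_lit 0), (nat_lit 884, nat_lit 0), (nat_lit 0xa16, nat_lit 0), (nat_lit 0x805, nat_lit 0), (nat_lit 0x797, nat_lit 0), (nat_lit 838, nat_lit 0), (nat_lit 0xba3, nat_lit 0), (nat_lit 0x8c9, nat_lit 0), (nat_lit 0x521, nat_lit 0), (nat_lit 0x3f6, nat_lit 0), (nat_lit 68, nat_lit 0), (nat_lit 0xd60, nat_lit 0), (nat_lit 0xe20, nat_lit 0), (nat_lit 0xbdc, nat_lit 0), (nat_lit 0xa85, nat_lit 0), (nat_lit 0xaf0, nat_lit 0), (nat_lit 129, nat_lit 0), (nat_lit 0xf61, nat_lit 0), (nat_lit 487, nat_lit 0), (nat_lit 225, nat_lit 0), (nat_lit 0x492, nat_lit 0), (nat_lit 0x749, nat_lit 0), (nat_lit 0x518, nat_lit 0), (nat_lit 316, nat_lit 0), (nat_lit 0xc0e, nat_lit 0), (nat_lit 396, nat_lit 0), (nat_lit 253, nat_lit 0), (nat_lit 0x5d3, nat_lit 0), (nat_lit 0xfb9, nat_lit 0), (nat_lit 0x3ef, nat_lit 0), (nat_lit 21, nat_lit 0), (nat_lit 0xcd9, nat_lit 0), (nat_lit 0xaee, nat_lit 0), (nat_lit 0xb86, nat_lit 0), (nat_lit 0x5cb, nat_lit 0), (nat_lit 0xbd5, nat_lit 0), (nat_lit 0xc5b, nat_lit 0), (nat_lit 31, nat_lit 0), (nat_lit 145, nat_lit 0), (nat_lit 0xf5c, nat_lit 0), (nat_lit 0x843, nat_lit 0), (nat_lit 0xdb5, nat_lit 0), (nat_lit 516, nat_lit 0), (nat_lit 0x6b8, nat_lit 0), (nat_lit 0x859, nat_lit 0), (nat_lit 0xe40, nat_lit 0), (nat_lit 845, nat_lit 0), (nat_lit 0x62c, nat_lit 0), (nat_lit 0xba7, nat_lit 0), (nat_lit 0xe33, nat_lit 0), (nat_lit 0x554, nat_lit 0), (nat_lit 0xcb3, nat_lit 0), (nat_lit 19, nat_lit 0), (nat_lit 722, nat_lit 0), (nat_lit 0x7a3, nat_lit 0), (nat_lit 507, nat_lit 0), (nat_lit 400, nat_lit 0), (nat_lit 0x8e2, nat_lit 0), (nat_lit 0x998, nat_lit 0), (nat_lit 528, nat_lit 0), (nat_lit 150, nat_lit 0), (nat_lit 0x484, nat_lit 0), (nat_lit 0xd5d, nat_lit 0), (nat_lit 185, nat_lit 0), (nat_lit 0xb59, nat_lit 0), (nat_lit 0xc10, nat_lit 0), (nat_lit 0x514, nat_lit 0), (nat_lit 0x723, nat_lit 0), (nat_lit 384, nat_lit 0), (nat_lit 0x86a, nat_lit 0), (nat_lit 0x6fe, nat_lit 0), (nat_lit 0x7c4, nat_lit 0), (nat_lit 220, nat_lit 0), (nat_lit 0xb79, nat_lit 0), (nat_lit 0x40d, nat_lit 0), (nat_lit 0x97c, nat_lit 0), (nat_lit 0x6ea, nat_lit 0), (nat_lit 0xb97, nat_lit 0), (nat_lit 471, nat_lit 0), (nat_lit 0xea5, nat_lit 0), (nat_lit 0x638, nat_lit 0), (nat_lit 0xd6e, nat_lit 0), (nat_lit 0x8b0, nat_lit 0), (nat_lit 0x8dd, nat_lit 0), (nat_lit 0xef7, nat_lit 0), (nat_lit 452, nat_lit 0), (nat_lit 0xedf, nat_lit 0), (nat_lit 0xafe, nat_lit 0), (nat_lit 0x991, nat_lit 0), (nat_lit 0x439, nat_lit 0), (nat_lit 130, nat_lit 0), (nat_lit 0xf47, nat_lit 0), (nat_lit 0xf65, nat_lit 0), (nat_lit 969, nat_lit 0), (nat_lit 0x564, nat_lit 0), (nat_lit 395, nat_lit 0), (nat_lit 0xebf, nat_lit 0), (nat_lit 0x8c6, nat_lit 0), (nat_lit 0xd90, nat_lit 0), (nat_lit 0xcaf, nat_lit 0), (nat_lit 0x61f, nat_lit 0), (nat_lit 863, nat_lit 0), (nat_lit 0xb14, nat_lit 0), (nat_lit 0x6a3, nat_lit 0), (nat_lit 0xa37, nat_lit 0), (nat_lit 0xe69, nat_lit 0), (nat_lit 0x740, nat_lit 0), (nat_lit 0x3f8, nat_lit 0), (nat_lit 0x6f2, nat_lit 0), (nat_lit 0x739, nat_lit 0), (nat_lit 0x43f, nat_lit 0), (nat_lit 0xbc8, nat_lit 0), (nat_lit 0x8da, nat_lit 0), (nat_lit 0x409, nat_lit 0), (nat_lit 29, nat_lit 0), (nat_lit 584, nat_lit 0), (nat_lit 0xead, nat_lit 0), (nat_lit 0xa5b, nat_lit 0), (nat_lit 0x543, nat_lit 0), (nat_lit 865, nat_lit 0), (nat_lit 424, nat_lit 0), (nat_lit 423, nat_lit 0), (nat_lit 0xf63, nat_lit 0), (nat_lit 669, nat_lit 0), (nat_lit 38, nat_lit 0), (nat_lit 0x7e4, nat_lit 0), (nat_lit 388, nat_lit 0), (nat_lit 0xb20, nat_lit 0), (nat_lit 0x688, nat_lit 0), (nat_lit 491, nat_lit 0), (nat_lit 0x51b, nat_lit 0), (nat_lit 0xb63, nat_lit 0), (nat_lit 0xf40, nat_lit 0), (nat_lit 0x729, nat_lit 0), (nat_lit 0x79b, nat_lit 0), (nat_lit 0x4f7, nat_lit 0), (nat_lit 0x94e, nat_lit 0), (nat_lit 120, nat_lit 0), (nat_lit 0x5e3, nat_lit 0), (nat_lit 0x5f4, nat_lit 0), (nat_lit 0x4cc, nat_lit 0), (nat_lit 872, nat_lit 0), (nat_lit 0x5a5, nat_lit 0), (nat_lit 0x8aa, nat_lit 0), (nat_lit 0x6bb, nat_lit 0), (nat_lit 0xb9e, nat_lit 0), (nat_lit 663, nat_lit 0), (nat_lit 0xcd5, nat_lit 0), (nat_lit 0xa70, nat_lit 0), (nat_lit 0x5a4, nat_lit 0), (nat_lit 0x578, nat_lit 0), (nat_lit 0xcfe, nat_lit 0), (nat_lit 0x55d, nat_lit 0), (nat_lit 0x5e1, nat_lit 0), (nat_lit 510, nat_lit 0), (nat_lit 0xc02, nat_lit 0), (nat_lit 0xb16, nat_lit 0), (nat_lit 0x9b4, nat_lit 0), (nat_lit 0x79f, nat_lit 0), (nat_lit 0xd2d, nat_lit 0), (nat_lit 0xaf3, nat_lit 0), (nat_lit 0x565, nat_lit 0), (nat_lit 0x658, nat_lit 0), (nat_lit 0x8a6, nat_lit 0), (nat_lit 984, nat_lit 0), (nat_lit 0xf97, nat_lit 0), (nat_lit 0xbd4, nat_lit 0), (nat_lit 0xe75, nat_lit 0), (nat_lit 0xcbd, nat_lit 0), (nat_lit 203, nat_lit 0), (nat_lit 0xf5b, nat_lit 0), (nat_lit 0xe4c, nat_lit 0), (nat_lit 0x663, nat_lit 0), (nat_lit 801, nat_lit 0), (nat_lit 0xda6, nat_lit 0), (nat_lit 0xec0, nat_lit 0), (nat_lit 0x90f, nat_lit 0), (nat_lit 936, nat_lit 0), (nat_lit 496, nat_lit 0), (nat_lit 0x422, nat_lit 0), (nat_lit 597, nat_lit 0), (nat_lit 0xa99, nat_lit 0), (nat_lit 0x468, nat_lit 0), (nat_lit 0xc88, nat_lit 0), (nat_lit 0x7a5, nat_lit 0), (nat_lit 627, nat_lit 0), (nat_lit 409, nat_lit 0), (nat_lit 0x64e, nat_lit 0), (nat_lit 0x986, nat_lit 0), (nat_lit 0xd89, nat_lit 0), (nat_lit 0xf27, nat_lit 0), (nat_lit 0xed0, nat_lit 0), (nat_lit 0xa59, nat_lit 0), (nat_lit 0xa94, nat_lit 0), (nat_lit 0x7b9, nat_lit 0), (nat_lit 725, nat_lit 0), (nat_lit 0x982, nat_lit 0), (nat_lit 0xb07, nat_lit 0), (nat_lit 765, nat_lit 0), (nat_lit 0x506, nat_lit 0), (nat_lit 0x6c4, nat_lit 0), (nat_lit 0x9cf, nat_lit 0), (nat_lit 0xb71, nat_lit 0), (nat_lit 338, nat_lit 0), (nat_lit 196, nat_lit 0), (nat_lit 0xdf5, nat_lit 0), (nat_lit 0xa06, nat_lit 0), (nat_lit 0xa09, nat_lit 0), (nat_lit 0xdf8, nat_lit 0), (nat_lit 0x883, nat_lit 0), (nat_lit 0xab8, nat_lit 0), (nat_lit 0x997, nat_lit 0), (nat_lit 0xd9a, nat_lit 0), (nat_lit 0x5c2, nat_lit 0), (nat_lit 0x558, nat_lit 0), (nat_lit 820, nat_lit 0), (nat_lit 5, nat_lit 0), (nat_lit 0x692, nat_lit 0), (nat_lit 0x71d, nat_lit 0), (nat_lit 0xf37, nat_lit 0), (nat_lit 0x44c, nat_lit 0), (nat_lit 659, nat_lit 0), (nat_lit 526, nat_lit 0), (nat_lit 0x7ae, nat_lit 0), (nat_lit 949, nat_lit 0), (nat_lit 0xd9e, nat_lit 0), (nat_lit 769, nat_lit 0), (nat_lit 0xa46, nat_lit 0), (nat_lit 0xf83, nat_lit 0), (nat_lit 0x8ac, nat_lit 0), (nat_lit 295, nat_lit 0), (nat_lit 0x9c5, nat_lit 0), (nat_lit 0xb45, nat_lit 0), (nat_lit 673, nat_lit 0), (nat_lit 0xad6, nat_lit 0), (nat_lit 0x951, nat_lit 0), (nat_lit 237, nat_lit 0), (nat_lit 0x569, nat_lit 0), (nat_lit 0x547, nat_lit 0), (nat_lit 0xaf1, nat_lit 0), (nat_lit 0xaa4, nat_lit 0), (nat_lit 0x6a9, nat_lit 0), (nat_lit 0xde1, nat_lit 0), (nat_lit 0x726, nat_lit 0), (nat_lit 0x456, nat_lit 0), (nat_lit 0xb74, nat_lit 0), (nat_lit 0x719, nat_lit 0), (nat_lit 0x6c9, nat_lit 0), (nat_lit 0x59c, nat_lit 0), (nat_lit 0xb64, nat_lit 0), (nat_lit 0xdeb, nat_lit 0), (nat_lit 0x83d, nat_lit 0), (nat_lit 0x8d8, nat_lit 0), (nat_lit 0xe9f, nat_lit 0), (nat_lit 571, nat_lit 0), (nat_lit 0x73d, nat_lit 0), (nat_lit 0xb2f, nat_lit 0), (nat_lit 0x9e2, nat_lit 0), (nat_lit 85, nat_lit 0), (nat_lit 0xbc0, nat_lit 0), (nat_lit 0xf09, nat_lit 0), (nat_lit 0xac3, nat_lit 0), (nat_lit 0x56f, nat_lit 0), (nat_lit 0x5ef, nat_lit 0), (nat_lit 0xb47, nat_lit 0), (nat_lit 0x3f9, nat_lit 0), (nat_lit 0xed8, nat_lit 0), (nat_lit 0xf2e, nat_lit 0), (nat_lit 0xba0, nat_lit 0), (nat_lit 694, nat_lit 0), (nat_lit 0x8ff, nat_lit 0), (nat_lit 0x74e, nat_lit 0), (nat_lit 0xb6c, nat_lit 0), (nat_lit 0x9fd, nat_lit 0), (nat_lit 915, nat_lit 0), (nat_lit 0x5ec, nat_lit 0), (nat_lit 0xf60, nat_lit 0), (nat_lit 0xb09, nat_lit 0), (nat_lit 662, nat_lit 0), (nat_lit 0xce9, nat_lit 0), (nat_lit 0x7da, nat_lit 0), (nat_lit 0x751, nat_lit 0), (nat_lit 759, nat_lit 0), (nat_lit 0x5d4, nat_lit 0), (nat_lit 0xcad, nat_lit 0), (nat_lit 770, nat_lit 0), (nat_lit 0x4a2, nat_lit 0), (nat_lit 0x6b9, nat_lit 0), (nat_lit 0xd38, nat_lit 0), (nat_lit 159, nat_lit 0), (nat_lit 0xef5, nat_lit 0), (nat_lit 585, nat_lit 0), (nat_lit 730, nat_lit 0), (nat_lit 0xe66, nat_lit 0), (nat_lit 0xd4f, nat_lit 0), (nat_lit 0x4c6, nat_lit 0), (nat_lit 0x7ab, nat_lit 0), (nat_lit 0xfa2, nat_lit 0), (nat_lit 0x609, nat_lit 0), (nat_lit 0x70c, nat_lit 0), (nat_lit 0xb03, nat_lit 0), (nat_lit 0xdf0, nat_lit 0), (nat_lit 892, nat_lit 0), (nat_lit 0x9c1, nat_lit 0), (nat_lit 0x60c, nat_lit 0), (nat_lit 944, nat_lit 0), (nat_lit 0x885, nat_lit 0), (nat_lit 0x459, nat_lit 0), (nat_lit 0xf06, nat_lit 0), (nat_lit 0xa4f, nat_lit 0), (nat_lit 0x9c4, nat_lit 0), (nat_lit 0xc00, nat_lit 0), (nat_lit 645, nat_lit 0), (nat_lit 0xc43, nat_lit 0), (nat_lit 0xb2c, nat_lit 0), (nat_lit 0xb26, nat_lit 0), (nat_lit 0x8cb, nat_lit 0), (nat_lit 271, nat_lit 0), (nat_lit 0x8fb, nat_lit 0), (nat_lit 0xfc4, nat_lit 0), (nat_lit 0xfc2, nat_lit 0), (nat_lit 0xf54, nat_lit 0), (nat_lit 0xc90, nat_lit 0), (nat_lit 587, nat_lit 0), (nat_lit 356, nat_lit 0), (nat_lit 0xc6e, nat_lit 0), (nat_lit 0x591, nat_lit 0), (nat_lit 0xc92, nat_lit 0), (nat_lit 0xc34, nat_lit 0), (nat_lit 0x4eb, nat_lit 0), (nat_lit 0x7fd, nat_lit 0), (nat_lit 753, nat_lit 0), (nat_lit 590, nat_lit 0), (nat_lit 303, nat_lit 0), (nat_lit 0xee7, nat_lit 0), (nat_lit 0x76f, nat_lit 0), (nat_lit 0xc29, nat_lit 0), (nat_lit 224, nat_lit 0), (nat_lit 505, nat_lit 0), (nat_lit 69, nat_lit 0), (nat_lit 0xaf6, nat_lit 0), (nat_lit 0xb90, nat_lit 0), (nat_lit 0xb1f, nat_lit 0), (nat_lit 100, nat_lit 0), (nat_lit 385, nat_lit 0), (nat_lit 0xa8d, nat_lit 0), (nat_lit 565, nat_lit 0), (nat_lit 0x4a0, nat_lit 0), (nat_lit 0xb84, nat_lit 0), (nat_lit 0xe31, nat_lit 0), (nat_lit 0xbdf, nat_lit 0), (nat_lit 403, nat_lit 0), (nat_lit 0xa12, nat_lit 0), (nat_lit 0x654, nat_lit 0), (nat_lit 0x596, nat_lit 0), (nat_lit 0x7dc, nat_lit 0), (nat_lit 0x423, nat_lit 0), (nat_lit 0xc97, nat_lit 0), (nat_lit 616, nat_lit 0), (nat_lit 139, nat_lit 0), (nat_lit 0x407, nat_lit 0), (nat_lit 0xfa7, nat_lit 0), (nat_lit 0xc1d, nat_lit 0), (nat_lit 269, nat_lit 0), (nat_lit 0x571, nat_lit 0), (nat_lit 0x7e5, nat_lit 0), (nat_lit 0xe2c, nat_lit 0), (nat_lit 0x9f4, nat_lit 0), (nat_lit 0x7fe, nat_lit 0), (nat_lit 0x8ef, nat_lit 0), (nat_lit 0xa75, nat_lit 0), (nat_lit 0xbc9, nat_lit 0), (nat_lit 0xd59, nat_lit 0), (nat_lit 43, nat_lit 0), (nat_lit 16, nat_lit 0), (nat_lit 156, nat_lit 0), (nat_lit 336, nat_lit 0), (nat_lit 0x77b, nat_lit 0), (nat_lit 582, nat_lit 0), (nat_lit 48, nat_lit 0), (nat_lit 671, nat_lit 0), (nat_lit 337, nat_lit 0), (nat_lit 660, nat_lit 0), (nat_lit 0x70f, nat_lit 0), (nat_lit 922, nat_lit 0), (nat_lit 0xbcc, nat_lit 0), (nat_lit 0x75e, nat_lit 0), (nat_lit 0x9b7, nat_lit 0), (nat_lit 214, nat_lit 0), (nat_lit 0x7a0, nat_lit 0), (nat_lit 986, nat_lit 0), (nat_lit 0xb1c, nat_lit 0), (nat_lit 0x495, nat_lit 0), (nat_lit 360, nat_lit 0), (nat_lit 276, nat_lit 0), (nat_lit 0x520, nat_lit 0), (nat_lit 495, nat_lit 0), (nat_lit 359, nat_lit 0), (nat_lit 655, nat_lit 0), (nat_lit 0xcbb, nat_lit 0), (nat_lit 0xf5a, nat_lit 0), (nat_lit 0x466, nat_lit 0), (nat_lit 0xcb1, nat_lit 0), (nat_lit 0xf1c, nat_lit 0), (nat_lit 0x4b7, nat_lit 0), (nat_lit 0xe91, nat_lit 0), (nat_lit 0xd8a, nat_lit 0), (nat_lit 0xa04, nat_lit 0), (nat_lit 0x445, nat_lit 0), (nat_lit 474, nat_lit 0), (nat_lit 0x958, nat_lit 0), (nat_lit 0x691, nat_lit 0), (nat_lit 0xcc3, nat_lit 0), (nat_lit 0x6ae, nat_lit 0), (nat_lit 0xc2e, nat_lit 0), (nat_lit 0xe1e, nat_lit 0), (nat_lit 0x686, nat_lit 0), (nat_lit 0xc5e, nat_lit 0), (nat_lit 0xc38, nat_lit 0), (nat_lit 0x5c6, nat_lit 0), (nat_lit 0xcf5, nat_lit 0), (nat_lit 0xb62, nat_lit 0), (nat_lit 0xd7b, nat_lit 0), (nat_lit 0xd65, nat_lit 0), (nat_lit 0x4a4, nat_lit 0), (nat_lit 83, nat_lit 0), (nat_lit 0xe87, nat_lit 0), (nat_lit 985, nat_lit 0), (nat_lit 310, nat_lit 0), (nat_lit 0xa60, nat_lit 0), (nat_lit 0x99a, nat_lit 0), (nat_lit 0x7d9, nat_lit 0), (nat_lit 0xc9a, nat_lit 0), (nat_lit 0xf6a, nat_lit 0), (nat_lit 0xa9f, nat_lit 0), (nat_lit 0x480, nat_lit 0), (nat_lit 0x601, nat_lit 0), (nat_lit 0x73e, nat_lit 0), (nat_lit 0x636, nat_lit 0), (nat_lit 967, nat_lit 0), (nat_lit 0x4c0, nat_lit 0), (nat_lit 0xe37, nat_lit 0), (nat_lit 0x50a, nat_lit 0), (nat_lit 447, nat_lit 0), (nat_lit 0x697, nat_lit 0), (nat_lit 0xb6f, nat_lit 0), (nat_lit 851, nat_lit 0), (nat_lit 0xf81, nat_lit 0), (nat_lit 0xb32, nat_lit 0), (nat_lit 0xcc1, nat_lit 0), (nat_lit 12, nat_lit 0), (nat_lit 0xf89, nat_lit 0), (nat_lit 0x4e4, nat_lit 0), (nat_lit 0x844, nat_lit 0), (nat_lit 183, nat_lit 0), (nat_lit 553, nat_lit 0), (nat_lit 0x65f, nat_lit 0), (nat_lit 0x8f5, nat_lit 0), (nat_lit 0xc12, nat_lit 0), (nat_lit 0x801, nat_lit 0), (nat_lit 0x59e, nat_lit 0), (nat_lit 0xbe8, nat_lit 0), (nat_lit 0x670, nat_lit 0), (nat_lit 351, nat_lit 0), (nat_lit 0x768, nat_lit 0), (nat_lit 0xf96, nat_lit 0), (nat_lit 57, nat_lit 0), (nat_lit 0xf1b, nat_lit 0), (nat_lit 958, nat_lit 0), (nat_lit 0x4e0, nat_lit 0), (nat_lit 0xbd0, nat_lit 0), (nat_lit 0x99c, nat_lit 0), (nat_lit 0xb6b, nat_lit 0), (nat_lit 0xadf, nat_lit 0), (nat_lit 0xef6, nat_lit 0), (nat_lit 0x93c, nat_lit 0), (nat_lit 506, nat_lit 0), (nat_lit 0x61c, nat_lit 0), (nat_lit 576, nat_lit 0), (nat_lit 0x6e5, nat_lit 0), (nat_lit 0x86d, nat_lit 0), (nat_lit 0xc27, nat_lit 0), (nat_lit 0xeac, nat_lit 0), (nat_lit 0xcda, nat_lit 0), (nat_lit 0x531, nat_lit 0), (nat_lit 0x49e, nat_lit 0), (nat_lit 0xd41, nat_lit 0), (nat_lit 0x741, nat_lit 0), (nat_lit 0x6bf, nat_lit 0), (nat_lit 0xe2a, nat_lit 0), (nat_lit 0x4b6, nat_lit 0), (nat_lit 0xe62, nat_lit 0), (nat_lit 0xd1d, nat_lit 0), (nat_lit 822, nat_lit 0), (nat_lit 0xb66, nat_lit 0), (nat_lit 0xb68, nat_lit 0), (nat_lit 0xefd, nat_lit 0), (nat_lit 0x710, nat_lit 0), (nat_lit 0xae6, nat_lit 0), (nat_lit 0xeb5, nat_lit 0), (nat_lit 607, nat_lit 0), (nat_lit 0xe32, nat_lit 0), (nat_lit 162, nat_lit 0), (nat_lit 0xd34, nat_lit 0), (nat_lit 793, nat_lit 0), (nat_lit 0xa1c, nat_lit 0), (nat_lit 297, nat_lit 0), (nat_lit 0x8cf, nat_lit 0), (nat_lit 0xc7d, nat_lit 0), (nat_lit 0x97d, nat_lit 0), (nat_lit 0x988, nat_lit 0), (nat_lit 0xfa1, nat_lit 0), (nat_lit 240, nat_lit 0), (nat_lit 260, nat_lit 0), (nat_lit 0xeba, nat_lit 0), (nat_lit 0xdcb, nat_lit 0), (nat_lit 0xd44, nat_lit 0), (nat_lit 0xa31, nat_lit 0), (nat_lit 0xfd4, nat_lit 0), (nat_lit 0xcc6, nat_lit 0), (nat_lit 0x41d, nat_lit 0), (nat_lit 0xc4c, nat_lit 0), (nat_lit 0xc22, nat_lit 0), (nat_lit 0x7bc, nat_lit 0), (nat_lit 0x877, nat_lit 0), (nat_lit 0x973, nat_lit 0), (nat_lit 0x91c, nat_lit 0), (nat_lit 0x8b1, nat_lit 0), (nat_lit 0xb0a, nat_lit 0), (nat_lit 0x66a, nat_lit 0), (nat_lit 0x552, nat_lit 0), (nat_lit 0xca9, nat_lit 0), (nat_lit 0x637, nat_lit 0), (nat_lit 61, nat_lit 0), (nat_lit 861, nat_lit 0), (nat_lit 0x5fa, nat_lit 0), (nat_lit 190, nat_lit 0), (nat_lit 0xcf1, nat_lit 0), (nat_lit 0xeec, nat_lit 0), (nat_lit 0x4c9, nat_lit 0), (nat_lit 0xf11, nat_lit 0), (nat_lit 0xb05, nat_lit 0), (nat_lit 0x4c7, nat_lit 0), (nat_lit 799, nat_lit 0), (nat_lit 0xbe1, nat_lit 0), (nat_lit 0xd9d, nat_lit 0), (nat_lit 0xd7e, nat_lit 0), (nat_lit 0x4be, nat_lit 0), (nat_lit 0xc31, nat_lit 0), (nat_lit 0x5d2, nat_lit 0), (nat_lit 0xb99, nat_lit 0), (nat_lit 764, nat_lit 0), (nat_lit 148, nat_lit 0), (nat_lit 649, nat_lit 0), (nat_lit 0x4c2, nat_lit 0), (nat_lit 0xb3b, nat_lit 0), (nat_lit 840, nat_lit 0), (nat_lit 0x662, nat_lit 0), (nat_lit 0x704, nat_lit 0), (nat_lit 0x5f0, nat_lit 0), (nat_lit 0x984, nat_lit 0), (nat_lit 0xd0c, nat_lit 0), (nat_lit 160, nat_lit 0), (nat_lit 0x6f6, nat_lit 0), (nat_lit 0x6f4, nat_lit 0), (nat_lit 575, nat_lit 0), (nat_lit 0x5bb, nat_lit 0), (nat_lit 0xc28, nat_lit 0), (nat_lit 0xe9b, nat_lit 0), (nat_lit 0xa6f, nat_lit 0), (nat_lit 0xa82, nat_lit 0), (nat_lit 0xa52, nat_lit 0), (nat_lit 0xe0a, nat_lit 0), (nat_lit 0x910, nat_lit 0), (nat_lit 772, nat_lit 0), (nat_lit 0x925, nat_lit 0), (nat_lit 0x961, nat_lit 0), (nat_lit 0x7a9, nat_lit 0), (nat_lit 0x44d, nat_lit 0), (nat_lit 617, nat_lit 0), (nat_lit 0x413, nat_lit 0), (nat_lit 0x9c6, nat_lit 0), (nat_lit 757, nat_lit 0), (nat_lit 678, nat_lit 0), (nat_lit 0xc82, nat_lit 0), (nat_lit 0x7dd, nat_lit 0), (nat_lit 287, nat_lit 0), (nat_lit 285, nat_lit 0), (nat_lit 0x970, nat_lit 0), (nat_lit 0x922, nat_lit 0), (nat_lit 740, nat_lit 0), (nat_lit 0xf77, nat_lit 0), (nat_lit 0xac7, nat_lit 0), (nat_lit 0xf03, nat_lit 0), (nat_lit 0xe1f, nat_lit 0), (nat_lit 0x947, nat_lit 0), (nat_lit 108, nat_lit 0), (nat_lit 503, nat_lit 0), (nat_lit 0x98c, nat_lit 0), (nat_lit 449, nat_lit 0), (nat_lit 0xfcf, nat_lit 0), (nat_lit 0xb8b, nat_lit 0), (nat_lit 0x4b1, nat_lit 0), (nat_lit 0x421, nat_lit 0), (nat_lit 0xb5f, nat_lit 0), (nat_lit 7, nat_lit 0), (nat_lit 166, nat_lit 0), (nat_lit 509, nat_lit 0), (nat_lit 763, nat_lit 0), (nat_lit 0x5d0, nat_lit 0), (nat_lit 0x3f3, nat_lit 0), (nat_lit 0x418, nat_lit 0), (nat_lit 0x9a6, nat_lit 0), (nat_lit 0x499, nat_lit 0), (nat_lit 0xca5, nat_lit 0), (nat_lit 0xc11, nat_lit 0), (nat_lit 561, nat_lit 0), (nat_lit 227, nat_lit 0), (nat_lit 0xdc0, nat_lit 0), (nat_lit 0xcd1, nat_lit 0), (nat_lit 0x61b, nat_lit 0), (nat_lit 964, nat_lit 0), (nat_lit 349, nat_lit 0), (nat_lit 0x5c3, nat_lit 0), (nat_lit 0xad5, nat_lit 0), (nat_lit 583, nat_lit 0), (nat_lit 0x77d, nat_lit 0), (nat_lit 0xec5, nat_lit 0), (nat_lit 0xf3a, nat_lit 0), (nat_lit 791, nat_lit 0), (nat_lit 0xa02, nat_lit 0), (nat_lit 0xb88, nat_lit 0), (nat_lit 0xe74, nat_lit 0), (nat_lit 0x4a6, nat_lit 0), (nat_lit 368, nat_lit 0), (nat_lit 0x789, nat_lit 0), (nat_lit 0xd21, nat_lit 0), (nat_lit 850, nat_lit 0), (nat_lit 0x9a3, nat_lit 0), (nat_lit 0xca7, nat_lit 0), (nat_lit 0xef0, nat_lit 0), (nat_lit 0x5f2, nat_lit 0), (nat_lit 0xeb3, nat_lit 0), (nat_lit 0xa0d, nat_lit 0), (nat_lit 0xf8e, nat_lit 0), (nat_lit 74, nat_lit 0), (nat_lit 0xa2c, nat_lit 0), (nat_lit 0x72f, nat_lit 0), (nat_lit 550, nat_lit 0), (nat_lit 0xe00, nat_lit 0), (nat_lit 0xe6b, nat_lit 0), (nat_lit 0x8bd, nat_lit 0), (nat_lit 0xe3c, nat_lit 0), (nat_lit 0x6e0, nat_lit 0), (nat_lit 0x56a, nat_lit 0), (nat_lit 0x9d4, nat_lit 0), (nat_lit 0xedb, nat_lit 0), (nat_lit 0xde8, nat_lit 0), (nat_lit 990, nat_lit 0), (nat_lit 0x852, nat_lit 0), (nat_lit 0x941, nat_lit 0), (nat_lit 0x9a4, nat_lit 0), (nat_lit 782, nat_lit 0), (nat_lit 857, nat_lit 0), (nat_lit 0x8a3, nat_lit 0), (nat_lit 334, nat_lit 0), (nat_lit 0x672, nat_lit 0), (nat_lit 771, nat_lit 0), (nat_lit 0xc57, nat_lit 0), (nat_lit 0xdb6, nat_lit 0), (nat_lit 0x410, nat_lit 0), (nat_lit 0xd98, nat_lit 0), (nat_lit 0x41c, nat_lit 0), (nat_lit 0x50e, nat_lit 0), (nat_lit 0x9d0, nat_lit 0), (nat_lit 0xcf8, nat_lit 0), (nat_lit 864, nat_lit 0), (nat_lit 0x874, nat_lit 0), (nat_lit 0xc76, nat_lit 0), (nat_lit 608, nat_lit 0), (nat_lit 0xbf2, nat_lit 0), (nat_lit 0x802, nat_lit 0), (nat_lit 0x743, nat_lit 0), (nat_lit 882, nat_lit 0), (nat_lit 0xf22, nat_lit 0), (nat_lit 0xa66, nat_lit 0), (nat_lit 0x6b0, nat_lit 0), (nat_lit 0xd87, nat_lit 0), (nat_lit 0x967, nat_lit 0), (nat_lit 242, nat_lit 0), (nat_lit 0x470, nat_lit 0), (nat_lit 0xa2e, nat_lit 0), (nat_lit 0x68f, nat_lit 0), (nat_lit 0xd3c, nat_lit 0), (nat_lit 0xc86, nat_lit 0), (nat_lit 331, nat_lit 0), (nat_lit 244, nat_lit 0), (nat_lit 0x7d4, nat_lit 0), (nat_lit 0xc6b, nat_lit 0), (nat_lit 0xd92, nat_lit 0), (nat_lit 594, nat_lit 0), (nat_lit 735, nat_lit 0), (nat_lit 0xd0d, nat_lit 0), (nat_lit 0xdc5, nat_lit 0), (nat_lit 0xb8c, nat_lit 0), (nat_lit 0xb0f, nat_lit 0), (nat_lit 0xc87, nat_lit 0), (nat_lit 221, nat_lit 0), (nat_lit 0x6e4, nat_lit 0), (nat_lit 0x57b, nat_lit 0), (nat_lit 141, nat_lit 0), (nat_lit 333, nat_lit 0), (nat_lit 0x548, nat_lit 0), (nat_lit 0xbca, nat_lit 0), (nat_lit 40, nat_lit 0), (nat_lit 0xd09, nat_lit 0), (nat_lit 0x953, nat_lit 0), (nat_lit 0x9d5, nat_lit 0), (nat_lit 0xf20, nat_lit 0), (nat_lit 0x4dc, nat_lit 0), (nat_lit 0xb3d, nat_lit 0), (nat_lit 0xd57, nat_lit 0), (nat_lit 52, nat_lit 0), (nat_lit 0xc91, nat_lit 0), (nat_lit 933, nat_lit 0), (nat_lit 0x9bd, nat_lit 0), (nat_lit 713, nat_lit 0), (nat_lit 110, nat_lit 0), (nat_lit 0x7ee, nat_lit 0), (nat_lit 0x5e6, nat_lit 0), (nat_lit 0x63c, nat_lit 0), (nat_lit 0x6ba, nat_lit 0), (nat_lit 0xc03, nat_lit 0), (nat_lit 0xc9d, nat_lit 0), (nat_lit 363, nat_lit 0), (nat_lit 249, nat_lit 0), (nat_lit 638, nat_lit 0), (nat_lit 980, nat_lit 0), (nat_lit 0xb7a, nat_lit 0), (nat_lit 0xc46, nat_lit 0), (nat_lit 891, nat_lit 0), (nat_lit 0x878, nat_lit 0), (nat_lit 0xb6a, nat_lit 0), (nat_lit 0xf6d, nat_lit 0), (nat_lit 0x7c1, nat_lit 0), (nat_lit 0x798, nat_lit 0), (nat_lit 0xbac, nat_lit 0), (nat_lit 0x6e8, nat_lit 0), (nat_lit 0x955, nat_lit 0), (nat_lit 0xbbb, nat_lit 0), (nat_lit 126, nat_lit 0), (nat_lit 0xdad, nat_lit 0), (nat_lit 0xd39, nat_lit 0), (nat_lit 0x659, nat_lit 0), (nat_lit 0x590, nat_lit 0), (nat_lit 0xf26, nat_lit 0), (nat_lit 0x4e5, nat_lit 0), (nat_lit 998, nat_lit 0), (nat_lit 0x906, nat_lit 0), (nat_lit 0x9ff, nat_lit 0), (nat_lit 472, nat_lit 0), (nat_lit 0x96e, nat_lit 0), (nat_lit 0x592, nat_lit 0), (nat_lit 693, nat_lit 0), (nat_lit 766, nat_lit 0), (nat_lit 569, nat_lit 0), (nat_lit 0xe5d, nat_lit 0), (nat_lit 0xf3d, nat_lit 0), (nat_lit 768, nat_lit 0), (nat_lit 0x7ac, nat_lit 0), (nat_lit 887, nat_lit 0), (nat_lit 0xd24, nat_lit 0), (nat_lit 0xf23, nat_lit 0), (nat_lit 0x681, nat_lit 0), (nat_lit 97, nat_lit 0), (nat_lit 0x618, nat_lit 0), (nat_lit 0xf4a, nat_lit 0), (nat_lit 636, nat_lit 0), (nat_lit 0x861, nat_lit 0), (nat_lit 0xdc9, nat_lit 0), (nat_lit 201, nat_lit 0), (nat_lit 691, nat_lit 0), (nat_lit 549, nat_lit 0), (nat_lit 0x51f, nat_lit 0), (nat_lit 0xa42, nat_lit 0), (nat_lit 0xbf8, nat_lit 0), (nat_lit 0x8ea, nat_lit 0), (nat_lit 0x884, nat_lit 0), (nat_lit 131, nat_lit 0), (nat_lit 0xa23, nat_lit 0), (nat_lit 0xb04, nat_lit 0), (nat_lit 0xae8, nat_lit 0), (nat_lit 0x62b, nat_lit 0), (nat_lit 0xc9f, nat_lit 0), (nat_lit 0x825, nat_lit 0), (nat_lit 709, nat_lit 0), (nat_lit 0x9e7, nat_lit 0), (nat_lit 0x9e8, nat_lit 0), (nat_lit 0x544, nat_lit 0), (nat_lit 0x720, nat_lit 0), (nat_lit 0xaff, nat_lit 0), (nat_lit 0x6c2, nat_lit 0), (nat_lit 0x679, nat_lit 0), (nat_lit 0x4f3, nat_lit 0), (nat_lit 0x5ac, nat_lit 0), (nat_lit 0xd32, nat_lit 0), (nat_lit 0x51e, nat_lit 0), (nat_lit 0xa8a, nat_lit 0), (nat_lit 0xe95, nat_lit 0), (nat_lit 0x7d1, nat_lit 0), (nat_lit 0xbdb, nat_lit 0), (nat_lit 824, nat_lit 0), (nat_lit 0x935, nat_lit 0), (nat_lit 0x95c, nat_lit 0), (nat_lit 0xba2, nat_lit 0), (nat_lit 0x77c, nat_lit 0), (nat_lit 0xe07, nat_lit 0), (nat_lit 332, nat_lit 0), (nat_lit 239, nat_lit 0), (nat_lit 711, nat_lit 0), (nat_lit 0x483, nat_lit 0), (nat_lit 959, nat_lit 0), (nat_lit 461, nat_lit 0), (nat_lit 0x6ff, nat_lit 0), (nat_lit 956, nat_lit 0), (nat_lit 843, nat_lit 0), (nat_lit 0xb2a, nat_lit 0), (nat_lit 0x83c, nat_lit 0), (nat_lit 878, nat_lit 0), (nat_lit 0x977, nat_lit 0), (nat_lit 0x8f3, nat_lit 0), (nat_lit 0x900, nat_lit 0), (nat_lit 896, nat_lit 0), (nat_lit 0x5da, nat_lit 0), (nat_lit 0xa6c, nat_lit 0), (nat_lit 0x8c0, nat_lit 0), (nat_lit 0xae0, nat_lit 0), (nat_lit 0xf59, nat_lit 0), (nat_lit 0x509, nat_lit 0), (nat_lit 0x539, nat_lit 0), (nat_lit 0x4bd, nat_lit 0), (nat_lit 0xf53, nat_lit 0), (nat_lit 492, nat_lit 0), (nat_lit 0xc40, nat_lit 0), (nat_lit 0x727, nat_lit 0), (nat_lit 0x837, nat_lit 0), (nat_lit 348, nat_lit 0), (nat_lit 0x765, nat_lit 0), (nat_lit 0xbb1, nat_lit 0), (nat_lit 0x3f7, nat_lit 0), (nat_lit 706, nat_lit 0), (nat_lit 0xd7c, nat_lit 0), (nat_lit 0xf98, nat_lit 0), (nat_lit 0x9c7, nat_lit 0), (nat_lit 493, nat_lit 0), (nat_lit 0xc4f, nat_lit 0), (nat_lit 0xec4, nat_lit 0), (nat_lit 0xea1, nat_lit 0), (nat_lit 696, nat_lit 0), (nat_lit 0xdca, nat_lit 0), (nat_lit 0xba5, nat_lit 0), (nat_lit 0xee9, nat_lit 0), (nat_lit 308, nat_lit 0), (nat_lit 0x5bf, nat_lit 0), (nat_lit 0xd16, nat_lit 0), (nat_lit 0xfb2, nat_lit 0), (nat_lit 0xa96, nat_lit 0), (nat_lit 0x76c, nat_lit 0), (nat_lit 0xe9d, nat_lit 0), (nat_lit 0x522, nat_lit 0), (nat_lit 0x460, nat_lit 0), (nat_lit 0xe72, nat_lit 0), (nat_lit 0xe04, nat_lit 0), (nat_lit 0x44b, nat_lit 0), (nat_lit 0xfa9, nat_lit 0), (nat_lit 149, nat_lit 0), (nat_lit 650, nat_lit 0), (nat_lit 0x807, nat_lit 0), (nat_lit 168, nat_lit 0), (nat_lit 235, nat_lit 0), (nat_lit 0x3f5, nat_lit 0), (nat_lit 0xcb7, nat_lit 0), (nat_lit 0xfbb, nat_lit 0), (nat_lit 210, nat_lit 0), (nat_lit 0x69f, nat_lit 0), (nat_lit 592, nat_lit 0), (nat_lit 0xd1c, nat_lit 0), (nat_lit 0xce3, nat_lit 0), (nat_lit 0xc70, nat_lit 0), (nat_lit 0xea7, nat_lit 0), (nat_lit 0xa7f, nat_lit 0), (nat_lit 504, nat_lit 0), (nat_lit 4, nat_lit 0), (nat_lit 0xd91, nat_lit 0), (nat_lit 0x40b, nat_lit 0), (nat_lit 0x54d, nat_lit 0), (nat_lit 96, nat_lit 0), (nat_lit 0xdb2, nat_lit 0), (nat_lit 0x734, nat_lit 0), (nat_lit 0x73b, nat_lit 0), (nat_lit 0x62e, nat_lit 0), (nat_lit 0xc94, nat_lit 0), (nat_lit 0x7ad, nat_lit 0), (nat_lit 0xf24, nat_lit 0), (nat_lit 0xf44, nat_lit 0), (nat_lit 0xf7d, nat_lit 0), (nat_lit 0xa11, nat_lit 0), (nat_lit 0x949, nat_lit 0), (nat_lit 0xcef, nat_lit 0), (nat_lit 367, nat_lit 0), (nat_lit 0xd83, nat_lit 0), (nat_lit 0xcbe, nat_lit 0), (nat_lit 0x4ea, nat_lit 0), (nat_lit 0x7bb, nat_lit 0), (nat_lit 0xe64, nat_lit 0), (nat_lit 300, nat_lit 0), (nat_lit 0xc95, nat_lit 0), (nat_lit 35, nat_lit 0), (nat_lit 578, nat_lit 0), (nat_lit 720, nat_lit 0), (nat_lit 0xb49, nat_lit 0), (nat_lit 0xe7e, nat_lit 0), (nat_lit 0xdd1, nat_lit 0), (nat_lit 0x899, nat_lit 0), (nat_lit 0xbfc, nat_lit 0), (nat_lit 98, nat_lit 0), (nat_lit 0xc13, nat_lit 0), (nat_lit 0x74f, nat_lit 0), (nat_lit 811, nat_lit 0), (nat_lit 0xe30, nat_lit 0), (nat_lit 0x917, nat_lit 0), (nat_lit 0x54c, nat_lit 0), (nat_lit 440, nat_lit 0), (nat_lit 665, nat_lit 0), (nat_lit 0x50c, nat_lit 0), (nat_lit 0xf9f, nat_lit 0), (nat_lit 0xf5d, nat_lit 0), (nat_lit 435, nat_lit 0), (nat_lit 687, nat_lit 0), (nat_lit 0x454, nat_lit 0), (nat_lit 0x54a, nat_lit 0), (nat_lit 411, nat_lit 0), (nat_lit 0x6a1, nat_lit 0), (nat_lit 0x82c, nat_lit 0), (nat_lit 222, nat_lit 0), (nat_lit 272, nat_lit 0), (nat_lit 0x450, nat_lit 0), (nat_lit 937, nat_lit 0), (nat_lit 0xa49, nat_lit 0), (nat_lit 181, nat_lit 0), (nat_lit 997, nat_lit 0), (nat_lit 0xd7f, nat_lit 0), (nat_lit 0x8bf, nat_lit 0), (nat_lit 0x50d, nat_lit 0), (nat_lit 0xc65, nat_lit 0), (nat_lit 0x8fe, nat_lit 0), (nat_lit 0xe3f, nat_lit 0), (nat_lit 0x830, nat_lit 0), (nat_lit 0x836, nat_lit 0), (nat_lit 0xc21, nat_lit 0), (nat_lit 0xea0, nat_lit 0), (nat_lit 0x490, nat_lit 0), (nat_lit 672, nat_lit 0)])] LV = true :=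
  M.wkL (pr := [[nat_lit 1, nat_lit 0, nat_lit 0, nat_lit 1, nat_lit 1, nat_lit 1],
   [nat_lit 1, nat_lit 1, nat_lit 1, nat_lit 2, nat_lit 1, nat_lit 2, nat_lit 0, nat_lit 0, nat_lit 0, nat_lit 0, nat_lit 1],
   [nat_lit 3, nat_lit 2, nat_lit 1, nat_lit 3, nat_lit 2, nat_lit 3, nat_lit 2, nat_lit 3, nat_lit 3],
   [nat_lit 0, nat_lit 1, nat_lit 1],
   [nat_lit 0, nat_lit 2, nat_lit 2, nat_lit 0, nat_lit 0, nat_lit 2, nat_lit 1, nat_lit 0, nat_lit 2, nat_lit 1],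
   [nat_lit 3, nat_lit 2, nat_lit 1, nat_lit 1, nat_lit 2, nat_lit 2, nat_lit 1, nat_lit 1, nat_lit 2, nat_lit 2],
   [nat_lit 0, nat_lit 1, nat_lit 0],
   [nat_lit 1, nat_lit 2, nat_lit 0, nat_lit 2, nat_lit 2, nat_lit 1, nat_lit 2, nat_lit 0, nat_lit 2, nat_lit 2],
   [nat_lit 1, nat_lit 2, nat_lit 1, nat_lit 1, nat_lit 1, nat_lit 1, nat_lit 3, nat_lit 1, nat_lit 3, nat_lit 2, nat_lit 1],
   [nat_lit 2, nat_lit 2, nat_lit 4, nat_lit 4, nat_lit 3, nat_lit 3, nat_lit 2],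
   [nat_lit 2, nat_lit 2, nat_lit 2, nat_lit 1],
   [nat_lit 12]])
    (lv := [(nat_lit 0x534, nat_lit 0x18c421844108c43188421046108c62088231042318442108411844218c4310c4310863104211086110c43088430842110c220884208c41188221842218c2218c61108210886118c631086210461108221086108c211082318c6210c411844110c2210441188421084310c2118c61188611844308c6108c6210c42184231084310423108220882318463104631044110423104631044308c621884110c61188611084310421108630844318422184430842110c211842118863108420844108c410882308c211842310461088211082318c430882118c430886210c6210c631884308c41104231884210c221044308c63104210842118c2118c2310c61108421086210c63088421044318463188231882110c4308c6118461188611042208c430884308c62104211082210c4318c4310c2110c411886318c2110461184611884310c22104410844108c4110c221044208441108621884310c6310c6318863084420842308c4308c4108c2310862188231044118c42184221882210422104221886118c6310c221884218c411086218842184431842210c62088221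046208441184221042118c6308c6210c41108421046110c630886210c41108630846318c4308c610886310c41184630886308c6308c22184221884318842084231844318c2108c2210c420884118c6108862104631042218c410842110823184630844308c611084110c4110c62108220846208821184221084208c6318c4218c6210c41104431084318c211886310c2308863184620882308c4308c630886118c631082318c231086210863108430882108c221086118c6218c6318c221046118c4318c2210c610884308c221882218843184410846118423184410844118c61088430882318c230844310441104211846208c4218423108420842208c6118c421082110422104431842308c210846218823104221886318441108421084210821188211846310c6308c221886318c6118c4110c2110c2110c21084231844208c421842118c621842208c4218c231082308441104611044218c6318c611044118c6208c411886318821188420842118c611046210c2310c2118c410882108c6308842184220886310461184220882318c420884308c6108c2110443184430884218841104220884208c63088631886218c611042108443184430882218441084431046208c6118c610846310441104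2318862184621882208c21088631886108443104631082210442108411846110843184211842210c2210c42088610884208c611044118441104421046108423084430846118c42104631882210842188420844308c6318842108220846308461088611082210c2210861184621846110c611882108c610882118c631844218c230846310421088431086118c4110c23108631882310c210882310c42084411884218c220884110843088211884318c21084221044308c2318822188611082218462084421842308821104410844110c6310c211882208861084410886108463104431846210842184221082210c43108611886108c4110c21084221844108c4310462108230884218c621886318822188631084210c21084611844210c231882110443188611884108c631084310c23184631844210c2210c4110842184421044108c6118c62104620884108c21108421042208c2110422188421082110c23084431844310421184211084110c62108231842218841084221842308c21184421844310c221046308463104431044108c230844310c4310c4118c42108410884110c620886108462184621886310822104431886308c41104631842318463084610886208c2118842088231882308c42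10c63108620886208863108411086318c2110c4208c6210c43108230842318c21084410884308c431044110442104430884318841084421842210863084630882118442088431084310463184411846310822084610884318842188630884308c63104611886208c23184220884218c411044308821108430846118c2310c2118c22108421842108442084210884108823088620846208c4110421188421044118c221082110821084430886110c4308c6208c2108c4308c41108231882210c6108c6208842108610842310c430844118c630846218841184621886108c63108631884218c211084318863084211842308c62184621884310c2110c4118c4308c6218462104211084118c610846210463088231846210842188211882108421088420886218c4310842184431086308c231886308c6108c21184621042308c410844210c611884218c6108c2208c6118423084420884110c2308423184411884108c211044118c411086310c6318c3f08422184431086310c4310c210886218c62084230882210c6110c2218462084611046318c620886318c41104611082218c431882108c4110c421844110c231042310c621842218c220844218421104231086108c4118c211884318c420844218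46218863104431084210c211884308c42108411884110421084231842318c4110c431044108c4318c6208c2218c6308c4318c22188621044218843084620882310423088421042210462108610846110c411042118443184621842110c2108c4210462108231842318c2208c410844208c621082308c210882318441084411086110c421882108442188211882210c61084610844318c2110c621886108c4218441104220884308c431886210c2318c4110c2208c4110c6308841104231044210c42104421084308862108221884118c21104211884310462184631042218c221882110c631884308821088411044308863088620842308c411844308c221084318463104621042208c2308c4118c231844210c611886208861184630842108c6218c42188411086308c6208c4218461088611846118c4108c6210c41184411084118c43084221886108c43084621842118c61084211044310c210886108c6108441088631886208843188230842210c2318841184421084210462184231082308462104421882118c41088431042318861188610842218c231042210c6210c2210421184631882218463188231886210421084230846108843084611086210842108431046108841108620846108c4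2108630884310c211846218861084231842118461084230844110c4310442188621884218c6108c2210463084221846208c21184210842110c2218441104611844308c4218841184210844110c6310c421044210c2318c41108610844218c6318c631882218c23084230846208c611042308862088210884108841108611042318c62084621886218822108620882118842184421086210c6318441188221082218c22108430844318c621044310c2218c6318c230882118863184431882308861104221884110c21088430882218c43188221842108842188411046308c210844218c2110c2110c4118c2210421104231042318c621084218861088431086218c231046110c631084210c630842110821, [nat_lit 12, nat_lit 13, nat_lit 11]),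
   (nat_lit 0x4a7, nat_lit 0x8c23008011800210020188001042018c60004020806110c011880200440100010046018440008011840000c031840100c601846018803000030086118c030804010000184611002110400108200004300c630806200c621002010820000231880200461104001800318060188600040010c4110c0000020180000800000060000401800300820100001002110c2110002080630080018002000431080300400104200840308062004001804000863008000000200043000210086300c000080100023004420040118800108001884210c6000c4008801180601842000c000006000060180000000200c60188231006008c010840110c0310061184001846118c030000218c03080621004000020008400080018460180020004200840000610880208c001044308c0010000004230000200800188600002308062188000800218061100421806318c021044000040104221040018c000004000042180421080100c221080000c0000020108431000010c4010c0200420008001006018c6100021100600086100060080400800008023104631800118001000410880200c0200020188020042300802188611846000c6008c021004008803004000000300420080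400040010c010000200800000031000008820180620000200040000600800010403180000004000c4200001000020000108c0210c60008001086008063000021802218c0210c2018c401000008860180221886000c210004108463000400002318000088230006100c0208861008020000010c620842000c40004000040200000100400006000c400040010c231840000802188221004010c4100000188400880018022084610000108c60000601084000062080020886010c03000620804000040108231802000061004231806300800180000040010002084000080300002104631802010c6010c4000061180400006010401108011880010021084411880308c4310001008031800318c2000c4200c011046000c010086000041180031000200c2008c41008400042000c0000460084031006100420080021800100000008610880000002000600804200803188010080100402000410040308000080221882118802084430804008040004020844200c020084000c030000000c6318400000020000100c030844108060008601000000c4010c201800318c6000040000611000010000008601842008c6000020088201884208002188000806000022100620800108c42008600000000c0300020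18460000020006010442080210046108003088021880318c000080310800108000006200403088400806018042104210002008c2100800008201082210c4118800088410000000c20184401046100421000000004000c031802200402108000004300063080600000208062000020880218c0000c001800210c0200003084200886008021000001800008002084600000110c0210c0018062008400800010801000200000118c400880000c230080200002000021800008802180400040018840084211040300c4000040000631004000802000000080310c230004008040008210000110061180221802000021188000004100863100400004000460100200040000c0200021100010046100c22088600804318000080600002000801108031806318c4100063080030002300c210042010021084431804210060000010004000c011040108c0100841104031880000c01080410000000c00004401040100800000021004008c401046018c6300c400800200c220840200c6018c600080308c0208020000200886300840000630082000043084000040118040184221006300c4210c000006318c021004118042100401846018c230000108043180231800110443008220806300461084001004200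c0100820008001806008c0000c030000008063008000802010042104000800200400188000886118c0200c01008001046000c02000010880000c4210462184021006300001004601086318041000010000200460080000006010000184620806218022080200002000061184001000018000080031802000c020000200c03000411080000c030080100c001886200043180610082008062088600040200000000030886218c0010002088601080000060184601006318c0010021008020084300820080410004208020080011040008820100020000000060108211006018440000620804208020000221080210040000411080318020000410840000c0000800000201082308023000021080018c62004600844108c020082100043000601800218401080021086100422100401800308c0218c63188420882000c6308c00108211004200441104600086118c2308463000031804008842108010800108c43000031004010c00088030804000801080421802310460084000846100820088201000200c600844300c000000210c021040108021080220080108c601800010840f8c6200c2200420108600000010c0000c0218062180221804000002004021880318403004011800100062104630046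010c220002310463184420080000c2010c0208c4100c000082010c020006000000108630082300c02100020004210c6210041100430882300c01000000040000c4318000000600842000c40000030004018c001800308400184620840000c6218421084220800008c63084001000118c0100c0200c0108c200044308c0300003188431884300000008031802010c2200001188010000100c6210c02004210806218c0010000180030000010c610000000061188001884300000108410046100c6210c0000401004600002300c6010c610880300000104400040010042108020000100061108400006200c411884018c630006200c020880318401000230002100c2208023000401080100002008630002010020004000000000802000010846010043180220042008801000020000100003100411880100462008210086010003000020840000c000006310040088610046000c031804300000008020880300840000200004300c4308042008000840010c030006000c0018c6210c6218000104400002008802000201000218c0018c62180401040008801008431004308c40008200002010002000210004200802000630000110c0200843008620086310802100200884008c410000300000108630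80221002218c01188030000018c6300c400800118c03008601042000800088230000000c031804210040188230086308802088010840300440188430804000021108000006010000000621804010c421004318020000030006300c00008201886200420004601804300c6010003000410800010000180000806208c601806000c6210801180230840310060088010846010c000084300c210086200800000001000200c4208c2010c010000018000008620006300c03188411006000402080620000200c40000621040110c01180610802018843000000800200c40000401000008443080220000300003, [nat_lit 10, nat_lit 9, nat_lit 8]),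
   (nat_lit 0xa53, nat_lit 0x18000000000000100000004000002018c000000000003000000000000040000000040010000004000040000003000010000000000180030000300040008030000000000000010002000000000000000000000000600000200020004000000018000000000800008000000000000000000084000000000000000001000000000000000000000c00000000000000000000020000000000000000000000000000001800010000000020000000040000200040000000000400004000c00004000000100000000000000008800000000000100c000006000400180000000000000000000000000000000000000000001100000040000000000000800100c00180000000000000004030004018000000000042000c000000000000000000000000000000001000000800000000000000000000000000008000000000000300000000000800010040000000000000400000000000200000080000000000040000200040000020000000000000040004001800000020000000000000000000400000000000000000004000000100200000000000008011800000000000600000300c000000000c03000200000100000000000000000400000000000000000000000000000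02000000004000000000000000000000000000000000000200000000000800000400000000004000040000030000000000000000000000c001800000001000001800300000000001800000000000000000000440000000000010042000000000000000004000000000000000010000000000000031804000c0000000000000000000000000000000000c000000000000004020002000000100020000000c00000000004000000000000000000000000000000000000000000800300000000000000000000000600002000061000000000000000004000000200000008000000000000100200000000400000030000000000180000880200400000000000100000180231800000400000001800000c0000000000000000000c200000000000000000002000000000000000000000000000000110000008000000000000000000000000c00000020000000000000031000200c02004000000000000180000000000060080000046000000180000000100000000000000000000000000000000000000000000200000000030000000020000000000000040000000000000000000200000000000004600000000000000000800000000f80011000000000000000000318000080000040000000000000000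008800000010000008460000000000208002000000000000c0000800000000800000000000000082000000000000080000040000010000000000180400000108000000000000000800000001800200c200000000000000000006000000000000000100000000000000000000000000000000000000000800000800000000046018c0000000000000000018000000000000300000004000000000060000001800200000000010000000c00004000000000000000000000000000080200000000800004600000000040000000000010000008000000000c0000063000200000000000000000800018020000600006300000000030002000040000000000008000000000000100000000000002000001008000800000000180000000000c0300003000400000000060080020006000000000000004010003000000002000000000600000000000180000006000001000000000000060000000000000400008000000000000000400040000000080210000018000004000000000400000200000300000080000000000c000040000000004400000100000000010006000c00180000000000000000000080300001100001804000c6000000000001000000003000000000300041000000000000000180600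00000000000c00080000000000803000001802200c000002018000004000000000000080000000208000008020000000020000000000000000000000002200800180000000200000000000004000000000020004000000000000000000400180000000000020000000000008000000000800000000000000000200000000000000208000000000000000000000000000300060000000000010000000000000000002100600000000000000000800000000100001000000c001802100c00004600040000000000010004008000000000000000000000000000018c000000000c000002100000100000000008002180200006000002000000000018000000000000000020100200800000002080001800000800000000800100022000000000010000080001800300803004400000010000080001800100000000000006300c00180000000000001080400000010c0000043000000002000000180000000000040000000000018c000840000000000010002000060004000000000043008000000000003000400000000c0000000000000040300001000010000010c60000000000000022000010080000000000000800000c0000001000031800000000008000000000c0200000000000000000060000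000000000000180000006300000004000000018c0000000000000000000000000000006300000000000000000000000000004108000000000080000000000000000208000000000000000040000000000000000080030080000000000000040000c00000020000018002180000000000c00000000000000000004000000300003080000004300000000001800000861000000000000001000601080000020180600000018000000000000000003000000000000000080000000018442008610080308000000000000000000000000800008000000000000000c000002300000000000000018000000600000218c0000040000000000008001180030006000000000000000000000000000000000c020000000000008000000000000000001800018061180000000018000000000000000000000000000000020000400004000001000000000000000000200000008040000200000300040000000000000c0000c00000000000000c2018000004000000000000000000000000000000030000018060000000000000040080001000000800000001840008000008031000000c00000400000008000000420000000c0000000000011800300000004400000200000000000040008001000000000000000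00003000000080100c0000000000020000018000008000006000420000000040000000000010000018000000200002000802180030000000000004400006000001000000000000000000000006000000180000002000000000000000000020104230000000040000600000000002000000000000000000000800000000000000004000c00000030000000040184030000000000000000006000061000000000000001000000800000003000001800000c000006000000180001800000400000410000000020000000000200800080610002000020000000800000040000000000000400000010000000003, [nat_lit 7, nat_lit 6, nat_lit 5]),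
   (nat_lit 710, nat_lit 0x10000000000000000000000000000000000000000000000000000000000000000000000000000000000000000000000000000000000000000000000000000000000000000000000000000000000000000000000000000000000000000000000000000000000000000000000000000000000000000000000000000000000000000000000000000000000000000000000000000000000000000000000000000000000000000000000000000000000000000000000000000000000000000000000000000000000000000000000000000000000000000000000000000000000000000000000000000000000000000000000000000000000000000000000000000000000000000000000000000000000000000000000000000000000000000000000000000000000000000000000000000000000000000000000000000000000000000000000000000000000000000000000000000000000000000000000000000000000000000000000000000000000000000000000000000000000000000000000000000000000000000000000000000000000000000000000000000000000000000000000000000000000000000000000000000020000000000000000000000000000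000000000000000000000000000000000000000000000000000000000000000000000000000010000000000000000000000000000000000000000000000000000000000000000000000000000000000000000000000000000000000000000000000000000000000000000000000000000000000000000000000000000000000000000000000000000000000000000000000000000000000000000000000000000000000000000000000000000000000000000000000000000000000000000000000000000000000000000000000000000000000000000000000000000000000000000000000000000000000000000000000000000000000000000000000000000000000000000000000000000000000000000000000000000000000000000000000000000000000000000000000000300000000010000000000000000000000000000000000008000000000000000000000000000000000000000000000000000000000000000000000000000000000000000000000000000000000000000000000000000000000000000000000000000000000000000000000000000000000000000000000000000000000000000000000000000000000000000000000000000000000000000000000000000000000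000000000000000000000000000000000000000000000000000000000000000000000000000000000000000000000000000000000000000000000000000000000000000000000000000000000000000000000000000000000000000000000000000000000000000000000000000000000000000000000000000000000000000000000000000000000000000000000000000000000000000000000000000000000000000000000000000000000000000000000000000000000000000000000000000000180000000000000000000000000000000000000000000000000000000000000000000000000000000000000000000000000000000000000000000000000000000000000000000000000000000000000000000000000000000000000000000000000000000000000000000000000000000000000000000000000000000000000000000000000000000000000000000000000000000000000000000000000000000000000000000000000000000000000000000000000000000000000000000000000000000000000000000000000000000000000000000000000000000000000000000000000000000000000000000000000000000000000000000000000000000000000000000000000000000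0000000000000000000000000000000000006000000000000000000000000000000000000000000000000000000000000000000000000000000000000000000000000000000000000000000000000000000000000000000000000000000000c0000000000000000000000000000000000000000000000000000000000000000000000000000000000000000000000000000000000000000000000000000000000000000000000000000000000000000000000000000010000000000000000000000000000000000000000000000000000000000000000000000000000000000000000000000000000000000000000000000000000000000000000000000000000000000000000000000000000000000000000000000000000000000000000000000000000000000000000000000000000000000000000000000000000000000000000000000000000000000000000000000000000000000000000000000000000000000000000000000000000000000000000000000000000000000000000000000000000000000000000000000000000000000000000000000000000000000000000000000000000000000000000000000000000000000000000000000000000000000000000000000000000000000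0000000000000000000000000000000000000000000000000000000000000000000000000000000000000000000000000000000000000000000000000000000000000000000000000000000000000000000000000000000000000000000000000000000000000000000000000000000000000000000000000000000000000000000000000000000000000000000000000000000000000000000000000000000000000000000000000000000000000000000000000000000000000000000000000000000000000000000000000000000000000000000000000000000000000000000000000000000000000000000007c00000000000000000000000000000000000000000000000000000000000000000000000000000000000000000000000000000000000000000000000000000000000000000000000000000000000000000000000000000000000000000000000000000000000000000000000000000000000000000000000000000000000000000000000000000000000000000000000000000000000000000000000000000000000000000000000000000000000000000000000000000000000000000000000000000000000000000000000000000000000000000000000000000000000000000000000000000000000000000000000000000000000000000000000000000000000000000000000000000000000000000000000000000000000000000000000000000000000000000000000000000000000000004000000000000000000000000000000000000000000000000000000000000000000000000000000000000000000000000000000000000000000000000000000000000000000000000000000000000000000000000000000000000000000000000000000000000000000000000000000000000000000000000000000000000000000000000000000,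 [nat_lit 4, nat_lit 3, nat_lit 2, nat_lit 1]),
   (nat_lit 0xd43, nat_lit 0xf800000000000000000000000000000000000000000000000000000000000000000000000000000000000000000000000000000000000000000000000000000000000000000000000000000000000000000000000000000000000000000000000000000000000000000000000000000000000000000000000000000000000000000000000000000000000000000000000000000000000000000000000000000000000000000000000000000000000000000000000000000000000000000000000000000000000000000000000000000000000000000000000000000000000000000000000000000000000000000000000000000000000000000000000000000000000000000000000000000000000000000000000000000000000000000000000000000000000000000000000000000000000000000000000000000000000000000000000000000000000000000000000000000000000000000000000000000000000000000000000000000000000000000000000000000000000000000000000000000000000000000000000000000000000000000000000000000000000000000000000000000000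000000000000000000000000000000000000000000000000000000000000000000000000000000000000000000000000000000000000000000000000000000000000000000000000000000000000000000000000000000000000000000000000000000000000000000000000000000000000000000000000000000000000000000000000000000000000000000000000000000000000000000000000000000000000000000000000000000000000000000000000000000000000000000000000000000000000000000000000000000000000000000000000000000000000000000000000000000000000000000000000000000000000000000000000000000000000000000000000000000000000000000000000000000000000000000000000000000000000000000000000000000000000000000000000000000000000000000000000000000000000000000000000000000000000000000000000000000000000000000000000000000000000000000000000000000000000000000000000000000000000000000000000000000000000000000000000000000000000000000000000000000000000000000000000000000000000000000000000000000000000000000000000000000000000000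000000000000000000000000000000000000000000000000000000000000000000000000000000000000000000000000000000000000000000000000000000000000000000000000000000000000000000000000000000000000000000000000000000000000000000000000000000000000000000000000000000000000000000000000000000000000000000000000000000000000000000000000000000000000000000000000000000000000000000000000000000000000000000000000000000000000000000000000000000000000000000000000000000000000000000000000000000000000000000000000000000000000000000000000000000000000000000000000000000000000000000000000000000000000000000000000000000000000000000000000000000000000000000000000000000000000000000000000000000000000000000000000000000000000000000000000000000000000000000000000000000000000000000000000000000000000000000000000000000000000000000000000000000000000000000000000000000000000000000000000000000000000000000000000000000000000000000000000000000000000000000000000000000000000000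000000000000000000000000000000000000000000000000000000000000000000000000000000000000000000000000000000000000000000000000000000000000000000000000000000000000000000000000000000000000000000000000000000000000000000000000000000000000000000000000000000000000000000000000000000000000000000000000000000000000000000000000000000000000000000000000000000000000000000000000000000000000000000000000000000000000000000000000000000000000000000000000000000000000000000000000000000000000000000000000000000000000000000000000000000000000000000000000000000000000000000000000000000000000000000000000000000000000000000000000000000000000000000000000000000000000000000000000000000000000000000000000000000000000000000000000000000000000000000000000000000000000000000000000000000000000000000000000000000000000000000000000000000000000000000000000000000000000000000000000000000000000000000000000000000000000000000000000000000000000000000000000000000000000000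00000000000000000000000000000000000000000000000000000000000000000000000000000000000000000000000000000000000000000000000000000000000000000000000000000000000000000000000000000000000000000000000000000000000000000000000000000000000000000000000000000000000000000000000000000000000000000000000000000000000000000000000000000000000000000000000000000000000000000000000000000000000000000000000000000000000000000000000000000000000000000000000000000000000000000000000000000000000000000000000000000000000000000000000000000000000000100000000000000000000000000000000000000000000000000000000000000000000000000000000000000000000000, [nat_lit 2])]) (by decide +kernel)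

theorem s2 : (∀ t ∈ [Tb, C, D] ++ Xs, S.In ⊤ t) ∧ ∃ LV, WCh S ⊤ LV ∧ trOk 12 4060 14 C (tp 12 4060 C 1) [C] Xs [(nat_lit 0, [[nat_lit 0]], [(nat_lit 0x424, nat_lit 0), (nat_lit 763, nat_lit 0), (nat_lit 800, nat_lit 0), (nat_lit 0xd26, nat_lit 0), (nat_lit 0x626, nat_lit 0), (nat_lit 401, nat_lit 0), (nat_lit 0x9fd, nat_lit 0), (nat_lit 0xab2, nat_lit 0), (nat_lit 0x6c9, nat_lit 0), (nat_lit 0xc4f, nat_lit 0), (nat_lit 4, nat_lit 0), (nat_lit 0x862, nat_lit 0), (nat_lit 872, nat_lit 0), (nat_lit 0x838, nat_lit 0), (nat_lit 933, nat_lit 0), (nat_lit 301, nat_lit 0), (nat_lit 0xf66, nat_lit 0), (nat_lit 0x481, nat_lit 0), (nat_lit 0x4b9, nat_lit 0), (nat_lit 0xa6e, nat_lit 0), (nat_lit 0xe87, nat_lit 0), (nat_lit 0x43b, nat_lit 0), (nat_lit 271, nat_lit 0), (nat_lit 0xfd6, nat_lit 0), (nat_lit 672, nat_lit 0), (nat_lit 649, nat_lit 0), (nat_lit 247, nat_lit 0), (nat_lit 449, nat_lit 0), (nat_lit 0x8e5, nat_lit 0), (nat_lit 0xcd7, nat_lit 0), (nat_lit 0xc9c, nat_lit 0), (nat_lit 0x40c, nat_lit 0), (nat_lit 0xb6c, nat_lit 0), (nat_lit 0x66d, nat_lit 0), (nat_lit 0xb2f, nat_lit 0), (nat_lit 0xdd0, nat_lit 0), (nat_lit 0x734, nat_lit 0), (nat_lit 0x485, nat_lit 0), (nat_lit 0xb9e, nat_lit 0), (nat_lit 0xdc0, nat_lit 0), (nat_lit 0x9ac, nat_lit 0), (nat_lit 707, nat_lit 0), (nat_lit 0x9ce, nat_lit 0), (nat_lit 0xbb6, nat_lit 0), (nat_lit 0x6b9, nat_lit 0), (nat_lit 0x711, nat_lit 0), (nat_lit 0x569, nat_lit 0), (nat_lit 0x76c, nat_lit 0), (nat_lit 0x54d, nat_lit 0), (nat_lit 0xecb, nat_lit 0), (nat_lit 0x8aa, nat_lit 0), (nat_lit 0xbd2, nat_lit 0), (nat_lit 459, nat_lit 0), (nat_lit 695, nat_lit 0), (nat_lit 0xcec, nat_lit 0), (nat_lit 816, nat_lit 0), (nat_lit 0x44e, nat_lit 0), (nat_lit 0xdba, nat_lit 0), (nat_lit 501, nat_lit 0), (nat_lit 0x5b3, nat_lit 0), (nat_lit 0x5ca, nat_lit 0), (nat_lit 0xbf1, nat_lit 0), (nat_lit 0xe47, nat_lit 0), (nat_lit 794, nat_lit 0), (nat_lit 742, nat_lit 0), (nat_lit 0xa4b, nat_lit 0), (nat_lit 0xd09, nat_lit 0), (nat_lit 0x98e, nat_lit 0), (nat_lit 0x58d, nat_lit 0), (nat_lit 0xa45, nat_lit 0), (nat_lit 127, nat_lit 0), (nat_lit 0xf1f, nat_lit 0), (nat_lit 0x4b7, nat_lit 0), (nat_lit 0xb9f, nat_lit 0), (nat_lit 645, nat_lit 0), (nat_lit 0xfd0, nat_lit 0), (nat_lit 181, nat_lit 0), (nat_lit 0x662, nat_lit 0), (nat_lit 0x865, nat_lit 0), (nat_lit 0xba9, nat_lit 0), (nat_lit 0xc91, nat_lit 0), (nat_lit 900, nat_lit 0), (nat_lit 0xb3c, nat_lit 0), (nat_lit 0xe35, nat_lit 0), (nat_lit 0x633, nat_lit 0), (nat_lit 0x56c, nat_lit 0), (nat_lit 0x99a, nat_lit 0), (nat_lit 427, nat_lit 0), (nat_lit 0x9c4, nat_lit 0), (nat_lit 182, nat_lit 0), (nat_lit 687, nat_lit 0), (nat_lit 0xe7c, nat_lit 0), (nat_lit 0xaee, nat_lit 0), (nat_lit 0xba8, nat_lit 0), (nat_lit 0xe18, nat_lit 0), (nat_lit 0x992, nat_lit 0), (nat_lit 0x57a, nat_lit 0), (nat_lit 0x6d9, nat_lit 0), (nat_lit 189, nat_lit 0), (nat_lit 0xe61, nat_lit 0), (nat_lit 0x53d, nat_lit 0), (nat_lit 0xc25, nat_lit 0), (nat_lit 0xe83, nat_lit 0), (nat_lit 815, nat_lit 0), (nat_lit 0xbe7, nat_lit 0), (nat_lit 0xcd1, nat_lit 0), (nat_lit 0xe46, nat_lit 0), (nat_lit 0x5e8, nat_lit 0), (nat_lit 70, nat_lit 0), (nat_lit 0x5d5, nat_lit 0), (nat_lit 0x74e, nat_lit 0), (nat_lit 0xb5d, nat_lit 0), (nat_lit 237, nat_lit 0), (nat_lit 0xfa9, nat_lit 0), (nat_lit 0xf44, nat_lit 0), (nat_lit 0x75d, nat_lit 0), (nat_lit 0x5a4, nat_lit 0), (nat_lit 0xa72, nat_lit 0), (nat_lit 0x618, nat_lit 0), (nat_lit 796, nat_lit 0), (nat_lit 753, nat_lit 0), (nat_lit 0xc79, nat_lit 0), (nat_lit 0xbac, nat_lit 0), (nat_lit 0x960, nat_lit 0), (nat_lit 0x628, nat_lit 0), (nat_lit 0x9eb, nat_lit 0), (nat_lit 0xe7f, nat_lit 0), (nat_lit 0xc7b, nat_lit 0), (nat_lit 0x637, nat_lit 0), (nat_lit 313, nat_lit 0), (nat_lit 0x59f, nat_lit 0), (nat_lit 0xf04, nat_lit 0), (nat_lit 0x806, nat_lit 0), (nat_lit 0xaa7, nat_lit 0), (nat_lit 0xdcf, nat_lit 0), (nat_lit 71, nat_lit 0), (nat_lit 0x4d6, nat_lit 0), (nat_lit 0xf6f, nat_lit 0), (nat_lit 0xc13, nat_lit 0), (nat_lit 426, nat_lit 0), (nat_lit 225, nat_lit 0), (nat_lit 0xdc1, nat_lit 0), (nat_lit 0xe52, nat_lit 0), (nat_lit 0x418, nat_lit 0), (nat_lit 0xb58, nat_lit 0), (nat_lit 0x48e, nat_lit 0), (nat_lit 434, nat_lit 0), (nat_lit 950, nat_lit 0), (nat_lit 0x5d4, nat_lit 0), (nat_lit 0xaa6, nat_lit 0), (nat_lit 0x456, nat_lit 0), (nat_lit 650, nat_lit 0), (nat_lit 0xa7f, nat_lit 0), (nat_lit 0x5f9, nat_lit 0), (nat_lit 0x51b, nat_lit 0), (nat_lit 0x694, nat_lit 0), (nat_lit 0xc7f, nat_lit 0), (nat_lit 0x4a8, nat_lit 0), (nat_lit 0xcc4, nat_lit 0), (nat_lit 0x5bc, nat_lit 0), (nat_lit 804, nat_lit 0), (nat_lit 0xd5a, nat_lit 0), (nat_lit 0xd80, nat_lit 0), (nat_lit 0x66b, nat_lit 0), (nat_lit 0xa47, nat_lit 0), (nat_lit 0xace, nat_lit 0), (nat_lit 0x831, nat_lit 0), (nat_lit 0x53e, nat_lit 0), (nat_lit 62, nat_lit 0), (nat_lit 0xef7, nat_lit 0), (nat_lit 0x7f6, nat_lit 0), (nat_lit 0xeac, nat_lit 0), (nat_lit 0x91d, nat_lit 0), (nat_lit 0x8e1, nat_lit 0), (nat_lit 0x945, nat_lit 0), (nat_lit 0xaf2, nat_lit 0), (nat_lit 0x622, nat_lit 0), (nat_lit 617, nat_lit 0), (nat_lit 0x9ab, nat_lit 0), (nat_lit 0xefd, nat_lit 0), (nat_lit 781, nat_lit 0), (nat_lit 680, nat_lit 0), (nat_lit 0xa8e, nat_lit 0), (nat_lit 918, nat_lit 0), (nat_lit 670, nat_lit 0), (nat_lit 0x420, nat_lit 0), (nat_lit 0xd8e, nat_lit 0), (nat_lit 302, nat_lit 0), (nat_lit 0x607, nat_lit 0), (nat_lit 0xe0c, nat_lit 0), (nat_lit 0xf6b, nat_lit 0), (nat_lit 924, nat_lit 0), (nat_lit 0xddf, nat_lit 0), (nat_lit 704, nat_lit 0), (nat_lit 0xae4, nat_lit 0), (nat_lit 0x860, nat_lit 0), (nat_lit 0x671, nat_lit 0), (nat_lit 0x66c, nat_lit 0), (nat_lit 0x893, nat_lit 0), (nat_lit 0xbf5, nat_lit 0), (nat_lit 0x852, nat_lit 0), (nat_lit 0xb5a, nat_lit 0), (nat_lit 0x666, nat_lit 0), (nat_lit 42, nat_lit 0), (nat_lit 0xabd, nat_lit 0), (nat_lit 0xfd3, nat_lit 0), (nat_lit 0xc86, nat_lit 0), (nat_lit 0x4c4, nat_lit 0), (nat_lit 988, nat_lit 0), (nat_lit 276, nat_lit 0), (nat_lit 0xc10, nat_lit 0), (nat_lit 467, nat_lit 0), (nat_lit 0xa2f, nat_lit 0), (nat_lit 629, nat_lit 0), (nat_lit 0x64e, nat_lit 0), (nat_lit 932, nat_lit 0), (nat_lit 0xae1, nat_lit 0), (nat_lit 496, nat_lit 0), (nat_lit 0x6ef, nat_lit 0), (nat_lit 0xc8b, nat_lit 0), (nat_lit 0xc51, nat_lit 0), (nat_lit 972, nat_lit 0), (nat_lit 249, nat_lit 0), (nat_lit 0xe38, nat_lit 0), (nat_lit 0x5f5, nat_lit 0), (nat_lit 0x6b1, nat_lit 0), (nat_lit 357, nat_lit 0), (nat_lit 0x614, nat_lit 0), (nat_lit 0x691, nat_lit 0), (nat_lit 0x479, nat_lit 0), (nat_lit 0x459, nat_lit 0), (nat_lit 982, nat_lit 0), (nat_lit 0xf5d, nat_lit 0), (nat_lit 0xd0c, nat_lit 0), (nat_lit 202, nat_lit 0), (nat_lit 577, nat_lit 0), (nat_lit 995, nat_lit 0), (nat_lit 0xd00, nat_lit 0), (nat_lit 0x648, nat_lit 0), (nat_lit 0x917, nat_lit 0), (nat_lit 0x966, nat_lit 0), (nat_lit 0xe20, nat_lit 0), (nat_lit 0xaea, nat_lit 0), (nat_lit 0xe26, nat_lit 0), (nat_lit 194, nat_lit 0), (nat_lit 0xf19, nat_lit 0), (nat_lit 894, nat_lit 0), (nat_lit 0xd8d, nat_lit 0), (nat_lit 0x5d7, nat_lit 0), (nat_lit 0xf57, nat_lit 0), (nat_lit 0x943, nat_lit 0), (nat_lit 0x6d5, nat_lit 0), (nat_lit 557, nat_lit 0), (nat_lit 0x9b1, nat_lit 0), (nat_lit 0x8e0, nat_lit 0), (nat_lit 0x851, nat_lit 0), (nat_lit 0xb19, nat_lit 0), (nat_lit 0xe8e, nat_lit 0), (nat_lit 0xee3, nat_lit 0), (nat_lit 0x475, nat_lit 0), (nat_lit 0xc4e, nat_lit 0), (nat_lit 839, nat_lit 0), (nat_lit 0x7ee, nat_lit 0), (nat_lit 0xc60, nat_lit 0), (nat_lit 0x8df, nat_lit 0), (nat_lit 335, nat_lit 0), (nat_lit 305, nat_lit 0), (nat_lit 0x8ba, nat_lit 0), (nat_lit 0x958, nat_lit 0), (nat_lit 0xa7b, nat_lit 0), (nat_lit 0x8cb, nat_lit 0), (nat_lit 0xc9b, nat_lit 0), (nat_lit 0x6a1, nat_lit 0), (nat_lit 0x755, nat_lit 0), (nat_lit 979, nat_lit 0), (nat_lit 0xd30, nat_lit 0), (nat_lit 0x86e, nat_lit 0), (nat_lit 232, nat_lit 0), (nat_lit 0x3eb, nat_lit 0), (nat_lit 0xc1a, nat_lit 0), (nat_lit 0x411, nat_lit 0), (nat_lit 0x856, nat_lit 0), (nat_lit 114, nat_lit 0), (nat_lit 0xd0f, nat_lit 0), (nat_lit 73, nat_lit 0), (nat_lit 0xc47, nat_lit 0), (nat_lit 494, nat_lit 0), (nat_lit 0x8b2, nat_lit 0), (nat_lit 0xa20, nat_lit 0), (nat_lit 0xe0b, nat_lit 0), (nat_lit 0xed2, nat_lit 0), (nat_lit 0xbfb, nat_lit 0), (nat_lit 0xc53, nat_lit 0), (nat_lit 0xbd1, nat_lit 0), (nat_lit 0xf87, nat_lit 0), (nat_lit 0xa67, nat_lit 0), (nat_lit 0xf7a, nat_lit 0), (nat_lit 0x7ce, nat_lit 0), (nat_lit 0xbb5, nat_lit 0), (nat_lit 0x7cc, nat_lit 0), (nat_lit 316, nat_lit 0), (nat_lit 0x924, nat_lit 0), (nat_lit 0xc45, nat_lit 0), (nat_lit 0xb77, nat_lit 0), (nat_lit 0x73f, nat_lit 0), (nat_lit 0x9f1, nat_lit 0), (nat_lit 0x8fa, nat_lit 0), (nat_lit 0x901, nat_lit 0), (nat_lit 0x86b, nat_lit 0), (nat_lit 0x9c8, nat_lit 0), (nat_lit 0x9b6, nat_lit 0), (nat_lit 0x786, nat_lit 0), (nat_lit 0x4ff, nat_lit 0), (nat_lit 0x6b4, nat_lit 0), (nat_lit 234, nat_lit 0), (nat_lit 0x89d, nat_lit 0), (nat_lit 0x941, nat_lit 0), (nat_lit 0x8ad, nat_lit 0), (nat_lit 0x6f9, nat_lit 0), (nat_lit 442, nat_lit 0), (nat_lit 0x3f0, nat_lit 0), (nat_lit 0x43c, nat_lit 0), (nat_lit 0x470, nat_lit 0), (nat_lit 875, nat_lit 0), (nat_lit 233, nat_lit 0), (nat_lit 0x447, nat_lit 0), (nat_lit 602, nat_lit 0), (nat_lit 0xb6f, nat_lit 0), (nat_lit 711, nat_lit 0), (nat_lit 0x535, nat_lit 0), (nat_lit 0xb48, nat_lit 0), (nat_lit 0x6d1, nat_lit 0), (nat_lit 0xc97, nat_lit 0), (nat_lit 0xc3e, nat_lit 0), (nat_lit 0x77a, nat_lit 0), (nat_lit 0x645, nat_lit 0), (nat_lit 37, nat_lit 0), (nat_lit 0xe63, nat_lit 0), (nat_lit 0x736, nat_lit 0), (nat_lit 0x3f3, nat_lit 0), (nat_lit 0xe56, nat_lit 0), (nat_lit 0x4df, nat_lit 0), (nat_lit 0xb29, nat_lit 0), (nat_lit 0x9fe, nat_lit 0), (nat_lit 0x8ff, nat_lit 0), (nat_lit 0xadd, nat_lit 0), (nat_lit 0xb74, nat_lit 0), (nat_lit 0x522, nat_lit 0), (nat_lit 0xcb7, nat_lit 0), (nat_lit 951, nat_lit 0), (nat_lit 38, nat_lit 0), (nat_lit 0x798, nat_lit 0), (nat_lit 630, nat_lit 0), (nat_lit 0xf48, nat_lit 0), (nat_lit 0xb31, nat_lit 0), (nat_lit 0xfbd, nat_lit 0), (nat_lit 0xc8c, nat_lit 0), (nat_lit 190, nat_lit 0), (nat_lit 60, nat_lit 0), (nat_lit 0xfd7, nat_lit 0), (nat_lit 0x631, nat_lit 0), (nat_lit 201, nat_lit 0), (nat_lit 0x773, nat_lit 0), (nat_lit 385, nat_lit 0), (nat_lit 487, nat_lit 0), (nat_lit 0x972, nat_lit 0), (nat_lit 0xb3e, nat_lit 0), (nat_lit 0xcab, nat_lit 0), (nat_lit 0xd7a, nat_lit 0), (nat_lit 26, nat_lit 0), (nat_lit 0x570, nat_lit 0), (nat_lit 0xb13, nat_lit 0), (nat_lit 885, nat_lit 0), (nat_lit 0xcf2, nat_lit 0), (nat_lit 0x57d, nat_lit 0), (nat_lit 0x81c, nat_lit 0), (nat_lit 0xd83, nat_lit 0), (nat_lit 639, nat_lit 0), (nat_lit 0x767, nat_lit 0), (nat_lit 601, nat_lit 0), (nat_lit 0xc6e, nat_lit 0), (nat_lit 520, nat_lit 0), (nat_lit 0xb6a, nat_lit 0), (nat_lit 56, nat_lit 0), (nat_lit 0x5bd, nat_lit 0), (nat_lit 0xb69, nat_lit 0), (nat_lit 0xaa5, nat_lit 0), (nat_lit 0xb85, nat_lit 0), (nat_lit 0xcc6, nat_lit 0), (nat_lit 0x6eb, nat_lit 0), (nat_lit 798, nat_lit 0), (nat_lit 0x684, nat_lit 0), (nat_lit 432, nat_lit 0), (nat_lit 0xe6b, nat_lit 0), (nat_lit 0xcbc, nat_lit 0), (nat_lit 0xe89, nat_lit 0), (nat_lit 167, nat_lit 0), (nat_lit 0x621, nat_lit 0), (nat_lit 0xae2, nat_lit 0), (nat_lit 99, nat_lit 0), (nat_lit 0x59a, nat_lit 0), (nat_lit 418, nat_lit 0), (nat_lit 121, nat_lit 0), (nat_lit 0xc3c, nat_lit 0), (nat_lit 0x768, nat_lit 0), (nat_lit 867, nat_lit 0), (nat_lit 0xbe5, nat_lit 0), (nat_lit 658, nat_lit 0), (nat_lit 0x47d, nat_lit 0), (nat_lit 0xf58, nat_lit 0), (nat_lit 0xf03, nat_lit 0), (nat_lit 0xcd6, nat_lit 0), (nat_lit 0xef2, nat_lit 0), (nat_lit 0x5d1, nat_lit 0), (nat_lit 0xa26, nat_lit 0), (nat_lit 659, nat_lit 0), (nat_lit 0x5ed, nat_lit 0), (nat_lit 0xab1, nat_lit 0), (nat_lit 0xbaf, nat_lit 0), (nat_lit 0x81a, nat_lit 0), (nat_lit 0x95f, nat_lit 0), (nat_lit 0x5ae, nat_lit 0), (nat_lit 382, nat_lit 0), (nat_lit 0x9f6, nat_lit 0), (nat_lit 0x7c7, nat_lit 0), (nat_lit 902, nat_lit 0), (nat_lit 396, nat_lit 0), (nat_lit 0xbcb, nat_lit 0), (nat_lit 0x4d5, nat_lit 0), (nat_lit 414, nat_lit 0), (nat_lit 0x73d, nat_lit 0), (nat_lit 0xea1, nat_lit 0), (nat_lit 0xd71, nat_lit 0), (nat_lit 0xc89, nat_lit 0), (nat_lit 0x404, nat_lit 0), (nat_lit 774, nat_lit 0), (nat_lit 380, nat_lit 0), (nat_lit 0xfcf, nat_lit 0), (nat_lit 0xe8a, nat_lit 0), (nat_lit 0xf3c, nat_lit 0), (nat_lit 0xbfe, nat_lit 0), (nat_lit 0x6fc, nat_lit 0), (nat_lit 831, nat_lit 0), (nat_lit 0xb18, nat_lit 0), (nat_lit 0xe30, nat_lit 0), (nat_lit 543, nat_lit 0), (nat_lit 0x749, nat_lit 0), (nat_lit 0xc2b, nat_lit 0), (nat_lit 477, nat_lit 0), (nat_lit 0x64a, nat_lit 0), (nat_lit 0xd03, nat_lit 0), (nat_lit 0xa4c, nat_lit 0), (nat_lit 0x589, nat_lit 0), (nat_lit 514, nat_lit 0), (nat_lit 0x88f, nat_lit 0), (nat_lit 0xb5f, nat_lit 0), (nat_lit 0x48d, nat_lit 0), (nat_lit 0x78f, nat_lit 0), (nat_lit 0x624, nat_lit 0), (nat_lit 0x8fd, nat_lit 0), (nat_lit 0xce9, nat_lit 0), (nat_lit 0xeca, nat_lit 0), (nat_lit 0x83d, nat_lit 0), (nat_lit 0xec4, nat_lit 0), (nat_lit 592, nat_lit 0), (nat_lit 0xf68, nat_lit 0), (nat_lit 663, nat_lit 0), (nat_lit 152, nat_lit 0), (nat_lit 0x70b, nat_lit 0), (nat_lit 0x79b, nat_lit 0), (nat_lit 0xb55, nat_lit 0), (nat_lit 0xf4d, nat_lit 0), (nat_lit 0x4b1, nat_lit 0), (nat_lit 0x5c7, nat_lit 0), (nat_lit 551, nat_lit 0), (nat_lit 0xea8, nat_lit 0), (nat_lit 362, nat_lit 0), (nat_lit 759, nat_lit 0), (nat_lit 0xde6, nat_lit 0), (nat_lit 0xe9f, nat_lit 0), (nat_lit 0xe72, nat_lit 0), (nat_lit 331, nat_lit 0), (nat_lit 0xfa5, nat_lit 0), (nat_lit 0xf0e, nat_lit 0), (nat_lit 634, nat_lit 0), (nat_lit 0x987, nat_lit 0), (nat_lit 0xe4d, nat_lit 0), (nat_lit 0x9da, nat_lit 0), (nat_lit 143, nat_lit 0), (nat_lit 0x672, nat_lit 0), (nat_lit 0xad3, nat_lit 0), (nat_lit 0x871, nat_lit 0), (nat_lit 0x45d, nat_lit 0), (nat_lit 0x996, nat_lit 0), (nat_lit 0xe43, nat_lit 0), (nat_lit 0xe82, nat_lit 0), (nat_lit 777, nat_lit 0), (nat_lit 0xb57, nat_lit 0), (nat_lit 0xbe9, nat_lit 0), (nat_lit 0xb70, nat_lit 0), (nat_lit 0xf31, nat_lit 0), (nat_lit 0x72d, nat_lit 0), (nat_lit 0xa29, nat_lit 0), (nat_lit 733, nat_lit 0), (nat_lit 0x3f1, nat_lit 0), (nat_lit 0xcb0, nat_lit 0), (nat_lit 0xe21, nat_lit 0), (nat_lit 0x9e7, nat_lit 0), (nat_lit 317, nat_lit 0), (nat_lit 0x72c, nat_lit 0), (nat_lit 184, nat_lit 0), (nat_lit 0xbdf, nat_lit 0), (nat_lit 0x4cd, nat_lit 0), (nat_lit 0xe4a, nat_lit 0), (nat_lit 0x5cd, nat_lit 0), (nat_lit 284, nat_lit 0), (nat_lit 0x5c8, nat_lit 0), (nat_lit 0x3f8, nat_lit 0), (nat_lit 0xce1, nat_lit 0), (nat_lit 0xcdf, nat_lit 0), (nat_lit 0xe85, nat_lit 0), (nat_lit 139, nat_lit 0), (nat_lit 158, nat_lit 0), (nat_lit 0xe94, nat_lit 0), (nat_lit 0x6c0, nat_lit 0), (nat_lit 330, nat_lit 0), (nat_lit 0xe44, nat_lit 0), (nat_lit 0x61f, nat_lit 0), (nat_lit 268, nat_lit 0), (nat_lit 0x54b, nat_lit 0), (nat_lit 0xa9f, nat_lit 0), (nat_lit 0x7d1, nat_lit 0), (nat_lit 0x436, nat_lit 0), (nat_lit 0xb97, nat_lit 0), (nat_lit 0xd6b, nat_lit 0), (nat_lit 726, nat_lit 0), (nat_lit 0x593, nat_lit 0), (nat_lit 0x67e, nat_lit 0), (nat_lit 104, nat_lit 0), (nat_lit 0x7d6, nat_lit 0), (nat_lit 0xca1, nat_lit 0), (nat_lit 0x970, nat_lit 0), (nat_lit 0xdb4, nat_lit 0), (nat_lit 162, nat_lit 0), (nat_lit 656, nat_lit 0), (nat_lit 0x753, nat_lit 0), (nat_lit 270, nat_lit 0), (nat_lit 908, nat_lit 0), (nat_lit 547, nat_lit 0), (nat_lit 0xce7, nat_lit 0), (nat_lit 0xbb1, nat_lit 0), (nat_lit 0xa07, nat_lit 0), (nat_lit 0xb56, nat_lit 0), (nat_lit 291, nat_lit 0), (nat_lit 0xef0, nat_lit 0), (nat_lit 187, nat_lit 0), (nat_lit 257, nat_lit 0), (nat_lit 0x5e0, nat_lit 0), (nat_lit 0xdf6, nat_lit 0), (nat_lit 0xfc2, nat_lit 0), (nat_lit 0x8e9, nat_lit 0), (nat_lit 0x906, nat_lit 0), (nat_lit 0xf35, nat_lit 0), (nat_lit 515, nat_lit 0), (nat_lit 0xa0c, nat_lit 0), (nat_lit 962, nat_lit 0), (nat_lit 0xeaf, nat_lit 0), (nat_lit 0x4c7, nat_lit 0), (nat_lit 217, nat_lit 0), (nat_lit 0x49b, nat_lit 0), (nat_lit 275, nat_lit 0), (nat_lit 0x681, nat_lit 0), (nat_lit 666, nat_lit 0), (nat_lit 277, nat_lit 0), (nat_lit 0xdac, nat_lit 0), (nat_lit 0xb9b, nat_lit 0), (nat_lit 0x857, nat_lit 0), (nat_lit 0xb4b, nat_lit 0), (nat_lit 0xa90, nat_lit 0), (nat_lit 0xa00, nat_lit 0), (nat_lit 0x700, nat_lit 0), (nat_lit 383, nat_lit 0), (nat_lit 0x600, nat_lit 0), (nat_lit 0xeb7, nat_lit 0), (nat_lit 0x942, nat_lit 0), (nat_lit 0x97b, nat_lit 0), (nat_lit 0x87f, nat_lit 0), (nat_lit 0xa09, nat_lit 0), (nat_lit 384, nat_lit 0), (nat_lit 0x76d, nat_lit 0), (nat_lit 0xc27, nat_lit 0), (nat_lit 0x85d, nat_lit 0), (nat_lit 661, nat_lit 0), (nat_lit 808, nat_lit 0), (nat_lit 0xba3, nat_lit 0), (nat_lit 0x810, nat_lit 0), (nat_lit 678, nat_lit 0), (nat_lit 95, nat_lit 0), (nat_lit 0xcad, nat_lit 0), (nat_lit 0xaf8, nat_lit 0), (nat_lit 0x951, nat_lit 0), (nat_lit 0xf98, nat_lit 0), (nat_lit 0x69f, nat_lit 0), (nat_lit 0x5ad, nat_lit 0), (nat_lit 388, nat_lit 0), (nat_lit 0xa95, nat_lit 0), (nat_lit 0x814, nat_lit 0), (nat_lit 0x61b, nat_lit 0), (nat_lit 0x45a, nat_lit 0), (nat_lit 718, nat_lit 0), (nat_lit 0x6e9, nat_lit 0), (nat_lit 965, nat_lit 0), (nat_lit 0x40f, nat_lit 0), (nat_lit 0xa55, nat_lit 0), (nat_lit 0xdec, nat_lit 0), (nat_lit 0x8ab, nat_lit 0), (nat_lit 0x9d4, nat_lit 0), (nat_lit 0x9f2, nat_lit 0), (nat_lit 809, nat_lit 0), (nat_lit 0xfb8, nat_lit 0), (nat_lit 123, nat_lit 0), (nat_lit 0x542, nat_lit 0), (nat_lit 141, nat_lit 0), (nat_lit 0x70e, nat_lit 0), (nat_lit 743, nat_lit 0), (nat_lit 928, nat_lit 0), (nat_lit 327, nat_lit 0), (nat_lit 857, nat_lit 0), (nat_lit 0xd63, nat_lit 0), (nat_lit 0xd86, nat_lit 0), (nat_lit 0x7fc, nat_lit 0), (nat_lit 0x959, nat_lit 0), (nat_lit 0xb73, nat_lit 0), (nat_lit 221, nat_lit 0), (nat_lit 0x5ba, nat_lit 0), (nat_lit 0xa5a, nat_lit 0), (nat_lit 0x99b, nat_lit 0), (nat_lit 792, nat_lit 0), (nat_lit 12, nat_lit 0), (nat_lit 0x95c, nat_lit 0), (nat_lit 0xfbe, nat_lit 0), (nat_lit 942, nat_lit 0), (nat_lit 0x426, nat_lit 0), (nat_lit 0x571, nat_lit 0), (nat_lit 0x7d0, nat_lit 0), (nat_lit 0x847, nat_lit 0), (nat_lit 0x65c, nat_lit 0), (nat_lit 715, nat_lit 0), (nat_lit 0x4c1, nat_lit 0), (nat_lit 0x739, nat_lit 0), (nat_lit 952, nat_lit 0), (nat_lit 0xbcc, nat_lit 0), (nat_lit 0xdb5, nat_lit 0), (nat_lit 534, nat_lit 0), (nat_lit 700, nat_lit 0), (nat_lit 0xed5, nat_lit 0), (nat_lit 409, nat_lit 0), (nat_lit 0x8f0, nat_lit 0), (nat_lit 266, nat_lit 0), (nat_lit 801, nat_lit 0), (nat_lit 0xe9c, nat_lit 0), (nat_lit 0xd04, nat_lit 0), (nat_lit 0x71a, nat_lit 0), (nat_lit 0xdc7, nat_lit 0), (nat_lit 267, nat_lit 0), (nat_lit 0x4c9, nat_lit 0), (nat_lit 0xed1, nat_lit 0), (nat_lit 0xdef, nat_lit 0), (nat_lit 0xad9, nat_lit 0), (nat_lit 0xae8, nat_lit 0), (nat_lit 0xe6a, nat_lit 0), (nat_lit 590, nat_lit 0), (nat_lit 0xe4e, nat_lit 0), (nat_lit 0xe5d, nat_lit 0), (nat_lit 893, nat_lit 0), (nat_lit 0x78c, nat_lit 0), (nat_lit 0x845, nat_lit 0), (nat_lit 0xe45, nat_lit 0), (nat_lit 0x3fe, nat_lit 0), (nat_lit 511, nat_lit 0), (nat_lit 244, nat_lit 0), (nat_lit 0x7c3, nat_lit 0), (nat_lit 0xcc0, nat_lit 0), (nat_lit 0x9f7, nat_lit 0), (nat_lit 807, nat_lit 0), (nat_lit 0x99d, nat_lit 0), (nat_lit 591, nat_lit 0), (nat_lit 67, nat_lit 0), (nat_lit 0x50e, nat_lit 0), (nat_lit 0x444, nat_lit 0), (nat_lit 713, nat_lit 0), (nat_lit 0x918, nat_lit 0), (nat_lit 0xa54, nat_lit 0), (nat_lit 0xe59, nat_lit 0), (nat_lit 0x9e6, nat_lit 0), (nat_lit 41, nat_lit 0), (nat_lit 0xc38, nat_lit 0), (nat_lit 0xacf, nat_lit 0), (nat_lit 892, nat_lit 0), (nat_lit 0x8ce, nat_lit 0), (nat_lit 0x8bf, nat_lit 0), (nat_lit 575, nat_lit 0), (nat_lit 0xfd1, nat_lit 0), (nat_lit 0x93a, nat_lit 0), (nat_lit 544, nat_lit 0), (nat_lit 0x72e, nat_lit 0), (nat_lit 0xd4e, nat_lit 0), (nat_lit 0xa9e, nat_lit 0), (nat_lit 0x757, nat_lit 0), (nat_lit 0xb36, nat_lit 0), (nat_lit 0x8bc, nat_lit 0), (nat_lit 0x7cd, nat_lit 0), (nat_lit 0x952, nat_lit 0), (nat_lit 0x8f7, nat_lit 0), (nat_lit 0x524, nat_lit 0), (nat_lit 0x546, nat_lit 0), (nat_lit 0xf82, nat_lit 0), (nat_lit 546, nat_lit 0), (nat_lit 0xc68, nat_lit 0), (nat_lit 0xd7b, nat_lit 0), (nat_lit 0x6c5, nat_lit 0), (nat_lit 0x4c6, nat_lit 0), (nat_lit 125, nat_lit 0), (nat_lit 0x830, nat_lit 0), (nat_lit 0x5f0, nat_lit 0), (nat_lit 298, nat_lit 0), (nat_lit 0x95a, nat_lit 0), (nat_lit 0x9bd, nat_lit 0), (nat_lit 0xcf9, nat_lit 0), (nat_lit 0x57e, nat_lit 0), (nat_lit 0xdb3, nat_lit 0), (nat_lit 0xacd, nat_lit 0), (nat_lit 323, nat_lit 0), (nat_lit 0xa31, nat_lit 0), (nat_lit 0x70d, nat_lit 0), (nat_lit 281, nat_lit 0), (nat_lit 0x94b, nat_lit 0), (nat_lit 0x861, nat_lit 0), (nat_lit 117, nat_lit 0), (nat_lit 303, nat_lit 0), (nat_lit 0x55a, nat_lit 0), (nat_lit 0xf1d, nat_lit 0), (nat_lit 0x7ab, nat_lit 0), (nat_lit 0xb06, nat_lit 0), (nat_lit 0xa49, nat_lit 0), (nat_lit 0x6f4, nat_lit 0), (nat_lit 0x6f0, nat_lit 0), (nat_lit 0x834, nat_lit 0), (nat_lit 0xd57, nat_lit 0), (nat_lit 405, nat_lit 0), (nat_lit 0x8d0, nat_lit 0), (nat_lit 0xfc8, nat_lit 0), (nat_lit 0x63e, nat_lit 0), (nat_lit 899, nat_lit 0), (nat_lit 0x49a, nat_lit 0), (nat_lit 0xac4, nat_lit 0), (nat_lit 0x4c8, nat_lit 0), (nat_lit 53, nat_lit 0), (nat_lit 0xfc5, nat_lit 0), (nat_lit 0xef8, nat_lit 0), (nat_lit 241, nat_lit 0), (nat_lit 0x6f1, nat_lit 0), (nat_lit 0xe5e, nat_lit 0), (nat_lit 0x6d2, nat_lit 0), (nat_lit 971, nat_lit 0), (nat_lit 0x98d, nat_lit 0), (nat_lit 999, nat_lit 0), (nat_lit 345, nat_lit 0), (nat_lit 0x67c, nat_lit 0), (nat_lit 0xf07, nat_lit 0), (nat_lit 0x668, nat_lit 0), (nat_lit 0xb49, nat_lit 0), (nat_lit 0xf42, nat_lit 0), (nat_lit 0xaf0, nat_lit 0), (nat_lit 307, nat_lit 0), (nat_lit 169, nat_lit 0), (nat_lit 0xe97, nat_lit 0), (nat_lit 0xc80, nat_lit 0), (nat_lit 0x464, nat_lit 0), (nat_lit 0xf99, nat_lit 0), (nat_lit 0xb52, nat_lit 0), (nat_lit 683, nat_lit 0), (nat_lit 0xc9d, nat_lit 0), (nat_lit 0x44a, nat_lit 0), (nat_lit 930, nat_lit 0), (nat_lit 0xefc, nat_lit 0), (nat_lit 0xc30, nat_lit 0), (nat_lit 0xaa9, nat_lit 0), (nat_lit 0x5c6, nat_lit 0), (nat_lit 0x9f0, nat_lit 0), (nat_lit 0xe66, nat_lit 0), (nat_lit 690, nat_lit 0), (nat_lit 0x450, nat_lit 0), (nat_lit 0xd97, nat_lit 0), (nat_lit 0xb68, nat_lit 0), (nat_lit 309, nat_lit 0), (nat_lit 0x52a, nat_lit 0), (nat_lit 0xdf8, nat_lit 0), (nat_lit 130, nat_lit 0), (nat_lit 0x65a, nat_lit 0), (nat_lit 0xd41, nat_lit 0), (nat_lit 702, nat_lit 0), (nat_lit 463, nat_lit 0), (nat_lit 0xdea, nat_lit 0), (nat_lit 838, nat_lit 0), (nat_lit 0x759, nat_lit 0), (nat_lit 0x56e, nat_lit 0), (nat_lit 0xb30, nat_lit 0), (nat_lit 960, nat_lit 0), (nat_lit 0xc58, nat_lit 0), (nat_lit 214, nat_lit 0), (nat_lit 0xe33, nat_lit 0), (nat_lit 0xa78, nat_lit 0), (nat_lit 0x5ab, nat_lit 0), (nat_lit 620, nat_lit 0), (nat_lit 0x982, nat_lit 0), (nat_lit 0x69b, nat_lit 0), (nat_lit 0xa8c, nat_lit 0), (nat_lit 0xf97, nat_lit 0), (nat_lit 0x4d8, nat_lit 0), (nat_lit 0xf52, nat_lit 0), (nat_lit 0xda7, nat_lit 0), (nat_lit 0xa0e, nat_lit 0), (nat_lit 0x412, nat_lit 0), (nat_lit 724, nat_lit 0), (nat_lit 0x597, nat_lit 0), (nat_lit 2, nat_lit 0), (nat_lit 926, nat_lit 0), (nat_lit 821, nat_lit 0), (nat_lit 925, nat_lit 0), (nat_lit 0x408, nat_lit 0), (nat_lit 0x41b, nat_lit 0), (nat_lit 0xaeb, nat_lit 0), (nat_lit 0xeda, nat_lit 0), (nat_lit 0xa30, nat_lit 0), (nat_lit 424, nat_lit 0), (nat_lit 0xbba, nat_lit 0), (nat_lit 814, nat_lit 0), (nat_lit 0xf81, nat_lit 0), (nat_lit 0xd32, nat_lit 0), (nat_lit 0xec6, nat_lit 0), (nat_lit 0x888, nat_lit 0), (nat_lit 0x735, nat_lit 0), (nat_lit 0x596, nat_lit 0), (nat_lit 389, nat_lit 0), (nat_lit 100, nat_lit 0), (nat_lit 484, nat_lit 0), (nat_lit 0x590, nat_lit 0), (nat_lit 422, nat_lit 0), (nat_lit 681, nat_lit 0), (nat_lit 0xfb4, nat_lit 0), (nat_lit 513, nat_lit 0), (nat_lit 205, nat_lit 0), (nat_lit 0x66a, nat_lit 0), (nat_lit 28, nat_lit 0), (nat_lit 0xced, nat_lit 0), (nat_lit 0xa56, nat_lit 0), (nat_lit 0xc9f, nat_lit 0), (nat_lit 0x9f8, nat_lit 0), (nat_lit 0xbca, nat_lit 0), (nat_lit 0xa39, nat_lit 0), (nat_lit 921, nat_lit 0), (nat_lit 72, nat_lit 0), (nat_lit 0x7a8, nat_lit 0), (nat_lit 0x8d9, nat_lit 0), (nat_lit 0xcc3, nat_lit 0), (nat_lit 0x721, nat_lit 0), (nat_lit 0x609, nat_lit 0), (nat_lit 0xb82, nat_lit 0), (nat_lit 0xc21, nat_lit 0), (nat_lit 0xd9d, nat_lit 0), (nat_lit 0xa53, nat_lit 0), (nat_lit 0xf32, nat_lit 0), (nat_lit 784, nat_lit 0), (nat_lit 0x422, nat_lit 0), (nat_lit 293, nat_lit 0), (nat_lit 692, nat_lit 0), (nat_lit 0xe75, nat_lit 0), (nat_lit 0xd3b, nat_lit 0), (nat_lit 0x994, nat_lit 0), (nat_lit 0x882, nat_lit 0), (nat_lit 428, nat_lit 0), (nat_lit 653, nat_lit 0), (nat_lit 671, nat_lit 0), (nat_lit 0x758, nat_lit 0), (nat_lit 0xa85, nat_lit 0), (nat_lit 987, nat_lit 0), (nat_lit 0xcb9, nat_lit 0), (nat_lit 0x4e6, nat_lit 0), (nat_lit 983, nat_lit 0), (nat_lit 0x3f4, nat_lit 0), (nat_lit 0xbb8, nat_lit 0), (nat_lit 0x486, nat_lit 0), (nat_lit 931, nat_lit 0), (nat_lit 209, nat_lit 0), (nat_lit 0xe29, nat_lit 0), (nat_lit 0x3ec, nat_lit 0), (nat_lit 0x536, nat_lit 0), (nat_lit 0x4eb, nat_lit 0), (nat_lit 0xc6a, nat_lit 0), (nat_lit 766, nat_lit 0), (nat_lit 0xcfa, nat_lit 0), (nat_lit 0xddc, nat_lit 0), (nat_lit 0xe7d, nat_lit 0), (nat_lit 830, nat_lit 0), (nat_lit 0x733, nat_lit 0), (nat_lit 0xfd4, nat_lit 0), (nat_lit 767, nat_lit 0), (nat_lit 0x53b, nat_lit 0), (nat_lit 0x96d, nat_lit 0), (nat_lit 0xdca, nat_lit 0), (nat_lit 0xd91, nat_lit 0), (nat_lit 859, nat_lit 0), (nat_lit 0xf40, nat_lit 0), (nat_lit 0xa51, nat_lit 0), (nat_lit 0x7c9, nat_lit 0), (nat_lit 964, nat_lit 0), (nat_lit 0xefe, nat_lit 0), (nat_lit 0x6de, nat_lit 0), (nat_lit 0x91f, nat_lit 0), (nat_lit 0xd12, nat_lit 0), (nat_lit 0xba0, nat_lit 0), (nat_lit 0x489, nat_lit 0), (nat_lit 228, nat_lit 0), (nat_lit 651, nat_lit 0), (nat_lit 593, nat_lit 0), (nat_lit 17, nat_lit 0), (nat_lit 0x855, nat_lit 0), (nat_lit 0xc82, nat_lit 0), (nat_lit 741, nat_lit 0), (nat_lit 0x97d, nat_lit 0), (nat_lit 0x67b, nat_lit 0), (nat_lit 0xc4b, nat_lit 0), (nat_lit 0x44c, nat_lit 0), (nat_lit 969, nat_lit 0), (nat_lit 366, nat_lit 0), (nat_lit 0xae0, nat_lit 0), (nat_lit 0x6d4, nat_lit 0), (nat_lit 685, nat_lit 0), (nat_lit 0x5fd, nat_lit 0), (nat_lit 0x56a, nat_lit 0), (nat_lit 0xa86, nat_lit 0), (nat_lit 0x6d0, nat_lit 0), (nat_lit 0xd31, nat_lit 0), (nat_lit 0xa9c, nat_lit 0), (nat_lit 0x849, nat_lit 0), (nat_lit 0xf2d, nat_lit 0), (nat_lit 0xba4, nat_lit 0), (nat_lit 0xb4e, nat_lit 0), (nat_lit 0x4b5, nat_lit 0), (nat_lit 0xde1, nat_lit 0), (nat_lit 0xee9, nat_lit 0), (nat_lit 235, nat_lit 0), (nat_lit 0x488, nat_lit 0), (nat_lit 0x5a5, nat_lit 0), (nat_lit 0xe23, nat_lit 0), (nat_lit 0x92b, nat_lit 0), (nat_lit 0x499, nat_lit 0), (nat_lit 0xe78, nat_lit 0), (nat_lit 0x67f, nat_lit 0), (nat_lit 0x76e, nat_lit 0), (nat_lit 0x415, nat_lit 0), (nat_lit 356, nat_lit 0), (nat_lit 0xf17, nat_lit 0), (nat_lit 0xdad, nat_lit 0), (nat_lit 0xc0c, nat_lit 0), (nat_lit 0xbff, nat_lit 0), (nat_lit 992, nat_lit 0), (nat_lit 0xa8f, nat_lit 0), (nat_lit 315, nat_lit 0), (nat_lit 0xb05, nat_lit 0), (nat_lit 0xa71, nat_lit 0), (nat_lit 0x550, nat_lit 0), (nat_lit 0xe10, nat_lit 0), (nat_lit 0xdc9, nat_lit 0), (nat_lit 0x568, nat_lit 0), (nat_lit 0xb8b, nat_lit 0), (nat_lit 361, nat_lit 0), (nat_lit 0x52f, nat_lit 0), (nat_lit 0xebc, nat_lit 0), (nat_lit 0xd3f, nat_lit 0), (nat_lit 694, nat_lit 0), (nat_lit 0xa0a, nat_lit 0), (nat_lit 571, nat_lit 0), (nat_lit 0xd16, nat_lit 0), (nat_lit 0xce3, nat_lit 0), (nat_lit 0xf69, nat_lit 0), (nat_lit 0x688, nat_lit 0), (nat_lit 0x6e0, nat_lit 0), (nat_lit 264, nat_lit 0), (nat_lit 354, nat_lit 0), (nat_lit 0xfb1, nat_lit 0), (nat_lit 0xcb6, nat_lit 0), (nat_lit 0xe5a, nat_lit 0), (nat_lit 246, nat_lit 0), (nat_lit 377, nat_lit 0), (nat_lit 0x65d, nat_lit 0), (nat_lit 586, nat_lit 0), (nat_lit 0xf53, nat_lit 0), (nat_lit 0xcff, nat_lit 0), (nat_lit 0x448, nat_lit 0), (nat_lit 0xc44, nat_lit 0), (nat_lit 0xa83, nat_lit 0), (nat_lit 0x7f9, nat_lit 0), (nat_lit 0xe2c, nat_lit 0), (nat_lit 0x5fc, nat_lit 0), (nat_lit 0xf84, nat_lit 0), (nat_lit 948, nat_lit 0), (nat_lit 0xf75, nat_lit 0), (nat_lit 0xccf, nat_lit 0), (nat_lit 863, nat_lit 0), (nat_lit 9, nat_lit 0), (nat_lit 0x98a, nat_lit 0), (nat_lit 967, nat_lit 0), (nat_lit 0x6b5, nat_lit 0), (nat_lit 0xf8f, nat_lit 0), (nat_lit 0xabe, nat_lit 0), (nat_lit 0x8f9, nat_lit 0), (nat_lit 0x515, nat_lit 0), (nat_lit 0x674, nat_lit 0), (nat_lit 0x5fa, nat_lit 0), (nat_lit 0x487, nat_lit 0), (nat_lit 441, nat_lit 0), (nat_lit 0xd5c, nat_lit 0), (nat_lit 0x8ea, nat_lit 0), (nat_lit 458, nat_lit 0), (nat_lit 0xfc4, nat_lit 0), (nat_lit 0xd60, nat_lit 0), (nat_lit 0x9fa, nat_lit 0), (nat_lit 640, nat_lit 0), (nat_lit 0x89b, nat_lit 0), (nat_lit 0x716, nat_lit 0), (nat_lit 0x585, nat_lit 0), (nat_lit 0x978, nat_lit 0), (nat_lit 397, nat_lit 0), (nat_lit 0xc2f, nat_lit 0), (nat_lit 0xc96, nat_lit 0), (nat_lit 0xeb6, nat_lit 0), (nat_lit 0x97a, nat_lit 0), (nat_lit 0xe64, nat_lit 0), (nat_lit 0x43f, nat_lit 0), (nat_lit 0xaac, nat_lit 0), (nat_lit 970, nat_lit 0), (nat_lit 553, nat_lit 0), (nat_lit 0xa8a, nat_lit 0), (nat_lit 0x69e, nat_lit 0), (nat_lit 0xf62, nat_lit 0), (nat_lit 0x91a, nat_lit 0), (nat_lit 0xbc9, nat_lit 0), (nat_lit 0xf51, nat_lit 0), (nat_lit 288, nat_lit 0), (nat_lit 0x69a, nat_lit 0), (nat_lit 0xa21, nat_lit 0), (nat_lit 0x8c9, nat_lit 0), (nat_lit 0xa0b, nat_lit 0), (nat_lit 772, nat_lit 0), (nat_lit 0x4db, nat_lit 0), (nat_lit 240, nat_lit 0), (nat_lit 0xdf2, nat_lit 0), (nat_lit 0x474, nat_lit 0), (nat_lit 0xcaa, nat_lit 0), (nat_lit 0x97c, nat_lit 0), (nat_lit 369, nat_lit 0), (nat_lit 506, nat_lit 0), (nat_lit 133, nat_lit 0), (nat_lit 0xe81, nat_lit 0), (nat_lit 0x864, nat_lit 0), (nat_lit 0xc1d, nat_lit 0), (nat_lit 667, nat_lit 0), (nat_lit 0xef1, nat_lit 0), (nat_lit 0xd54, nat_lit 0), (nat_lit 0x8e3, nat_lit 0), (nat_lit 0x7aa, nat_lit 0), (nat_lit 0xa5b, nat_lit 0), (nat_lit 0xb01, nat_lit 0), (nat_lit 0xd2a, nat_lit 0), (nat_lit 0xc9a, nat_lit 0), (nat_lit 573, nat_lit 0), (nat_lit 889, nat_lit 0), (nat_lit 0x66e, nat_lit 0), (nat_lit 371, nat_lit 0), (nat_lit 0xb25, nat_lit 0), (nat_lit 0xf8e, nat_lit 0), (nat_lit 91, nat_lit 0), (nat_lit 0xa7a, nat_lit 0), (nat_lit 378, nat_lit 0), (nat_lit 0x6bc, nat_lit 0), (nat_lit 0x7ec, nat_lit 0), (nat_lit 0xd75, nat_lit 0), (nat_lit 0x90c, nat_lit 0), (nat_lit 0xc3f, nat_lit 0), (nat_lit 0xbaa, nat_lit 0), (nat_lit 0xa6c, nat_lit 0), (nat_lit 0xe4f, nat_lit 0), (nat_lit 0xee1, nat_lit 0), (nat_lit 0x5fb, nat_lit 0), (nat_lit 850, nat_lit 0), (nat_lit 0x8a8, nat_lit 0), (nat_lit 0xa91, nat_lit 0), (nat_lit 870, nat_lit 0), (nat_lit 0xb89, nat_lit 0), (nat_lit 0x657, nat_lit 0), (nat_lit 0xe3a, nat_lit 0), (nat_lit 0xc1f, nat_lit 0), (nat_lit 346, nat_lit 0), (nat_lit 430, nat_lit 0), (nat_lit 0xa12, nat_lit 0), (nat_lit 580, nat_lit 0), (nat_lit 89, nat_lit 0), (nat_lit 155, nat_lit 0), (nat_lit 0x610, nat_lit 0), (nat_lit 0xf46, nat_lit 0), (nat_lit 0xcaf, nat_lit 0), (nat_lit 0xd6c, nat_lit 0), (nat_lit 0xce0, nat_lit 0), (nat_lit 0xc12, nat_lit 0), (nat_lit 0x77c, nat_lit 0), (nat_lit 0x9bb, nat_lit 0), (nat_lit 0x526, nat_lit 0), (nat_lit 0x531, nat_lit 0), (nat_lit 0xeef, nat_lit 0), (nat_lit 500, nat_lit 0), (nat_lit 0xd23, nat_lit 0), (nat_lit 0x920, nat_lit 0), (nat_lit 0x623, nat_lit 0), (nat_lit 0xa52, nat_lit 0), (nat_lit 0x650, nat_lit 0), (nat_lit 0x988, nat_lit 0), (nat_lit 0x707, nat_lit 0), (nat_lit 0xbb7, nat_lit 0), (nat_lit 0xd9e, nat_lit 0), (nat_lit 0x87a, nat_lit 0), (nat_lit 0xc55, nat_lit 0), (nat_lit 0xf59, nat_lit 0), (nat_lit 0x530, nat_lit 0), (nat_lit 0x428, nat_lit 0), (nat_lit 261, nat_lit 0), (nat_lit 550, nat_lit 0), (nat_lit 0x442, nat_lit 0), (nat_lit 0x687, nat_lit 0), (nat_lit 981, nat_lit 0), (nat_lit 109, nat_lit 0), (nat_lit 901, nat_lit 0), (nat_lit 207, nat_lit 0), (nat_lit 0xb9a, nat_lit 0), (nat_lit 0xbf4, nat_lit 0), (nat_lit 0x85a, nat_lit 0), (nat_lit 206, nat_lit 0), (nat_lit 0x598, nat_lit 0), (nat_lit 44, nat_lit 0), (nat_lit 0x59b, nat_lit 0), (nat_lit 0xc6d, nat_lit 0), (nat_lit 300, nat_lit 0), (nat_lit 0x6ca, nat_lit 0), (nat_lit 0xcd9, nat_lit 0), (nat_lit 654, nat_lit 0), (nat_lit 0xb0d, nat_lit 0), (nat_lit 0x49c, nat_lit 0), (nat_lit 0xe6c, nat_lit 0), (nat_lit 7, nat_lit 0), (nat_lit 0x8d6, nat_lit 0), (nat_lit 0xa7d, nat_lit 0), (nat_lit 0xaa2, nat_lit 0), (nat_lit 0x9af, nat_lit 0), (nat_lit 0x5ef, nat_lit 0), (nat_lit 0x9ca, nat_lit 0), (nat_lit 0xdeb, nat_lit 0), (nat_lit 0x5bf, nat_lit 0), (nat_lit 0x40b, nat_lit 0), (nat_lit 0xd8c, nat_lit 0), (nat_lit 0x7c8, nat_lit 0), (nat_lit 0xf6c, nat_lit 0), (nat_lit 0x8b9, nat_lit 0), (nat_lit 0xb50, nat_lit 0), (nat_lit 0xb1c, nat_lit 0), (nat_lit 0x8e2, nat_lit 0), (nat_lit 0xa14, nat_lit 0), (nat_lit 755, nat_lit 0), (nat_lit 0x781, nat_lit 0), (nat_lit 0xa06, nat_lit 0), (nat_lit 0xac2, nat_lit 0), (nat_lit 0xbd9, nat_lit 0), (nat_lit 0x9b4, nat_lit 0), (nat_lit 0xd42, nat_lit 0), (nat_lit 0x719, nat_lit 0), (nat_lit 308, nat_lit 0), (nat_lit 0xc94, nat_lit 0), (nat_lit 0x84c, nat_lit 0), (nat_lit 0xcd5, nat_lit 0), (nat_lit 0x599, nat_lit 0), (nat_lit 609, nat_lit 0), (nat_lit 0x5d0, nat_lit 0), (nat_lit 0x872, nat_lit 0), (nat_lit 51, nat_lit 0), (nat_lit 180, nat_lit 0), (nat_lit 795, nat_lit 0), (nat_lit 0xa32, nat_lit 0), (nat_lit 0x7d5, nat_lit 0), (nat_lit 0xeed, nat_lit 0), (nat_lit 0x986, nat_lit 0), (nat_lit 0xeee, nat_lit 0), (nat_lit 177, nat_lit 0), (nat_lit 510, nat_lit 0), (nat_lit 0xf05, nat_lit 0), (nat_lit 0x84d, nat_lit 0), (nat_lit 0x921, nat_lit 0), (nat_lit 0xb7b, nat_lit 0), (nat_lit 0x804, nat_lit 0), (nat_lit 0x927, nat_lit 0), (nat_lit 0x478, nat_lit 0), (nat_lit 0xed0, nat_lit 0), (nat_lit 0x4ca, nat_lit 0), (nat_lit 231, nat_lit 0), (nat_lit 203, nat_lit 0), (nat_lit 929, nat_lit 0), (nat_lit 0x4cb, nat_lit 0), (nat_lit 0x6cc, nat_lit 0), (nat_lit 417, nat_lit 0), (nat_lit 0x846, nat_lit 0), (nat_lit 0x466, nat_lit 0), (nat_lit 0xe40, nat_lit 0), (nat_lit 0x523, nat_lit 0), (nat_lit 0x5cf, nat_lit 0), (nat_lit 598, nat_lit 0), (nat_lit 0x50c, nat_lit 0), (nat_lit 0xbf0, nat_lit 0), (nat_lit 0x5cb, nat_lit 0), (nat_lit 0xaed, nat_lit 0), (nat_lit 0xda4, nat_lit 0), (nat_lit 0x7e6, nat_lit 0), (nat_lit 0xfae, nat_lit 0), (nat_lit 0x766, nat_lit 0), (nat_lit 322, nat_lit 0), (nat_lit 243, nat_lit 0), (nat_lit 321, nat_lit 0), (nat_lit 0xe3b, nat_lit 0), (nat_lit 706, nat_lit 0), (nat_lit 729, nat_lit 0), (nat_lit 0xc06, nat_lit 0), (nat_lit 0xe7b, nat_lit 0), (nat_lit 0xf3a, nat_lit 0), (nat_lit 0x504, nat_lit 0), (nat_lit 611, nat_lit 0), (nat_lit 810, nat_lit 0), (nat_lit 59, nat_lit 0), (nat_lit 535, nat_lit 0), (nat_lit 0xb76, nat_lit 0), (nat_lit 0x401, nat_lit 0), (nat_lit 0xaa3, nat_lit 0), (nat_lit 40, nat_lit 0), (nat_lit 600, nat_lit 0), (nat_lit 0x5d9, nat_lit 0), (nat_lit 0xbcf, nat_lit 0), (nat_lit 0xfba, nat_lit 0), (nat_lit 0xec1, nat_lit 0), (nat_lit 0x445, nat_lit 0), (nat_lit 0x510, nat_lit 0), (nat_lit 944, nat_lit 0), (nat_lit 0xec8, nat_lit 0), (nat_lit 0xc65, nat_lit 0), (nat_lit 764, nat_lit 0), (nat_lit 0x77d, nat_lit 0), (nat_lit 0xe49, nat_lit 0), (nat_lit 0xed4, nat_lit 0), (nat_lit 0x839, nat_lit 0), (nat_lit 0x5c5, nat_lit 0), (nat_lit 0x5ec, nat_lit 0), (nat_lit 0xd3d, nat_lit 0), (nat_lit 85, nat_lit 0), (nat_lit 0xfb2, nat_lit 0), (nat_lit 0x3f5, nat_lit 0), (nat_lit 0xbf9, nat_lit 0), (nat_lit 0x729, nat_lit 0), (nat_lit 193, nat_lit 0), (nat_lit 0xda2, nat_lit 0), (nat_lit 0x76a, nat_lit 0), (nat_lit 0xc6b, nat_lit 0), (nat_lit 0x4de, nat_lit 0), (nat_lit 292, nat_lit 0), (nat_lit 817, nat_lit 0), (nat_lit 0x705, nat_lit 0), (nat_lit 0xccb, nat_lit 0), (nat_lit 0x461, nat_lit 0), (nat_lit 90, nat_lit 0), (nat_lit 990, nat_lit 0), (nat_lit 0xc81, nat_lit 0), (nat_lit 0xab6, nat_lit 0), (nat_lit 0xf0a, nat_lit 0), (nat_lit 0x7e4, nat_lit 0), (nat_lit 716, nat_lit 0), (nat_lit 0x8f2, nat_lit 0), (nat_lit 0xc11, nat_lit 0), (nat_lit 0x6b7, nat_lit 0), (nat_lit 0x5b8, nat_lit 0), (nat_lit 0xe6e, nat_lit 0), (nat_lit 0xd96, nat_lit 0), (nat_lit 0xb09, nat_lit 0), (nat_lit 0x93f, nat_lit 0), (nat_lit 0xaa4, nat_lit 0), (nat_lit 149, nat_lit 0), (nat_lit 0x545, nat_lit 0), (nat_lit 0x46c, nat_lit 0), (nat_lit 0xd52, nat_lit 0), (nat_lit 0x594, nat_lit 0), (nat_lit 0xe0f, nat_lit 0), (nat_lit 848, nat_lit 0), (nat_lit 0xc61, nat_lit 0), (nat_lit 0xd85, nat_lit 0), (nat_lit 0x71c, nat_lit 0), (nat_lit 76, nat_lit 0), (nat_lit 173, nat_lit 0), (nat_lit 446, nat_lit 0), (nat_lit 0x812, nat_lit 0), (nat_lit 0x7e9, nat_lit 0), (nat_lit 0x529, nat_lit 0), (nat_lit 0xecd, nat_lit 0), (nat_lit 0xe17, nat_lit 0), (nat_lit 0x7f1, nat_lit 0), (nat_lit 0xc26, nat_lit 0), (nat_lit 0xdbc, nat_lit 0), (nat_lit 0x661, nat_lit 0), (nat_lit 0x78e, nat_lit 0), (nat_lit 0xe7e, nat_lit 0), (nat_lit 0x8de, nat_lit 0), (nat_lit 0xbd5, nat_lit 0), (nat_lit 0xa76, nat_lit 0), (nat_lit 0x967, nat_lit 0), (nat_lit 140, nat_lit 0), (nat_lit 165, nat_lit 0), (nat_lit 0x5a1, nat_lit 0), (nat_lit 30, nat_lit 0), (nat_lit 0x923, nat_lit 0), (nat_lit 473, nat_lit 0), (nat_lit 0x6cb, nat_lit 0), (nat_lit 0xcf8, nat_lit 0), (nat_lit 437, nat_lit 0), (nat_lit 0x881, nat_lit 0), (nat_lit 0x87b, nat_lit 0), (nat_lit 0x6d6, nat_lit 0), (nat_lit 0x469, nat_lit 0), (nat_lit 0xed9, nat_lit 0), (nat_lit 144, nat_lit 0), (nat_lit 0x612, nat_lit 0), (nat_lit 497, nat_lit 0), (nat_lit 0x725, nat_lit 0), (nat_lit 0xbbe, nat_lit 0), (nat_lit 0x976, nat_lit 0), (nat_lit 0x74f, nat_lit 0), (nat_lit 0xbd3, nat_lit 0), (nat_lit 0x8be, nat_lit 0), (nat_lit 0x6c6, nat_lit 0), (nat_lit 0x5df, nat_lit 0), (nat_lit 0xdcd, nat_lit 0), (nat_lit 478, nat_lit 0), (nat_lit 156, nat_lit 0), (nat_lit 722, nat_lit 0), (nat_lit 927, nat_lit 0), (nat_lit 0x696, nat_lit 0), (nat_lit 0x7bd, nat_lit 0), (nat_lit 0x9cf, nat_lit 0), (nat_lit 0xbeb, nat_lit 0), (nat_lit 0x7bf, nat_lit 0), (nat_lit 0x565, nat_lit 0), (nat_lit 0xb9d, nat_lit 0), (nat_lit 0x7c2, nat_lit 0), (nat_lit 239, nat_lit 0), (nat_lit 429, nat_lit 0), (nat_lit 0xd95, nat_lit 0), (nat_lit 705, nat_lit 0), (nat_lit 269, nat_lit 0), (nat_lit 0x4ac, nat_lit 0), (nat_lit 0x6c7, nat_lit 0), (nat_lit 0xd1b, nat_lit 0), (nat_lit 0x790, nat_lit 0), (nat_lit 0xbbf, nat_lit 0), (nat_lit 0x409, nat_lit 0), (nat_lit 0xd20, nat_lit 0), (nat_lit 0xb67, nat_lit 0), (nat_lit 0xcee, nat_lit 0), (nat_lit 34, nat_lit 0), (nat_lit 612, nat_lit 0), (nat_lit 0xe84, nat_lit 0), (nat_lit 0x743, nat_lit 0), (nat_lit 0xb5b, nat_lit 0), (nat_lit 0x647, nat_lit 0), (nat_lit 734, nat_lit 0), (nat_lit 0x4ec, nat_lit 0), (nat_lit 0x7a6, nat_lit 0), (nat_lit 242, nat_lit 0), (nat_lit 0x96f, nat_lit 0), (nat_lit 0xee4, nat_lit 0), (nat_lit 0x9a8, nat_lit 0), (nat_lit 46, nat_lit 0), (nat_lit 0x933, nat_lit 0), (nat_lit 0x900, nat_lit 0), (nat_lit 0x724, nat_lit 0), (nat_lit 0x99e, nat_lit 0), (nat_lit 0x891, nat_lit 0), (nat_lit 0xce5, nat_lit 0), (nat_lit 0xb8e, nat_lit 0), (nat_lit 0x9d8, nat_lit 0), (nat_lit 0xda5, nat_lit 0), (nat_lit 0xa73, nat_lit 0), (nat_lit 468, nat_lit 0), (nat_lit 0x77b, nat_lit 0), (nat_lit 0xf5c, nat_lit 0), (nat_lit 0xd43, nat_lit 0), (nat_lit 0xf38, nat_lit 0), (nat_lit 0xe70, nat_lit 0), (nat_lit 765, nat_lit 0), (nat_lit 0xdd4, nat_lit 0), (nat_lit 0xbc6, nat_lit 0), (nat_lit 0xec0, nat_lit 0), (nat_lit 0x9be, nat_lit 0), (nat_lit 0xd70, nat_lit 0), (nat_lit 0x562, nat_lit 0), (nat_lit 903, nat_lit 0), (nat_lit 0xd58, nat_lit 0), (nat_lit 0x5b4, nat_lit 0), (nat_lit 978, nat_lit 0), (nat_lit 0xf85, nat_lit 0), (nat_lit 0x8a4, nat_lit 0), (nat_lit 0x98c, nat_lit 0), (nat_lit 0xcb2, nat_lit 0), (nat_lit 0xeb5, nat_lit 0), (nat_lit 0x4cf, nat_lit 0), (nat_lit 0x9c9, nat_lit 0), (nat_lit 0xf83, nat_lit 0), (nat_lit 0x81e, nat_lit 0), (nat_lit 0xf39, nat_lit 0), (nat_lit 0x6fe, nat_lit 0), (nat_lit 0xa1b, nat_lit 0), (nat_lit 351, nat_lit 0), (nat_lit 0xde4, nat_lit 0), (nat_lit 712, nat_lit 0), (nat_lit 0x6c8, nat_lit 0), (nat_lit 679, nat_lit 0), (nat_lit 0xd5e, nat_lit 0), (nat_lit 503, nat_lit 0), (nat_lit 0x665, nat_lit 0), (nat_lit 0xc7d, nat_lit 0), (nat_lit 0xa69, nat_lit 0), (nat_lit 0xf36, nat_lit 0), (nat_lit 0x787, nat_lit 0), (nat_lit 0x9ef, nat_lit 0), (nat_lit 0x964, nat_lit 0), (nat_lit 0xa89, nat_lit 0), (nat_lit 0xcb4, nat_lit 0), (nat_lit 854, nat_lit 0), (nat_lit 255, nat_lit 0), (nat_lit 0xae3, nat_lit 0), (nat_lit 0xb21, nat_lit 0), (nat_lit 0xe2f, nat_lit 0), (nat_lit 0xbfc, nat_lit 0), (nat_lit 386, nat_lit 0), (nat_lit 31, nat_lit 0), (nat_lit 0x916, nat_lit 0), (nat_lit 0x96e, nat_lit 0), (nat_lit 941, nat_lit 0), (nat_lit 0xab9, nat_lit 0), (nat_lit 0xf00, nat_lit 0), (nat_lit 738, nat_lit 0), (nat_lit 0xf34, nat_lit 0), (nat_lit 0x552, nat_lit 0), (nat_lit 0x6c3, nat_lit 0), (nat_lit 0xea9, nat_lit 0), (nat_lit 0x5c1, nat_lit 0), (nat_lit 0x884, nat_lit 0), (nat_lit 0x8c3, nat_lit 0), (nat_lit 0xa34, nat_lit 0), (nat_lit 524, nat_lit 0), (nat_lit 0x9b0, nat_lit 0), (nat_lit 0x4e3, nat_lit 0), (nat_lit 896, nat_lit 0), (nat_lit 0x750, nat_lit 0), (nat_lit 413, nat_lit 0), (nat_lit 0x80c, nat_lit 0), (nat_lit 0xe00, nat_lit 0), (nat_lit 0xcd3, nat_lit 0), (nat_lit 0xaab, nat_lit 0), (nat_lit 0xd2c, nat_lit 0), (nat_lit 0xa41, nat_lit 0), (nat_lit 332, nat_lit 0), (nat_lit 0x683, nat_lit 0), (nat_lit 0x7c5, nat_lit 0), (nat_lit 0x912, nat_lit 0), (nat_lit 0x8ef, nat_lit 0), (nat_lit 0xb4d, nat_lit 0), (nat_lit 909, nat_lit 0), (nat_lit 548, nat_lit 0), (nat_lit 0xf4b, nat_lit 0), (nat_lit 0xb41, nat_lit 0), (nat_lit 0x543, nat_lit 0), (nat_lit 0x533, nat_lit 0), (nat_lit 0xee8, nat_lit 0), (nat_lit 0xb1f, nat_lit 0), (nat_lit 0x465, nat_lit 0), (nat_lit 693, nat_lit 0), (nat_lit 0x508, nat_lit 0), (nat_lit 0x983, nat_lit 0), (nat_lit 0xc16, nat_lit 0), (nat_lit 393, nat_lit 0), (nat_lit 0xab7, nat_lit 0), (nat_lit 0xc22, nat_lit 0), (nat_lit 0xece, nat_lit 0), (nat_lit 0xcfd, nat_lit 0), (nat_lit 938, nat_lit 0), (nat_lit 636, nat_lit 0), (nat_lit 0xafb, nat_lit 0), (nat_lit 574, nat_lit 0), (nat_lit 0x73c, nat_lit 0), (nat_lit 0x5b5, nat_lit 0), (nat_lit 922, nat_lit 0), (nat_lit 0xba7, nat_lit 0), (nat_lit 0x47a, nat_lit 0), (nat_lit 0x64b, nat_lit 0), (nat_lit 0x4e8, nat_lit 0), (nat_lit 0xb71, nat_lit 0), (nat_lit 0x4a3, nat_lit 0), (nat_lit 0xea2, nat_lit 0), (nat_lit 0xbd4, nat_lit 0), (nat_lit 0xf33, nat_lit 0), (nat_lit 0xbf2, nat_lit 0), (nat_lit 0xa5c, nat_lit 0), (nat_lit 588, nat_lit 0), (nat_lit 280, nat_lit 0), (nat_lit 0x7e2, nat_lit 0), (nat_lit 0xbf6, nat_lit 0), (nat_lit 0x7d4, nat_lit 0), (nat_lit 0xe41, nat_lit 0), (nat_lit 0x5de, nat_lit 0), (nat_lit 36, nat_lit 0), (nat_lit 161, nat_lit 0), (nat_lit 0xf7c, nat_lit 0), (nat_lit 674, nat_lit 0), (nat_lit 0xe86, nat_lit 0), (nat_lit 0xeb0, nat_lit 0), (nat_lit 0xe28, nat_lit 0), (nat_lit 0x639, nat_lit 0), (nat_lit 0xf15, nat_lit 0), (nat_lit 0xf0b, nat_lit 0), (nat_lit 0xfcd, nat_lit 0), (nat_lit 955, nat_lit 0), (nat_lit 0xdb0, nat_lit 0), (nat_lit 0xade, nat_lit 0), (nat_lit 0xad0, nat_lit 0), (nat_lit 0xe19, nat_lit 0), (nat_lit 564, nat_lit 0), (nat_lit 111, nat_lit 0), (nat_lit 0xd9a, nat_lit 0), (nat_lit 0xf47, nat_lit 0), (nat_lit 0x491, nat_lit 0), (nat_lit 0x61c, nat_lit 0), (nat_lit 788, nat_lit 0), (nat_lit 945, nat_lit 0), (nat_lit 216, nat_lit 0), (nat_lit 884, nat_lit 0), (nat_lit 762, nat_lit 0), (nat_lit 0x44f, nat_lit 0), (nat_lit 0xde7, nat_lit 0), (nat_lit 954, nat_lit 0), (nat_lit 0x3ea, nat_lit 0), (nat_lit 227, nat_lit 0), (nat_lit 625, nat_lit 0), (nat_lit 0xba6, nat_lit 0), (nat_lit 0xd01, nat_lit 0), (nat_lit 0xf3f, nat_lit 0), (nat_lit 915, nat_lit 0), (nat_lit 0xe25, nat_lit 0), (nat_lit 0x547, nat_lit 0), (nat_lit 0xba5, nat_lit 0), (nat_lit 0xd1c, nat_lit 0), (nat_lit 445, nat_lit 0), (nat_lit 538, nat_lit 0), (nat_lit 0x6da, nat_lit 0), (nat_lit 0xebf, nat_lit 0), (nat_lit 0xc49, nat_lit 0), (nat_lit 0x90d, nat_lit 0), (nat_lit 447, nat_lit 0), (nat_lit 0x5ac, nat_lit 0), (nat_lit 0x62f, nat_lit 0), (nat_lit 0xac5, nat_lit 0), (nat_lit 566, nat_lit 0), (nat_lit 0x407, nat_lit 0), (nat_lit 0xf56, nat_lit 0), (nat_lit 0xd45, nat_lit 0), (nat_lit 0x490, nat_lit 0), (nat_lit 0x984, nat_lit 0), (nat_lit 0xe5f, nat_lit 0), (nat_lit 536, nat_lit 0), (nat_lit 0x63c, nat_lit 0), (nat_lit 0x501, nat_lit 0), (nat_lit 0x9d2, nat_lit 0), (nat_lit 0xb2d, nat_lit 0), (nat_lit 0xeaa, nat_lit 0), (nat_lit 0xcbf, nat_lit 0), (nat_lit 0x651, nat_lit 0), (nat_lit 0x769, nat_lit 0), (nat_lit 0xdf0, nat_lit 0), (nat_lit 0x7bb, nat_lit 0), (nat_lit 370, nat_lit 0), (nat_lit 0x492, nat_lit 0), (nat_lit 0x452, nat_lit 0), (nat_lit 0x405, nat_lit 0), (nat_lit 0xf8b, nat_lit 0), (nat_lit 560, nat_lit 0), (nat_lit 364, nat_lit 0), (nat_lit 0x91e, nat_lit 0), (nat_lit 0xc7a, nat_lit 0), (nat_lit 0x86f, nat_lit 0), (nat_lit 0xa8b, nat_lit 0), (nat_lit 643, nat_lit 0), (nat_lit 0xdff, nat_lit 0), (nat_lit 0xbee, nat_lit 0), (nat_lit 0x429, nat_lit 0), (nat_lit 0xde8, nat_lit 0), (nat_lit 890, nat_lit 0), (nat_lit 0xb42, nat_lit 0), (nat_lit 0x55e, nat_lit 0), (nat_lit 856, nat_lit 0), (nat_lit 0x635, nat_lit 0), (nat_lit 0xd0d, nat_lit 0), (nat_lit 866, nat_lit 0), (nat_lit 0xafd, nat_lit 0), (nat_lit 0x430, nat_lit 0), (nat_lit 846, nat_lit 0), (nat_lit 0xa59, nat_lit 0), (nat_lit 0xc59, nat_lit 0), (nat_lit 49, nat_lit 0), (nat_lit 0xda6, nat_lit 0), (nat_lit 0x75b, nat_lit 0), (nat_lit 0x770, nat_lit 0), (nat_lit 714, nat_lit 0), (nat_lit 0xf70, nat_lit 0), (nat_lit 0x59d, nat_lit 0), (nat_lit 337, nat_lit 0), (nat_lit 0x843, nat_lit 0), (nat_lit 0xed7, nat_lit 0), (nat_lit 0x78b, nat_lit 0), (nat_lit 0xb0b, nat_lit 0), (nat_lit 0xf16, nat_lit 0), (nat_lit 0x910, nat_lit 0), (nat_lit 0xb96, nat_lit 0), (nat_lit 0xd1d, nat_lit 0), (nat_lit 0xa4a, nat_lit 0), (nat_lit 286, nat_lit 0), (nat_lit 526, nat_lit 0), (nat_lit 0xea5, nat_lit 0), (nat_lit 570, nat_lit 0), (nat_lit 0x4e0, nat_lit 0), (nat_lit 0xebb, nat_lit 0), (nat_lit 0xbb3, nat_lit 0), (nat_lit 336, nat_lit 0), (nat_lit 845, nat_lit 0), (nat_lit 0xc71, nat_lit 0), (nat_lit 0xe05, nat_lit 0), (nat_lit 0x8c2, nat_lit 0), (nat_lit 627, nat_lit 0), (nat_lit 0x783, nat_lit 0), (nat_lit 0xe08, nat_lit 0), (nat_lit 0xcbd, nat_lit 0), (nat_lit 0xcfb, nat_lit 0), (nat_lit 0x43d, nat_lit 0), (nat_lit 0x5a9, nat_lit 0), (nat_lit 0x95d, nat_lit 0), (nat_lit 0xbab, nat_lit 0), (nat_lit 0x820, nat_lit 0), (nat_lit 0xb17, nat_lit 0), (nat_lit 0xc3b, nat_lit 0), (nat_lit 0x3f7, nat_lit 0), (nat_lit 0x457, nat_lit 0), (nat_lit 0xd15, nat_lit 0), (nat_lit 0x557, nat_lit 0), (nat_lit 368, nat_lit 0), (nat_lit 0x796, nat_lit 0), (nat_lit 387, nat_lit 0), (nat_lit 0xca3, nat_lit 0), (nat_lit 0x6a8, nat_lit 0), (nat_lit 0xe8d, nat_lit 0), (nat_lit 0xdcb, nat_lit 0), (nat_lit 0xcd2, nat_lit 0), (nat_lit 0x5c9, nat_lit 0), (nat_lit 0xd1e, nat_lit 0), (nat_lit 0xb04, nat_lit 0), (nat_lit 0xeff, nat_lit 0), (nat_lit 0xb90, nat_lit 0), (nat_lit 0x8f8, nat_lit 0), (nat_lit 0xf6d, nat_lit 0), (nat_lit 0xf67, nat_lit 0), (nat_lit 0x889, nat_lit 0), (nat_lit 0x703, nat_lit 0), (nat_lit 0xddb, nat_lit 0), (nat_lit 0x654, nat_lit 0), (nat_lit 176, nat_lit 0), (nat_lit 0x43e, nat_lit 0), (nat_lit 0x85b, nat_lit 0), (nat_lit 0x6af, nat_lit 0), (nat_lit 0x87d, nat_lit 0), (nat_lit 395, nat_lit 0), (nat_lit 0x693, nat_lit 0), (nat_lit 0xb4a, nat_lit 0), (nat_lit 0x636, nat_lit 0), (nat_lit 0xbdb, nat_lit 0), (nat_lit 0x82a, nat_lit 0), (nat_lit 8, nat_lit 0), (nat_lit 0x51c, nat_lit 0), (nat_lit 0xe24, nat_lit 0), (nat_lit 0x57b, nat_lit 0), (nat_lit 0x4b0, nat_lit 0), (nat_lit 0x9ed, nat_lit 0), (nat_lit 0xd5f, nat_lit 0), (nat_lit 0x9dd, nat_lit 0), (nat_lit 974, nat_lit 0), (nat_lit 0xb54, nat_lit 0), (nat_lit 0xe98, nat_lit 0), (nat_lit 0x874, nat_lit 0), (nat_lit 851, nat_lit 0), (nat_lit 0x935, nat_lit 0), (nat_lit 0x96b, nat_lit 0), (nat_lit 0x425, nat_lit 0), (nat_lit 0xf2c, nat_lit 0), (nat_lit 0xa75, nat_lit 0), (nat_lit 0x577, nat_lit 0), (nat_lit 0xc93, nat_lit 0), (nat_lit 0x7ca, nat_lit 0), (nat_lit 0xfc9, nat_lit 0), (nat_lit 0xeb9, nat_lit 0), (nat_lit 29, nat_lit 0), (nat_lit 0x649, nat_lit 0), (nat_lit 0x788, nat_lit 0), (nat_lit 0x613, nat_lit 0), (nat_lit 403, nat_lit 0), (nat_lit 0x870, nat_lit 0), (nat_lit 0xb78, nat_lit 0), (nat_lit 0x94f, nat_lit 0), (nat_lit 917, nat_lit 0), (nat_lit 482, nat_lit 0), (nat_lit 0x6a3, nat_lit 0), (nat_lit 0x5a8, nat_lit 0), (nat_lit 0xd5b, nat_lit 0), (nat_lit 0xcc1, nat_lit 0), (nat_lit 0x483, nat_lit 0), (nat_lit 0xc24, nat_lit 0), (nat_lit 0x9d5, nat_lit 0), (nat_lit 975, nat_lit 0), (nat_lit 223, nat_lit 0), (nat_lit 0x868, nat_lit 0), (nat_lit 0x74d, nat_lit 0), (nat_lit 0xc3d, nat_lit 0), (nat_lit 83, nat_lit 0), (nat_lit 0x4f9, nat_lit 0), (nat_lit 0xfa2, nat_lit 0), (nat_lit 294, nat_lit 0), (nat_lit 0x454, nat_lit 0), (nat_lit 0xa6f, nat_lit 0), (nat_lit 555, nat_lit 0), (nat_lit 0x579, nat_lit 0), (nat_lit 0x65e, nat_lit 0), (nat_lit 55, nat_lit 0), (nat_lit 0x7b7, nat_lit 0), (nat_lit 0xd72, nat_lit 0), (nat_lit 0xfa0, nat_lit 0), (nat_lit 0x946, nat_lit 0), (nat_lit 0x775, nat_lit 0), (nat_lit 0x85f, nat_lit 0), (nat_lit 475, nat_lit 0), (nat_lit 0xbc7, nat_lit 0), (nat_lit 0xb08, nat_lit 0), (nat_lit 63, nat_lit 0), (nat_lit 0xc8f, nat_lit 0), (nat_lit 0x817, nat_lit 0), (nat_lit 0x91b, nat_lit 0), (nat_lit 823, nat_lit 0), (nat_lit 0x82d, nat_lit 0), (nat_lit 0x772, nat_lit 0), (nat_lit 0xc63, nat_lit 0), (nat_lit 0xec9, nat_lit 0), (nat_lit 0xa81, nat_lit 0), (nat_lit 0x914, nat_lit 0), (nat_lit 0x7df, nat_lit 0), (nat_lit 552, nat_lit 0), (nat_lit 984, nat_lit 0), (nat_lit 101, nat_lit 0), (nat_lit 0x823, nat_lit 0), (nat_lit 444, nat_lit 0), (nat_lit 0xa9d, nat_lit 0), (nat_lit 498, nat_lit 0), (nat_lit 0x495, nat_lit 0), (nat_lit 0x554, nat_lit 0), (nat_lit 278, nat_lit 0), (nat_lit 790, nat_lit 0), (nat_lit 0xea4, nat_lit 0), (nat_lit 0xf27, nat_lit 0), (nat_lit 0x5ce, nat_lit 0), (nat_lit 860, nat_lit 0), (nat_lit 0xe03, nat_lit 0), (nat_lit 0x9ae, nat_lit 0), (nat_lit 0x7f0, nat_lit 0), (nat_lit 0xd8a, nat_lit 0), (nat_lit 0x69c, nat_lit 0), (nat_lit 0xd4f, nat_lit 0), (nat_lit 0x791, nat_lit 0), (nat_lit 435, nat_lit 0), (nat_lit 0x4c2, nat_lit 0), (nat_lit 0x8fc, nat_lit 0), (nat_lit 0xb6d, nat_lit 0), (nat_lit 0x5e6, nat_lit 0), (nat_lit 0x4f5, nat_lit 0), (nat_lit 0x712, nat_lit 0), (nat_lit 0xcb5, nat_lit 0), (nat_lit 0xfb3, nat_lit 0), (nat_lit 0x4b2, nat_lit 0), (nat_lit 153, nat_lit 0), (nat_lit 0xf7b, nat_lit 0), (nat_lit 0x586, nat_lit 0), (nat_lit 0x98f, nat_lit 0), (nat_lit 0x68d, nat_lit 0), (nat_lit 827, nat_lit 0), (nat_lit 0x6f8, nat_lit 0), (nat_lit 0x643, nat_lit 0), (nat_lit 0xbc4, nat_lit 0), (nat_lit 0x446, nat_lit 0), (nat_lit 0xaf4, nat_lit 0), (nat_lit 0xa3f, nat_lit 0), (nat_lit 0x7e7, nat_lit 0), (nat_lit 0xdd1, nat_lit 0), (nat_lit 0x989, nat_lit 0), (nat_lit 253, nat_lit 0), (nat_lit 0x886, nat_lit 0), (nat_lit 0xc3a, nat_lit 0), (nat_lit 723, nat_lit 0), (nat_lit 0x605, nat_lit 0), (nat_lit 0x90a, nat_lit 0), (nat_lit 0x44b, nat_lit 0), (nat_lit 0xfbb, nat_lit 0), (nat_lit 0xfc7, nat_lit 0), (nat_lit 0x6bb, nat_lit 0), (nat_lit 118, nat_lit 0), (nat_lit 372, nat_lit 0), (nat_lit 0x5c3, nat_lit 0), (nat_lit 0xf41, nat_lit 0), (nat_lit 0x498, nat_lit 0), (nat_lit 0xf92, nat_lit 0), (nat_lit 0x435, nat_lit 0), (nat_lit 0x3f9, nat_lit 0), (nat_lit 0x64c, nat_lit 0), (nat_lit 0xaaf, nat_lit 0), (nat_lit 0xc54, nat_lit 0), (nat_lit 0xf80, nat_lit 0), (nat_lit 488, nat_lit 0), (nat_lit 0x561, nat_lit 0), (nat_lit 0x71e, nat_lit 0), (nat_lit 0x7db, nat_lit 0), (nat_lit 0x676, nat_lit 0), (nat_lit 92, nat_lit 0), (nat_lit 0x646, nat_lit 0), (nat_lit 0xda9, nat_lit 0), (nat_lit 238, nat_lit 0), (nat_lit 0xbda, nat_lit 0), (nat_lit 887, nat_lit 0), (nat_lit 0x608, nat_lit 0), (nat_lit 22, nat_lit 0), (nat_lit 0xab5, nat_lit 0), (nat_lit 0x6e8, nat_lit 0), (nat_lit 0x7ff, nat_lit 0), (nat_lit 0x4aa, nat_lit 0), (nat_lit 0xaa0, nat_lit 0), (nat_lit 0xa80, nat_lit 0), (nat_lit 0x46e, nat_lit 0), (nat_lit 0xb0a, nat_lit 0), (nat_lit 0x7e3, nat_lit 0), (nat_lit 523, nat_lit 0), (nat_lit 0x8c5, nat_lit 0), (nat_lit 0xd73, nat_lit 0), (nat_lit 597, nat_lit 0), (nat_lit 0xf0c, nat_lit 0), (nat_lit 0x96c, nat_lit 0), (nat_lit 0x663, nat_lit 0), (nat_lit 0xbd7, nat_lit 0), (nat_lit 0xf76, nat_lit 0), (nat_lit 0xf21, nat_lit 0), (nat_lit 0x5f8, nat_lit 0), (nat_lit 0x88a, nat_lit 0), (nat_lit 0x7a0, nat_lit 0), (nat_lit 516, nat_lit 0), (nat_lit 0x40a, nat_lit 0), (nat_lit 340, nat_lit 0), (nat_lit 0xb7a, nat_lit 0), (nat_lit 0x673, nat_lit 0), (nat_lit 0x6ce, nat_lit 0), (nat_lit 0x45e, nat_lit 0), (nat_lit 0xb51, nat_lit 0), (nat_lit 0x3fb, nat_lit 0), (nat_lit 310, nat_lit 0), (nat_lit 940, nat_lit 0), (nat_lit 0x70c, nat_lit 0), (nat_lit 479, nat_lit 0), (nat_lit 997, nat_lit 0), (nat_lit 0xd18, nat_lit 0), (nat_lit 0xead, nat_lit 0), (nat_lit 0xdd5, nat_lit 0), (nat_lit 78, nat_lit 0), (nat_lit 0x65f, nat_lit 0), (nat_lit 0xaff, nat_lit 0), (nat_lit 0xb92, nat_lit 0), (nat_lit 0xa3c, nat_lit 0), (nat_lit 0x8a9, nat_lit 0), (nat_lit 0x7dc, nat_lit 0), (nat_lit 0x999, nat_lit 0), (nat_lit 0xeae, nat_lit 0), (nat_lit 0xe1a, nat_lit 0), (nat_lit 170, nat_lit 0), (nat_lit 0xb53, nat_lit 0), (nat_lit 911, nat_lit 0), (nat_lit 0xbd8, nat_lit 0), (nat_lit 0x556, nat_lit 0), (nat_lit 0x6ee, nat_lit 0), (nat_lit 562, nat_lit 0), (nat_lit 0x5da, nat_lit 0), (nat_lit 0xf50, nat_lit 0), (nat_lit 0xe93, nat_lit 0), (nat_lit 0xc04, nat_lit 0), (nat_lit 0xa0d, nat_lit 0), (nat_lit 0x9e0, nat_lit 0), (nat_lit 0xd06, nat_lit 0), (nat_lit 0xca8, nat_lit 0), (nat_lit 0xdc8, nat_lit 0), (nat_lit 0xf63, nat_lit 0), (nat_lit 0x567, nat_lit 0), (nat_lit 0x58e, nat_lit 0), (nat_lit 0x8f5, nat_lit 0), (nat_lit 461, nat_lit 0), (nat_lit 0xaaa, nat_lit 0), (nat_lit 0xeb2, nat_lit 0), (nat_lit 0xbc1, nat_lit 0), (nat_lit 0x7fe, nat_lit 0), (nat_lit 0xf0f, nat_lit 0), (nat_lit 0x5db, nat_lit 0), (nat_lit 0x587, nat_lit 0), (nat_lit 0xa84, nat_lit 0), (nat_lit 0x7e1, nat_lit 0), (nat_lit 0x4b3, nat_lit 0), (nat_lit 0xb98, nat_lit 0), (nat_lit 0xe68, nat_lit 0), (nat_lit 0xb3a, nat_lit 0), (nat_lit 464, nat_lit 0), (nat_lit 0x9a9, nat_lit 0), (nat_lit 0x9d9, nat_lit 0), (nat_lit 0xa64, nat_lit 0), (nat_lit 0xe53, nat_lit 0), (nat_lit 98, nat_lit 0), (nat_lit 853, nat_lit 0), (nat_lit 0xfb9, nat_lit 0), (nat_lit 0x938, nat_lit 0), (nat_lit 0x718, nat_lit 0), (nat_lit 0x617, nat_lit 0), (nat_lit 0xdd8, nat_lit 0), (nat_lit 0x84e, nat_lit 0), (nat_lit 847, nat_lit 0), (nat_lit 558, nat_lit 0), (nat_lit 0xd7d, nat_lit 0), (nat_lit 0xfa8, nat_lit 0), (nat_lit 0x4d3, nat_lit 0), (nat_lit 0xc2e, nat_lit 0), (nat_lit 172, nat_lit 0), (nat_lit 0xa4f, nat_lit 0), (nat_lit 0xcf0, nat_lit 0), (nat_lit 937, nat_lit 0), (nat_lit 0xfc0, nat_lit 0), (nat_lit 122, nat_lit 0), (nat_lit 0, nat_lit 0), (nat_lit 110, nat_lit 0), (nat_lit 0xd8b, nat_lit 0), (nat_lit 0x7f3, nat_lit 0), (nat_lit 0xfcb, nat_lit 0), (nat_lit 0xd6a, nat_lit 0), (nat_lit 0xc29, nat_lit 0), (nat_lit 0x4bb, nat_lit 0), (nat_lit 0x9ff, nat_lit 0), (nat_lit 0x77f, nat_lit 0), (nat_lit 0x8e7, nat_lit 0), (nat_lit 0xb83, nat_lit 0), (nat_lit 0xd40, nat_lit 0), (nat_lit 0x8cc, nat_lit 0), (nat_lit 0xeec, nat_lit 0), (nat_lit 0xdd7, nat_lit 0), (nat_lit 0xe90, nat_lit 0), (nat_lit 0x473, nat_lit 0), (nat_lit 768, nat_lit 0), (nat_lit 0xcf1, nat_lit 0), (nat_lit 433, nat_lit 0), (nat_lit 0x732, nat_lit 0), (nat_lit 115, nat_lit 0), (nat_lit 97, nat_lit 0), (nat_lit 512, nat_lit 0), (nat_lit 0xaf6, nat_lit 0), (nat_lit 0xe6f, nat_lit 0), (nat_lit 0xd39, nat_lit 0), (nat_lit 0x8b3, nat_lit 0), (nat_lit 0x744, nat_lit 0), (nat_lit 0x580, nat_lit 0), (nat_lit 0x664, nat_lit 0), (nat_lit 0xe71, nat_lit 0), (nat_lit 0xc42, nat_lit 0), (nat_lit 0x9cb, nat_lit 0), (nat_lit 886, nat_lit 0), (nat_lit 0x54f, nat_lit 0), (nat_lit 469, nat_lit 0), (nat_lit 290, nat_lit 0), (nat_lit 0x463, nat_lit 0), (nat_lit 0x47f, nat_lit 0), (nat_lit 0x42e, nat_lit 0), (nat_lit 399, nat_lit 0), (nat_lit 0xc99, nat_lit 0), (nat_lit 0xd84, nat_lit 0), (nat_lit 0xd5d, nat_lit 0), (nat_lit 0x9aa, nat_lit 0), (nat_lit 605, nat_lit 0), (nat_lit 0x690, nat_lit 0), (nat_lit 0xdf5, nat_lit 0), (nat_lit 374, nat_lit 0), (nat_lit 0x934, nat_lit 0), (nat_lit 0x55d, nat_lit 0), (nat_lit 0x706, nat_lit 0), (nat_lit 0xf94, nat_lit 0), (nat_lit 0xc33, nat_lit 0), (nat_lit 0xc17, nat_lit 0), (nat_lit 0x7b8, nat_lit 0), (nat_lit 655, nat_lit 0), (nat_lit 0x514, nat_lit 0), (nat_lit 0x63d, nat_lit 0), (nat_lit 0x89f, nat_lit 0), (nat_lit 0xb1d, nat_lit 0), (nat_lit 0xa99, nat_lit 0), (nat_lit 0x7f2, nat_lit 0), (nat_lit 0xde3, nat_lit 0), (nat_lit 936, nat_lit 0), (nat_lit 0xee0, nat_lit 0), (nat_lit 0xec3, nat_lit 0), (nat_lit 518, nat_lit 0), (nat_lit 0xc05, nat_lit 0), (nat_lit 0x93d, nat_lit 0), (nat_lit 0x762, nat_lit 0), (nat_lit 146, nat_lit 0), (nat_lit 0x3ff, nat_lit 0), (nat_lit 0xe5b, nat_lit 0), (nat_lit 0xca0, nat_lit 0), (nat_lit 0xc95, nat_lit 0), (nat_lit 0x471, nat_lit 0), (nat_lit 0x518, nat_lit 0), (nat_lit 0x763, nat_lit 0), (nat_lit 776, nat_lit 0), (nat_lit 0xac6, nat_lit 0), (nat_lit 0xcf7, nat_lit 0), (nat_lit 0x979, nat_lit 0), (nat_lit 0x7ae, nat_lit 0), (nat_lit 220, nat_lit 0), (nat_lit 736, nat_lit 0), (nat_lit 0xef6, nat_lit 0), (nat_lit 0x7b6, nat_lit 0), (nat_lit 0x497, nat_lit 0), (nat_lit 0xda8, nat_lit 0), (nat_lit 453, nat_lit 0), (nat_lit 0x6e7, nat_lit 0), (nat_lit 757, nat_lit 0), (nat_lit 0x799, nat_lit 0), (nat_lit 0xae6, nat_lit 0), (nat_lit 778, nat_lit 0), (nat_lit 0x5d6, nat_lit 0), (nat_lit 0xe11, nat_lit 0), (nat_lit 0xf6e, nat_lit 0), (nat_lit 0xcf5, nat_lit 0), (nat_lit 0x667, nat_lit 0), (nat_lit 0xc43, nat_lit 0), (nat_lit 0xb81, nat_lit 0), (nat_lit 0x54a, nat_lit 0), (nat_lit 160, nat_lit 0), (nat_lit 0xf7e, nat_lit 0), (nat_lit 0xb0e, nat_lit 0), (nat_lit 333, nat_lit 0), (nat_lit 0xe58, nat_lit 0), (nat_lit 0xe7a, nat_lit 0), (nat_lit 0xd29, nat_lit 0), (nat_lit 16, nat_lit 0), (nat_lit 0x64f, nat_lit 0), (nat_lit 0xdab, nat_lit 0), (nat_lit 0xfca, nat_lit 0), (nat_lit 0x55b, nat_lit 0), (nat_lit 0x417, nat_lit 0), (nat_lit 0xd90, nat_lit 0), (nat_lit 914, nat_lit 0), (nat_lit 0x887, nat_lit 0), (nat_lit 0x844, nat_lit 0), (nat_lit 907, nat_lit 0), (nat_lit 0x4ab, nat_lit 0), (nat_lit 0xccd, nat_lit 0), (nat_lit 0x4ee, nat_lit 0), (nat_lit 599, nat_lit 0), (nat_lit 0x413, nat_lit 0), (nat_lit 0xe51, nat_lit 0), (nat_lit 0x741, nat_lit 0), (nat_lit 0x4e9, nat_lit 0), (nat_lit 0x748, nat_lit 0), (nat_lit 769, nat_lit 0), (nat_lit 0x638, nat_lit 0), (nat_lit 923, nat_lit 0), (nat_lit 0x977, nat_lit 0), (nat_lit 0x71f, nat_lit 0), (nat_lit 0x824, nat_lit 0), (nat_lit 0x968, nat_lit 0), (nat_lit 0x9a3, nat_lit 0), (nat_lit 0x75f, nat_lit 0), (nat_lit 0xda3, nat_lit 0), (nat_lit 0x9ea, nat_lit 0), (nat_lit 0xad2, nat_lit 0), (nat_lit 0x8af, nat_lit 0), (nat_lit 289, nat_lit 0), (nat_lit 641, nat_lit 0), (nat_lit 502, nat_lit 0), (nat_lit 0x995, nat_lit 0), (nat_lit 0x56f, nat_lit 0), (nat_lit 0xa96, nat_lit 0), (nat_lit 0x7ad, nat_lit 0), (nat_lit 0xc41, nat_lit 0), (nat_lit 0x5e3, nat_lit 0), (nat_lit 0x6a2, nat_lit 0), (nat_lit 0xfa6, nat_lit 0), (nat_lit 349, nat_lit 0), (nat_lit 0x7f8, nat_lit 0), (nat_lit 0x4d7, nat_lit 0), (nat_lit 0xd1f, nat_lit 0), (nat_lit 619, nat_lit 0), (nat_lit 0x581, nat_lit 0), (nat_lit 0xe88, nat_lit 0), (nat_lit 0x75c, nat_lit 0), (nat_lit 0xeb3, nat_lit 0), (nat_lit 0x4ba, nat_lit 0), (nat_lit 200, nat_lit 0), (nat_lit 142, nat_lit 0), (nat_lit 531, nat_lit 0), (nat_lit 0x43a, nat_lit 0), (nat_lit 0xb7d, nat_lit 0), (nat_lit 0xd88, nat_lit 0), (nat_lit 0xb7c, nat_lit 0), (nat_lit 0xc36, nat_lit 0), (nat_lit 0xd89, nat_lit 0), (nat_lit 0xce2, nat_lit 0), (nat_lit 739, nat_lit 0), (nat_lit 0xd2d, nat_lit 0), (nat_lit 0x6e3, nat_lit 0), (nat_lit 825, nat_lit 0), (nat_lit 0xaec, nat_lit 0), (nat_lit 994, nat_lit 0), (nat_lit 0xbfa, nat_lit 0), (nat_lit 0x70f, nat_lit 0), (nat_lit 507, nat_lit 0), (nat_lit 0x534, nat_lit 0), (nat_lit 0xbb2, nat_lit 0), (nat_lit 565, nat_lit 0), (nat_lit 204, nat_lit 0), (nat_lit 0x4e5, nat_lit 0), (nat_lit 343, nat_lit 0), (nat_lit 0x794, nat_lit 0), (nat_lit 106, nat_lit 0), (nat_lit 819, nat_lit 0), (nat_lit 0xa48, nat_lit 0), (nat_lit 0xc4c, nat_lit 0), (nat_lit 0xc8a, nat_lit 0), (nat_lit 0x525, nat_lit 0), (nat_lit 32, nat_lit 0), (nat_lit 0x51f, nat_lit 0), (nat_lit 0x7a4, nat_lit 0), (nat_lit 0xa17, nat_lit 0), (nat_lit 0x7b9, nat_lit 0), (nat_lit 0x971, nat_lit 0), (nat_lit 0x46f, nat_lit 0), (nat_lit 0xc02, nat_lit 0), (nat_lit 226, nat_lit 0), (nat_lit 485, nat_lit 0), (nat_lit 0x458, nat_lit 0), (nat_lit 0xac0, nat_lit 0), (nat_lit 0xe01, nat_lit 0), (nat_lit 0xcbb, nat_lit 0), (nat_lit 528, nat_lit 0), (nat_lit 0xc35, nat_lit 0), (nat_lit 698, nat_lit 0), (nat_lit 616, nat_lit 0), (nat_lit 0xdc6, nat_lit 0), (nat_lit 0xb3f, nat_lit 0), (nat_lit 0x5e7, nat_lit 0), (nat_lit 0xc5f, nat_lit 0), (nat_lit 773, nat_lit 0), (nat_lit 0xa37, nat_lit 0), (nat_lit 0xceb, nat_lit 0), (nat_lit 0x5fe, nat_lit 0), (nat_lit 183, nat_lit 0), (nat_lit 0xba2, nat_lit 0), (nat_lit 0xa2c, nat_lit 0), (nat_lit 0xd77, nat_lit 0), (nat_lit 0x403, nat_lit 0), (nat_lit 0xd10, nat_lit 0), (nat_lit 676, nat_lit 0), (nat_lit 953, nat_lit 0), (nat_lit 0xcc7, nat_lit 0), (nat_lit 0xe1b, nat_lit 0), (nat_lit 0x8d3, nat_lit 0), (nat_lit 0x907, nat_lit 0), (nat_lit 0x765, nat_lit 0), (nat_lit 0xf0d, nat_lit 0), (nat_lit 0x52c, nat_lit 0), (nat_lit 0x932, nat_lit 0), (nat_lit 779, nat_lit 0), (nat_lit 0x432, nat_lit 0), (nat_lit 0xed8, nat_lit 0), (nat_lit 0x8db, nat_lit 0), (nat_lit 0x8d8, nat_lit 0), (nat_lit 168, nat_lit 0), (nat_lit 0xf7d, nat_lit 0), (nat_lit 0x433, nat_lit 0), (nat_lit 0x4cc, nat_lit 0), (nat_lit 0x46b, nat_lit 0), (nat_lit 0xa19, nat_lit 0), (nat_lit 0x421, nat_lit 0), (nat_lit 0x656, nat_lit 0), (nat_lit 746, nat_lit 0), (nat_lit 864, nat_lit 0), (nat_lit 236, nat_lit 0), (nat_lit 0xc5d, nat_lit 0), (nat_lit 0xb39, nat_lit 0), (nat_lit 0x9df, nat_lit 0), (nat_lit 0xfb0, nat_lit 0), (nat_lit 0xf22, nat_lit 0), (nat_lit 0xc0b, nat_lit 0), (nat_lit 419, nat_lit 0), (nat_lit 0x55f, nat_lit 0), (nat_lit 0xf7f, nat_lit 0), (nat_lit 472, nat_lit 0), (nat_lit 0xe13, nat_lit 0), (nat_lit 0xd13, nat_lit 0), (nat_lit 465, nat_lit 0), (nat_lit 0xf95, nat_lit 0), (nat_lit 191, nat_lit 0), (nat_lit 861, nat_lit 0), (nat_lit 0x7be, nat_lit 0), (nat_lit 0xae5, nat_lit 0), (nat_lit 0xc7c, nat_lit 0), (nat_lit 0x62b, nat_lit 0), (nat_lit 0x738, nat_lit 0), (nat_lit 587, nat_lit 0), (nat_lit 0x689, nat_lit 0), (nat_lit 0xcdd, nat_lit 0), (nat_lit 0xd46, nat_lit 0), (nat_lit 0xf43, nat_lit 0), (nat_lit 0x5a2, nat_lit 0), (nat_lit 0xd76, nat_lit 0), (nat_lit 0xd2e, nat_lit 0), (nat_lit 961, nat_lit 0), (nat_lit 208, nat_lit 0), (nat_lit 0xa92, nat_lit 0), (nat_lit 0x84b, nat_lit 0), (nat_lit 883, nat_lit 0), (nat_lit 0x95e, nat_lit 0), (nat_lit 126, nat_lit 0), (nat_lit 664, nat_lit 0), (nat_lit 341, nat_lit 0), (nat_lit 0xd51, nat_lit 0), (nat_lit 0x47e, nat_lit 0), (nat_lit 0xe77, nat_lit 0), (nat_lit 0xd44, nat_lit 0), (nat_lit 0x9e3, nat_lit 0), (nat_lit 0xf4e, nat_lit 0), (nat_lit 282, nat_lit 0), (nat_lit 0xa42, nat_lit 0), (nat_lit 0x6dc, nat_lit 0), (nat_lit 224, nat_lit 0), (nat_lit 0x8f3, nat_lit 0), (nat_lit 0x902, nat_lit 0), (nat_lit 0x641, nat_lit 0), (nat_lit 230, nat_lit 0), (nat_lit 0xe74, nat_lit 0), (nat_lit 0xf88, nat_lit 0), (nat_lit 0x3fd, nat_lit 0), (nat_lit 0x7b2, nat_lit 0), (nat_lit 613, nat_lit 0), (nat_lit 749, nat_lit 0), (nat_lit 0xdfe, nat_lit 0), (nat_lit 0x827, nat_lit 0), (nat_lit 0xc83, nat_lit 0), (nat_lit 0x58c, nat_lit 0), (nat_lit 0x8f1, nat_lit 0), (nat_lit 594, nat_lit 0), (nat_lit 0x898, nat_lit 0), (nat_lit 94, nat_lit 0), (nat_lit 0xdcc, nat_lit 0), (nat_lit 229, nat_lit 0), (nat_lit 489, nat_lit 0), (nat_lit 0x792, nat_lit 0), (nat_lit 0x82b, nat_lit 0), (nat_lit 0x41c, nat_lit 0), (nat_lit 0xc0f, nat_lit 0), (nat_lit 0x8d1, nat_lit 0), (nat_lit 0xb86, nat_lit 0), (nat_lit 0x4f4, nat_lit 0), (nat_lit 311, nat_lit 0), (nat_lit 0xf1e, nat_lit 0), (nat_lit 0xd6f, nat_lit 0), (nat_lit 0xcc8, nat_lit 0), (nat_lit 0x9f5, nat_lit 0), (nat_lit 199, nat_lit 0), (nat_lit 0xfd8, nat_lit 0), (nat_lit 256, nat_lit 0), (nat_lit 0x713, nat_lit 0), (nat_lit 0x4bf, nat_lit 0), (nat_lit 578, nat_lit 0), (nat_lit 0x4a1, nat_lit 0), (nat_lit 93, nat_lit 0), (nat_lit 0xc14, nat_lit 0), (nat_lit 0x97e, nat_lit 0), (nat_lit 0xf5a, nat_lit 0), (nat_lit 19, nat_lit 0), (nat_lit 0xd78, nat_lit 0), (nat_lit 0x98b, nat_lit 0), (nat_lit 0x6c1, nat_lit 0), (nat_lit 0xdfb, nat_lit 0), (nat_lit 610, nat_lit 0), (nat_lit 0x3e9, nat_lit 0), (nat_lit 0x658, nat_lit 0), (nat_lit 0xbb4, nat_lit 0), (nat_lit 0x863, nat_lit 0), (nat_lit 0xf4c, nat_lit 0), (nat_lit 0xd87, nat_lit 0), (nat_lit 0x9c0, nat_lit 0), (nat_lit 0x4fa, nat_lit 0), (nat_lit 135, nat_lit 0), (nat_lit 0x507, nat_lit 0), (nat_lit 0x532, nat_lit 0), (nat_lit 0xc9e, nat_lit 0), (nat_lit 0xe2e, nat_lit 0), (nat_lit 0xc57, nat_lit 0), (nat_lit 939, nat_lit 0), (nat_lit 880, nat_lit 0), (nat_lit 0xad1, nat_lit 0), (nat_lit 561, nat_lit 0), (nat_lit 0xa38, nat_lit 0), (nat_lit 596, nat_lit 0), (nat_lit 0xe27, nat_lit 0), (nat_lit 10, nat_lit 0), (nat_lit 0xef5, nat_lit 0), (nat_lit 0xa15, nat_lit 0), (nat_lit 0xaf1, nat_lit 0), (nat_lit 0x9c7, nat_lit 0), (nat_lit 0xa11, nat_lit 0), (nat_lit 0x595, nat_lit 0), (nat_lit 325, nat_lit 0), (nat_lit 0x6ff, nat_lit 0), (nat_lit 0xf13, nat_lit 0), (nat_lit 628, nat_lit 0), (nat_lit 0x8b7, nat_lit 0), (nat_lit 74, nat_lit 0), (nat_lit 0xd8f, nat_lit 0), (nat_lit 0x75a, nat_lit 0), (nat_lit 0xf64, nat_lit 0), (nat_lit 0xa03, nat_lit 0), (nat_lit 0xb1e, nat_lit 0), (nat_lit 646, nat_lit 0), (nat_lit 0xc5a, nat_lit 0), (nat_lit 0xbf8, nat_lit 0), (nat_lit 0xafc, nat_lit 0), (nat_lit 0xc34, nat_lit 0), (nat_lit 0xa97, nat_lit 0), (nat_lit 0x7c1, nat_lit 0), (nat_lit 0x7de, nat_lit 0), (nat_lit 0x9e1, nat_lit 0), (nat_lit 0xb8d, nat_lit 0), (nat_lit 0x771, nat_lit 0), (nat_lit 0x41f, nat_lit 0), (nat_lit 0xf11, nat_lit 0), (nat_lit 0x517, nat_lit 0), (nat_lit 86, nat_lit 0), (nat_lit 806, nat_lit 0), (nat_lit 219, nat_lit 0), (nat_lit 0x89c, nat_lit 0), (nat_lit 0xcac, nat_lit 0), (nat_lit 865, nat_lit 0), (nat_lit 0xe3d, nat_lit 0), (nat_lit 0x516, nat_lit 0), (nat_lit 0x50a, nat_lit 0), (nat_lit 824, nat_lit 0), (nat_lit 0xf79, nat_lit 0), (nat_lit 0x4ad, nat_lit 0), (nat_lit 0x939, nat_lit 0), (nat_lit 0x4a0, nat_lit 0), (nat_lit 0xdee, nat_lit 0), (nat_lit 0xab8, nat_lit 0), (nat_lit 0x6ea, nat_lit 0), (nat_lit 3, nat_lit 0), (nat_lit 0xf1b, nat_lit 0), (nat_lit 0x85c, nat_lit 0), (nat_lit 0x4f8, nat_lit 0), (nat_lit 0xc1c, nat_lit 0), (nat_lit 0x805, nat_lit 0), (nat_lit 0x455, nat_lit 0), (nat_lit 0x9c6, nat_lit 0), (nat_lit 0x5b0, nat_lit 0), (nat_lit 0x8cf, nat_lit 0), (nat_lit 0x6cf, nat_lit 0), (nat_lit 0xe2b, nat_lit 0), (nat_lit 0xd50, nat_lit 0), (nat_lit 0xb8a, nat_lit 0), (nat_lit 0x737, nat_lit 0), (nat_lit 0xa66, nat_lit 0), (nat_lit 0xd36, nat_lit 0), (nat_lit 0xab4, nat_lit 0), (nat_lit 0xf9a, nat_lit 0), (nat_lit 0x5e9, nat_lit 0), (nat_lit 0x53f, nat_lit 0), (nat_lit 533, nat_lit 0), (nat_lit 0xc62, nat_lit 0), (nat_lit 0xac8, nat_lit 0), (nat_lit 668, nat_lit 0), (nat_lit 0x644, nat_lit 0), (nat_lit 0x94a, nat_lit 0), (nat_lit 0xee6, nat_lit 0), (nat_lit 0x414, nat_lit 0), (nat_lit 0x7f4, nat_lit 0), (nat_lit 259, nat_lit 0), (nat_lit 897, nat_lit 0), (nat_lit 0xa7c, nat_lit 0), (nat_lit 0x8ca, nat_lit 0), (nat_lit 0x625, nat_lit 0), (nat_lit 0x985, nat_lit 0), (nat_lit 697, nat_lit 0), (nat_lit 0xd59, nat_lit 0), (nat_lit 0x68e, nat_lit 0), (nat_lit 0x4fe, nat_lit 0), (nat_lit 0x513, nat_lit 0), (nat_lit 0xd68, nat_lit 0), (nat_lit 84, nat_lit 0), (nat_lit 0x740, nat_lit 0), (nat_lit 0x493, nat_lit 0), (nat_lit 0xe60, nat_lit 0), (nat_lit 0x480, nat_lit 0), (nat_lit 0x679, nat_lit 0), (nat_lit 0x46a, nat_lit 0), (nat_lit 0x582, nat_lit 0), (nat_lit 0x93c, nat_lit 0), (nat_lit 632, nat_lit 0), (nat_lit 686, nat_lit 0), (nat_lit 0xfac, nat_lit 0), (nat_lit 0xdbf, nat_lit 0), (nat_lit 0x4b4, nat_lit 0), (nat_lit 0x44d, nat_lit 0), (nat_lit 0x5d8, nat_lit 0), (nat_lit 0xa1c, nat_lit 0), (nat_lit 0xcce, nat_lit 0), (nat_lit 699, nat_lit 0), (nat_lit 0x8ac, nat_lit 0), (nat_lit 0xc56, nat_lit 0), (nat_lit 0xee5, nat_lit 0), (nat_lit 492, nat_lit 0), (nat_lit 0xa40, nat_lit 0), (nat_lit 0x9f9, nat_lit 0), (nat_lit 946, nat_lit 0), (nat_lit 0x72f, nat_lit 0), (nat_lit 0xf74, nat_lit 0), (nat_lit 785, nat_lit 0), (nat_lit 0xe57, nat_lit 0), (nat_lit 758, nat_lit 0), (nat_lit 0xe80, nat_lit 0), (nat_lit 0xe8b, nat_lit 0), (nat_lit 0x695, nat_lit 0), (nat_lit 775, nat_lit 0), (nat_lit 0xa46, nat_lit 0), (nat_lit 0xb79, nat_lit 0), (nat_lit 0xedc, nat_lit 0), (nat_lit 0xf96, nat_lit 0), (nat_lit 0x551, nat_lit 0), (nat_lit 39, nat_lit 0), (nat_lit 0x6ec, nat_lit 0), (nat_lit 614, nat_lit 0), (nat_lit 0x462, nat_lit 0), (nat_lit 0x922, nat_lit 0), (nat_lit 0x419, nat_lit 0), (nat_lit 0x961, nat_lit 0), (nat_lit 0xbc2, nat_lit 0), (nat_lit 0xb66, nat_lit 0), (nat_lit 0xd49, nat_lit 0), (nat_lit 0x9c3, nat_lit 0), (nat_lit 0xb45, nat_lit 0), (nat_lit 0x723, nat_lit 0), (nat_lit 0xba1, nat_lit 0), (nat_lit 0xbe8, nat_lit 0), (nat_lit 0xc48, nat_lit 0), (nat_lit 0x7d2, nat_lit 0), (nat_lit 540, nat_lit 0), (nat_lit 68, nat_lit 0), (nat_lit 108, nat_lit 0), (nat_lit 963, nat_lit 0), (nat_lit 0x6bf, nat_lit 0), (nat_lit 0xcea, nat_lit 0), (nat_lit 0x7af, nat_lit 0), (nat_lit 0x9c5, nat_lit 0), (nat_lit 0x40d, nat_lit 0), (nat_lit 462, nat_lit 0), (nat_lit 0x49e, nat_lit 0), (nat_lit 128, nat_lit 0), (nat_lit 213, nat_lit 0), (nat_lit 0x55c, nat_lit 0), (nat_lit 0xa87, nat_lit 0), (nat_lit 251, nat_lit 0), (nat_lit 0xfc3, nat_lit 0), (nat_lit 64, nat_lit 0), (nat_lit 0x583, nat_lit 0), (nat_lit 0x965, nat_lit 0), (nat_lit 0x67d, nat_lit 0), (nat_lit 0x4e1, nat_lit 0), (nat_lit 299, nat_lit 0), (nat_lit 0x6a0, nat_lit 0), (nat_lit 0x841, nat_lit 0), (nat_lit 0xde9, nat_lit 0), (nat_lit 0x4c3, nat_lit 0), (nat_lit 0xc1e, nat_lit 0), (nat_lit 0xa1f, nat_lit 0), (nat_lit 0x4d1, nat_lit 0), (nat_lit 0x655, nat_lit 0), (nat_lit 0x468, nat_lit 0), (nat_lit 0xc72, nat_lit 0), (nat_lit 0x6b6, nat_lit 0), (nat_lit 0x5e1, nat_lit 0), (nat_lit 0xfb7, nat_lit 0), (nat_lit 0xe9e, nat_lit 0), (nat_lit 0x416, nat_lit 0), (nat_lit 0xe9a, nat_lit 0), (nat_lit 197, nat_lit 0), (nat_lit 582, nat_lit 0), (nat_lit 0x50f, nat_lit 0), (nat_lit 0xeea, nat_lit 0), (nat_lit 0xe73, nat_lit 0), (nat_lit 0xf01, nat_lit 0), (nat_lit 0xcbe, nat_lit 0), (nat_lit 412, nat_lit 0), (nat_lit 145, nat_lit 0), (nat_lit 0x6d3, nat_lit 0), (nat_lit 314, nat_lit 0), (nat_lit 75, nat_lit 0), (nat_lit 0xd14, nat_lit 0), (nat_lit 0x5f7, nat_lit 0), (nat_lit 0x7b3, nat_lit 0), (nat_lit 0x6a5, nat_lit 0), (nat_lit 0x4da, nat_lit 0), (nat_lit 179, nat_lit 0), (nat_lit 791, nat_lit 0), (nat_lit 0xd1a, nat_lit 0), (nat_lit 0xc74, nat_lit 0), (nat_lit 0x431, nat_lit 0), (nat_lit 0xfa3, nat_lit 0), (nat_lit 0xb34, nat_lit 0), (nat_lit 0xe34, nat_lit 0), (nat_lit 0xf28, nat_lit 0), (nat_lit 508, nat_lit 0), (nat_lit 0x58f, nat_lit 0), (nat_lit 0xd17, nat_lit 0), (nat_lit 0x940, nat_lit 0), (nat_lit 48, nat_lit 0), (nat_lit 0x7a3, nat_lit 0), (nat_lit 0x897, nat_lit 0), (nat_lit 0xe50, nat_lit 0), (nat_lit 0x905, nat_lit 0), (nat_lit 725, nat_lit 0), (nat_lit 0xd79, nat_lit 0), (nat_lit 0xd56, nat_lit 0), (nat_lit 0xaf3, nat_lit 0), (nat_lit 0x8a0, nat_lit 0), (nat_lit 0xbe2, nat_lit 0), (nat_lit 0xc20, nat_lit 0), (nat_lit 363, nat_lit 0), (nat_lit 0x7e0, nat_lit 0), (nat_lit 0xe79, nat_lit 0), (nat_lit 0xd02, nat_lit 0), (nat_lit 0x963, nat_lit 0), (nat_lit 0x92d, nat_lit 0), (nat_lit 0xe1e, nat_lit 0), (nat_lit 0x60f, nat_lit 0), (nat_lit 0xb03, nat_lit 0), (nat_lit 0xb35, nat_lit 0), (nat_lit 411, nat_lit 0), (nat_lit 0xb3b, nat_lit 0), (nat_lit 0xea6, nat_lit 0), (nat_lit 879, nat_lit 0), (nat_lit 829, nat_lit 0), (nat_lit 0x8b8, nat_lit 0), (nat_lit 0xb95, nat_lit 0), (nat_lit 0x6b3, nat_lit 0), (nat_lit 0xbc0, nat_lit 0), (nat_lit 696, nat_lit 0), (nat_lit 0x62e, nat_lit 0), (nat_lit 0x9ad, nat_lit 0), (nat_lit 0xb20, nat_lit 0), (nat_lit 0xf9b, nat_lit 0), (nat_lit 0x573, nat_lit 0), (nat_lit 0xde0, nat_lit 0), (nat_lit 0xdfa, nat_lit 0), (nat_lit 0xdc5, nat_lit 0), (nat_lit 0x5a7, nat_lit 0), (nat_lit 188, nat_lit 0), (nat_lit 0xd99, nat_lit 0), (nat_lit 0xb6e, nat_lit 0), (nat_lit 0xdfc, nat_lit 0), (nat_lit 0x980, nat_lit 0), (nat_lit 0xa1e, nat_lit 0), (nat_lit 0x8a3, nat_lit 0), (nat_lit 0xbcd, nat_lit 0), (nat_lit 0xa28, nat_lit 0), (nat_lit 529, nat_lit 0), (nat_lit 0x47b, nat_lit 0), (nat_lit 935, nat_lit 0), (nat_lit 0xe5c, nat_lit 0), (nat_lit 989, nat_lit 0), (nat_lit 0xa05, nat_lit 0), (nat_lit 0x576, nat_lit 0), (nat_lit 0x84a, nat_lit 0), (nat_lit 0xc37, nat_lit 0), (nat_lit 0x6fd, nat_lit 0), (nat_lit 0x42a, nat_lit 0), (nat_lit 0x8ae, nat_lit 0), (nat_lit 0x9b9, nat_lit 0), (nat_lit 0x5f2, nat_lit 0), (nat_lit 151, nat_lit 0), (nat_lit 0xe16, nat_lit 0), (nat_lit 320, nat_lit 0), (nat_lit 212, nat_lit 0), (nat_lit 0x56d, nat_lit 0), (nat_lit 0x9c2, nat_lit 0), (nat_lit 0x52d, nat_lit 0), (nat_lit 304, nat_lit 0), (nat_lit 0x52e, nat_lit 0), (nat_lit 0xc40, nat_lit 0), (nat_lit 0xd9f, nat_lit 0), (nat_lit 0x80e, nat_lit 0), (nat_lit 339, nat_lit 0), (nat_lit 0x619, nat_lit 0), (nat_lit 0xe99, nat_lit 0), (nat_lit 0x7b1, nat_lit 0), (nat_lit 0x94d, nat_lit 0), (nat_lit 154, nat_lit 0), (nat_lit 751, nat_lit 0), (nat_lit 0xe14, nat_lit 0), (nat_lit 675, nat_lit 0), (nat_lit 0xda1, nat_lit 0), (nat_lit 519, nat_lit 0), (nat_lit 381, nat_lit 0), (nat_lit 0x4af, nat_lit 0), (nat_lit 0xfaa, nat_lit 0), (nat_lit 0x6aa, nat_lit 0), (nat_lit 0x869, nat_lit 0), (nat_lit 0xac9, nat_lit 0), (nat_lit 581, nat_lit 0), (nat_lit 0x74a, nat_lit 0), (nat_lit 0x9fc, nat_lit 0), (nat_lit 0x8dc, nat_lit 0), (nat_lit 0x949, nat_lit 0), (nat_lit 0x9e5, nat_lit 0), (nat_lit 129, nat_lit 0), (nat_lit 480, nat_lit 0), (nat_lit 136, nat_lit 0), (nat_lit 0xf12, nat_lit 0), (nat_lit 15, nat_lit 0), (nat_lit 584, nat_lit 0), (nat_lit 147, nat_lit 0), (nat_lit 0x72b, nat_lit 0), (nat_lit 0xf89, nat_lit 0), (nat_lit 0x51e, nat_lit 0), (nat_lit 0x6fa, nat_lit 0), (nat_lit 0x575, nat_lit 0), (nat_lit 318, nat_lit 0), (nat_lit 0xb84, nat_lit 0), (nat_lit 0x4f6, nat_lit 0), (nat_lit 0xa08, nat_lit 0), (nat_lit 0x549, nat_lit 0), (nat_lit 985, nat_lit 0), (nat_lit 265, nat_lit 0), (nat_lit 0xf06, nat_lit 0), (nat_lit 0xf2a, nat_lit 0), (nat_lit 0xe3f, nat_lit 0), (nat_lit 0x5bb, nat_lit 0), (nat_lit 436, nat_lit 0), (nat_lit 0xbb9, nat_lit 0), (nat_lit 0x6ba, nat_lit 0), (nat_lit 0xacb, nat_lit 0), (nat_lit 0xf5e, nat_lit 0), (nat_lit 637, nat_lit 0), (nat_lit 0xc28, nat_lit 0), (nat_lit 0xa44, nat_lit 0), (nat_lit 0xa65, nat_lit 0), (nat_lit 638, nat_lit 0), (nat_lit 218, nat_lit 0), (nat_lit 0x761, nat_lit 0), (nat_lit 0x512, nat_lit 0), (nat_lit 88, nat_lit 0), (nat_lit 0x87e, nat_lit 0), (nat_lit 0xa04, nat_lit 0), (nat_lit 0xc6c, nat_lit 0), (nat_lit 0xb2c, nat_lit 0), (nat_lit 0xd11, nat_lit 0), (nat_lit 0x89a, nat_lit 0), (nat_lit 0x754, nat_lit 0), (nat_lit 0xf1c, nat_lit 0), (nat_lit 0xfc1, nat_lit 0), (nat_lit 730, nat_lit 0), (nat_lit 0xbea, nat_lit 0), (nat_lit 0x8fe, nat_lit 0), (nat_lit 0xbe1, nat_lit 0), (nat_lit 0xa98, nat_lit 0), (nat_lit 0xa68, nat_lit 0), (nat_lit 980, nat_lit 0), (nat_lit 0xa35, nat_lit 0), (nat_lit 0xb11, nat_lit 0), (nat_lit 0x563, nat_lit 0), (nat_lit 0xf3d, nat_lit 0), (nat_lit 0x8d5, nat_lit 0), (nat_lit 0xa8d, nat_lit 0), (nat_lit 0xbec, nat_lit 0), (nat_lit 569, nat_lit 0), (nat_lit 0xb4c, nat_lit 0), (nat_lit 0xc4a, nat_lit 0), (nat_lit 65, nat_lit 0), (nat_lit 0x717, nat_lit 0), (nat_lit 0x8a5, nat_lit 0), (nat_lit 273, nat_lit 0), (nat_lit 116, nat_lit 0), (nat_lit 0xb0f, nat_lit 0), (nat_lit 0x527, nat_lit 0), (nat_lit 0x79a, nat_lit 0), (nat_lit 0x9ee, nat_lit 0), (nat_lit 0x560, nat_lit 0), (nat_lit 621, nat_lit 0), (nat_lit 0xe02, nat_lit 0), (nat_lit 328, nat_lit 0), (nat_lit 0xc76, nat_lit 0), (nat_lit 0xd4c, nat_lit 0), (nat_lit 0xebe, nat_lit 0), (nat_lit 0xcb8, nat_lit 0), (nat_lit 0xebd, nat_lit 0), (nat_lit 0xfd5, nat_lit 0), (nat_lit 0x652, nat_lit 0), (nat_lit 344, nat_lit 0), (nat_lit 843, nat_lit 0), (nat_lit 0xd05, nat_lit 0), (nat_lit 0xc4d, nat_lit 0), (nat_lit 0x437, nat_lit 0), (nat_lit 0x4a6, nat_lit 0), (nat_lit 0xded, nat_lit 0), (nat_lit 0x66f, nat_lit 0), (nat_lit 0xc07, nat_lit 0), (nat_lit 0xc64, nat_lit 0), (nat_lit 0x8a1, nat_lit 0), (nat_lit 248, nat_lit 0), (nat_lit 0xcf6, nat_lit 0), (nat_lit 0x572, nat_lit 0), (nat_lit 0x685, nat_lit 0), (nat_lit 626, nat_lit 0), (nat_lit 1, nat_lit 0), (nat_lit 563, nat_lit 0), (nat_lit 0x4e7, nat_lit 0), (nat_lit 0x42b, nat_lit 0), (nat_lit 0x6f7, nat_lit 0), (nat_lit 0x606, nat_lit 0), (nat_lit 805, nat_lit 0), (nat_lit 0xaf9, nat_lit 0), (nat_lit 0xe22, nat_lit 0), (nat_lit 0x877, nat_lit 0), (nat_lit 0x895, nat_lit 0), (nat_lit 0xdfd, nat_lit 0), (nat_lit 391, nat_lit 0), (nat_lit 0x825, nat_lit 0), (nat_lit 0xcfc, nat_lit 0), (nat_lit 0xee7, nat_lit 0), (nat_lit 0xdaa, nat_lit 0), (nat_lit 0x955, nat_lit 0), (nat_lit 0xc73, nat_lit 0), (nat_lit 0xc19, nat_lit 0), (nat_lit 0xc52, nat_lit 0), (nat_lit 0xbe4, nat_lit 0), (nat_lit 0xc66, nat_lit 0), (nat_lit 0xfbf, nat_lit 0), (nat_lit 0x521, nat_lit 0), (nat_lit 0xedd, nat_lit 0), (nat_lit 0xe1f, nat_lit 0), (nat_lit 0x620, nat_lit 0), (nat_lit 297, nat_lit 0), (nat_lit 103, nat_lit 0), (nat_lit 919, nat_lit 0), (nat_lit 0xad6, nat_lit 0), (nat_lit 0x8b0, nat_lit 0), (nat_lit 0x8b4, nat_lit 0), (nat_lit 0xf65, nat_lit 0), (nat_lit 0xaf5, nat_lit 0), (nat_lit 958, nat_lit 0), (nat_lit 0xef3, nat_lit 0), (nat_lit 0x7c6, nat_lit 0), (nat_lit 0xbef, nat_lit 0), (nat_lit 868, nat_lit 0), (nat_lit 977, nat_lit 0), (nat_lit 0x7a9, nat_lit 0), (nat_lit 0xb4f, nat_lit 0), (nat_lit 0xeba, nat_lit 0), (nat_lit 0xde2, nat_lit 0), (nat_lit 0x5b6, nat_lit 0), (nat_lit 0x406, nat_lit 0), (nat_lit 0x48c, nat_lit 0), (nat_lit 481, nat_lit 0), (nat_lit 744, nat_lit 0), (nat_lit 0xf8d, nat_lit 0), (nat_lit 841, nat_lit 0), (nat_lit 0xcef, nat_lit 0), (nat_lit 0xfab, nat_lit 0), (nat_lit 0xc5b, nat_lit 0), (nat_lit 603, nat_lit 0), (nat_lit 0x7a7, nat_lit 0), (nat_lit 102, nat_lit 0), (nat_lit 0x611, nat_lit 0), (nat_lit 0x5a6, nat_lit 0), (nat_lit 0x9d7, nat_lit 0), (nat_lit 0x925, nat_lit 0), (nat_lit 0x45f, nat_lit 0), (nat_lit 0xd34, nat_lit 0), (nat_lit 0xad4, nat_lit 0), (nat_lit 0x835, nat_lit 0), (nat_lit 0xf37, nat_lit 0), (nat_lit 0x7c4, nat_lit 0), (nat_lit 0xa10, nat_lit 0), (nat_lit 0xcda, nat_lit 0), (nat_lit 352, nat_lit 0), (nat_lit 0x7b4, nat_lit 0), (nat_lit 0xa61, nat_lit 0), (nat_lit 0xd24, nat_lit 0), (nat_lit 0xb8f, nat_lit 0), (nat_lit 505, nat_lit 0), (nat_lit 539, nat_lit 0), (nat_lit 0x878, nat_lit 0), (nat_lit 877, nat_lit 0), (nat_lit 312, nat_lit 0), (nat_lit 648, nat_lit 0), (nat_lit 0x40e, nat_lit 0), (nat_lit 874, nat_lit 0), (nat_lit 0x7bc, nat_lit 0), (nat_lit 0x730, nat_lit 0), (nat_lit 0x76f, nat_lit 0), (nat_lit 0x8d7, nat_lit 0), (nat_lit 0xc46, nat_lit 0), (nat_lit 0xbf7, nat_lit 0), (nat_lit 0x879, nat_lit 0), (nat_lit 0x73a, nat_lit 0), (nat_lit 572, nat_lit 0), (nat_lit 0xb94, nat_lit 0), (nat_lit 0xca9, nat_lit 0), (nat_lit 0x52b, nat_lit 0), (nat_lit 0xc98, nat_lit 0), (nat_lit 0x892, nat_lit 0), (nat_lit 691, nat_lit 0), (nat_lit 163, nat_lit 0), (nat_lit 0xdf1, nat_lit 0), (nat_lit 124, nat_lit 0), (nat_lit 0x8d2, nat_lit 0), (nat_lit 359, nat_lit 0), (nat_lit 0x859, nat_lit 0), (nat_lit 876, nat_lit 0), (nat_lit 0xe0d, nat_lit 0), (nat_lit 783, nat_lit 0), (nat_lit 0xb07, nat_lit 0), (nat_lit 0x60b, nat_lit 0), (nat_lit 0xdd6, nat_lit 0), (nat_lit 0xf5b, nat_lit 0), (nat_lit 0x5dd, nat_lit 0), (nat_lit 0xd98, nat_lit 0), (nat_lit 0x680, nat_lit 0), (nat_lit 0xf2f, nat_lit 0), (nat_lit 0x4b8, nat_lit 0), (nat_lit 0xdf3, nat_lit 0), (nat_lit 0xd0a, nat_lit 0), (nat_lit 0xb8c, nat_lit 0), (nat_lit 0x92f, nat_lit 0), (nat_lit 0xf08, nat_lit 0), (nat_lit 0x84f, nat_lit 0), (nat_lit 0xabf, nat_lit 0), (nat_lit 0xede, nat_lit 0), (nat_lit 0x9b5, nat_lit 0), (nat_lit 81, nat_lit 0), (nat_lit 0x74c, nat_lit 0), (nat_lit 0xb88, nat_lit 0), (nat_lit 0x653, nat_lit 0), (nat_lit 0x742, nat_lit 0), (nat_lit 0xcde, nat_lit 0), (nat_lit 0x541, nat_lit 0), (nat_lit 0xc75, nat_lit 0), (nat_lit 0xe92, nat_lit 0), (nat_lit 279, nat_lit 0), (nat_lit 0x828, nat_lit 0), (nat_lit 0xa01, nat_lit 0), (nat_lit 0xe4b, nat_lit 0), (nat_lit 0x63b, nat_lit 0), (nat_lit 52, nat_lit 0), (nat_lit 968, nat_lit 0), (nat_lit 421, nat_lit 0), (nat_lit 0x555, nat_lit 0), (nat_lit 0xa25, nat_lit 0), (nat_lit 0xa88, nat_lit 0), (nat_lit 0xe91, nat_lit 0), (nat_lit 0x908, nat_lit 0), (nat_lit 0x9c1, nat_lit 0), (nat_lit 262, nat_lit 0), (nat_lit 0x82c, nat_lit 0), (nat_lit 0xcc9, nat_lit 0), (nat_lit 0xe2d, nat_lit 0), (nat_lit 0x692, nat_lit 0), (nat_lit 452, nat_lit 0), (nat_lit 0x764, nat_lit 0), (nat_lit 0xadf, nat_lit 0), (nat_lit 0x9bc, nat_lit 0), (nat_lit 0xad8, nat_lit 0), (nat_lit 0x8c4, nat_lit 0), (nat_lit 0xfdb, nat_lit 0), (nat_lit 58, nat_lit 0), (nat_lit 287, nat_lit 0), (nat_lit 164, nat_lit 0), (nat_lit 0x894, nat_lit 0), (nat_lit 0x3fa, nat_lit 0), (nat_lit 0x660, nat_lit 0), (nat_lit 0xa2a, nat_lit 0), (nat_lit 0x899, nat_lit 0), (nat_lit 0x848, nat_lit 0), (nat_lit 0xf61, nat_lit 0), (nat_lit 0xf1a, nat_lit 0), (nat_lit 0x760, nat_lit 0), (nat_lit 137, nat_lit 0), (nat_lit 0xdd9, nat_lit 0), (nat_lit 0xa6b, nat_lit 0), (nat_lit 0xd2b, nat_lit 0), (nat_lit 0xf6a, nat_lit 0), (nat_lit 0xe07, nat_lit 0), (nat_lit 0xdaf, nat_lit 0), (nat_lit 849, nat_lit 0), (nat_lit 0xb7f, nat_lit 0), (nat_lit 0xd28, nat_lit 0), (nat_lit 0x603, nat_lit 0), (nat_lit 450, nat_lit 0), (nat_lit 0xb44, nat_lit 0), (nat_lit 0x632, nat_lit 0), (nat_lit 0xf02, nat_lit 0), (nat_lit 0xf93, nat_lit 0), (nat_lit 0xe65, nat_lit 0), (nat_lit 0xf9f, nat_lit 0), (nat_lit 0xe9b, nat_lit 0), (nat_lit 0x80b, nat_lit 0), (nat_lit 0x931, nat_lit 0), (nat_lit 0x548, nat_lit 0), (nat_lit 0xb7e, nat_lit 0), (nat_lit 0x795, nat_lit 0), (nat_lit 0xb65, nat_lit 0), (nat_lit 0xf4f, nat_lit 0), (nat_lit 0x6a7, nat_lit 0), (nat_lit 0x686, nat_lit 0), (nat_lit 0x896, nat_lit 0), (nat_lit 585, nat_lit 0), (nat_lit 0x41d, nat_lit 0), (nat_lit 490, nat_lit 0), (nat_lit 0x68b, nat_lit 0), (nat_lit 0xf5f, nat_lit 0), (nat_lit 0xa23, nat_lit 0), (nat_lit 0x811, nat_lit 0), (nat_lit 0xf54, nat_lit 0), (nat_lit 0xfda, nat_lit 0), (nat_lit 0xbbb, nat_lit 0), (nat_lit 0x86c, nat_lit 0), (nat_lit 438, nat_lit 0), (nat_lit 888, nat_lit 0), (nat_lit 0x8e6, nat_lit 0), (nat_lit 0xc84, nat_lit 0), (nat_lit 0xd6d, nat_lit 0), (nat_lit 0xd3e, nat_lit 0), (nat_lit 0xf29, nat_lit 0), (nat_lit 0xb00, nat_lit 0), (nat_lit 0xa3e, nat_lit 0), (nat_lit 0x867, nat_lit 0), (nat_lit 703, nat_lit 0), (nat_lit 0x5ea, nat_lit 0), (nat_lit 0xdae, nat_lit 0), (nat_lit 0x476, nat_lit 0), (nat_lit 0xd61, nat_lit 0), (nat_lit 0xa7e, nat_lit 0), (nat_lit 615, nat_lit 0), (nat_lit 684, nat_lit 0), (nat_lit 0xb38, nat_lit 0), (nat_lit 0xd27, nat_lit 0), (nat_lit 0xf2e, nat_lit 0), (nat_lit 934, nat_lit 0), (nat_lit 0x726, nat_lit 0), (nat_lit 493, nat_lit 0), (nat_lit 0x73b, nat_lit 0), (nat_lit 522, nat_lit 0), (nat_lit 0x94e, nat_lit 0), (nat_lit 0x880, nat_lit 0), (nat_lit 618, nat_lit 0), (nat_lit 0x4fd, nat_lit 0), (nat_lit 295, nat_lit 0), (nat_lit 0xd6e, nat_lit 0), (nat_lit 0xcae, nat_lit 0), (nat_lit 0x86d, nat_lit 0), (nat_lit 0xaad, nat_lit 0), (nat_lit 0xd55, nat_lit 0), (nat_lit 754, nat_lit 0), (nat_lit 0x53c, nat_lit 0), (nat_lit 0xaae, nat_lit 0), (nat_lit 285, nat_lit 0), (nat_lit 0xb0c, nat_lit 0), (nat_lit 0xfa1, nat_lit 0), (nat_lit 0xd07, nat_lit 0), (nat_lit 0xc88, nat_lit 0), (nat_lit 0x477, nat_lit 0), (nat_lit 0xbb0, nat_lit 0), (nat_lit 0x79f, nat_lit 0), (nat_lit 579, nat_lit 0), (nat_lit 858, nat_lit 0), (nat_lit 0x5dc, nat_lit 0), (nat_lit 0xae9, nat_lit 0), (nat_lit 0xd81, nat_lit 0), (nat_lit 0x9b7, nat_lit 0), (nat_lit 400, nat_lit 0), (nat_lit 174, nat_lit 0), (nat_lit 780, nat_lit 0), (nat_lit 420, nat_lit 0), (nat_lit 0xf73, nat_lit 0), (nat_lit 0x9f4, nat_lit 0), (nat_lit 0xee2, nat_lit 0), (nat_lit 0x822, nat_lit 0), (nat_lit 392, nat_lit 0), (nat_lit 0x6df, nat_lit 0), (nat_lit 0xf18, nat_lit 0), (nat_lit 0x8c6, nat_lit 0), (nat_lit 0x909, nat_lit 0), (nat_lit 0xd22, nat_lit 0), (nat_lit 0xb32, nat_lit 0), (nat_lit 0xe9d, nat_lit 0), (nat_lit 0xc70, nat_lit 0), (nat_lit 761, nat_lit 0), (nat_lit 0xa70, nat_lit 0), (nat_lit 0x9d3, nat_lit 0), (nat_lit 943, nat_lit 0), (nat_lit 0xca5, nat_lit 0), (nat_lit 45, nat_lit 0), (nat_lit 296, nat_lit 0), (nat_lit 834, nat_lit 0), (nat_lit 0xa74, nat_lit 0), (nat_lit 0xb47, nat_lit 0), (nat_lit 0x8c8, nat_lit 0), (nat_lit 0x7ed, nat_lit 0), (nat_lit 0x434, nat_lit 0), (nat_lit 0x5f1, nat_lit 0), (nat_lit 0x9d0, nat_lit 0), (nat_lit 0xf55, nat_lit 0), (nat_lit 13, nat_lit 0), (nat_lit 0x5a3, nat_lit 0), (nat_lit 0x57f, nat_lit 0), (nat_lit 0xb40, nat_lit 0), (nat_lit 0x68f, nat_lit 0), (nat_lit 0x5b7, nat_lit 0), (nat_lit 0x68c, nat_lit 0), (nat_lit 0xd4d, nat_lit 0), (nat_lit 0x9a0, nat_lit 0), (nat_lit 0x701, nat_lit 0), (nat_lit 0xe31, nat_lit 0), (nat_lit 0xf25, nat_lit 0), (nat_lit 0xed6, nat_lit 0), (nat_lit 0xa77, nat_lit 0), (nat_lit 976, nat_lit 0), (nat_lit 0x9a1, nat_lit 0), (nat_lit 0xbc8, nat_lit 0), (nat_lit 486, nat_lit 0), (nat_lit 0xa9a, nat_lit 0), (nat_lit 0x7d9, nat_lit 0), (nat_lit 0x6c2, nat_lit 0), (nat_lit 0x85e, nat_lit 0), (nat_lit 495, nat_lit 0), (nat_lit 0xcb3, nat_lit 0), (nat_lit 0x4a7, nat_lit 0), (nat_lit 871, nat_lit 0), (nat_lit 0xc2c, nat_lit 0), (nat_lit 0x7a5, nat_lit 0), (nat_lit 0xcdb, nat_lit 0), (nat_lit 0x68a, nat_lit 0), (nat_lit 0x8a6, nat_lit 0), (nat_lit 0x93b, nat_lit 0), (nat_lit 0x890, nat_lit 0), (nat_lit 916, nat_lit 0), (nat_lit 0x80d, nat_lit 0), (nat_lit 0xf60, nat_lit 0), (nat_lit 0xd0e, nat_lit 0), (nat_lit 0xb64, nat_lit 0), (nat_lit 0x460, nat_lit 0), (nat_lit 0xf24, nat_lit 0), (nat_lit 0x79c, nat_lit 0), (nat_lit 491, nat_lit 0), (nat_lit 0x702, nat_lit 0), (nat_lit 460, nat_lit 0), (nat_lit 166, nat_lit 0), (nat_lit 0x5b2, nat_lit 0), (nat_lit 0xd3a, nat_lit 0), (nat_lit 112, nat_lit 0), (nat_lit 0xd0b, nat_lit 0), (nat_lit 0xb5c, nat_lit 0), (nat_lit 0xabb, nat_lit 0), (nat_lit 0x9a4, nat_lit 0), (nat_lit 134, nat_lit 0), (nat_lit 0x8a2, nat_lit 0), (nat_lit 0xa5d, nat_lit 0), (nat_lit 0x9ba, nat_lit 0), (nat_lit 0x911, nat_lit 0), (nat_lit 0x6b0, nat_lit 0), (nat_lit 0x540, nat_lit 0), (nat_lit 195, nat_lit 0), (nat_lit 0x92e, nat_lit 0), (nat_lit 0x5cc, nat_lit 0), (nat_lit 0x49d, nat_lit 0), (nat_lit 0xfa4, nat_lit 0), (nat_lit 0x5af, nat_lit 0), (nat_lit 0xa57, nat_lit 0), (nat_lit 0xdb7, nat_lit 0), (nat_lit 0x8bd, nat_lit 0), (nat_lit 0x752, nat_lit 0), (nat_lit 0x746, nat_lit 0), (nat_lit 443, nat_lit 0), (nat_lit 521, nat_lit 0), (nat_lit 0x4fb, nat_lit 0), (nat_lit 0xab3, nat_lit 0), (nat_lit 0x46d, nat_lit 0), (nat_lit 0xe06, nat_lit 0), (nat_lit 0x61e, nat_lit 0), (nat_lit 0xb33, nat_lit 0), (nat_lit 608, nat_lit 0), (nat_lit 0x528, nat_lit 0), (nat_lit 0xf30, nat_lit 0), (nat_lit 0x7cb, nat_lit 0), (nat_lit 113, nat_lit 0), (nat_lit 0xddd, nat_lit 0), (nat_lit 735, nat_lit 0), (nat_lit 0xe15, nat_lit 0), (nat_lit 0x797, nat_lit 0), (nat_lit 82, nat_lit 0), (nat_lit 0xe0a, nat_lit 0), (nat_lit 0x866, nat_lit 0), (nat_lit 0xe32, nat_lit 0), (nat_lit 0x494, nat_lit 0), (nat_lit 0xfd2, nat_lit 0), (nat_lit 0x883, nat_lit 0), (nat_lit 0x8dd, nat_lit 0), (nat_lit 215, nat_lit 0), (nat_lit 0x670, nat_lit 0), (nat_lit 425, nat_lit 0), (nat_lit 0xf49, nat_lit 0), (nat_lit 731, nat_lit 0), (nat_lit 0xef4, nat_lit 0), (nat_lit 0x903, nat_lit 0), (nat_lit 0x7fb, nat_lit 0), (nat_lit 0xd3c, nat_lit 0), (nat_lit 0x62d, nat_lit 0), (nat_lit 186, nat_lit 0), (nat_lit 0x42f, nat_lit 0), (nat_lit 0xb15, nat_lit 0), (nat_lit 0x453, nat_lit 0), (nat_lit 0x48b, nat_lit 0), (nat_lit 245, nat_lit 0), (nat_lit 0x802, nat_lit 0), (nat_lit 0x5b1, nat_lit 0), (nat_lit 771, nat_lit 0), (nat_lit 0xc1b, nat_lit 0), (nat_lit 0x7f5, nat_lit 0), (nat_lit 0xcc2, nat_lit 0), (nat_lit 0x4ae, nat_lit 0), (nat_lit 635, nat_lit 0), (nat_lit 0xa2e, nat_lit 0), (nat_lit 0xa6d, nat_lit 0), (nat_lit 0xa2b, nat_lit 0), (nat_lit 0x4dd, nat_lit 0), (nat_lit 0xdb1, nat_lit 0), (nat_lit 0xa1a, nat_lit 0), (nat_lit 920, nat_lit 0), (nat_lit 0x60a, nat_lit 0), (nat_lit 0x423, nat_lit 0), (nat_lit 0xecf, nat_lit 0), (nat_lit 0x981, nat_lit 0), (nat_lit 789, nat_lit 0), (nat_lit 0xa22, nat_lit 0), (nat_lit 0xa0f, nat_lit 0), (nat_lit 0x8da, nat_lit 0), (nat_lit 0xa5e, nat_lit 0), (nat_lit 0xdc3, nat_lit 0), (nat_lit 0x601, nat_lit 0), (nat_lit 709, nat_lit 0), (nat_lit 0x441, nat_lit 0), (nat_lit 957, nat_lit 0), (nat_lit 0xbd6, nat_lit 0), (nat_lit 0xa94, nat_lit 0), (nat_lit 456, nat_lit 0), (nat_lit 0xcf3, nat_lit 0), (nat_lit 0x71b, nat_lit 0), (nat_lit 0x9b8, nat_lit 0), (nat_lit 0x99f, nat_lit 0), (nat_lit 0x6fb, nat_lit 0), (nat_lit 0x89e, nat_lit 0), (nat_lit 0x6e6, nat_lit 0), (nat_lit 986, nat_lit 0), (nat_lit 0x440, nat_lit 0), (nat_lit 0x506, nat_lit 0), (nat_lit 0xd9c, nat_lit 0), (nat_lit 0x7d7, nat_lit 0), (nat_lit 0xcfe, nat_lit 0), (nat_lit 0xdde, nat_lit 0), (nat_lit 0xe39, nat_lit 0), (nat_lit 0xdd2, nat_lit 0), (nat_lit 0x77e, nat_lit 0), (nat_lit 410, nat_lit 0), (nat_lit 0x75e, nat_lit 0), (nat_lit 185, nat_lit 0), (nat_lit 11, nat_lit 0), (nat_lit 737, nat_lit 0), (nat_lit 0x669, nat_lit 0), (nat_lit 0x83e, nat_lit 0), (nat_lit 0xdf7, nat_lit 0), (nat_lit 0x4bd, nat_lit 0), (nat_lit 0xb91, nat_lit 0), (nat_lit 0x7b5, nat_lit 0), (nat_lit 862, nat_lit 0), (nat_lit 0xa02, nat_lit 0), (nat_lit 0xf78, nat_lit 0), (nat_lit 0x950, nat_lit 0), (nat_lit 556, nat_lit 0), (nat_lit 0x715, nat_lit 0), (nat_lit 0x62a, nat_lit 0), (nat_lit 0xaca, nat_lit 0), (nat_lit 0xb61, nat_lit 0), (nat_lit 0x4ce, nat_lit 0), (nat_lit 0xa3d, nat_lit 0), (nat_lit 0xa50, nat_lit 0), (nat_lit 0xc09, nat_lit 0), (nat_lit 0x926, nat_lit 0), (nat_lit 0xd66, nat_lit 0), (nat_lit 0xb5e, nat_lit 0), (nat_lit 0x5be, nat_lit 0), (nat_lit 786, nat_lit 0), (nat_lit 0x9f3, nat_lit 0), (nat_lit 891, nat_lit 0), (nat_lit 0x778, nat_lit 0), (nat_lit 379, nat_lit 0), (nat_lit 0x6a4, nat_lit 0), (nat_lit 0xce6, nat_lit 0), (nat_lit 23, nat_lit 0), (nat_lit 0x8b1, nat_lit 0), (nat_lit 0xa13, nat_lit 0), (nat_lit 717, nat_lit 0), (nat_lit 0xde5, nat_lit 0), (nat_lit 0xf4a, nat_lit 0), (nat_lit 347, nat_lit 0), (nat_lit 0xc90, nat_lit 0), (nat_lit 787, nat_lit 0), (nat_lit 0x975, nat_lit 0), (nat_lit 407, nat_lit 0), (nat_lit 0x793, nat_lit 0), (nat_lit 0xc67, nat_lit 0), (nat_lit 348, nat_lit 0), (nat_lit 0xf8a, nat_lit 0), (nat_lit 0x915, nat_lit 0), (nat_lit 0x81f, nat_lit 0), (nat_lit 0xe3c, nat_lit 0), (nat_lit 0xdc2, nat_lit 0), (nat_lit 517, nat_lit 0), (nat_lit 0x7ba, nat_lit 0), (nat_lit 0xda0, nat_lit 0), (nat_lit 0x836, nat_lit 0), (nat_lit 148, nat_lit 0), (nat_lit 719, nat_lit 0), (nat_lit 0x538, nat_lit 0), (nat_lit 0x4dc, nat_lit 0), (nat_lit 0xd4a, nat_lit 0), (nat_lit 747, nat_lit 0), (nat_lit 0xb1a, nat_lit 0), (nat_lit 0x47c, nat_lit 0), (nat_lit 852, nat_lit 0), (nat_lit 0xc5e, nat_lit 0), (nat_lit 0xa4e, nat_lit 0), (nat_lit 0xbed, nat_lit 0), (nat_lit 0xa3a, nat_lit 0), (nat_lit 0x83b, nat_lit 0), (nat_lit 0x60e, nat_lit 0), (nat_lit 35, nat_lit 0), (nat_lit 0xbe3, nat_lit 0), (nat_lit 0xbdc, nat_lit 0), (nat_lit 0x6cd, nat_lit 0), (nat_lit 0xd33, nat_lit 0), (nat_lit 0x9b3, nat_lit 0), (nat_lit 0x88d, nat_lit 0), (nat_lit 0x45b, nat_lit 0), (nat_lit 589, nat_lit 0), (nat_lit 0x520, nat_lit 0), (nat_lit 0x998, nat_lit 0), (nat_lit 0x780, nat_lit 0), (nat_lit 0x49f, nat_lit 0), (nat_lit 54, nat_lit 0), (nat_lit 0x6c4, nat_lit 0), (nat_lit 0xf9d, nat_lit 0), (nat_lit 0x9cd, nat_lit 0), (nat_lit 0xb16, nat_lit 0), (nat_lit 211, nat_lit 0), (nat_lit 0xdd3, nat_lit 0), (nat_lit 0xfd9, nat_lit 0), (nat_lit 0xbe6, nat_lit 0), (nat_lit 0xf86, nat_lit 0), (nat_lit 0xa16, nat_lit 0), (nat_lit 0xd25, nat_lit 0), (nat_lit 740, nat_lit 0), (nat_lit 993, nat_lit 0), (nat_lit 260, nat_lit 0), (nat_lit 657, nat_lit 0), (nat_lit 0x443, nat_lit 0), (nat_lit 0x997, nat_lit 0), (nat_lit 0x86a, nat_lit 0), (nat_lit 0xa9b, nat_lit 0), (nat_lit 0xb6b, nat_lit 0), (nat_lit 0xb10, nat_lit 0), (nat_lit 476, nat_lit 0), (nat_lit 0x539, nat_lit 0), (nat_lit 80, nat_lit 0), (nat_lit 0xb22, nat_lit 0), (nat_lit 0xe12, nat_lit 0), (nat_lit 0xd21, nat_lit 0), (nat_lit 107, nat_lit 0), (nat_lit 0xe1c, nat_lit 0), (nat_lit 0x5f3, nat_lit 0), (nat_lit 0x6dd, nat_lit 0), (nat_lit 0xea3, nat_lit 0), (nat_lit 0xc69, nat_lit 0), (nat_lit 0x8d4, nat_lit 0), (nat_lit 0xc85, nat_lit 0), (nat_lit 0xd65, nat_lit 0), (nat_lit 415, nat_lit 0), (nat_lit 0xb26, nat_lit 0), (nat_lit 0xdbe, nat_lit 0), (nat_lit 0xd7f, nat_lit 0), (nat_lit 799, nat_lit 0), (nat_lit 6, nat_lit 0), (nat_lit 0x82f, nat_lit 0), (nat_lit 0xc03, nat_lit 0), (nat_lit 0x427, nat_lit 0), (nat_lit 0x93e, nat_lit 0), (nat_lit 0xa3b, nat_lit 0), (nat_lit 0xce8, nat_lit 0), (nat_lit 0x574, nat_lit 0), (nat_lit 0x9d1, nat_lit 0), (nat_lit 0xeb4, nat_lit 0), (nat_lit 0x784, nat_lit 0), (nat_lit 50, nat_lit 0), (nat_lit 454, nat_lit 0), (nat_lit 252, nat_lit 0), (nat_lit 0xe8c, nat_lit 0), (nat_lit 0xcd4, nat_lit 0), (nat_lit 0x8c1, nat_lit 0), (nat_lit 748, nat_lit 0), (nat_lit 0x993, nat_lit 0), (nat_lit 0xc2d, nat_lit 0), (nat_lit 623, nat_lit 0), (nat_lit 0xe36, nat_lit 0), (nat_lit 0x7e5, nat_lit 0), (nat_lit 0x6ed, nat_lit 0), (nat_lit 0x90b, nat_lit 0), (nat_lit 373, nat_lit 0), (nat_lit 0x553, nat_lit 0), (nat_lit 138, nat_lit 0), (nat_lit 0xe69, nat_lit 0), (nat_lit 760, nat_lit 0), (nat_lit 0x816, nat_lit 0), (nat_lit 0x92a, nat_lit 0), (nat_lit 431, nat_lit 0), (nat_lit 0x90f, nat_lit 0), (nat_lit 0xbfd, nat_lit 0), (nat_lit 0x776, nat_lit 0), (nat_lit 0xd64, nat_lit 0), (nat_lit 0x640, nat_lit 0), (nat_lit 0xb93, nat_lit 0), (nat_lit 0xcb1, nat_lit 0), (nat_lit 0x9db, nat_lit 0), (nat_lit 567, nat_lit 0), (nat_lit 0x584, nat_lit 0), (nat_lit 0x559, nat_lit 0), (nat_lit 196, nat_lit 0), (nat_lit 0x722, nat_lit 0), (nat_lit 881, nat_lit 0), (nat_lit 0x41e, nat_lit 0), (nat_lit 0x6b2, nat_lit 0), (nat_lit 0x809, nat_lit 0), (nat_lit 0x4ef, nat_lit 0), (nat_lit 554, nat_lit 0), (nat_lit 0x629, nat_lit 0), (nat_lit 0x92c, nat_lit 0), (nat_lit 947, nat_lit 0), (nat_lit 0x4a9, nat_lit 0), (nat_lit 527, nat_lit 0), (nat_lit 350, nat_lit 0), (nat_lit 0xea7, nat_lit 0), (nat_lit 0xfad, nat_lit 0), (nat_lit 0x5f4, nat_lit 0), (nat_lit 0x7e8, nat_lit 0), (nat_lit 0xa36, nat_lit 0), (nat_lit 803, nat_lit 0), (nat_lit 0xe55, nat_lit 0), (nat_lit 0xf3b, nat_lit 0), (nat_lit 0xe96, nat_lit 0), (nat_lit 0xcd0, nat_lit 0), (nat_lit 0xd38, nat_lit 0), (nat_lit 0x779, nat_lit 0), (nat_lit 0x9e2, nat_lit 0), (nat_lit 0x8ec, nat_lit 0), (nat_lit 0x7c0, nat_lit 0), (nat_lit 0xfcc, nat_lit 0), (nat_lit 0xd62, nat_lit 0), (nat_lit 0xc87, nat_lit 0), (nat_lit 0x48a, nat_lit 0), (nat_lit 0x7cf, nat_lit 0), (nat_lit 0xa62, nat_lit 0), (nat_lit 258, nat_lit 0), (nat_lit 0xe6d, nat_lit 0), (nat_lit 844, nat_lit 0), (nat_lit 324, nat_lit 0), (nat_lit 0xedb, nat_lit 0), (nat_lit 0x5e2, nat_lit 0), (nat_lit 0xcf4, nat_lit 0), (nat_lit 0xb24, nat_lit 0), (nat_lit 913, nat_lit 0), (nat_lit 0x410, nat_lit 0), (nat_lit 0x511, nat_lit 0), (nat_lit 0xb72, nat_lit 0), (nat_lit 0x677, nat_lit 0), (nat_lit 0xbc5, nat_lit 0), (nat_lit 178, nat_lit 0), (nat_lit 0x6e4, nat_lit 0), (nat_lit 0x87c, nat_lit 0), (nat_lit 0xb43, nat_lit 0), (nat_lit 0xfa7, nat_lit 0), (nat_lit 0x709, nat_lit 0), (nat_lit 24, nat_lit 0), (nat_lit 0x5a0, nat_lit 0), (nat_lit 0x833, nat_lit 0), (nat_lit 0x8b6, nat_lit 0), (nat_lit 423, nat_lit 0), (nat_lit 0x8ed, nat_lit 0), (nat_lit 0x728, nat_lit 0), (nat_lit 0x4e4, nat_lit 0), (nat_lit 0x720, nat_lit 0), (nat_lit 448, nat_lit 0), (nat_lit 818, nat_lit 0), (nat_lit 0xfb6, nat_lit 0), (nat_lit 835, nat_lit 0), (nat_lit 0x853, nat_lit 0), (nat_lit 0xa43, nat_lit 0), (nat_lit 470, nat_lit 0), (nat_lit 0x9d6, nat_lit 0), (nat_lit 0xdb8, nat_lit 0), (nat_lit 0x6f3, nat_lit 0), (nat_lit 367, nat_lit 0), (nat_lit 0x88c, nat_lit 0), (nat_lit 0x5d3, nat_lit 0), (nat_lit 0x78a, nat_lit 0), (nat_lit 157, nat_lit 0), (nat_lit 708, nat_lit 0), (nat_lit 0x4d4, nat_lit 0), (nat_lit 0x64d, nat_lit 0), (nat_lit 0x913, nat_lit 0), (nat_lit 0x818, nat_lit 0), (nat_lit 0x4ea, nat_lit 0), (nat_lit 0xa58, nat_lit 0), (nat_lit 0x3ef, nat_lit 0), (nat_lit 0x90e, nat_lit 0), (nat_lit 0x7ef, nat_lit 0), (nat_lit 0xc18, nat_lit 0), (nat_lit 398, nat_lit 0), (nat_lit 0xc08, nat_lit 0), (nat_lit 624, nat_lit 0), (nat_lit 0x4e2, nat_lit 0), (nat_lit 0xec5, nat_lit 0), (nat_lit 198, nat_lit 0), (nat_lit 0x451, nat_lit 0), (nat_lit 0x7d3, nat_lit 0), (nat_lit 0x745, nat_lit 0), (nat_lit 647, nat_lit 0), (nat_lit 0x8ee, nat_lit 0), (nat_lit 0x821, nat_lit 0), (nat_lit 0x7fa, nat_lit 0), (nat_lit 537, nat_lit 0), (nat_lit 0xb2a, nat_lit 0), (nat_lit 0xa60, nat_lit 0), (nat_lit 0xd08, nat_lit 0), (nat_lit 0x708, nat_lit 0), (nat_lit 0xfc6, nat_lit 0), (nat_lit 222, nat_lit 0), (nat_lit 0x6f6, nat_lit 0), (nat_lit 0x957, nat_lit 0), (nat_lit 0x8a7, nat_lit 0), (nat_lit 0x953, nat_lit 0), (nat_lit 0x8b5, nat_lit 0), (nat_lit 541, nat_lit 0), (nat_lit 0xccc, nat_lit 0), (nat_lit 0x400, nat_lit 0), (nat_lit 0xd53, nat_lit 0), (nat_lit 0x467, nat_lit 0), (nat_lit 61, nat_lit 0), (nat_lit 0x4d0, nat_lit 0), (nat_lit 752, nat_lit 0), (nat_lit 0x472, nat_lit 0), (nat_lit 0x7ac, nat_lit 0), (nat_lit 329, nat_lit 0), (nat_lit 0xc92, nat_lit 0), (nat_lit 0xf8c, nat_lit 0), (nat_lit 0x659, nat_lit 0), (nat_lit 0x58a, nat_lit 0), (nat_lit 0xa4d, nat_lit 0), (nat_lit 306, nat_lit 0), (nat_lit 20, nat_lit 0), (nat_lit 509, nat_lit 0), (nat_lit 0x4f0, nat_lit 0), (nat_lit 0xc0d, nat_lit 0), (nat_lit 0x7f7, nat_lit 0), (nat_lit 0xc6f, nat_lit 0), (nat_lit 159, nat_lit 0), (nat_lit 0x642, nat_lit 0), (nat_lit 0x59c, nat_lit 0), (nat_lit 0x807, nat_lit 0), (nat_lit 210, nat_lit 0), (nat_lit 0xd74, nat_lit 0), (nat_lit 0xeb1, nat_lit 0), (nat_lit 0x91c, nat_lit 0), (nat_lit 0x5b9, nat_lit 0), (nat_lit 898, nat_lit 0), (nat_lit 0xa18, nat_lit 0), (nat_lit 549, nat_lit 0), (nat_lit 595, nat_lit 0), (nat_lit 0x591, nat_lit 0), (nat_lit 905, nat_lit 0), (nat_lit 0x592, nat_lit 0), (nat_lit 797, nat_lit 0), (nat_lit 0x4c5, nat_lit 0), (nat_lit 0x7ea, nat_lit 0), (nat_lit 394, nat_lit 0), (nat_lit 0xad5, nat_lit 0), (nat_lit 0x7eb, nat_lit 0), (nat_lit 0xcba, nat_lit 0), (nat_lit 0xdce, nat_lit 0), (nat_lit 0x808, nat_lit 0), (nat_lit 662, nat_lit 0), (nat_lit 0xdda, nat_lit 0), (nat_lit 0xf09, nat_lit 0), (nat_lit 0xd7c, nat_lit 0), (nat_lit 504, nat_lit 0), (nat_lit 0xa27, nat_lit 0), (nat_lit 0x578, nat_lit 0), (nat_lit 0xca7, nat_lit 0), (nat_lit 77, nat_lit 0), (nat_lit 0x78d, nat_lit 0), (nat_lit 0x9bf, nat_lit 0), (nat_lit 0x74b, nat_lit 0), (nat_lit 0x842, nat_lit 0), (nat_lit 0x4f2, nat_lit 0), (nat_lit 0xb80, nat_lit 0), (nat_lit 0x815, nat_lit 0), (nat_lit 0xe48, nat_lit 0), (nat_lit 956, nat_lit 0), (nat_lit 47, nat_lit 0), (nat_lit 0x826, nat_lit 0), (nat_lit 0x65b, nat_lit 0), (nat_lit 0x4a4, nat_lit 0), (nat_lit 0xada, nat_lit 0), (nat_lit 0x885, nat_lit 0), (nat_lit 0xce4, nat_lit 0), (nat_lit 272, nat_lit 0), (nat_lit 840, nat_lit 0), (nat_lit 353, nat_lit 0), (nat_lit 0xd2f, nat_lit 0), (nat_lit 0xe3e, nat_lit 0), (nat_lit 873, nat_lit 0), (nat_lit 0x438, nat_lit 0), (nat_lit 0x588, nat_lit 0), (nat_lit 0x727, nat_lit 0), (nat_lit 0xecc, nat_lit 0), (nat_lit 0xe1d, nat_lit 0), (nat_lit 0xb2b, nat_lit 0), (nat_lit 0x789, nat_lit 0), (nat_lit 991, nat_lit 0), (nat_lit 0xbde, nat_lit 0), (nat_lit 0xa33, nat_lit 0), (nat_lit 0x83f, nat_lit 0), (nat_lit 0x5e5, nat_lit 0), (nat_lit 0x6a6, nat_lit 0), (nat_lit 0x8e4, nat_lit 0), (nat_lit 0x944, nat_lit 0), (nat_lit 0xe42, nat_lit 0), (nat_lit 0xeab, nat_lit 0), (nat_lit 338, nat_lit 0), (nat_lit 0x4bc, nat_lit 0), (nat_lit 283, nat_lit 0), (nat_lit 0xe4c, nat_lit 0), (nat_lit 631, nat_lit 0), (nat_lit 652, nat_lit 0), (nat_lit 0x51d, nat_lit 0), (nat_lit 642, nat_lit 0), (nat_lit 966, nat_lit 0), (nat_lit 360, nat_lit 0), (nat_lit 0x6b8, nat_lit 0), (nat_lit 0x482, nat_lit 0), (nat_lit 43, nat_lit 0), (nat_lit 0xdf4, nat_lit 0), (nat_lit 0x9a2, nat_lit 0), (nat_lit 358, nat_lit 0), (nat_lit 0xd4b, nat_lit 0), (nat_lit 0x61d, nat_lit 0), (nat_lit 0xb14, nat_lit 0), (nat_lit 0x627, nat_lit 0), (nat_lit 0xa1d, nat_lit 0), (nat_lit 0x697, nat_lit 0), (nat_lit 0x9e8, nat_lit 0), (nat_lit 0xdb9, nat_lit 0), (nat_lit 0x929, nat_lit 0), (nat_lit 0x675, nat_lit 0), (nat_lit 0x3f6, nat_lit 0), (nat_lit 0x4fc, nat_lit 0), (nat_lit 0x7dd, nat_lit 0), (nat_lit 0xfb5, nat_lit 0), (nat_lit 607, nat_lit 0), (nat_lit 0x678, nat_lit 0), (nat_lit 0xe76, nat_lit 0), (nat_lit 673, nat_lit 0), (nat_lit 0x439, nat_lit 0), (nat_lit 0x505, nat_lit 0), (nat_lit 57, nat_lit 0), (nat_lit 0xc8e, nat_lit 0), (nat_lit 811, nat_lit 0), (nat_lit 0x7a2, nat_lit 0), (nat_lit 21, nat_lit 0), (nat_lit 0x60d, nat_lit 0), (nat_lit 0xf91, nat_lit 0), (nat_lit 0xc15, nat_lit 0), (nat_lit 530, nat_lit 0), (nat_lit 0x840, nat_lit 0), (nat_lit 0x602, nat_lit 0), (nat_lit 375, nat_lit 0), (nat_lit 0x919, nat_lit 0), (nat_lit 0xa5f, nat_lit 0), (nat_lit 0x564, nat_lit 0), (nat_lit 483, nat_lit 0), (nat_lit 0x6e5, nat_lit 0), (nat_lit 0xadb, nat_lit 0), (nat_lit 0xcc5, nat_lit 0), (nat_lit 0xabc, nat_lit 0), (nat_lit 0x682, nat_lit 0), (nat_lit 0xc32, nat_lit 0), (nat_lit 0xf77, nat_lit 0), (nat_lit 756, nat_lit 0), (nat_lit 793, nat_lit 0), (nat_lit 0xdc4, nat_lit 0), (nat_lit 0xbce, nat_lit 0), (nat_lit 0xec7, nat_lit 0), (nat_lit 0x71d, nat_lit 0), (nat_lit 471, nat_lit 0), (nat_lit 0xd82, nat_lit 0), (nat_lit 576, nat_lit 0), (nat_lit 0xf9e, nat_lit 0), (nat_lit 0x500, nat_lit 0), (nat_lit 0xd35, nat_lit 0), (nat_lit 0x8cd, nat_lit 0), (nat_lit 0xf10, nat_lit 0), (nat_lit 0x947, nat_lit 0), (nat_lit 0xaef, nat_lit 0), (nat_lit 0x710, nat_lit 0), (nat_lit 0x80f, nat_lit 0), (nat_lit 0xb27, nat_lit 0), (nat_lit 0xdf9, nat_lit 0), (nat_lit 0x954, nat_lit 0), (nat_lit 0x973, nat_lit 0), (nat_lit 0xb23, nat_lit 0), (nat_lit 895, nat_lit 0), (nat_lit 0xdbd, nat_lit 0), (nat_lit 131, nat_lit 0), (nat_lit 0x81b, nat_lit 0), (nat_lit 0x7fd, nat_lit 0), (nat_lit 0x819, nat_lit 0), (nat_lit 0xf26, nat_lit 0), (nat_lit 0x777, nat_lit 0), (nat_lit 782, nat_lit 0), (nat_lit 105, nat_lit 0), (nat_lit 689, nat_lit 0), (nat_lit 0x9a5, nat_lit 0), (nat_lit 0xc8d, nat_lit 0), (nat_lit 0x449, nat_lit 0), (nat_lit 0xf3e, nat_lit 0), (nat_lit 0x519, nat_lit 0), (nat_lit 0x6bd, nat_lit 0), (nat_lit 457, nat_lit 0), (nat_lit 0x6be, nat_lit 0), (nat_lit 604, nat_lit 0), (nat_lit 833, nat_lit 0), (nat_lit 0xc77, nat_lit 0), (nat_lit 0xdb6, nat_lit 0), (nat_lit 254, nat_lit 0), (nat_lit 408, nat_lit 0), (nat_lit 0x785, nat_lit 0), (nat_lit 644, nat_lit 0), (nat_lit 0xd69, nat_lit 0), (nat_lit 882, nat_lit 0), (nat_lit 0x800, nat_lit 0), (nat_lit 0x747, nat_lit 0), (nat_lit 0x81d, nat_lit 0), (nat_lit 0x858, nat_lit 0), (nat_lit 376, nat_lit 0), (nat_lit 0xefa, nat_lit 0), (nat_lit 0xb60, nat_lit 0), (nat_lit 837, nat_lit 0), (nat_lit 0x97f, nat_lit 0), (nat_lit 0xb62, nat_lit 0), (nat_lit 0xd47, nat_lit 0), (nat_lit 0x60c, nat_lit 0), (nat_lit 66, nat_lit 0), (nat_lit 0xf14, nat_lit 0), (nat_lit 0xd7e, nat_lit 0), (nat_lit 842, nat_lit 0), (nat_lit 0xf45, nat_lit 0), (nat_lit 0xa6a, nat_lit 0), (nat_lit 0x8fb, nat_lit 0), (nat_lit 0xc39, nat_lit 0), (nat_lit 0x50d, nat_lit 0), (nat_lit 0x704, nat_lit 0), (nat_lit 606, nat_lit 0), (nat_lit 0xc23, nat_lit 0), (nat_lit 0xb3d, nat_lit 0), (nat_lit 0x95b, nat_lit 0), (nat_lit 0x4a5, nat_lit 0), (nat_lit 0xbbc, nat_lit 0), (nat_lit 0xbe0, nat_lit 0), (nat_lit 0xd37, nat_lit 0), (nat_lit 0xe8f, nat_lit 0), (nat_lit 0xef9, nat_lit 0), (nat_lit 0x962, nat_lit 0), (nat_lit 0xd92, nat_lit 0), (nat_lit 319, nat_lit 0), (nat_lit 0x6db, nat_lit 0), (nat_lit 0x51a, nat_lit 0), (nat_lit 826, nat_lit 0), (nat_lit 0x774, nat_lit 0), (nat_lit 0x615, nat_lit 0), (nat_lit 0xfbc, nat_lit 0), (nat_lit 334, nat_lit 0), (nat_lit 455, nat_lit 0), (nat_lit 910, nat_lit 0), (nat_lit 0xe0e, nat_lit 0), (nat_lit 0xe09, nat_lit 0), (nat_lit 0x496, nat_lit 0), (nat_lit 832, nat_lit 0), (nat_lit 0x82e, nat_lit 0), (nat_lit 0xd48, nat_lit 0), (nat_lit 0xb37, nat_lit 0), (nat_lit 0x58b, nat_lit 0), (nat_lit 0x83a, nat_lit 0), (nat_lit 720, nat_lit 0), (nat_lit 0x88b, nat_lit 0), (nat_lit 0xc0e, nat_lit 0)])] LV = true :=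
  M.wkL (pr := [[nat_lit 1, nat_lit 1, nat_lit 0, nat_lit 1, nat_lit 0, nat_lit 0],
   [nat_lit 1, nat_lit 2, nat_lit 2, nat_lit 0, nat_lit 2, nat_lit 1, nat_lit 2, nat_lit 2],
   [nat_lit 3, nat_lit 2, nat_lit 1, nat_lit 2, nat_lit 3, nat_lit 3, nat_lit 2, nat_lit 1, nat_lit 2],
   [nat_lit 1, nat_lit 0, nat_lit 0],
   [nat_lit 0, nat_lit 0, nat_lit 1, nat_lit 1, nat_lit 0, nat_lit 2, nat_lit 0, nat_lit 0, nat_lit 1],
   [nat_lit 1, nat_lit 3, nat_lit 2, nat_lit 3, nat_lit 1, nat_lit 2, nat_lit 2, nat_lit 2],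
   [nat_lit 1, nat_lit 1, nat_lit 1, nat_lit 0],
   [nat_lit 1, nat_lit 1, nat_lit 2, nat_lit 2, nat_lit 0, nat_lit 2, nat_lit 0, nat_lit 0, nat_lit 0, nat_lit 1, nat_lit 2],
   [nat_lit 2, nat_lit 3, nat_lit 2, nat_lit 1, nat_lit 3, nat_lit 1, nat_lit 1, nat_lit 2, nat_lit 3, nat_lit 1, nat_lit 2],
   [nat_lit 10],
   [nat_lit 1, nat_lit 1, nat_lit 2, nat_lit 1, nat_lit 3, nat_lit 3, nat_lit 3, nat_lit 3, nat_lit 4, nat_lit 7, nat_lit 7, nat_lit 6, nat_lit 7, nat_lit 6, nat_lit 11, nat_lit 10, nat_lit 11, nat_lit 9, nat_lit 11, nat_lit 11, nat_lit 10],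
   [nat_lit 3, nat_lit 2, nat_lit 3, nat_lit 6, nat_lit 6, nat_lit 4, nat_lit 5, nat_lit 6, nat_lit 6, nat_lit 4, nat_lit 7, nat_lit 7, nat_lit 8, nat_lit 8, nat_lit 9, nat_lit 8, nat_lit 9, nat_lit 11, nat_lit 10, nat_lit 11, nat_lit 12, nat_lit 12, nat_lit 11, nat_lit 10],
   [],
   [nat_lit 4, nat_lit 4, nat_lit 5, nat_lit 7, nat_lit 7, nat_lit 6, nat_lit 6, nat_lit 7, nat_lit 11, nat_lit 9, nat_lit 9, nat_lit 12, nat_lit 14, nat_lit 13, nat_lit 13, nat_lit 14]])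
    (lv := [(nat_lit 0xbbd, nat_lit 0x8c6308c6118823084431886310c4308c6218861104231886108c2208823084210844310c6210c43088631882108c61084621082310c6310c2218c6318c42188431884310c6208c61188221846110423084431086218c4218c220886308442184620844318c2108462084411882308c611882118442108411882108c411842118c6308463184411044118c6218c231882310c211844308c6310c43184220846110c43184231844318c6218422188211884318c620886208c63184231084208c4318c2118c610884218421104411886218c2110c631042210c2208c620846110421184221886308422084221882218c4210c410846108c23104631842218c410884118c231842210422104211884318c41084421882310c4110c23104211046210c421846318c4108c41188630884208c2110c23108431846208c62188611886108c231844318841184610886108423188431844210c43084621886118c4318c2310c2210c430886208c411084108823104431882208c22188431846308c631886218c23188621882108863188431844118c62104431044208c4108821188610886118c2118c6318c611884318c431846318c6118842188421884108c4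3084410842108c4210c631042218843188630844310862088621044218c4318c621042108c2308c2208c2110c4310423084621082308423184620884310c410846208c611844210c631882308c2308c6110823088420842108c211046108c221844210c611084118c2310821088631846110c410886218c41188210884318c42084611882108c21108410882108c421084118861084611086108463088610846210422188211882218c2110863184631044118461188231082218c621082308422184430884110861084611042108c220842110462187e3084220882318c43184421882310461088610884118c43184421884210c210884208841108210882110c6110c4208863104221082208c62108231884210422108211882208c6208c6308c6308843088621044218c6218c420882110c6310423088611046210c4318c2210841084431882118c6118c421882208c41188220846108c231084218c4318443104611846318462184211844210c431882218441188210846318c2310c4318c430886310c231884110c631084218861088411082210c4308c4318c6318c221844110423088231846108c231884310c210842108c4308c6110442088211844108422084411082210c231084308c221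8861104410884208c6218c420846308c2218c4108c4318c2208461088231084310c211084318c6110c231886310823104610844108c4308c611846310c6218c210842108c4208c62084231842110c2210c4110c22184231886308c4210c430846310c41108421084110c6210843104231084210c61184430884308c6208c4208c6308c22084220844308c4210861108421044318841084210846310c61188620884210c63184610846310c4118c6110c2108c23184230886218841108211042210442084421044108c41088631044108443184231886210c63184621846318c21084221046108c431882218c2118c41104420882310c221084310c61108611046208c2118c221844118862108621842318c2108462108420886108c62088230846310c631044310c62084611044118c211842108823184431082208c23088430842110c621044218c21108611884208c6118c4108c43184430884218863088220842308442108410884110c630882208c631846310c631844308c431844108c63104430884310c4118c210842110c230882308c6108c2218843084631842308c6318c230884118843084620846118841088231042208861184230842318c6110c431846310442088611044318461188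42104210882208423104411844210c2210c4208c43088221882210c431884118441084211086210c6318443104221044210c2110c431042310c221046110c6308c41188621882210c231042110c2108c2110c21084231086110c4318c2318843088631884218c6108421088210842218c6110861184230846108c2318c4108c6210c43108431042110c2308461084421882108c230846108c431846318c61104431044110c4308861088221882310c21188610882108c221846310c63108210844318c4110c2208c4208c611886308862108221842208c61184631884110c411046308822084210886218843104421842108c6118421184411846118c631042318c42188231882110462088210844108c221886218822108231084308c221842218c221084218c62108211884318c62084211882110c4210c6210c2318c210884110c630882108823084411082110461088430844308c231846318c6118c4318c411082310842088611042318862184230882108c6308c621082210443084221082218c4310c2208c4308c4208c4318443108431846310c4310843108420846208c231886310c6118823108421044208422184621846210c22088221082108843108221844118443088421084318863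108431842210c22084631086108c4210841084630886310421188410882318442108220846208841104610882118823184221044318c2318c62188621086208c23088630842308841184611086310c4310463084620846108c211844118421108611082208441088411082210822104620886310c43084210884218c411084318c2208c6118c631084118c411844310c2208c6218822188410882118c231844108c630882318c211886308c2210c2108c4108c620886118c430842208c2208822188611044118c42108231086110c231886118c611042308c4218c4210c621844210421108621086210c630886310462088230886110c6208422184610844210461108231086108461188420844210c420884310462088631086218c61184431886318c221046308c621884318c630882310862184211044310c6118823184221842318c2210843104211084318c62184230884218c42188431882210c22088631086208c4108462104631042118841084631846108c2118422104620884110c221842218c41088630844318c210844118821108230844308c2210842088431042208c6210c4210c4218c421082108c2218c4108c23184431042110862084431884218c210884308862188621082308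4421846108862184431886208c4108443084421046210841104611882108463084221044108c6208862084211086110c22088431086318c4308c2210c2208c410886218c631884108822184611044108c6310c2308423084411844118421108621084208862088630844210843084410882210c231042308c621886110c2110423188630846210c4210442184631842110c4218821188411086118c610846318843084411086108c21184430884210421088431082110c6318822188431882210863084211042208c4318c41108221886118c6218c220886118823108611082208c611844110441188410844308863, [nat_lit 14, nat_lit 15, nat_lit 13]),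
   (nat_lit 872, nat_lit 0x420180200006218c0000c601040118003184220040008400000020800200c001040110000000001804200043084620800300800084621044308422108630846200803004000804008022100030800308001100000806300c0300c001806308c220846210861184610080008063004001804010020100401804008062180000084000c620800208803188000046008c610000318020100010840200c4010c610006218802184411040010000008001080010c2210400080000000300c210006218040000220042208042000000080210061084601800008c430042018000180020040210c000004108c0118c400006008803004400044118021000620000000400104431000000400180220042110463108000804210c031806000062180030046100460100001000210060104400040100020188600080018461108601042100401100220800018003000421040108400000400042200c601080000803100000842010400188431040200003180000040018c2110063000200800308c001882218020004000042300c400806018440004030044000400000600084010842000600080000c6300c400846108c0018842180610040210400000001842008422100230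00011880300042180620040100400088000002000800000021806100423180601800008c6008803188001006118001000030884300461100000002000c0118c0200003180620882000842184421086000c4018440000031804218c600806100060008000002000c000006300002008031006110c4000c2310c000840100c0000060008201800008403080620840018c601800118062108031802108c0308062104010040018c2118c2118420180611882308440180000002108c23184601002108400000621084208401008000002118c0100462088621084118c41188201802210c611846308c40100000006318c20180000000000002000601080000c231000200820080400800100c010846010c6200423080031006000460080020044308c4108c0018400188001000000c01108400882310821084631842110c0000c000086008c400840300c60080600800100c600000208c0008043008021000200c0308060100600000318c0000c231006210043180020880208c0008c4110c210004318c620046300c4000060000420844218c6218822084010080008c4000443088000002000c0018403008200800018c60004631082308801080230000200403004610004000862088210884000861000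40080201002100060008000006310c011800010c60080021806210c6100001004000000118020004000002018042000021002318c220840110063000401000000060004001880300803180430840300c00184011804308c2118860008611046000440180630004308801180401800008c010800000000008000800310c601082200c0000c2100821080620000100c40080210002018802104600000300000100630800218c6008c6218803100231840308003008220006108c43000401802000c40180631046100800104000046318440180410844000c000800000c020082010c020006100802100030002310c2000c61180000842300c6108060000410000008002108011802300020000001840310c2200c0000460080231000300023108410002310841000400000008c0110821100400004300c6200000008031080018c6100c20084000086010c001004208c22080000840000c6310060104620880008000004211800000002000420800008020188020006008801084221000008022100030080008c0110c60008200840010400100200000308000004620006000422100031042008c00004420040010403000620080318002104210002000c6008021008010800118040000631004318402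00040000011046010800000421804000c0318c001884100c4100c2018420104000000310c4200021004200842300c2300001104410004010800000000806000c2000000104030004208001000601004108860004620002308000080620040000c410080108c61000430842108c2200402104400046008c020042000020184220802018802180000000300c001800000c001842208c01004000084000c401806000002000430006118c4118c03000030804008003100001880300c0000003180201882308c001000308c431800000000008610002008040184000804010c0200c01080021882100c00104010882000440004621086008c001806310c620800100401000430040100020180630004310000000000042210c420804218c000006108020008000006000c00000630000300862100621880310c02080410046200001000001800310060000631802118c0010c601000218062108031806310801100220880108c0000c030044008c620004110c6008c401000010c6200c23088011806000c43004030006210441180000802200040000021800200400180600086018c2300c2000803084011004110400000030004000400000600040000040008000006018401088610880000c0208c4300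0610800010041008230000008c000000000c20080430840118022008031800008401084430042010c2310000100230084018c2100c4018c6200c430000218c021802210c01080201846100420100000886010c6200c200004310040004000004110c0000c03100421080010c620082300c630000200000100000002000c0118020000200882200c4000c21000611084310862004001803f18002000600000108440008220006000c2018800080200804010061008001840000461000621800118860000000840108001004020080108c43088201080318000000010040008801080030880018001080401884000440080420080000820000610000310021004600800210062000010840018400000021842010c00180030840018c61180220006000860000010080018c000084000c40000000802300042000600082108c220080008800008220006000c6218c61008010006010400180611000010c0118842080000084000c0000022108030802100c0308002088600880208402180200080000041000231042318c420002200c031800000c6008063008201844100000080020006118823100001002200823000000882008000008601040000c2110c630080018c00008201840200023080000000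300c00080231800308c610004318863104410002308c2100400004601802300c0318423004031882000c2018c0300801188620080118001000201002308820004221000210420188031000010040088010002200420000220000000403000411884218003004010040000c60008601802300c6018c6010002000000844200c6010c6300420080000844100c410000300c2008420080030000310c4018c00184000000000c201006200062184401886108400188200006000c6008c00004211886200c000840000440108030004000c2110423004001840300060180400086010c00000031000000860, [nat_lit 12, nat_lit 11, nat_lit 10]),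
   (nat_lit 0x862, nat_lit 0x100020000010c00000000800000000004000000008002000601804000c000004000020004001080300c00100000000000c00000030000000000000000000000000080601004100c01004000040000040000200040300c000000008020000000000000000000000000018023004000806100c020040000000000030080000460000000000000c400000000023080030000000c00000010000000020000030000008c0000000000000000000c000802300000000000000000000004001800008000000011000010000008000804200040000000000000c230000008000008000000000040000010800000000000000880000060080030000000c000000000041180430000000c000002000c0018000000000000300800000000000100c000002000000100000004100020008010000018000000020000200020000000000200000180000080000820000401000000000000221080018000000030000018060000600000000042000000006000c20008630004000000000000040200c00000400000000000000611000000000004010000200040080030806008c0100002000001080000040000000000000000000000000000000180400000300463000000000000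80000040000201880000400080001000000022008021000310460008000800000c000004200003000400004000000000000000000000080000000100001100600004000c2000800000000000000000000031000000000004200040000000000000000010040080031802000c0000400000000000000000000000000000000000431880108000000000006000c0000002000030044000800000200000000000000000000000000000000000000000004000000000000004200800000000000020000000060180000000000040000011000000000000000000000000000000000000c000000000000000030006000400000000046118800000001080000040000000080018000000010080008000000010000000000000000080118000000601800000000000620002000021000010000000000000000000000000000000004008000000010000300060000000000300c400000000000000400000008040000401000000c03000020800000042000000080000c0000c4000000000630000000000180000000018000180001840110000000000000000000000200004000002000000006208c02100230006000002004600000300000000000000000000000601800000000000000000000000000030000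000c0200c00004001080000042104000000000840000000040000c00000001840018002008200000118002080020040018020004000000000020000001880000c6300003000220006000000000000000000060000600080000000000000800000000080030000000000000000080000c030002000420000010004100000000020000000003000001000000400000200000200000100020000000000180200006100800008600000300000000600040000000004200800018c00000001840000403000000080000000000630000100000000000000000000000000044000060180000000000c00080000000000000000030000000041000001000000c000880000002000200002000c000000000400000200000008040180010000007c0018000000000000000000080001086000000000000000300000180000840208000000000000010002000400800000063008000000000c23000030000000001000000000300423180000000200060180000040100001000400800100040000000040200000004200800200000000001000200063000600040000440000020000000c0200000000600000100020000001000300000000000806000000000000000310000008001000000060004001840000c000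00000000000000000000000218000000010004000022000000000010002000010006008c0000000000001000000000180001080000000000030000000441004031000308000000000880000c000040000000000021800000800000430040000063080000800000000084000000000000180000000208001000001800118c00000000080000060004020086008041000201000200000000001002200003100000040000040000000080000000000600884000c0300c200046300020080610840000002000000000300060000000004010400080000040000c01000200000200060000200000000000100400004000002180020800000002000010040000000000000002008c00100400000000800100000040300060180000000000400000030800000c010000200c030006010800080600800000c00000400002000000180000086000c2300000008011800000000000000000000020008000002000c00000000000000040000000002018000000001800000002000020004000000000000000000000080001806010400000000040000800084000800000860000200000000001000000000208060000000000000003000000080018041100010804300003100620000300000000000000200040000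00180000040000c000800000020000200800108000004000000000c00180000000300060000000000100000000000000010000000000000300000080000800000040008000006000001000001000300042000020000010000004000040218001080000006000060004000004000000000000000000020180230080200002000600040000800000000000310000008000000000000180610040000020108000000000001000000000210002000010040200c030080008043000020800008800008000000118440000000004000000000000000000001000000086018c400000200000000400000000060008010000110003000000000200001088001042000c00100020006000800000600000200060180000000000042008600002300000000000800108001008400006000002100010000018c0100000008000040000000000001804000001100001800000000000000800008000000030000000403000000000000000000000802300c0000000004001800000440000030000000000000000006000800100000000000000000001004000c43000010040010002000001806200c00180000000000461000001000000001000000006110000000010000000000180230004110003000001000000002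18c40100010040000860000000000000000000001000000000080010000000800180600000010060000010800000000180000000010000008001880000c00000000000000000000020000000043000010004000c001800000c0000c400000000c0000000008200804010001000030000000c0000000000010046000041000000000100000080010002100000000001004000003000000004000c40000020000300020104201000000000000000000000000000600000118c01080020002008000000001802300061180000006008400080000000008002000601000300000000000000000c600002008003, [nat_lit 9, nat_lit 8, nat_lit 7]),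
   (nat_lit 4, nat_lit 0x2000000000000000000000000000000000000000000000000000000000000000000000000000000000000000000000000000000000000000000000000000000000000000000000000000000000000000000000000000000000000000000000000000000000000000000000000000000000000000000000000000000000000000000000000000000000000000000000000000000000000000000000000000000000000000000000000000000000000000000000000000000000000000000000000000000000000000000000000000000000000000000000000000000000000000000000000000000000000000000000000008000000000000000000000000000000000000000000000000000000000000000000000000000000000000000000000000000000000000000000000000000000000000000000000000000000000000000000000000000000000000000000000000000000000000000000000000000000100000000000000000000000000000000000000000000000010000000000000000000000000000000000000000000000000000000000000000000000000000000000000000000000000000000000000000000000000000000000000000000000000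000000000000000000000000000000000000000000000000000000000000000000000000000000000000000000000000000000000000000000000000000000000000000000000000000000000000000000000000000000000000000000000000000000000000000000000000000000000000000000000000000000000000000000000000000000000000000000000000000000000000000400000000000000000000000000000000000000000000000000000000000000000000000000000000000000000000000000000000000000000000000000000000000000000000000000000000000000000000000000000000000000000000000000000000000000000000000000000000000000000000000000000000000000000000000000000000000000000000000000000000000000000000000000000000000000000000000000000000000000000000000000000000000000000000000000000000000000000000000000000000000000000000000000000000000000000000000000000000000000000000000000000000000000000000000000000000000000000000000000000000000000000000000000000000000000000000000000000000000000000000000000000000000000000000000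000000000000000000000000000000000000000000000000000000000000000000000000000000000000000000000000000000000000000000000000000000000040000000000000000000000000000000000000000000000000000000000000000000000000000000000000000000000000000000000000000000000000000000000000000000000000000000000000000000000000000000000000000000000000000000000000000000000000000000000000000000000000000000000000000010000000000000000000000000000000000000010000000000000000000000000000000000000000000000000000000000000000000000000000000000000000000000000000000000000000000000000000000000000000000000000000000000000000000000000000000000000000000000000000000000000000000000000000000000000000000000000000000000000000000000000000000000000000000000000000000000000000000000000000000000000000000000000000000000000000000000000000000000000000000000000000000000000000000000000000000000000000000000000000000000000000000000000000000000000000000000000000000000000000000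000000000000000000000000000000000000000000000000000000000000000000000000000000000000000000000000000000000000000000000000000000000000000000000000000000000000000000000000000000000000000000000000000000000000000000000000000000000000000000000000000000000000000000000000000000000000000000000000000000000000010000000000000000000000000000000000000000000000000000000000000000000000000000000000000000000000000000000000000000000000000000000000000000000000000000000000000000000000000000000000000000000000000000000000000000000000000000000000000000000000000000000000000000000000000000000000000000000000000000000000000000000000000000000000000000000000000000000000000000000000000000000000000000000000000000000000000000000000000000000000000000008000000000000000000000000000000000000000000000000000000000000000000000000000000000000000000000000000000000000000000000000000000000000000000000000000000000000000000000000000000000000000000000000000000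000000000000000000000000000000000000000000000000000000000000000000000000000000000000000000000000000000000000000000000000000000000000000000000000000000000000000000000000000000000000000000000000000000000000000000000000000000000000000000000000000000000000000000000000000000000000000000000000000000008000000000000000000000000000000000000000000000000000000000000000000000000000000000000000000000000000000000000000000000000000000000000000000000000000000000000000000000000000000000000000000000000000000000000000008000000000000000000000000000000000000000000000000000000000000000000000000000000000000000000000000000000000000000000000000000000000000000000000000000000000000000000000000000000000000000000000000000000000000000000000000000000000000000000000000000000000000000000000000000000000000000000000000000000000000000000000000000000000000000000000000000000000000000000000000000000000000000000000000000000000000000000000000000000000000000000000000000000000000000000400000000000000000000000000000000000000000000000000000000000000000000000000010000000000000000000000400000000000000000000000000000000000000000000000000000000000000000000000000000000000000000000000000000000000000000000000000000000000000000000000000000000000000000000000000000000000000000000000000000000000000000000000000000000000000000000000000000000000000000000000000000000000000000000000000000000000000000000001f00000,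 [nat_lit 6, nat_lit 5])]) (by decide +kernel)

theorem s4 : S.cl [Tb, C, D] = ⊤ :=
  (mdl_of_low (pr := [[nat_lit 1, nat_lit 2],
   [nat_lit 1, nat_lit 1, nat_lit 2, nat_lit 1, nat_lit 1, nat_lit 3, nat_lit 1, nat_lit 3, nat_lit 1, nat_lit 0, nat_lit 0, nat_lit 1, nat_lit 3],
   [nat_lit 2, nat_lit 2, nat_lit 1, nat_lit 2, nat_lit 1, nat_lit 2, nat_lit 3, nat_lit 1, nat_lit 3, nat_lit 2],
   [nat_lit 0, nat_lit 1, nat_lit 1, nat_lit 1, nat_lit 0, nat_lit 1],
   [nat_lit 0, nat_lit 2, nat_lit 0, nat_lit 1, nat_lit 1, nat_lit 1, nat_lit 1],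
   [nat_lit 1, nat_lit 1, nat_lit 1, nat_lit 1, nat_lit 1, nat_lit 1, nat_lit 1, nat_lit 2, nat_lit 3],
   [nat_lit 1, nat_lit 1, nat_lit 0],
   [nat_lit 2, nat_lit 1, nat_lit 0, nat_lit 1, nat_lit 2, nat_lit 1, nat_lit 1],
   [nat_lit 3, nat_lit 2, nat_lit 2, nat_lit 1, nat_lit 2, nat_lit 2, nat_lit 1, nat_lit 3, nat_lit 3, nat_lit 3, nat_lit 2],
   [nat_lit 1, nat_lit 0, nat_lit 0, nat_lit 1, nat_lit 1],
   [nat_lit 1, nat_lit 2]]) (lv := [(nat_lit 0, [nat_lit 11, nat_lit 13]), (nat_lit 1, [nat_lit 9, nat_lit 8]), (nat_lit 2, [nat_lit 6, nat_lit 5]), (nat_lit 3, [nat_lit 3, nat_lit 2]), (nat_lit 5, [nat_lit 1, nat_lit 0])]) (by decide +kernel) (fun t ht => (s2 M).1 t (List.mem_append_left _ ht)) M.card).cl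

end

theorem s5 : rigB 12 4060 29 3 10 1 14 rb [1, 2] Tb C D Xs [([2, 0, 0, 2, 2], 29), ([2, 0, 1, 1], 12), ([2, 0, 0, 1, 1], 7)] [(1, D)] = true := by decide +kernel

/-- The outer automorphism group of the Rudvalis group (the unitary automorphism group of the rank-28 Gaussian lattice modulo its centre) is trivial: every automorphism is inner. -/
theorem result : Nat.card (Cfsg.Out Cfsg.Spor.Ru) = 1 := by
  obtain ⟨S, M⟩ := H27.Ru.model
  obtain ⟨a, L1, W1, e1⟩ := s1 M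
  obtain ⟨b, L2, W2, e2⟩ := s2 M
  have hA := a Tb (by simp)
  have hC := b C (by simp)
  have hX := fun t ht => b t (List.mem_append_right _ ht)
  exact out_one_wk (s4 M) (rigB_spec M.base (by norm_num) (by rw [M.card]; norm_num) (fun t ht => b t (List.mem_append_left _ ht)) hX
    (trOk_cen W1 hA (by simpa using hA) e1) (trOk_spec W2 hC (hC.pow _) (by simpa using hC) hX e2).2 s5)

end Cfsg.Agent.S2077
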