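import Mathlib
import Cfsg.Statements.S2079
import Cfsg.Agent.H29.Out

set_option autoImplicit false
open Cfsg

namespace Cfsg.Agent.S2079

/-- The outer automorphism group of the Fischer group Fi₂₂ (the finitely presented group of the definitions) has order 2. -/
theorem result : Nat.card (Cfsg.Out Cfsg.Spor.Fi22) = 2 := by
  exact H13.Fi22.t22.card_out H13.Fi22.closure_cls (by
    have := H13.Fi22.simple
    exact (this.eq_bot_or_eq_top_of_normal _ inferInstance).resolve_right fun q =>
      H13.Fi22.not_comm (Subgroup.mem_center_iff.1 (q ▸ Subgroup.mem_top _) _))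

end Cfsg.Agent.S2079
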