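import Mathlib
import Cfsg.Statements.S0816
import Cfsg.Agent.H09.AutForm7

set_option autoImplicit false
open Cfsg

namespace Cfsg.Agent.S0816

/-- |Aut(PΩ_(2m+1)(q))| = 2 f · |PΩ_(2m+1)(q)| for q = p^f odd and m ≥ 3 (for the form quadFormOdd). -/
theorem result {F : Type*} [Field F] [Fintype F] (p f : ℕ) [Fact p.Prime] (hf : 1 ≤ f) (hF : Fintype.card F = p ^ f) (hodd : Odd p) (m : ℕ) (hm : 3 ≤ m) : Nat.card (MulAut (Cfsg.POmega F (Cfsg.quadFormOdd m F))) = 2 * f * Nat.card (Cfsg.POmega F (Cfsg.quadFormOdd m F)) := by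
  have := H10.qOdd_nondeg (m := m) (H10.two_ne_zero_of_odd_card (F := F) (hF ▸ hodd.pow))
  have h5 : 5 ≤ Fintype.card (Unit ⊕ (Fin m ⊕ Fin m)) := by simp; omega
  refine (H09.card_of_surjective (H09.omAut_surjective (H10.qOdd m F) h5 (by simp; omega)
    (by simp; omega))).trans ?_
  rw [H09.card_range_omAut_odd (by omega), H09.card_ringAut hF]
  ring

end Cfsg.Agent.S0816
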