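import Mathlib
import Cfsg.Statements.S2604
import Cfsg.Agent.H09.AutForm8
import Cfsg.Agent.S0816

set_option autoImplicit false
open Cfsg

namespace Cfsg.Agent.S2604

/-- Outer automorphism group of the simple orthogonal group Ω_(2m+1)(q), m ≥ 3, q = p^f odd: it is the direct product of a group of order 2 (diagonal automorphisms, from SO) and a cyclic group of order f (field automorphisms). -/
theorem result {F : Type*} [Field F] [Fintype F] {p f m : ℕ} [Fact p.Prime] (hf : 1 ≤ f) (hF : Fintype.card F = p ^ f) (hp : p ≠ 2) (hm : 3 ≤ m) : Nonempty (Cfsg.Out (Cfsg.POmega F (Cfsg.quadFormOdd m F)) ≃* Multiplicative (ZMod 2 × ZMod f)) := by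
  have hodd := (Fact.out : p.Prime).odd_of_ne_two hp
  have := H10.qOdd_nondeg (m := m) (H10.two_ne_zero_of_odd_card (F := F) (hF ▸ hodd.pow))
  have h5 : 5 ≤ Fintype.card (Unit ⊕ (Fin m ⊕ Fin m)) := by simp; omega
  have h := H09.omRep (H10.qOdd m F) h5
  have hQ := H10.Form.isQuad_ofQuad (H10.qOdd m F)
  obtain ⟨τ, h1, h2⟩ := H09.exists_generator_ringAut hF
  exact h.out_odd hQ (by simpa using h5) ⟨m, by simp; ring⟩
    (H09.omAut_surjective _ h5 (by simp; omega) (by simp; omega))
    (fun γ e => H09.quad_odd_mult hQ ⟨m, by simp; ring⟩ e) (x := H09.Gam.fieldHom H09.qOdd_std τ)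
    (by omega) h1 (H09.Gam.mult_fieldHom _ _) (by rw [← map_pow, ← h2, pow_orderOf_eq_one, map_one])
    (h.card_out_eq (H09.quadT hQ) (by simp; omega) (S0816.result p f hf hF hodd m hm))

end Cfsg.Agent.S2604
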