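import Mathlib
import Cfsg.Statements.S5627
import Cfsg.Agent.H14.PG4

set_option autoImplicit false
open Cfsg

namespace Cfsg.Agent.S5627

/-- In a projective plane of order 4 (a Steiner system S(2, 5, 21)), call a set of points independent when no line meets it in more than two points. There are exactly 2520 independent 4-sets and exactly 168 independent 6-sets (hyperovals), and every independent 4-set lies in exactly one hyperoval. -/
theorem result {α : Type*} [Fintype α] [DecidableEq α] (hα : Fintype.card α = 21) (L : Set (Finset α)) (hL : Cfsg.IsSteinerSystem 2 5 L) : {S : Finset α | (S.card = 4 ∧ ∀ l ∈ L, (l ∩ S).card ≤ 2)}.ncard = 2520 ∧ {H : Finset α | (H.card = 6 ∧ ∀ l ∈ L, (l ∩ H).card ≤ 2)}.ncard = 168 ∧ ∀ S : Finset α, (S.card = 4 ∧ ∀ l ∈ L, (l ∩ S).card ≤ 2) → ∃! H : Finset α, (H.card = 6 ∧ ∀ l ∈ L, (l ∩ H).card ≤ 2) ∧ S ⊆ H := by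
  obtain ⟨e, h⟩ := H14.Sr.std21 hα hL
  have a : ∀ k, {S : Finset α | S.card = k ∧ ∀ l ∈ L, (l ∩ S).card ≤ 2} =
      {S : Finset α | (S.map e).card = k ∧ ∀ l ∈ H14.Sr.W 0x800003 0x7ffffc 5, (l ∩ S.map e).card ≤ 2} := fun k => by
    ext S; simp only [Set.mem_ofPred_eq, h.ind_iff, Finset.card_map]
  refine ⟨by rw [a]; exact (h.ncard fun s => s.card = 4 ∧ ∀ l ∈ H14.Sr.W 0x800003 0x7ffffc 5, (l ∩ s).card ≤ 2).trans H14.Sr.cnt4,
    by rw [a]; exact (h.ncard fun s => s.card = 6 ∧ ∀ l ∈ H14.Sr.W 0x800003 0x7ffffc 5, (l ∩ s).card ≤ 2).trans H14.Sr.cnt6,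
    fun S hS => ?_⟩
  have b : ∀ s : Finset α, s.map e ⊆ H14.toSet 0x7ffffc := fun s => h.pts ▸ Finset.map_subset_map.2 (Finset.subset_univ s)
  obtain ⟨H, h1, ⟨h2, h3, h4⟩, h5⟩ := H14.Sr.hyp21 _ (b S) ((Finset.card_map e).trans hS.1) ((h.ind_iff _ _).1 hS.2)
  obtain ⟨H, rfl⟩ := H14.Sr.exists_pre h.pts h1
  exact ⟨H, ⟨⟨(Finset.card_map e).symm.trans h2, (h.ind_iff _ _).2 h3⟩, Finset.map_subset_map.1 h4⟩, fun H' c =>
    Finset.map_injective e (h5 _ (b H') ((Finset.card_map e).trans c.1.1) ((h.ind_iff _ _).1 c.1.2) (Finset.map_subset_map.2 c.2))⟩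

end Cfsg.Agent.S5627
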