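import Mathlib
import Cfsg.Statements.S5628
import Cfsg.Agent.H14.Witt

set_option autoImplicit false
open Cfsg

namespace Cfsg.Agent.S5628

open scoped Pointwise

/-- In a projective plane of order 4 (a Steiner system S(2, 5, 21)), every permutation of the six points of a hyperoval (a 6-set met by no line in more than two points) is the restriction of exactly one automorphism of the plane. In particular the stabiliser of a hyperoval in the automorphism group is isomorphic to the symmetric group of degree 6 acting faithfully on the hyperoval. -/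
theorem result {α : Type*} [Fintype α] [DecidableEq α] (hα : Fintype.card α = 21) (L : Set (Finset α)) (hL : Cfsg.IsSteinerSystem 2 5 L) (H : Finset α) (hH : (H.card = 6 ∧ ∀ l ∈ L, (l ∩ H).card ≤ 2)) (σ : Equiv.Perm ↥H) : ∃! g : Equiv.Perm α, g ∈ Cfsg.setSystemAut L ∧ ∀ p : ↥H, g p = σ p := by
  obtain ⟨e0, h0⟩ := H14.Sr.exists_emb (α := α) (U := 0x7ffffc) (by norm_num) (hα.trans (by decide +kernel))
  obtain ⟨Y, hY⟩ := H14.Sr.exists_pre h0 ((H14.toSet_subset_iff (a := 0x149c) 0x7ffffc (by norm_num)).2 (by decide +kernel))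
  obtain ⟨f⟩ : Nonempty (H ≃ Y) := Fintype.card_eq.1 (by
    rw [Fintype.card_coe, Fintype.card_coe, hH.1, ← Finset.card_map e0, hY, H14.card_toSet (by norm_num)]; decide +kernel)
  have key : ∀ f : H ≃ Y, ∃ e : α ↪ GolayPt, H14.Sr.Emb e 0x7ffffc L (H14.Sr.W 0x800003 0x7ffffc 5) ∧ ∀ p : H, e p = e0 (f p) := by
    intro f
    have a : H.map (f.extendSubtype.toEmbedding.trans e0) = H14.toSet 0x149c := by
      rw [← Finset.map_map, ← hY]
      congr 1
      refine Finset.eq_of_subset_of_card_le (fun x hx => ?_) (by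
        rw [Finset.card_map, ← Fintype.card_coe, ← Fintype.card_coe, Fintype.card_congr f])
      obtain ⟨y, hy, rfl⟩ := Finset.mem_map.1 hx
      exact f.extendSubtype_mem y hy
    obtain ⟨e, h1, h2⟩ := H14.Sr.std21h hα hL (by rw [← Finset.map_map, Finset.map_univ_equiv, h0]) a hH.2
    exact ⟨e, h1, fun p => (h2 p (a ▸ Finset.mem_map_of_mem _ p.2)).trans (congrArg e0 (f.extendSubtype_apply_of_mem p p.2))⟩
  obtain ⟨e, h1, h2⟩ := key f
  obtain ⟨e', h3, h4⟩ := key (σ.trans f)
  obtain ⟨g, hg⟩ := h3.equiv h1 (one_smul (Equiv.Perm GolayPt) _)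
  have uq : ∀ φ : setSystemAut L, (∀ p : H, φ.1 p = p) → φ = 1 := by
    intro φ hφ
    obtain ⟨k, hk, b, -⟩ := h1.ext φ
    refine Subtype.ext (Equiv.ext fun x => e.injective ((b x).trans (H14.Sr.fix21 hk (fun p hp => ?_) _ (h1.mem x))))
    obtain ⟨y, hy, rfl⟩ := Finset.mem_map.1 (hY ▸ hp)
    obtain ⟨z, hz⟩ := f.surjective ⟨y, hy⟩
    rw [show e0 y = e z by rw [h2, hz], ← b]
    exact congrArg e (hφ z)
  have hg' : g ∈ setSystemAut L := by
    rw [H14.mem_setSystemAut_iff]
    intro b hb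
    have := H14.Sr.Emb.map_image hg b
    rw [one_smul] at this
    exact h1.blk_iff.1 (this.symm ▸ h3.blk_iff.2 hb)
  have hp : ∀ p : H, g p = σ p := fun p => e.injective ((hg p).trans ((h4 p).trans (h2 _).symm))
  refine ⟨g, ⟨hg', hp⟩, fun g' c => ?_⟩
  have := congrArg Subtype.val (uq (⟨g, hg'⟩⁻¹ * ⟨g', c.1⟩) fun p => Equiv.Perm.inv_eq_iff_eq.2 ((c.2 p).trans (hp p).symm))
  exact (inv_mul_eq_one.1 this).symm

end Cfsg.Agent.S5628
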