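import Mathlib
import Cfsg.Statements.S3157
import Cfsg.Agent.H17.L34

set_option autoImplicit false
open Cfsg

namespace Cfsg.Agent.S3157

theorem four {α : Type*} [Finite α] (h : Nat.card α = 4) {p q r s : α} (h1 : p ≠ q) (h2 : p ≠ r) (h3 : p ≠ s)
    (h4 : q ≠ r) (h5 : q ≠ s) (h6 : r ≠ s) (y : α) : y = p ∨ y = q ∨ y = r ∨ y = s := by
  classical
  have := Fintype.ofFinite α
  have e : ({p, q, r, s} : Finset α) = Finset.univ := Finset.eq_univ_of_card _ (by
    rw [← Nat.card_eq_fintype_card, h, Finset.card_insert_of_notMem (by simp [*]),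
      Finset.card_insert_of_notMem (by simp [*]), Finset.card_pair h6])
  simpa using (e ▸ Finset.mem_univ y : y ∈ ({p, q, r, s} : Finset α))

/-- Let T be a non-abelian group of order 64 admitting automorphisms ρ of order 3 and x of order 2 with x ρ x⁻¹ = ρ⁻¹ (so they generate a symmetric group of degree 3), where ρ fixes only the identity. Then T is isomorphic to a Sylow 2-subgroup of the projective special linear group of dimension 3 over the field with 4 elements, and the subgroup of fixed points of x is dihedral of order 8 or quaternion of order 8. -/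
theorem result {T : Type*} [Group T] [Finite T] (hT : Nat.card T = 64) (hna : ¬ IsMulCommutative T) (ρ x : MulAut T) (hρ : orderOf ρ = 3) (hx : orderOf x = 2)
    (hxr : x * ρ * x⁻¹ = ρ⁻¹) (hfp : ∀ y : T, ρ y = y → y = 1) (C : Subgroup T) (hC : ∀ y : T, y ∈ C ↔ x y = y) :
    (∃ (F : Type) (_ : Field F) (_ : Fintype F), Fintype.card F = 4 ∧
        ∃ S : Sylow 2 (Matrix.ProjectiveSpecialLinearGroup (Fin 3) F), Nonempty (T ≃* ↥(S : Subgroup (Matrix.ProjectiveSpecialLinearGroup (Fin 3) F)))) ∧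
      (Nonempty (↥C ≃* DihedralGroup 4) ∨ Nonempty (↥C ≃* QuaternionGroup 2)) := by
  open Subgroup H17.L34 in
  classical
  have := Fact.mk Nat.prime_two
  have := Fact.mk Nat.prime_three
  have r3 : ∀ t, ρ (ρ (ρ t)) = t := fun t => by
    have := pow_orderOf_eq_one ρ
    rw [hρ, pow_three] at this
    exact DFunLike.congr_fun this t
  have x2 : ∀ t, x (x t) = t := fun t => by
    have := pow_orderOf_eq_one x
    rw [hx, sq] at this
    exact DFunLike.congr_fun this t
  have xr : ∀ t, x (ρ t) = ρ (ρ (x t)) := fun t => by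
    have := DFunLike.congr_fun (show ρ * (x * ρ) = x by rw [mul_inv_eq_iff_eq_mul.1 hxr]; group) t
    rw [← this]; exact (r3 _).symm
  have g1 : ∀ t, ρ (ρ t) * ρ t * t = 1 := fun t => by
    obtain ⟨y, -, rfl⟩ := H02.fpf_surj ρ.toMonoidHom ⊤ (by simp) (fun n _ => hfp n) (mem_top t)
    simp [r3]
  have g2 : ∀ t, t * ρ t * ρ (ρ t) = 1 := fun t => by
    have := congrArg (·⁻¹) (g1 t⁻¹)
    simpa [mul_assoc] using this
  have g3 : ∀ t, t * ρ t = ρ t * t := fun t => by
    rw [eq_inv_of_mul_eq_one_left (g2 t), eq_comm, ← mul_eq_one_iff_eq_inv', ← mul_assoc, g1]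
  have g4 : ∀ t, ρ (ρ t) = (t * ρ t)⁻¹ := fun t => eq_inv_of_mul_eq_one_right (g2 t)
  have cd : ∀ U : Subgroup T, (∀ u ∈ U, ρ u ∈ U) →
      Nat.card U = 1 ∨ Nat.card U = 4 ∨ Nat.card U = 16 ∨ Nat.card U = 64 := fun U hU => by
    have := Fintype.ofFinite U
    let f : Function.End U := fun u => ⟨ρ u, hU u u.2⟩
    have e := Equiv.Perm.card_fixedPoints_modEq (p := 3) (n := 1) (f := f) (funext fun u => Subtype.ext (r3 u))
    have e1 : Fintype.card f.fixedPoints = 1 := Fintype.card_eq_one_iff.2 ⟨⟨1, Subtype.ext (map_one ρ)⟩,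
      fun u => Subtype.ext (Subtype.ext (hfp _ (congrArg Subtype.val u.2)))⟩
    rw [e1, ← Nat.card_eq_fintype_card] at e
    obtain ⟨k, hk, e2⟩ := (Nat.dvd_prime_pow Nat.prime_two (m := 6)).1 (hT ▸ U.card_subgroup_dvd_card)
    rw [e2] at e ⊢
    clear e1 e2
    interval_cases k <;> revert e <;> decide
  have hP : IsPGroup 2 T := IsPGroup.of_card (n := 6) hT
  have hZ : ∀ u ∈ center T, ρ u ∈ center T := fun u hu => mem_center_iff.2 fun g => by
    rw [← r3 g, ← map_mul, mem_center_iff.1 hu, map_mul]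
  have hxZ : ∀ u ∈ center T, x u ∈ center T := fun u hu => mem_center_iff.2 fun g => by
    rw [← x2 g, ← map_mul, mem_center_iff.1 hu, map_mul]
  have lt : ∀ {U W : Subgroup T}, U ≤ W → ∀ g ∈ W, g ∉ U → Nat.card U < Nat.card W := fun h g h1 h2 =>
    lt_of_le_of_ne (card_le_of_le h) fun e => h2 (eq_of_le_of_card_ge h e.ge ▸ h1)
  have : Nontrivial T := Finite.one_lt_card_iff_nontrivial.1 (by omega)
  have hZ1 : 1 < Nat.card (center T) := Finite.one_lt_card_iff_nontrivial.2 hP.center_nontrivial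
  have key : ∀ t, t ∉ center T → Nat.card (center T) = 4 ∧ t * t ∈ center T := fun t ht => by
    let A := centralizer ({t, ρ t} : Set T)
    have mA : ∀ a, a ∈ A ↔ t * a = a * t ∧ ρ t * a = a * ρ t := fun a => by simp [A, mem_centralizer_iff]
    have hA : ∀ a ∈ A, ρ a ∈ A := fun a ha => by
      obtain ⟨h1, h2⟩ := (mA a).1 ha
      refine (mA _).2 ⟨?_, by rw [← map_mul, h1, map_mul]⟩
      rw [← r3 t, ← map_mul, ← map_mul ρ a, g4 t,
        ((show Commute t a from h1).mul_left (show Commute (ρ t) a from h2)).inv_left.eq]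
    let D := centralizer (A : Set T)
    have hD : ∀ d ∈ D, ρ d ∈ D := fun d hd a ha => by
      rw [← r3 a, ← map_mul, hd _ (hA _ (hA _ ha)), map_mul]
    have hDA : D ≤ A := fun d hd => (mA d).2 ⟨hd t ((mA t).2 ⟨rfl, (g3 t).symm⟩), hd _ ((mA _).2 ⟨g3 t, rfl⟩)⟩
    have htD : t ∈ D := fun a ha => ((mA a).1 ha).1.symm
    have l1 := lt (W := D) (center_le_centralizer _) t htD ht
    have l2 := card_le_of_le hDA
    obtain ⟨g, hg⟩ : ∃ g, g ∉ A := by
      by_contra! h
      exact ht (mem_center_iff.2 fun g => ((mA g).1 (h g)).1.symm)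
    have l3 := lt le_top g (mem_top g) hg
    rw [card_top, hT] at l3
    have c1 := cd _ hZ
    have c2 := cd _ hD
    have c3 := cd _ hA
    refine ⟨by omega, ?_⟩
    let W : Subgroup T :=
      { carrier := {d | d ∈ D ∧ d * d ∈ center T}
        one_mem' := ⟨one_mem _, by simp⟩
        inv_mem' := fun h => ⟨inv_mem h.1, by simpa using inv_mem h.2⟩
        mul_mem' := fun {a b} ha hb => ⟨mul_mem ha.1 hb.1, by
          rw [mul_assoc, ← mul_assoc b, ha.1 b (hDA hb.1), mul_assoc, ← mul_assoc]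
          exact mul_mem ha.2 hb.2⟩ }
    have c4 := cd W fun d hd => ⟨hD d hd.1, by rw [← map_mul]; exact hZ _ hd.2⟩
    have hWD : W ≤ D := fun d hd => hd.1
    have l4 := card_le_of_le hWD
    by_contra h2
    have e4 : (center T).relIndex D = 4 := by
      have := ((center T).subgroupOf D).index_mul_card
      rw [Nat.card_congr (subgroupOfEquivOfLe (center_le_centralizer (A : Set T))).toEquiv] at this
      change (center T).relIndex D * _ = _ at this
      rw [show Nat.card (center T) = 4 by omega] at this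
      omega
    have l5 := lt (U := center T) (W := W) (fun z hz => ⟨center_le_centralizer _ hz, mul_mem hz hz⟩) (t * t)
      ⟨mul_mem htD htD, by
        have := pow_relIndex_mem (center T) htD
        rwa [e4, show t ^ 4 = t * t * (t * t) by simp [pow_succ, mul_assoc]] at this⟩ h2
    exact h2 (eq_of_le_of_card_ge hWD (by omega) ▸ htD : t ∈ W).2
  obtain ⟨t0, ht0⟩ : ∃ t, t ∉ center T := by
    by_contra! h
    exact hna ⟨⟨fun a b => mem_center_iff.1 (h b) a⟩⟩
  have hZ4 := (key t0 ht0).1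
  have sq : ∀ t, t * t ∈ center T := fun t => by
    by_cases h : t ∈ center T
    exacts [mul_mem h h, (key t h).2]
  have cz : ∀ {z}, z ∈ center T → ∀ g, z * g = g * z := fun h g => (mem_center_iff.1 h g).symm
  have z2 : ∀ z ∈ center T, z * z = 1 := by
    let W : Subgroup T :=
      { carrier := {d | d ∈ center T ∧ d * d = 1}
        one_mem' := ⟨one_mem _, by simp⟩
        inv_mem' := fun h => ⟨inv_mem h.1, by simpa using congrArg (·⁻¹) h.2⟩
        mul_mem' := fun {a b} ha hb => ⟨mul_mem ha.1 hb.1, by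
          rw [mul_assoc, ← mul_assoc b, ← cz ha.1 b, mul_assoc, ← mul_assoc, ha.2, hb.2, one_mul]⟩ }
    have c4 := cd W fun d hd => ⟨hZ d hd.1, by rw [← map_mul, hd.2, map_one]⟩
    have hWD : W ≤ center T := fun d hd => hd.1
    have l4 := card_le_of_le hWD
    obtain ⟨u, hu⟩ := exists_prime_orderOf_dvd_card' (G := center T) 2 (by omega)
    have hu' := H08.orderOf_eq_two_iff'.1 hu
    have l5 := lt (U := ⊥) (W := W) bot_le u ⟨u.2, congrArg Subtype.val hu'.1⟩ (by simpa using hu'.2)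
    rw [card_bot] at l5
    exact fun z hz => (eq_of_le_of_card_ge hWD (by omega) ▸ hz : z ∈ W).2
  let c : T → T → T := fun a b => a⁻¹ * b⁻¹ * a * b
  have cZ : ∀ a b, c a b ∈ center T := fun a b => by
    rw [show c a b = a⁻¹ * b⁻¹ * (a⁻¹ * b⁻¹) * (b * (a * a) * b⁻¹) * (b * b) by simp only [c]; group]
    exact mul_mem (mul_mem (sq _) (normal_of_characteristic (center T) |>.conj_mem _ (sq a) b)) (sq b)
  have ce : ∀ a b, a * b = b * a * c a b := fun a b => by simp only [c]; group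
  have cl : ∀ a a' b, c (a * a') b = c a b * c a' b := fun a a' b => by
    calc _ = a'⁻¹ * c a b * (b⁻¹ * a' * b) := by simp only [c]; group
      _ = _ := by rw [← cz (cZ a b)]; simp only [c]; group
  have cr : ∀ a b b', c a (b * b') = c a b * c a b' := fun a b b' => by
    calc _ = c a b' * (b'⁻¹ * c a b * b') := by simp only [c]; group
      _ = _ := by rw [mul_assoc b'⁻¹, cz (cZ a b), cz (cZ a b)]; group
  have cs : ∀ a b, c b a = c a b := fun a b => by
    rw [← inv_eq_of_mul_eq_one_right (z2 _ (cZ a b))]; simp only [c]; group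
  have cρ : ∀ a b, c (ρ a) (ρ b) = ρ (c a b) := fun a b => by simp [c]
  have c0 : ∀ a b, c a b = 1 ↔ a * b = b * a := fun a b => by rw [ce a b]; simp
  have c1 : ∀ a b, c (ρ a) b = c a (ρ b) := fun a b => by
    have := (c0 _ _).2 (g3 (a * b))
    rw [map_mul, cl, cr, cr, (c0 _ _).2 (g3 a), (c0 _ _).2 (g3 b), one_mul, mul_one, cs (ρ a)] at this
    rw [← cs, eq_inv_of_mul_eq_one_left this, inv_eq_of_mul_eq_one_right (z2 _ (cZ _ _)), cs]
  have zz : ∀ z ∈ center T, z * ρ (ρ z) = ρ z ∧ z * ρ z = ρ (ρ z) := fun z hz => by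
    constructor
    · rw [g4, ← cz (hZ z hz), _root_.mul_inv_rev, mul_inv_cancel_left, inv_eq_of_mul_eq_one_right (z2 _ (hZ z hz))]
    · rw [eq_inv_of_mul_eq_one_left (g2 z), inv_eq_of_mul_eq_one_right (z2 _ (hZ _ (hZ z hz)))]
  have c2 : ∀ a b, c a (ρ b) = ρ (ρ (c a b)) ∧ c a (ρ (ρ b)) = ρ (c a b) := fun a b => by
    have e1 : c a (ρ (ρ b)) = ρ (c a b) := by rw [← c1, cρ]
    have e2 := congrArg (c a) (g2 b)
    rw [cr, cr, e1, (c0 a 1).2 (by simp), mul_assoc, ← cz (hZ _ (cZ a b)), ← mul_assoc, (zz _ (cZ a b)).2] at e2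
    exact ⟨by rw [eq_inv_of_mul_eq_one_right e2, inv_eq_of_mul_eq_one_right (z2 _ (hZ _ (hZ _ (cZ a b))))], e1⟩
  have lift : ∀ s, ∃ a ∈ C, ∃ z ∈ center T, s * x s = a * z := fun s => by
    have e : x (s * x s) = s * x s * c (x s) s := by rw [map_mul, x2, ← ce]
    have e2 : x (c (x s) s) = c (x s) s := by rw [← cs]; simp only [c, map_mul, map_inv, x2]; exact cs _ _
    have hw := hZ _ (cZ (x s) s)
    refine ⟨s * x s * ρ (c (x s) s), (hC _).2 ?_, _, hw, by rw [mul_assoc, z2 _ hw, mul_one]⟩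
    rw [map_mul, e, xr, e2, mul_assoc, (zz _ (cZ _ _)).1]
  obtain ⟨a, ha, b, hb, hab⟩ : ∃ a ∈ C, ∃ b ∈ C, c a b ≠ 1 := by
    by_contra! h
    have dec : ∀ t, ∃ a ∈ C, ∃ b ∈ C, ∃ z ∈ center T, t = a * ρ b * z := fun t => by
      obtain ⟨a, ha, z, hz, e⟩ := lift (ρ (ρ t))
      obtain ⟨b, hb, w, hw, e'⟩ := lift t
      refine ⟨a, ha, b, hb, (a * ρ b)⁻¹ * t, ?_, by group⟩
      rw [xr, xr, r3] at e
      let π := QuotientGroup.mk' (center T)
      have q0 : ∀ z ∈ center T, π z = 1 := fun z hz => (QuotientGroup.eq_one_iff _).2 hz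
      have q2 : ∀ u, π u * π u = 1 := fun u => by rw [← map_mul, q0 _ (sq u)]
      have q : ∀ u v : T, π u * π v = π v * π u := fun u v => by
        rw [← map_mul, ce, map_mul, q0 _ (cZ u v), mul_one, map_mul]
      refine (QuotientGroup.eq (s := center T)).1 (show π (a * ρ b) = π t from ?_)
      have h1 := congrArg π e
      have h2 := congrArg (fun y => π (ρ y)) e'
      have h3 := congrArg π (g1 t)
      simp only [map_mul, q0 z hz, q0 _ (hZ w hw), mul_one, map_one] at h1 h2 h3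
      rw [map_mul, ← h1, ← h2, q (ρ t), mul_assoc, ← mul_assoc (π (ρ (x t))), q2, one_mul,
        eq_inv_of_mul_eq_one_left h3, inv_eq_of_mul_eq_one_right (q2 t)]
    refine hna ⟨⟨fun s t => (c0 s t).1 ?_⟩⟩
    obtain ⟨a, ha, b, hb, z, hz, rfl⟩ := dec s
    obtain ⟨a', ha', b', hb', z', hz', rfl⟩ := dec t
    simp only [cl, cr, c1, (c2 _ _).1, (c0 _ _).2 (cz hz _), (c0 _ _).2 (cz hz' _).symm, h a ha a' ha', h a ha b' hb',
      h b hb a' ha', h b hb b' hb', map_one, mul_one]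
  have fin : ∀ s t, s * s = 1 → t * t = 1 → c s t ≠ 1 → ∃ (F : Type) (_ : Field F) (_ : Fintype F),
      Fintype.card F = 4 ∧ ∃ S : Sylow 2 (Matrix.ProjectiveSpecialLinearGroup (Fin 3) F),
        Nonempty (T ≃* (S : Subgroup (Matrix.ProjectiveSpecialLinearGroup (Fin 3) F))) := fun s t s2 t2 h => by
    have hz := cZ s t
    obtain ⟨e⟩ := heis hT (s' := ρ s) (t' := ρ t) (z := c s t) (z' := ρ (ρ (c s t))) s2
      (by rw [← map_mul, s2, map_one]) t2 (by rw [← map_mul, t2, map_one]) (z2 _ hz) (z2 _ (hZ _ (hZ _ hz)))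
      (g3 s) (g3 t) (cz hz) (cz (hZ _ (hZ _ hz))) h (by simpa using h) (by rw [(zz _ hz).1]; simpa using h)
      (ce _ _) (by rw [ce, (c2 _ _).1]) (by rw [ce, c1, (c2 _ _).1]) (by rw [ce, cρ, (zz _ hz).1])
    obtain ⟨S, hS⟩ := exists_sylow (F := F4) rfl
    exact ⟨F4, inferInstance, inferInstance, rfl, S,
      ⟨e.symm.trans ((MonoidHom.ofInjective (ψ_inj rfl)).trans (MulEquiv.subgroupCongr hS.symm))⟩⟩
  have hC8 : Nat.card C ≤ 8 := by
    have := Nat.card_le_card_of_injective (fun p : C × C => p.1.1 * ρ p.2.1) (by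
      rintro ⟨u, v⟩ ⟨u', v'⟩ (e : u.1 * ρ v.1 = u'.1 * ρ v'.1)
      have e1 : u'.1⁻¹ * u.1 = ρ (v'.1 * v.1⁻¹) := by
        rw [map_mul, map_inv, ← inv_mul_cancel_left u'.1 (ρ v'.1), ← e]; group
      have e2 := (hC _).1 (mul_mem (inv_mem u'.2) u.2)
      rw [e1, xr, (hC _).1 (mul_mem v'.2 (inv_mem v.2))] at e2
      rw [hfp _ e2] at e1
      have e3 := Subtype.ext (inv_mul_eq_one.1 e1)
      subst e3
      rw [Subtype.ext (ρ.injective (mul_left_cancel e))])
    rw [Nat.card_prod, hT] at this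
    nlinarith
  have cl8 : ∀ {a b : T} {Q : Type} [Group Q], a ∈ C → b ∈ C → Nat.card Q = 8 →
      Nonempty (closure ({a, b} : Set T) ≃* Q) → Nonempty (C ≃* Q) := fun ha hb hQ ⟨e⟩ =>
    ⟨(MulEquiv.subgroupCongr (eq_of_le_of_card_ge ((closure_le _).2 (by rintro _ (rfl | rfl) <;> assumption))
      (by rw [Nat.card_congr e.toEquiv, hQ]; exact hC8)).symm).trans e⟩
  have ord4 : ∀ {r : T}, r * r ≠ 1 → orderOf r = 4 := fun {r} h =>
    orderOf_eq_prime_pow (p := 2) (n := 1) (by simpa [pow_two] using h) (by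
      rw [show r ^ 2 ^ (1 + 1) = r * r * (r * r) by simp [pow_succ, mul_assoc], z2 _ (sq r)])
  have nz : ∀ {r s : T}, c r s ≠ 1 → s ∉ zpowers r := by
    rintro r _ h ⟨k, rfl⟩
    exact h ((c0 _ _).2 (Commute.self_zpow r k).eq)
  have sqm : ∀ a b, a * b * (a * b) = a * a * (b * b) * c a b := fun a b => by
    rw [mul_assoc a b, ← mul_assoc b, ce b a, cs, mul_assoc (a * b), cz (cZ a b)]; group
  have hd : ∀ a ∈ C, ∀ b ∈ C, a * a = 1 → b * b = 1 → c a b ≠ 1 → Nonempty (C ≃* DihedralGroup 4) :=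
    fun a ha b hb a2 b2 h => cl8 (mul_mem ha hb) ha (by simp [DihedralGroup.card])
      (H08.nonempty_closure_equiv_dihedral (by omega) (ord4 (by rwa [sqm, a2, b2, one_mul, one_mul])) a2
        (H08.conj_mul_left a2 b2) (nz (by rwa [cl, (c0 a a).2 rfl, one_mul, cs])))
  have hz := cZ a b
  have sC : ∀ u ∈ C, u * u = 1 ∨ u * u = c a b := fun u hu => by
    have hm : ∀ y ∈ center T, y = 1 ∨ y = c a b ∨ y = ρ (c a b) ∨ y = ρ (ρ (c a b)) := fun y hy => by
      have h1 : ρ (c a b) ≠ c a b := fun e => hab (hfp _ e)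
      have h2 : ρ (ρ (c a b)) ≠ c a b := fun e => h1 ((congrArg ρ e).symm.trans (r3 _))
      simpa using four hZ4 (p := 1) (q := ⟨_, hz⟩) (r := ⟨_, hZ _ hz⟩) (s := ⟨_, hZ _ (hZ _ hz)⟩)
        (Ne.symm (by simpa using hab)) (Ne.symm (by simpa using hab)) (Ne.symm (by simpa using hab))
        (by simpa using h1.symm) (by simpa using h2.symm) (by simpa using h1.symm) ⟨y, hy⟩
    have e0 : x (c a b) = c a b := by simp [c, (hC a).1 ha, (hC b).1 hb]
    have e := (hC _).1 (mul_mem hu hu)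
    rcases hm _ (sq u) with h | h | h | h
    · exact Or.inl h
    · exact Or.inr h
    · rw [h, xr, e0] at e
      exact absurd (hfp _ (ρ.injective e)) hab
    · rw [h, xr, xr, e0, r3] at e
      exact absurd (hfp _ (ρ.injective e.symm)) hab
  have caa : ∀ a, c a a = 1 := fun a => (c0 a a).2 rfl
  rcases sC a ha with a2 | a2 <;> rcases sC b hb with b2 | b2
  · exact ⟨fin a b a2 b2 hab, Or.inl (hd a ha b hb a2 b2 hab)⟩
  · have h1 : a * b * (a * b) = 1 := by rw [sqm, a2, b2, one_mul, z2 _ hz]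
    have h2 : c a (a * b) ≠ 1 := by rwa [cr, caa, one_mul]
    exact ⟨fin a _ a2 h1 h2, Or.inl (hd a ha _ (mul_mem ha hb) a2 h1 h2)⟩
  · have h1 : a * b * (a * b) = 1 := by rw [sqm, a2, b2, mul_one, z2 _ hz]
    have h2 : c (a * b) b ≠ 1 := by rwa [cl, caa, mul_one]
    exact ⟨fin _ b h1 b2 h2, Or.inl (hd _ (mul_mem ha hb) b hb h1 b2 h2)⟩
  refine ⟨fin (a * ρ b) (a * ρ (ρ b)) ?_ ?_ ?_, Or.inr (cl8 ha hb (by simp [QuaternionGroup.card])
    (H08.nonempty_closure_equiv_quaternion (by omega) (ord4 (a2 ▸ hab)) (by rw [b2, pow_two, a2]) ?_ (nz hab)))⟩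
  · rw [sqm, a2, ← map_mul, b2, (c2 _ _).1, g2]
  · rw [sqm, a2, ← map_mul, ← map_mul, b2, (c2 _ _).2, (zz _ hz).1, z2 _ (hZ _ hz)]
  · rw [cl, cr, cr, caa, cρ, (c0 _ _).2 (g3 b), map_one, mul_one, one_mul, cs a, (c2 a b).1, (c2 a b).2, ← map_mul,
      (zz _ hz).2, r3]
    exact hab
  · rw [ce b a, cs, ← a2, mul_assoc (a * b), sq a |> cz, eq_inv_iff_mul_eq_one]
    rw [show a * b * (b⁻¹ * (a * a)) * a = a * a * (a * a) by group, z2 _ (sq a)]

end Cfsg.Agent.S3157
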