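import Mathlib
import Cfsg.Statements.S0331
import Cfsg.Agent.H12.Sz5

set_option autoImplicit false
open Cfsg

namespace Cfsg.Agent.S0331

open H12.Sz H12.CC

/-- For every odd prime `p` the Sylow `p`-subgroups of the Suzuki group are cyclic. -/
theorem result {F : Type*} [Field F] [Fintype F] {m : ℕ} (hm : 1 ≤ m)
    (hF : Fintype.card F = 2 ^ (2 * m + 1)) {p : ℕ} [Fact p.Prime] (hp : p ≠ 2)
    (P : Sylow p (Cfsg.Sz F m)) : IsCyclic P := by
  haveI : SzF F m := ⟨hm, hF⟩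
  by_cases h : (P : Subgroup (G F m)) = ⊥
  · rw [h]; infer_instance
  obtain ⟨⟨x, hx⟩, x1⟩ := Subgroup.ne_bot_iff_exists_ne_one.1 h
  have x1' : x ≠ 1 := fun e => x1 (Subtype.ext e)
  obtain ⟨k, hk⟩ := P.isPGroup' ⟨x, hx⟩
  have hk' : x ^ p ^ k = 1 := congrArg Subtype.val hk
  have hxx : x ∈ Subgroup.centralizer {x} := Subgroup.mem_centralizer_singleton_iff.2 rfl
  rcases odd_cases (x := x) (fun g ⟨a, b, hg⟩ => by
    have := uu_pow_four (m := m) a b
    rw [← hg, conj_pow] at this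
    exact x1' (eq_one_of_pow (a := 2 ^ 2) (Nat.coprime_pow_primes _ _ Nat.prime_two Fact.out hp.symm)
      (by simpa using this) hk')) with ⟨g, hg⟩ | h
  · haveI : IsCyclic (cj g (H F m)) := isCyclic_of_surjective _ (cjEquiv g (H F m)).surjective
    exact Subgroup.isCyclic_of_le ((abCC_H.cj g).pgroup_le P.isPGroup' x1' (hg ▸ hxx) hx)
  · haveI := h.cyclic
    exact Subgroup.isCyclic_of_le (h.abCC.pgroup_le P.isPGroup' x1' hxx hx)

end Cfsg.Agent.S0331
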