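import Mathlib
import Cfsg.Statements.S0877
import Cfsg.Agent.H07.Part

set_option autoImplicit false
open Cfsg
open H05 H06 Cfsg H07
open scoped ComplexConjugate

namespace Cfsg.Agent.S0877

/-- Let H be a subgroup of the finite group G whose order is coprime to its index. Suppose that elements of H conjugate in G are conjugate in H, and that every subgroup E of G that is elementary for some prime (in the sense used for Brauer's characterisation of characters) and whose order divides the order of H is conjugate to a subgroup of H. Then there is a normal subgroup K with K ⊔ H = ⊤ and K ⊓ H trivial. -/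
theorem result {G : Type*} [Group G] [Finite G] (H : Subgroup G) (hHall : Nat.Coprime (Nat.card H) H.index) (hfus : ∀ x ∈ H, ∀ y ∈ H, IsConj x y → ∃ h ∈ H, h * x * h⁻¹ = y) (helem : ∀ (E : Subgroup G) (p : ℕ), p.Prime → Cfsg.IsElementary p E → Nat.card E ∣ Nat.card H → ∃ g : G, E.map (MulAut.conj g).toMonoidHom ≤ H) : ∃ K : Subgroup G, K.Normal ∧ K ⊔ H = ⊤ ∧ K ⊓ H = ⊥ := by
  classical
  have := Fintype.ofFinite G
  obtain ⟨e, he⟩ := exists_pExp hHall.symm
  have h0 : ∀ x : G, orderOf x ∣ H.index * Nat.card H := fun x => H.index_mul_card ▸ orderOf_dvd_natCard x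
  have hf : ∀ x y : H, IsConj (x : G) y → IsConj x y := fun x y h => by
    obtain ⟨k, h1, h2⟩ := hfus x x.2 y y.2 h
    exact isConj_iff.2 ⟨⟨k, h1⟩, Subtype.ext h2⟩
  have h1 : ∀ x : G, ∃ h : H, IsConj (x ^ e) h := fun x => by
    obtain ⟨p, hp, h1⟩ := isElementary_of_isCyclic (G := Subgroup.zpowers (x ^ e))
    obtain ⟨g, hg⟩ := helem _ p hp h1 (by rw [Nat.card_zpowers]; exact he.orderOf_pow_dvd (h0 x))
    exact ⟨⟨_, hg ⟨_, Subgroup.mem_zpowers _, rfl⟩⟩, isConj_iff.2 ⟨g, rfl⟩⟩
  choose s hs using h1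
  have h2 : ∀ h : H, IsConj (s h) h := fun h => hf _ _ ((hs h).symm.trans (by
    rw [he.pow_eq_self ((Subgroup.orderOf_coe h).dvd.trans (orderOf_dvd_natCard h))]))
  have h3 : ∀ φ, IsCharacter H φ → IsGeneralizedCharacter G (fun x => φ (s x)) := fun φ hφ => by
    refine brauer_characterization (isClassFunction_iff.2 fun x y h => hφ.isClassFunction.isConj
      (hf _ _ ((hs x).symm.trans ((h.pow e).trans (hs y))))) fun E p hp hE => ?_
    have := hE.isNilpotent hp
    have h3 : Nat.card E ∣ H.index * Nat.card H := H.index_mul_card ▸ E.card_subgroup_dvd_card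
    obtain ⟨g, hg⟩ := helem ((he.proj h3).range.map E.subtype) p hp
      (IsElementary.of_mulEquiv (hE.subgroup hp _) (Subgroup.equivMapOfInjective _ _ E.subtype_injective))
      (by rw [Subgroup.card_map_of_injective E.subtype_injective]; exact he.card_range_proj h3)
    convert (hφ.comp (((MulAut.conj g).toMonoidHom.comp (E.subtype.comp (he.proj h3))).codRestrict H
      fun x => hg ⟨_, ⟨_, ⟨x, rfl⟩, rfl⟩, rfl⟩)).isGeneralizedCharacter using 2 with x
    exact hφ.isClassFunction.isConj (hf _ _ ((hs x).symm.trans (isConj_iff.2 ⟨g, rfl⟩)))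
  choose c hc using fun φ : IrrCharacter H =>
    (h3 _ φ.2.isCharacter).exists_classInner_eq_int isGeneralizedCharacter_one
  have h4 : ∀ h : H, (Nat.card G : ℂ) * (∑ φ : IrrCharacter H, (c φ : ℂ) • φ.1) h⁻¹ =
      (∑ x, if IsConj (s x) h then Nat.card (Subgroup.centralizer ({s x} : Set H)) else 0 : ℕ) := fun h => by
    simp only [Finset.sum_apply, Pi.smul_apply, smul_eq_mul, ← hc, Finset.mul_sum, ← mul_assoc,
      card_mul_classInner, Finset.sum_mul, Nat.cast_sum, Nat.cast_ite, Nat.cast_zero, ← sum_irr_mul_conj]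
    rw [Finset.sum_comm]
    simp [fun φ : IrrCharacter H => φ.2.apply_inv h]
  have h5 : ∀ h : H, ∃ k : ℕ, (∑ φ : IrrCharacter H, (c φ : ℂ) • φ.1) h = (k + 1 : ℕ) := fun h => by
    have h5 := h4 h⁻¹
    rw [inv_inv] at h5
    have h2 := h2 h⁻¹
    have h7 : 0 < ∑ x, if IsConj (s x) h⁻¹ then Nat.card (Subgroup.centralizer ({s x} : Set H)) else 0 :=
      Finset.sum_pos' (fun _ _ => Nat.zero_le _) ⟨(h⁻¹ : H), Finset.mem_univ _, by
        rw [if_pos h2]; exact Nat.card_pos⟩
    generalize (∑ x, if IsConj (s x) h⁻¹ then Nat.card (Subgroup.centralizer ({s x} : Set H)) else 0) = a at h5 h7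
    obtain ⟨k, hk⟩ := (isGeneralizedCharacter_sum_int c).exists_int_of_rat h ⟨a / Nat.card G, by
      rw [Rat.cast_div, Rat.cast_natCast, Rat.cast_natCast, ← h5, mul_div_cancel_left₀ _ (natCard_ne_zero G)]⟩
    rw [hk] at h5 ⊢
    have h6 : (Nat.card G : ℤ) * k = a := by exact_mod_cast h5
    obtain ⟨k, rfl⟩ := Int.eq_succ_of_zero_lt (show 0 < k by
      by_contra h8; nlinarith [(Nat.card G).cast_nonneg (α := ℤ)])
    exact ⟨k, by simp⟩
  choose k hk using h5
  have h6 : ∑ φ : IrrCharacter H, (c φ : ℂ) • φ.1 = 1 := by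
    have h6 := card_mul_classInner (∑ φ : IrrCharacter H, (c φ : ℂ) • φ.1) 1
    rw [classInner_sum_smul_irr _ ⟨1, isIrrCharacter_one⟩, ← hc] at h6
    simp only [hk, Pi.one_apply, map_one, mul_one] at h6
    rw [show classInner (fun _ : G => (1 : ℂ)) 1 = 1 from isIrrCharacter_one.classInner_self] at h6
    simp [Finset.sum_add_distrib] at h6
    funext h
    rw [hk, Finset.sum_eq_zero_iff.1 (by exact_mod_cast h6 : ∑ h, k h = 0) h (Finset.mem_univ _)]; simp
  have h7 : ∀ θ, IsClassFunction H θ → classInner (fun x => θ (s x)) 1 = classInner θ 1 := fun θ hθ => by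
    rw [hθ.classInner_eq_sum, show (fun x => θ (s x)) = ∑ φ : IrrCharacter H, classInner θ φ.1 • fun x => φ.1 (s x)
      from funext fun x => by simpa using hθ.apply_eq_sum (s x), H05.classInner_sum_left]
    refine Finset.sum_congr rfl fun φ _ => ?_
    rw [H05.classInner_smul_left, hc, φ.2.isCharacter.classInner_comm isCharacter_one, ← h6,
      classInner_sum_smul_irr]
  have h8 : s 1 = 1 := isConj_one_left.1 (h2 1)
  have h9 : IsCharacter G fun x => regChar H (s x) := by
    rw [show (fun x => regChar H (s x)) = ∑ φ : IrrCharacter H, (charDegree φ.1 : ℂ) • fun x => φ.1 (s x)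
      from funext fun x => by simp [regChar_eq_sum, fun φ : IrrCharacter H => φ.2.charDegree_eq]]
    refine IsCharacter.sum _ fun φ _ => ((h3 _ φ.2.isCharacter).isIrr_of_norm_one_of_pos ?_ ?_).isCharacter.natCast_smul _
    · rw [classInner_eq_classInner_mul_one, ← φ.2.classInner_self, classInner_eq_classInner_mul_one φ.1]
      exact h7 _ (φ.2.isClassFunction.mul φ.2.conj.isClassFunction)
    · simpa [h8, φ.2.isCharacter.re_apply_one] using φ.2.charDegree_pos
  have h10 : ∀ x, x ∈ charKer (fun x => regChar H (s x)) ↔ s x = 1 := fun x => by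
    rw [h9.mem_charKer, h8]
    refine ⟨fun h => by_contra fun h' => natCard_ne_zero H ?_, fun h => by rw [h]⟩
    rw [← regChar_one, ← h, regChar_of_ne h']
  have h11 : Disjoint (charKer fun x => regChar H (s x)) H := Subgroup.disjoint_def.2 fun {x} h h' =>
    congrArg Subtype.val (isConj_one_right.1 ((h10 x).1 h ▸ h2 ⟨x, h'⟩) : (⟨x, h'⟩ : H) = 1)
  refine ⟨_, inferInstance, (Subgroup.isComplement'_of_card_mul_and_disjoint ?_ h11).sup_eq_top, h11.eq_bot⟩
  have h12 := card_mul_classInner (fun x => regChar H (s x)) 1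
  rw [h7 _ isCharacter_regChar.isClassFunction, classInner_regChar_left] at h12
  rw [← Nat.cast_inj (R := ℂ), Nat.subtype_card (Finset.univ.filter fun x => s x = 1) (by simp [h10])]
  simpa [regChar, Finset.sum_ite] using h12.symm

end Cfsg.Agent.S0877
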