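import Mathlib
import Cfsg.Statements.S2247
import Cfsg.Agent.H12.Sz4

set_option autoImplicit false
open Cfsg

namespace Cfsg.Agent.S2247

open H12.Sz H12.CC

/-- In the Suzuki group with q = 2^(2m+1), m ≥ 1 (realised as the stabiliser in SL₄ of the Suzuki–Tits ovoid), the normalizer of a Sylow 2-subgroup P is a maximal subgroup and is the only maximal subgroup containing P. -/
theorem result {F : Type*} [Field F] [Fintype F] {m : ℕ} (hm : 1 ≤ m) (hF : Fintype.card F = 2 ^ (2 * m + 1)) (P : Sylow 2 ↥(Cfsg.Sz F m)) :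
    IsCoatom (Subgroup.normalizer ((P : Subgroup ↥(Cfsg.Sz F m)) : Set ↥(Cfsg.Sz F m))) ∧
    ∀ M : Subgroup ↥(Cfsg.Sz F m), IsCoatom M → (P : Subgroup ↥(Cfsg.Sz F m)) ≤ M → M = Subgroup.normalizer ((P : Subgroup ↥(Cfsg.Sz F m)) : Set ↥(Cfsg.Sz F m)) := by
  haveI : SzF F m := ⟨hm, hF⟩
  obtain ⟨g, hg⟩ := sylow_eq_cj P
  rw [hg, normalizer_cj, normalizer_U]
  have key : ∀ M : Subgroup (G F m), M ≠ ⊤ → cj g (U F m) ≤ M → M ≤ cj g (B F m) := fun M h1 h2 => by
    by_contra hc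
    have := eq_top_of_U_le' (cj_le_iff.1 h2) (fun h => hc (by simpa using cj_le_iff.1 h))
    refine h1 ?_
    rw [← cj_cj_inv g M, this]
    exact Subgroup.map_top_of_surjective _ (MulAut.conj g).surjective
  have hne : cj g (B F m) ≠ ⊤ := fun h => B_ne_top (F := F) (by
    rw [← cj_inv_cj g (B F m), h]
    exact Subgroup.map_top_of_surjective _ (MulAut.conj g⁻¹).surjective)
  refine ⟨⟨hne, fun M h => ?_⟩, fun M hM h => ?_⟩
  · by_contra hc
    exact h.not_ge (key M hc ((cj_mono U_le_B).trans h.le))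
  · exact (hM.le_iff_eq hne).1 (key M hM.1 h) |>.symm

end Cfsg.Agent.S2247
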