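import Mathlib
import Cfsg.Statements.S0977
import Cfsg.Agent.H19.Invol

set_option autoImplicit false
open Cfsg

namespace Cfsg.Agent.S0977

/-- No finite simple group has order 4320 = 2^5 * 3^3 * 5. -/
theorem result {G : Type*} [Group G] [Finite G] [IsSimpleGroup G] : Nat.card G ≠ 4320 := by
  open H19 H05 in
  intro hn
  have hG : ¬ IsMulCommutative G := not_comm_of_simple_card (by rw [hn]; norm_num)
  obtain ⟨σ, h1, X, Y, A, h2⟩ := sieve_pb hG (B := 66) (p := 5) (allow := fun _ _ => true) (qs := [2, 3])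
    (sols := [(216, 4, -4, [36, -24, -9]), (216, 4, -9, [36, -24, -4]), (216, 4, -24, [36, -9, -4]),
      (216, 4, 36, [-24, -9, -4])]) (by norm_num) hn (by norm_num)
    (by norm_num) (by norm_num) (by decide) (fun _ _ _ _ _ _ _ => rfl) (by decide +kernel)
  obtain ⟨e1, e2, e3⟩ := (by decide : ∀ σ ∈ _, σ.1 = 216 ∧ σ.2.1 = 4 ∧ (σ.2.2.1 :: σ.2.2.2).Perm [-4, -9, -24, 36]) σ h1
  rw [e1, e2] at A
  obtain ⟨Z, C, h6, h7⟩ := A.one rfl (by norm_num) (h2 ▸ e3)
  match Z, h6 with
  | [(a, _), (b, _), (c, _), (d, _)], rfl =>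
  have h8 := C.deg
  have n1 := C.nodup
  simp at h8 n1
  obtain ⟨M, hM⟩ := H21.exists_isPModular Nat.prime_five
  have h9 := exists_int_of_unique (χ := a) fun ψ h => by
    have := (C.blk M hM ψ).1 ((A.blk M hM ψ).2 (A.all hn ψ (by omega)))
    have := charDegree_irrOne G
    simp only [List.map_cons, List.map_nil, List.mem_cons, List.not_mem_nil, or_false] at *
    rcases ‹ψ = _ ∨ _› with rfl | rfl | rfl | rfl | rfl <;> first | rfl | omega
  have := Fact.mk Nat.prime_three
  obtain ⟨Q, hQ⟩ := Sylow.exists_subgroup_card_pow_prime (G := G) 3 (n := 3) (by rw [hn]; norm_num)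
  have h10 := a.2.isGeneralizedCharacter
  have h11 := card_dvd_of_vanish ((h10.sub isGeneralizedCharacter_one).mul
    (h10.add (isGeneralizedCharacter_one.nsmul 2))) Q (m := 18) (by simp [← a.2.charDegree_eq, h8.1]; norm_num) fun u hu h => by
      obtain ⟨v, hv⟩ := h9 u
      have h1 := natAbs_lt_deg hG (Ne.symm n1.1.1) h hv
      have h2 := dvd_deg_sub_of_pow (k := 3) Nat.prime_three
        (orderOf_dvd_iff_pow_eq_one.1 (hQ ▸ Subgroup.orderOf_dvd_natCard Q hu)) hv
      rw [h8.1] at h1 h2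
      obtain rfl | rfl : v = 1 ∨ v = -2 := by omega
      all_goals simp [hv]
  rw [hQ] at h11
  norm_num at h11

end Cfsg.Agent.S0977
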