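import Mathlib
import Cfsg.Statements.S0983
import Cfsg.Agent.H19.Ord8
import Cfsg.Agent.H19.Sieve
import Cfsg.Agent.S0977

set_option autoImplicit false
open Cfsg

namespace Cfsg.Agent.S0983

/-- A non-abelian finite simple group of order greater than 3640 and at most 6232 has order 4080, 5616, 6048 or 6072. -/
theorem result {G : Type*} [Group G] [Finite G] [IsSimpleGroup G] (hG : ¬ IsMulCommutative G) (h1 : 3640 < Nat.card G) (h2 : Nat.card G ≤ 6232) : Nat.card G = 4080 ∨ Nat.card G = 5616 ∨ Nat.card G = 6048 ∨ Nat.card G = 6072 := by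
  have h3 : ∀ n ∈ List.range' 3641 2592, n ∈ [4080, 5616, 6048, 6072] ∨ n ∈ [4620, 5400, 5460] ∨ n = 4320 ∨
      H19.Sv.kill 80 H19.Sv.ps n = true := by
    decide +kernel
  rcases h3 _ (List.mem_range'_1.2 ⟨h1, by omega⟩) with h | h | h | h
  · simpa using h
  · simp only [List.mem_cons, List.not_mem_nil, or_false] at h
    rcases H19.ord8 hG (by omega) with ⟨F, _, _, -, h4, -⟩ | ⟨h4, -⟩ | ⟨S, h4, h5, -⟩
    · rcases h with h | h | h <;> rw [h] at h4
      · have h5 := H19.eq_of_psl_card (r := 21) h4 (by norm_num) (by norm_num) (by norm_num)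
        exact absurd (h5 ▸ FiniteField.isPrimePow_card F) (by decide +kernel)
      · rw [H19.eq_of_psl_card (r := 22) h4 (by norm_num) (by norm_num) (by norm_num)] at h4; omega
      · rw [H19.eq_of_psl_card (r := 22) h4 (by norm_num) (by norm_num) (by norm_num)] at h4; omega
    · omega
    · have := h5.trans (Subgroup.card_subgroup_dvd_card _)
      have := h4 ▸ Subgroup.card_subgroup_dvd_card (S : Subgroup G)
      omega
  · exact absurd h Cfsg.Agent.S0977.result
  · rw [H19.not_kill hG H19.Sv.ps_prime (by omega)] at h; simp at h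

end Cfsg.Agent.S0983
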