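import Mathlib
import Cfsg.Statements.S0981
import Cfsg.Agent.H19.Brauer43

set_option autoImplicit false
open Cfsg

namespace Cfsg.Agent.S0981

/-- A simple group of order 4080 is isomorphic to the projective special linear group of dimension 2 over the field with 16 elements. -/
theorem result {G : Type*} [Group G] [Finite G] [IsSimpleGroup G] (h : Nat.card G = 4080) {F : Type*} [Field F] [Fintype F] (hF : Fintype.card F = 16) : Nonempty (G ≃* Matrix.ProjectiveSpecialLinearGroup (Fin 2) F) := by
  have : Fact (Nat.Prime 17) := ⟨by norm_num⟩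
  obtain ⟨h3, h1 | ⟨m, hm, h1⟩⟩ := H19.brauer43_big_simple (G := G) (p := 17)
    (H19.not_comm_of_simple_card (by rw [h]; norm_num)) (by rw [h]; norm_num) (by rw [h]; norm_num)
  · have := H19.card_of_psl h3 h1
    omega
  · have hm0 : m ≠ 0 := by rintro rfl; omega
    obtain ⟨F', _, _, hF'⟩ := H19.exists_field_two_pow hm0
    obtain ⟨e⟩ := h1 F' hF'
    obtain ⟨e'⟩ := H19.nonempty_sl_equiv_psl_of_even (F := F') (hF' ▸ even_iff_two_dvd.2 (dvd_pow_self 2 hm0))
    obtain ⟨f⟩ := H09.nonempty_psl_equiv_of_card_eq (ι := Fin 2) (F := F') (K := F) (by omega)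
    exact ⟨(e.trans e').trans f⟩

end Cfsg.Agent.S0981
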