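import Mathlib
import Cfsg.Statements.S1011
import Cfsg.Agent.H19.Ord8
import Cfsg.Agent.H19.SharpF
import Cfsg.Agent.H19.Brauer43

set_option autoImplicit false
open Cfsg

namespace Cfsg.Agent.S1011

/-- A simple group of order 504 is isomorphic to the projective special linear group of dimension 2 over the field with 8 elements. -/
theorem result {G : Type*} [Group G] [Finite G] [IsSimpleGroup G] (h : Nat.card G = 504) {F : Type*} [Field F] [Fintype F] (hF : Fintype.card F = 8) : Nonempty (G ≃* Matrix.ProjectiveSpecialLinearGroup (Fin 2) F) := by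
  open H19 H05 MulAction in
  have hG : ¬ IsMulCommutative G := not_comm_of_simple_card (by rw [h]; norm_num)
  rcases ord8 hG (by rw [h]; norm_num) with ⟨F, _, _, -, h1, -⟩ | ⟨h1, -⟩ | ⟨S, h1, h2, h3, h4⟩
  · rw [h] at h1
    rw [eq_of_psl_card (r := 10) h1 (by norm_num) (by norm_num) (by norm_num)] at h1; omega
  · omega
  have := Fintype.ofFinite (Sylow 2 G)
  have h5 := card_sylow_mul_card_normalizer S
  have h6 := two_mul_card_dvd_factorial_card_sylow hG (p := 2) (by omega)
  have h7 : 8 ∣ Nat.card (Subgroup.normalizer (S : Set G)) := h1 ▸ Subgroup.card_dvd_of_le Subgroup.le_normalizer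
  have h8 : Nat.card (Sylow 2 G) = 9 := by
    obtain ⟨m, hm⟩ := Nat.Coprime.mul_dvd_of_dvd_of_dvd (by norm_num) h2 h7
    have e : Nat.card (Sylow 2 G) ∣ 9 := ⟨m, by rw [hm, h] at h5; linarith⟩
    have := Nat.le_of_dvd (by norm_num) e
    rw [h] at h6
    interval_cases Nat.card (Sylow 2 G) <;> first | omega | exact absurd h6 (by decide)
  have h9 : Fintype.card (Sylow 2 G) = 9 := Nat.card_eq_fintype_card.symm.trans h8
  have h10 : ∃ (g : G) (x : Sylow 2 G), g • x ≠ x := by
    have : Nontrivial (Sylow 2 G) := Fintype.one_lt_card_iff_nontrivial.1 (by omega)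
    obtain ⟨T, hT⟩ := exists_ne S
    obtain ⟨g, rfl⟩ := exists_smul_eq G S T
    exact ⟨g, S, hT⟩
  have h11 : H14.Sharp G (Sylow 2 G) 3 := sharp_of_prime (by rw [h, h9]; rfl) fun g hg => by
    have e1 := card_fixedBy_lt h10 (g := g) (by rintro rfl; exact Nat.not_prime_one (orderOf_one (G := G) ▸ hg))
    have e2 := dvd_card_sub_fixedBy (α := Sylow 2 G) (k := 1) hg (g := g) (by simp)
    have e3 := h ▸ orderOf_dvd_natCard g
    rw [h9] at e1 e2
    obtain e | e | e : orderOf g = 2 ∨ orderOf g = 3 ∨ orderOf g = 7 := by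
      simpa [Nat.primeFactors_eq_to_filter_divisors_prime] using (by decide +kernel : ∀ q ∈ Nat.divisors 504,
        q.Prime → q = 2 ∨ q = 3 ∨ q = 7) _ (Nat.mem_divisors.2 ⟨e3, by norm_num⟩) hg
    · obtain ⟨u, hu, e4⟩ := exists_isConj_mem_sylow S (g := g) (k := 1) (by rw [pow_one, ← e, pow_orderOf_eq_one])
      have e5 := isCharacter_perm (G := G) (Sylow 2 G)
      have e6 := card_dvd_of_vanish (e5.isGeneralizedCharacter.sub
        (isGeneralizedCharacter_one.zsmul (Nat.card (fixedBy (Sylow 2 G) g)))) S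
        (m := 9 - Nat.card (fixedBy (Sylow 2 G) g)) (by simp [h9]) fun v hv e' => by
          simpa [sub_eq_zero] using (e5.isClassFunction.isConj (e4.trans (h4 u hu (by rintro rfl; simp_all) v hv e'))).symm
      rw [h1] at e6
      omega
    · have : IsEmpty (fixedBy (Sylow 2 G) g) := ⟨fun x => by
        have e1 := e ▸ (stabilizer G x.1).orderOf_dvd_natCard x.2
        have e2 := (stabilizer G x.1).index_mul_card
        rw [index_stabilizer_of_transitive, h8] at e2
        omega⟩
      simp
    · rw [e] at e2; omega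
  obtain ⟨e1⟩ := (Sharp3.pgl2_of_odd ⟨H18.mt_three_iff.1 h11.1, H18.sharp_three_iff.1 h11.2⟩ (by omega)
    (by rw [h9]; decide)).2 F (by omega)
  obtain ⟨e2⟩ := nonempty_psl_equiv_pgl_of_even (F := F) (by rw [hF]; decide)
  exact ⟨e1.trans e2.symm⟩

end Cfsg.Agent.S1011
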