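import Mathlib
import Cfsg.Agent.H20.Knorr
-- Template for statement S4438 (row 4438; see /opt/grader/pristine/manifest.json for weights).
-- Copy to Cfsg/Agent/S4438.lean and replace the sorry. The statement below is byte-identical to the frozen
-- statement Cfsg.CfsgFrozen.S4438 (Cfsg/Statements/S4438.lean; the theorem Cfsg.blk_covering_block_defect_group_meets_normal_subgroup_in_given_defect_group);
-- the grader kernel-checks Cfsg.Agent.S4438.result against that frozen type. Keep the theorem IN THIS FILE
-- (a `result` declared elsewhere and merely imported here is not credited); helpers may live anywhere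
-- under Cfsg/Agent/.
import Cfsg.Statements.S4438
-- import your own Cfsg.Agent.* helpers here

set_option autoImplicit false
open Cfsg

open H20 H05 H21 MonoidAlgebra

namespace Cfsg.Agent.S4438

/-- Let N be a normal subgroup of the finite group G, b a block of N with defect group Q, and B a block of G covering b (some member of B has a constituent in b on restriction to N), all relative to a maximal ideal M of the algebraic integers containing p. Then B has a defect group P with P ⊓ N = Q. -/
theorem result {G : Type*} [Group G] [Fintype G] (p : ℕ) [Fact p.Prime] (M : Ideal Cfsg.AlgInt) (hM : Cfsg.IsPModular p M) (N : Subgroup G) [hN : N.Normal] [Fintype N] (b : Set (Cfsg.IrrCharacter N)) (hb : Cfsg.IsPBlock M b) (Q : Subgroup G) (hQN : Q ≤ N) (hQ : Cfsg.IsDefectGroup p M b (Q.subgroupOf N)) (B : Set (Cfsg.IrrCharacter G)) (hB : Cfsg.IsPBlock M B) (hcov : (∃ χ ∈ B, ∃ θ ∈ b, Cfsg.classInner (fun n : N => (χ : G → ℂ) n) (θ : N → ℂ) ≠ 0)) : ∃ P : Subgroup G, Cfsg.IsDefectGroup p M B P ∧ P ⊓ N = Q := by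
  have := hM.2.1
  obtain ⟨D, hD⟩ := hB.exists_isDefectGroup p
  have h3 := (covers_iff_iB hB hb).1 (covers_iff.2 hcov)
  have hN' : (⊤ : Subgroup G) ≤ Subgroup.normalizer (N : Set G) := by
    rw [Subgroup.normalizer_eq_top]
  obtain ⟨x, -, -, -, hx⟩ := hb.isBI.exists_cj_maxBr_inf hM le_top hN' hB.isBI_top h3
    ((maxBr_top_iff hM hB).2 hD)
  obtain ⟨n, hn, e⟩ := ((maxBr_iB_iff hM hb hQN).2 hQ).exists_cj_eq hM hb.isBI hx
  refine ⟨cj n (cj x D), (hD.cj x).cj n, ?_⟩
  rw [← e, cj_inf, cj_of_mem hn]

end Cfsg.Agent.S4438
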