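import Cfsg.Statements.S4534
import Cfsg.Agent.H24.Sym6
-- import your own Cfsg.Agent.* helpers here

set_option autoImplicit false
open Cfsg

namespace Cfsg.Agent.S4534

open H24.Sym H20 H05 Cfsg in
theorem aux {G : Type*} [Group G] [Finite G] {p s : ℕ} {D Q : Subgroup G} (hs : SectionalPRankLE p s D) (h : SubConj Q D)
    (h1 : ∀ a ∈ Q, a ^ p = 1) (h2 : ∀ a ∈ Q, ∀ b ∈ Q, a * b = b * a) : Nat.card Q ≤ p ^ s := by
  obtain ⟨x, hx⟩ := h
  let e := (QuotientGroup.quotientBot (G := (cj x Q).subgroupOf D)).trans ((Subgroup.subgroupOfEquivOfLe hx).trans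
    (Subgroup.equivMapOfInjective Q _ (MulAut.conj x).injective).symm)
  have := hs ((cj x Q).subgroupOf D) ⊥ ⊤ ⟨⟨fun a b => Subtype.ext (e.injective (Subtype.ext (by simpa using h2 _ (e a).2 _ (e b).2)))⟩⟩
    fun a _ => e.injective (Subtype.ext (by simpa using h1 _ (e a).2))
  rwa [Subgroup.card_top, Nat.card_congr e.toEquiv] at this

/-- Let B be a p-block of a finite symmetric group (relative to a maximal ideal M of the algebraic integers containing p) with a nontrivial defect group D all of whose sections have p-rank at most s. Then the p-regular rank of B is less than p ^ s. -/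
theorem result (n : ℕ) (p : ℕ) [Fact p.Prime] (M : Ideal Cfsg.AlgInt) (hM : Cfsg.IsPModular p M) (B : Set (Cfsg.IrrCharacter (Equiv.Perm (Fin n)))) (hB : Cfsg.IsPBlock M B) (D : Subgroup (Equiv.Perm (Fin n))) (hD : Cfsg.IsDefectGroup p M B D) (hD1 : D ≠ ⊥) (s : ℕ) (hs : Cfsg.SectionalPRankLE p s D) : Cfsg.blockRank p B < p ^ s := by
  have := hM.2.1
  have hp := hM.1
  obtain ⟨c, hc⟩ := H24.Sym.ct_eq_of_mem hM hB
  obtain ⟨χ, hχ⟩ := H20.Cfsg.IsPBlock.nonempty hB
  obtain ⟨S, hS, e⟩ := H24.Sym.exists_chi_eq χ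
  obtain ⟨w, m, h1, h2, h3⟩ := H24.Sym.XS_ne_zero (Ω := Fin n) hp.pos (H24.Sym.mem_SS.1 hS).2.injective (H24.Sym.mem_SS.1 hS).1
  obtain ⟨u, Q, h4, h5, h6, h7, h8, h9, h10⟩ := H24.Sym.exists_elem n h1
  have h11 := H24.Sym.blockRank_le hp hS h2 fun T hT ψ hψ e' => (hc T hT ψ hψ e').trans (hc S hS χ hχ e).symm
  rcases Nat.eq_zero_or_pos w with rfl | hw
  · obtain ⟨k, hk⟩ := IsPGroup.iff_card.1 (H20.Cfsg.IsDefectGroup.isPGroup hD)
    obtain ⟨x, hx⟩ := exists_prime_orderOf_dvd_card' (G := D) p (hk ▸ dvd_pow_self p fun h => hD1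
      (Subgroup.card_eq_one.1 (by rw [hk, h, pow_zero])))
    have := aux hs (H20.SubConj.of_le (Q := Subgroup.zpowers x.1) (by simp))
      (by rintro _ ⟨l, rfl⟩; rw [← zpow_natCast, ← zpow_mul, mul_comm, zpow_mul, zpow_natCast, ← hx, ← Subgroup.orderOf_coe,
        pow_orderOf_eq_one, one_zpow]) (by rintro _ ⟨l, rfl⟩ _ ⟨l', rfl⟩; exact zpow_mul_comm _ _ _)
    rw [Nat.card_zpowers, Subgroup.orderOf_coe, hx] at this
    have := hp.one_lt
    simp at h11
    omega
  · have h12 := aux hs (H24.Sym.subConj_of_apply hM hB hD hχ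
      ((Nat.dvd_prime_pow hp).1 (orderOf_dvd_of_pow_eq_one ((pow_one p).symm ▸ h5)) |>.imp fun _ h => h.2)
      (by simpa [e, H24.Sym.chi] using h3 u h4) (fun a => ⟨1, Subtype.ext (by simpa using h8 _ a.2)⟩) h6) h8 h9
    rw [if_neg hw.ne'] at h11
    have := pow_pos hp.pos (w - 1)
    omega

end Cfsg.Agent.S4534
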