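import Mathlib
import Cfsg.Statements.S4698
import Cfsg.Agent.H21.CycQ
import Cfsg.Agent.S4710

set_option autoImplicit false
open Cfsg

namespace Cfsg.Agent.S4698
open H05 Cfsg H20 H21 MonoidAlgebra Classical
open scoped ComplexConjugate
attribute [-instance] H19.instFintypeSubgroupFrob

/-- Let p be a prime, M a maximal ideal of the algebraic integers containing p, and B a p-block of defect d of the finite group G, containing k irreducible characters. Then k ≤ p^d when d ≤ 2, and k ≤ p^(2d − 2) when d ≥ 3. -/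
theorem result {G : Type*} [Group G] [Finite G] (p : ℕ) [Fact p.Prime] (M : Ideal Cfsg.AlgInt) (hM : Cfsg.IsPModular p M) (B : Set (Cfsg.IrrCharacter G)) (hB : Cfsg.IsPBlock M B) (d : ℕ) (hd : Cfsg.blockDefect p B = d) : (d ≤ 2 → Nat.card B ≤ p ^ d) ∧ (3 ≤ d → Nat.card B ≤ p ^ (2 * d - 2)) := by
  haveI := hM.2.1
  induction d using Nat.strong_induction_on generalizing G with
  | _ d ih =>
  haveI := Fintype.ofFinite G
  obtain ⟨D, hD⟩ := hB.exists_isDefectGroup p
  have h1 := hD.card_eq hM hB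
  have hp := hM.1.one_lt
  rcases Nat.eq_zero_or_pos d with rfl | h0
  · exact ⟨fun _ => by simpa [hd] using card_block_le hM hB, by omega⟩
  haveI : Nontrivial D := Finite.one_lt_card_iff_nontrivial.1 (h1 ▸ Nat.one_lt_pow (by omega) hp)
  haveI := hD.isPGroup.center_nontrivial
  obtain ⟨⟨u, hu⟩, hu1⟩ := exists_ne (1 : Subgroup.center D)
  obtain ⟨K, _, _, b, Q, f, a1, a2, -, -, a5, a6, a7⟩ := exists_major_quot hM hB hD u.2 fun x hx =>
    mem_centralizer_zpowers.2 (by
      rw [mul_inv_eq_iff_eq_mul]; exact congrArg Subtype.val (Subgroup.mem_center_iff.1 hu ⟨x, hx⟩))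
  have h2 := a2.card_eq hM a1
  have h3 : blockDefect p b < d := (Nat.pow_lt_pow_iff_right hp).1 (by
    rw [← hd, ← h1, ← h2, a5]
    refine lt_mul_left Nat.card_pos (Nat.one_lt_iff_ne_zero_and_ne_one.2 ⟨(orderOf_pos _).ne', fun e =>
      hu1 (Subtype.ext (Subtype.ext (orderOf_eq_one_iff.1 e)))⟩))
  rw [hd] at a6 a7
  refine ⟨fun h => ?_, fun h => ?_⟩
  · have := a6 _ (rank_le_qf_of_cyclic hM a1 a2 (isCyclic_of_card_dvd_prime (p := p)
      (h2 ▸ (pow_dvd_pow p (by omega)).trans (pow_one p).dvd)))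
    exact_mod_cast le_of_mul_le_mul_right this (Nat.cast_pos.2 (one_le_blockRank hM.1 a1.nonempty))
  by_cases h4 : ∃ χ ∈ B, 0 < blockHeight p B (χ : G → ℂ)
  · have := (Cfsg.Agent.S4710.result p M hM B hB d hd).1 h4
    omega
  rw [Nat.card_congr (Equiv.subtypeEquivRight (q := (· ∈ B)) fun χ =>
    ⟨fun h => h.1, fun h => ⟨h, Nat.eq_zero_of_not_pos fun h' => h4 ⟨χ, h, h'⟩⟩⟩)] at a7
  have h5 : Nat.card b ≤ p ^ (2 * d - 4) := by
    obtain ⟨c1, c2⟩ := ih _ h3 b a1 rfl
    rcases le_or_gt (blockDefect p b) 2 with c | c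
    · exact (c1 c).trans (Nat.pow_le_pow_right hp.le (by omega))
    · exact (c2 c).trans (Nat.pow_le_pow_right hp.le (by omega))
  refine (Nat.pow_le_pow_iff_left two_ne_zero).1 (a7.trans ((Nat.mul_le_mul_left _
    ((blockRank_le_card b).trans h5)).trans_eq ?_))
  rw [← pow_add, ← pow_mul]; congr 1; omega

end Cfsg.Agent.S4698
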