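import Mathlib
import Cfsg.Statements.S3178
import Cfsg.Agent.H03.NPC3
import Cfsg.Agent.H04.TwoGroups

set_option autoImplicit false
open Cfsg

namespace Cfsg.Agent.S3178

/-- Groups with a modular Sylow 2-subgroup have a normal 2-complement. Let S, of order 2^(n+1) with n ≥ 3, be a Sylow 2-subgroup of a finite group G, and suppose S contains an element a of order 2^n and an involution b with b a b⁻¹ = a^(2^(n-1) + 1); so S is the non-abelian 2-group with a cyclic subgroup of index 2 that is neither dihedral, semidihedral nor generalized quaternion. Then G has a normal 2-complement. -/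
theorem result {G : Type*} [Group G] [Finite G]
    (S : Sylow 2 G) (n : ℕ) (hn : 3 ≤ n) (hS : Nat.card ↥(S : Subgroup G) = 2 ^ (n + 1))
    (a b : G) (ha : a ∈ (S : Subgroup G)) (hb : b ∈ (S : Subgroup G))
    (hao : orderOf a = 2 ^ n) (hbo : orderOf b = 2) (hrel : b * a * b⁻¹ = a ^ (2 ^ (n - 1) + 1)) :
    Cfsg.HasNormalPComplement 2 G := by
  open Subgroup in
  obtain ⟨m, rfl⟩ := Nat.exists_eq_add_of_le' hn
  set w := a ^ 2 ^ (m + 1) with hw
  set z := a ^ 2 ^ (m + 2) with hz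
  have hb2 : b * b = 1 := by rw [← sq, ← hbo, pow_orderOf_eq_one]
  have hrel' : b * a * b⁻¹ = a ^ (2 ^ (m + 2) + 1 : ℤ) := by rw [hrel]; norm_cast
  have hwz : w ^ 2 = z := by rw [hw, ← pow_mul, ← pow_succ]
  have hz2 : z ^ 2 = 1 := by rw [hz, ← pow_mul, ← pow_succ, ← hao, pow_orderOf_eq_one]
  have hz1 : z ≠ 1 := fun h => by
    have := orderOf_dvd_of_pow_eq_one h
    rw [hao, Nat.pow_dvd_pow_iff_le_right one_lt_two] at this
    omega
  have hbw : Commute b w := by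
    rw [Commute, SemiconjBy, ← mul_inv_eq_iff_eq_mul, hw, ← zpow_natCast, H04.conj_zpow' hrel']
    exact H04.zpow_eq_zpow_of_dvd hao ⟨2 ^ m, by push_cast; ring⟩
  have hbA : b ∉ zpowers a := by
    rintro ⟨k, rfl⟩
    apply hz1
    have : a ^ k * a * (a ^ k)⁻¹ = a := by group
    simp only at hrel
    rw [this, show m + 3 - 1 = m + 2 from rfl, pow_succ] at hrel
    exact mul_right_cancel (hrel.symm.trans (one_mul a).symm)
  have hcases : ∀ x ∈ (S : Subgroup G), (∃ i : ℤ, x = a ^ i) ∨ ∃ i : ℤ, x = b * a ^ i := by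
    intro x hx
    have hi : (zpowers (⟨a, ha⟩ : (S : Subgroup G))).index = 2 :=
      H04.index_zpowers_eq_two hS (by rw [← hao, orderOf_mk])
    by_cases h : (⟨x, hx⟩ : (S : Subgroup G)) ∈ zpowers ⟨a, ha⟩
    · obtain ⟨i, hi⟩ := h
      exact Or.inl ⟨i, (congrArg Subtype.val hi).symm⟩
    · obtain ⟨i, hi⟩ := (mul_mem_iff_of_index_two hi (a := (⟨b, hb⟩ : (S : Subgroup G))⁻¹)).mpr
        (iff_of_false (fun ⟨k, hk⟩ => hbA (inv_mem_iff.mp ⟨k, congrArg Subtype.val hk⟩)) h)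
      exact Or.inr ⟨i, by rw [show a ^ i = b⁻¹ * x from congrArg Subtype.val hi, mul_inv_cancel_left]⟩
  have hpow : ∀ i : ℤ, a ^ (4 * i) = 1 → ∃ k : ℤ, a ^ i = w ^ k := by
    intro i hi
    obtain ⟨k, hk⟩ := H04.dvd_of_zpow_eq_zpow hao (hi.trans (zpow_zero a).symm)
    refine ⟨k, ?_⟩
    rw [hw, ← zpow_natCast, ← zpow_mul]
    congr 1
    push_cast at hk ⊢
    rw [show (2 : ℤ) ^ (m + 3) = 4 * 2 ^ (m + 1) by ring] at hk
    linarith
  have hW : ∀ x ∈ (S : Subgroup G), x ^ 4 = 1 → ∃ k : ℤ, x = w ^ k ∨ x = b * w ^ k := by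
    intro x hx h4
    rcases hcases x hx with ⟨i, rfl⟩ | ⟨i, rfl⟩
    · obtain ⟨k, hk⟩ := hpow i (by rw [mul_comm, zpow_mul]; exact_mod_cast h4)
      exact ⟨k, Or.inl hk⟩
    · obtain ⟨k, hk⟩ := hpow i (by
        rw [show 4 = 2 * 2 from rfl, pow_mul, H04.mul_zpow_sq hrel', sq b, hb2, mul_one, ← zpow_add,
          ← zpow_natCast, ← zpow_mul] at h4
        rw [← h4]
        exact H04.zpow_eq_zpow_of_dvd hao ⟨-i, by push_cast; ring⟩)
      exact ⟨k, Or.inr (by rw [hk])⟩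
  have hzk : ∀ k : ℤ, z ^ k = 1 ∨ z ^ k = z := by
    intro k
    obtain ⟨j, rfl | rfl⟩ := Int.even_or_odd' k
    · left; rw [zpow_mul, zpow_ofNat, hz2, one_zpow]
    · right; rw [zpow_add, zpow_mul, zpow_ofNat, hz2, one_zpow, one_mul, zpow_one]
  have hsq : ∀ k : ℤ, (w ^ k) ^ 2 = z ^ k ∧ (b * w ^ k) ^ 2 = z ^ k := by
    intro k
    have : (w ^ k) ^ 2 = z ^ k := by rw [← hwz, ← zpow_natCast, ← zpow_mul, ← zpow_natCast, ← zpow_mul, mul_comm]
    exact ⟨this, by rw [(hbw.zpow_right k).mul_pow, this, sq b, hb2, one_mul]⟩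
  have hcomm : ∀ x ∈ (S : Subgroup G), x ^ 4 = 1 → ∀ y ∈ (S : Subgroup G), y ^ 4 = 1 → Commute x y := by
    intro x hx h4 y hy h4'
    obtain ⟨k, rfl | rfl⟩ := hW x hx h4 <;> obtain ⟨l, rfl | rfl⟩ := hW y hy h4'
    · exact Commute.zpow_zpow_self w k l
    · exact ((hbw.zpow_right k).symm).mul_right (Commute.zpow_zpow_self w k l)
    · exact (hbw.zpow_right l).mul_left (Commute.zpow_zpow_self w k l)
    · exact ((Commute.refl b).mul_right (hbw.zpow_right l)).mul_left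
        (((hbw.zpow_right k).symm).mul_right (Commute.zpow_zpow_self w k l))
  have hsq' : ∀ x ∈ (S : Subgroup G), x ^ 4 = 1 → x ^ 2 = 1 ∨ x ^ 2 = z := by
    intro x hx h4
    obtain ⟨k, rfl | rfl⟩ := hW x hx h4
    · rw [(hsq k).1]; exact hzk k
    · rw [(hsq k).2]; exact hzk k
  have hinv : ∀ x ∈ (S : Subgroup G), x ^ 2 = 1 → x ∈ zpowers z ∨ b⁻¹ * x ∈ zpowers z := by
    intro x hx h2
    have key : ∀ k : ℤ, z ^ k = 1 → w ^ k ∈ zpowers z := by
      intro k hk
      obtain ⟨j, rfl | rfl⟩ := Int.even_or_odd' k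
      · exact ⟨j, by rw [zpow_mul, zpow_ofNat, hwz]⟩
      · rw [zpow_add, zpow_mul, zpow_ofNat, hz2, one_zpow, one_mul, zpow_one] at hk
        exact absurd hk hz1
    obtain ⟨k, rfl | rfl⟩ := hW x hx (by rw [show 4 = 2 * 2 from rfl, pow_mul, h2, one_pow])
    · exact Or.inl (key k ((hsq k).1.symm.trans h2))
    · exact Or.inr (by rw [inv_mul_cancel_left]; exact key k ((hsq k).2.symm.trans h2))
  have hw4 : w ^ 4 = 1 := by rw [show 4 = 2 * 2 from rfl, pow_mul, hwz, hz2]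
  refine H03.hasNPC_of_local_centric S fun D hD _ hDc _ _ g hg hc => ?_
  have hwD : w ∈ D := by
    refine hDc ⟨pow_mem ha _, fun x hx => ?_⟩
    have haw : ∀ i : ℤ, Commute (a ^ i) w := fun i => ((Commute.refl a).pow_right _).zpow_left i
    rcases hcases x (hD hx) with ⟨i, rfl⟩ | ⟨i, rfl⟩
    · exact haw i
    · exact hbw.mul_left (haw i)
  have hcj : ∀ {x : G} {k : ℕ}, x ^ k = 1 → (g * x * g⁻¹) ^ k = 1 := fun h => by
    rw [conj_pow, h, mul_one, mul_inv_cancel]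
  have hgz : g * z * g⁻¹ = z := by
    rcases hsq' _ (hD (H03.conj_mem_of_mem_normalizer hg hwD)) (hcj hw4) with h | h
    · rw [conj_pow, hwz, conj_eq_one_iff] at h; exact absurd h hz1
    · rwa [conj_pow, hwz] at h
  have h1 : g ∈ centralizer ((zpowers z : Subgroup G) : Set G) := by
    rw [H26.centralizer_zpowers, mem_centralizer_singleton_iff, ← mul_inv_eq_iff_eq_mul, hgz]
  let K : ℕ → Subgroup G := fun j =>
    { carrier := {x | x ∈ D ∧ x ^ 4 = 1 ∧ x ^ j = 1}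
      one_mem' := ⟨D.one_mem, one_pow _, one_pow _⟩
      mul_mem' := fun {x y} hx hy => ⟨D.mul_mem hx.1 hy.1,
        by rw [(hcomm x (hD hx.1) hx.2.1 y (hD hy.1) hy.2.1).mul_pow, hx.2.1, hy.2.1, one_mul],
        by rw [(hcomm x (hD hx.1) hx.2.1 y (hD hy.1) hy.2.1).mul_pow, hx.2.2, hy.2.2, one_mul]⟩
      inv_mem' := fun {x} hx => ⟨D.inv_mem hx.1, by rw [inv_pow, hx.2.1, inv_one],
        by rw [inv_pow, hx.2.2, inv_one]⟩ }
  have h2 : g ∈ centralizer (K 2 : Set G) := by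
    refine H26.mem_centralizer_of_two_step (H26.isPGroup_zpowers ⟨1, hz2⟩) hc (fun v hv => ?_) h1
    by_cases hvz : v ∈ zpowers z
    · rw [commutatorElement_eq_one_iff_mul_comm.mpr (h1 v hvz).symm]; exact one_mem _
    have hv' : g * v * g⁻¹ ∉ zpowers z := fun h => hvz (by
      rw [show v = g⁻¹ * (g * v * g⁻¹) * g by group, mul_assoc, h1 _ h, inv_mul_cancel_left]; exact h)
    have a1 := (hinv v (hD hv.1) hv.2.2).resolve_left hvz
    have a2 := (hinv _ (hD (H03.conj_mem_of_mem_normalizer hg hv.1)) (hcj hv.2.2)).resolve_left hv'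
    rw [commutatorElement_def, (hcomm _ (hD (H03.conj_mem_of_mem_normalizer hg hv.1)) (hcj hv.2.1) v
      (hD hv.1) hv.2.1).inv_right.eq]
    convert mul_mem (inv_mem a1) a2 using 1
    group
  have h3 : g ∈ centralizer (K 4 : Set G) := by
    refine H26.mem_centralizer_of_two_step (S.2.to_le (fun x hx => hD hx.1 : K 2 ≤ S)) hc
      (fun v hv => ?_) h2
    have hv' := H03.conj_mem_of_mem_normalizer hg hv.1
    have hcm := (hcomm _ (hD hv') (hcj hv.2.1) v (hD hv.1) hv.2.1).inv_right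
    refine ⟨D.mul_mem hv' (D.inv_mem hv.1), ?_, ?_⟩
    · rw [commutatorElement_def, hcm.mul_pow, hcj hv.2.1, inv_pow, hv.2.1, inv_one, one_mul]
    · rw [commutatorElement_def, hcm.mul_pow, conj_pow, inv_pow]
      rcases hsq' v (hD hv.1) hv.2.1 with h | h
      · rw [h]; group
      · rw [h, hgz, mul_inv_cancel]
  refine H27.mem_centralizer_of_fix_small (S.2.to_le hD) hg hc fun x hx hs => ?_
  have h4 : x ^ 4 = 1 := by
    rcases hs with hs | ⟨-, hs⟩
    · rw [show 4 = 2 * 2 from rfl, pow_mul, hs, one_pow]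
    · exact hs
  exact H03.conj_eq_of_mem_centralizer h3 ⟨hx, h4, h4⟩

end Cfsg.Agent.S3178
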