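import Cfsg.Statements.S2378
import Cfsg.Agent.H11.Homo
import Cfsg.Agent.S1059
import Cfsg.Agent.S1060
import Cfsg.Agent.S1061
import Cfsg.Agent.S1062
import Cfsg.Agent.S1063
import Cfsg.Agent.S1064
import Cfsg.Agent.S1065
-- import your own Cfsg.Agent.* helpers here

set_option autoImplicit false
open Cfsg

namespace Cfsg.Agent.S2378
open H11 Cfsg.Lie

/-- coefficient lists -/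
def phiL : ℕ → List ℤ
  | 1 => [-1, 1]
  | 2 => [1, 1]
  | 3 => [1, 1, 1]
  | 4 => [1, 0, 1]
  | 5 => [1, 1, 1, 1, 1]
  | 6 => [1, -1, 1]
  | 7 => [1, 1, 1, 1, 1, 1, 1]
  | 8 => [1, 0, 0, 0, 1]
  | 9 => [1, 0, 0, 1, 0, 0, 1]
  | 10 => [1, -1, 1, -1, 1]
  | 12 => [1, 0, -1, 0, 1]
  | 14 => [1, -1, 1, -1, 1, -1, 1]
  | 15 => [1, -1, 0, 1, -1, 1, 0, -1, 1]
  | 18 => [1, 0, 0, -1, 0, 0, 1]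
  | 20 => [1, 0, -1, 0, 1, 0, -1, 0, 1]
  | 24 => [1, 0, 0, 0, -1, 0, 0, 0, 1]
  | 30 => [1, 1, 0, -1, -1, -1, 0, 1, 1]
  | _ => []

theorem phi_ok : ∀ d ∈ [1, 2, 3, 4, 5, 6, 7, 8, 9, 10, 12, 14, 15, 18, 20, 24, 30], PhiD d ((phiL d).length - 1) (phiL d) := by
  intro d hd
  simp only [List.mem_cons, List.not_mem_nil, or_false] at hd
  rcases hd with rfl | rfl | rfl | rfl | rfl | rfl | rfl | rfl | rfl | rfl | rfl | rfl | rfl | rfl | rfl | rfl | rfl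
  · exact ⟨[], by decide, fun q => ⟨(1) * q ^ 0, by simp [pv, phiL, Finset.sum_range_succ]; ring⟩⟩
  · exact ⟨[1], by decide, fun q => ⟨(1) * q ^ 0, by simp [pv, phiL, Finset.sum_range_succ]; ring⟩⟩
  · exact ⟨[1], by decide, fun q => ⟨(1) * q ^ 0, by simp [pv, phiL, Finset.sum_range_succ]; ring⟩⟩
  · exact ⟨[2], by decide, fun q => ⟨(1) * q ^ 0, by simp [pv, phiL, Finset.sum_range_succ]; ring⟩⟩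
  · exact ⟨[1], by decide, fun q => ⟨(1) * q ^ 0, by simp [pv, phiL, Finset.sum_range_succ]; ring⟩⟩
  · exact ⟨[3, 2], by decide, fun q => ⟨(-1) * q ^ 0 + (1) * q ^ 1, by simp [pv, phiL, Finset.sum_range_succ]; ring⟩⟩
  · exact ⟨[1], by decide, fun q => ⟨(1) * q ^ 0, by simp [pv, phiL, Finset.sum_range_succ]; ring⟩⟩
  · exact ⟨[4], by decide, fun q => ⟨(1) * q ^ 0, by simp [pv, phiL, Finset.sum_range_succ]; ring⟩⟩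
  · exact ⟨[3], by decide, fun q => ⟨(1) * q ^ 0, by simp [pv, phiL, Finset.sum_range_succ]; ring⟩⟩
  · exact ⟨[5, 2], by decide, fun q => ⟨(-1) * q ^ 0 + (1) * q ^ 1, by simp [pv, phiL, Finset.sum_range_succ]; ring⟩⟩
  · exact ⟨[6, 4], by decide, fun q => ⟨(-1) * q ^ 0 + (1) * q ^ 2, by simp [pv, phiL, Finset.sum_range_succ]; ring⟩⟩
  · exact ⟨[7, 2], by decide, fun q => ⟨(-1) * q ^ 0 + (1) * q ^ 1, by simp [pv, phiL, Finset.sum_range_succ]; ring⟩⟩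
  · exact ⟨[5, 3], by decide, fun q => ⟨(-1) * q ^ 0 + (1) * q ^ 1, by simp [pv, phiL, Finset.sum_range_succ]; ring⟩⟩
  · exact ⟨[9, 6], by decide, fun q => ⟨(-1) * q ^ 0 + (1) * q ^ 3, by simp [pv, phiL, Finset.sum_range_succ]; ring⟩⟩
  · exact ⟨[10, 4], by decide, fun q => ⟨(-1) * q ^ 0 + (1) * q ^ 2, by simp [pv, phiL, Finset.sum_range_succ]; ring⟩⟩
  · exact ⟨[12, 8], by decide, fun q => ⟨(-1) * q ^ 0 + (1) * q ^ 4, by simp [pv, phiL, Finset.sum_range_succ]; ring⟩⟩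
  · exact ⟨[15, 10, 6], by decide, fun q => ⟨(1) * q ^ 0 + (1) * q ^ 1 + (-1) * q ^ 3 + (-1) * q ^ 4 + (-1) * q ^ 5 + (-1) * q ^ 6 + (1) * q ^ 8 + (1) * q ^ 9, by simp [pv, phiL, Finset.sum_range_succ]; ring⟩⟩

/-- certificates -/
def hcG2 : ℕ → HC
  | 1 => ⟨[], 2, 1, 1, [[1, 0], [0, 1]], [[[1, 0]], [[0, 1]]], [[2, 1], [3, 2]]⟩
  | 2 => ⟨[1, 0, 1, 0, 1, 0], 2, 1, 1, [[-1, 0], [0, -1]], [[[-1, 0]], [[0, -1]]], [[-2, -1], [-3, -2]]⟩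
  | 3 => ⟨[0, 1, 0, 1], 1, 2, 1, [[1, 3], [-1, -2]], [[[1, 1], [1, 2]]], [[1, 0]]⟩
  | 6 => ⟨[1, 0], 1, 2, 1, [[-1, -3], [1, 2]], [[[0, 1], [1, 1]]], [[1, 1]]⟩
  | _ => ⟨[], 0, 0, 0, [], [], []⟩

theorem okG2 : ∀ d ∈ [1, 2, 3, 6], fastG2.chkHC (hcG2 d) (phiL d) = true ∧ (hcG2 d).N ∣ [2, 6].prod ∧
    (hcG2 d).a = ([2, 6].filter (d ∣ ·)).length ∧ (hcG2 d).k + 1 = (phiL d).length := by decide +kernel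

/-- certificates -/
def hcB2 : ℕ → HC
  | 1 => ⟨[], 2, 1, 2, [[1, 0], [0, 1]], [[[1, 0]], [[0, 1]]], [[2, 1], [2, 2]]⟩
  | 2 => ⟨[1, 0, 1, 0], 2, 1, 2, [[-1, 0], [0, -1]], [[[-1, 0]], [[0, -1]]], [[-2, -1], [-2, -2]]⟩
  | 4 => ⟨[0, 1], 1, 2, 2, [[1, 2], [-1, -1]], [[[1, 0], [1, 2]]], [[1, 0]]⟩
  | _ => ⟨[], 0, 0, 0, [], [], []⟩

theorem okB2 : ∀ d ∈ [1, 2, 4], fastB2.chkHC (hcB2 d) (phiL d) = true ∧ (hcB2 d).N ∣ [2, 4].prod ∧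
    (hcB2 d).a = ([2, 4].filter (d ∣ ·)).length ∧ (hcB2 d).k + 1 = (phiL d).length := by decide +kernel

/-- certificates -/
def hcD4 : ℕ → HC
  | 1 => ⟨[], 4, 1, 2, [[1, 0, 0, 0], [0, 1, 0, 0], [0, 0, 1, 0], [0, 0, 0, 1]], [[[1, 0, 0, 0]], [[0, 1, 0, 0]], [[0, 0, 1, 0]], [[0, 0, 0, 1]]], [[2, 2, 1, 1], [2, 4, 2, 2], [1, 2, 2, 1], [1, 2, 1, 2]]⟩
  | 2 => ⟨[3, 1, 2, 0, 1, 3, 0, 1, 2, 0, 1, 0], 4, 1, 2, [[-1, 0, 0, 0], [0, -1, 0, 0], [0, 0, -1, 0], [0, 0, 0, -1]], [[[-1, 0, 0, 0]], [[0, -1, 0, 0]], [[0, 0, -1, 0]], [[0, 0, 0, -1]]], [[-2, -2, -1, -1], [-2, -4, -2, -2], [-1, -2, -2, -1], [-1, -2, -1, -2]]⟩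
  | 3 => ⟨[1, 3], 1, 2, 1, [[1, 1, 0, 0], [0, 0, 0, 1], [0, 1, 1, 0], [0, -1, 0, -1]], [[[0, 1, 0, 0], [0, 1, 0, 1]]], [[1, 1, 0, 0]]⟩
  | 4 => ⟨[1, 2, 0, 1, 3, 2], 2, 2, 2, [[0, 0, 1, 0], [1, 1, 0, 1], [-1, 0, 0, 0], [-1, -2, -1, -1]], [[[1, 1, 0, 0], [1, 1, 1, 1]], [[0, 1, 1, 0], [0, 1, 0, 1]]], [[1, 1, 0, 0], [0, 1, 1, 0]]⟩
  | 6 => ⟨[3, 2, 0, 1], 1, 2, 1, [[0, 1, 1, 1], [-1, -1, -1, -1], [1, 1, 0, 1], [1, 1, 1, 0]], [[[1, 1, 1, 1], [0, 1, 0, 0]]], [[2, 1, 0, 0]]⟩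
  | _ => ⟨[], 0, 0, 0, [], [], []⟩

theorem okD4 : ∀ d ∈ [1, 2, 3, 4, 6], fastD4.chkHC (hcD4 d) (phiL d) = true ∧ (hcD4 d).N ∣ [2, 4, 4, 6].prod ∧
    (hcD4 d).a = ([2, 4, 4, 6].filter (d ∣ ·)).length ∧ (hcD4 d).k + 1 = (phiL d).length := by decide +kernel

/-- certificates -/
def hcF4 : ℕ → HC
  | 1 => ⟨[], 4, 1, 1, [[1, 0, 0, 0], [0, 1, 0, 0], [0, 0, 1, 0], [0, 0, 0, 1]], [[[1, 0, 0, 0]], [[0, 1, 0, 0]], [[0, 0, 1, 0]], [[0, 0, 0, 1]]], [[2, 3, 2, 1], [3, 6, 4, 2], [4, 8, 6, 3], [2, 4, 3, 2]]⟩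
  | 2 => ⟨[3, 2, 1, 2, 0, 1, 2, 3, 2, 1, 2, 0, 1, 2, 3, 2, 1, 2, 0, 1, 2, 0, 1, 0], 4, 1, 1, [[-1, 0, 0, 0], [0, -1, 0, 0], [0, 0, -1, 0], [0, 0, 0, -1]], [[[-1, 0, 0, 0]], [[0, -1, 0, 0]], [[0, 0, -1, 0]], [[0, 0, 0, -1]]], [[-2, -3, -2, -1], [-3, -6, -4, -2], [-4, -8, -6, -3], [-2, -4, -3, -2]]⟩
  | 3 => ⟨[0, 1, 2, 3, 2, 1, 2, 0, 1, 2, 3, 1, 2, 0, 1, 2], 2, 2, 1, [[0, 1, 2, 2], [1, 1, 2, 0], [-1, -2, -3, -1], [0, 1, 1, 0]], [[[0, 1, 1, 0], [0, 0, 0, -1]], [[1, 0, 0, 0], [1, 1, 2, 2]]], [[2, 4, 2, 1], [1, 1, 0, 0]]⟩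
  | 4 => ⟨[3, 1, 2, 0, 1, 2, 3, 1, 2, 0, 1, 2], 2, 2, 2, [[1, 2, 2, 0], [0, 1, 2, 2], [-1, -2, -3, -2], [1, 1, 2, 1]], [[[1, 1, 0, 0], [1, 3, 4, 2]], [[0, 0, 0, 1], [1, 1, 2, 1]]], [[1, 1, 0, 0], [0, 0, 0, 1]]⟩
  | 6 => ⟨[0, 1, 2, 3, 2, 0, 1, 2], 2, 2, 1, [[1, 1, 2, 2], [1, 2, 2, 0], [-1, -2, -2, -1], [0, 1, 1, 1]], [[[0, 0, 0, 1], [0, 1, 1, 0]], [[0, 1, 0, 0], [1, 1, 2, 0]]], [[2, 4, 3, 2], [1, 1, 0, 0]]⟩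
  | 8 => ⟨[2, 3, 1, 2, 1, 0], 1, 4, 1, [[-1, -2, -4, -2], [1, 1, 2, 0], [0, 0, 0, 1], [0, 1, 1, 0]], [[[0, 0, 0, 1], [0, 1, 1, 0], [1, 1, 2, 1], [0, 0, -1, 0]]], [[0, 1, 1, 1]]⟩
  | 12 => ⟨[3, 0, 1, 2], 1, 4, 1, [[0, 1, 0, 0], [1, 1, 2, 2], [-1, -1, -1, -1], [1, 1, 1, 0]], [[[0, 0, 0, 1], [1, 1, 1, 0], [0, 1, 1, 0], [0, 0, 1, 1]]], [[1, 2, 1, 1]]⟩
  | _ => ⟨[], 0, 0, 0, [], [], []⟩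

theorem okF4 : ∀ d ∈ [1, 2, 3, 4, 6, 8, 12], fastF4.chkHC (hcF4 d) (phiL d) = true ∧ (hcF4 d).N ∣ [2, 6, 8, 12].prod ∧
    (hcF4 d).a = ([2, 6, 8, 12].filter (d ∣ ·)).length ∧ (hcF4 d).k + 1 = (phiL d).length := by decide +kernel

/-- certificates -/
def hcE6 : ℕ → HC
  | 1 => ⟨[], 6, 1, 3, [[1, 0, 0, 0, 0, 0], [0, 1, 0, 0, 0, 0], [0, 0, 1, 0, 0, 0], [0, 0, 0, 1, 0, 0], [0, 0, 0, 0, 1, 0], [0, 0, 0, 0, 0, 1]], [[[1, 0, 0, 0, 0, 0]], [[0, 1, 0, 0, 0, 0]], [[0, 0, 1, 0, 0, 0]], [[0, 0, 0, 1, 0, 0]], [[0, 0, 0, 0, 1, 0]], [[0, 0, 0, 0, 0, 1]]], [[4, 3, 5, 6, 4, 2], [3, 6, 6, 9, 6, 3], [5, 6, 10, 12, 8, 4], [6, 9, 12, 18, 12, 6], [4, 6, 8, 12, 10, 5], [2, 3, 4, 6, 5, 4]]⟩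
  | 2 => ⟨[5, 4, 3, 0, 2, 1, 3, 4, 5, 3, 2, 1, 3, 2, 1, 0], 4, 1, 1, [[-1, -1, -2, -2, -1, -1], [0, -1, 0, 0, 0, 0], [0, 1, 1, 2, 1, 1], [0, 0, 0, -1, 0, 0], [1, 1, 1, 2, 1, 0], [-1, -1, -1, -2, -2, -1]], [[[0, -1, 0, 0, 0, 0]], [[0, 0, 0, -1, 0, 0]], [[-1, 0, -1, 0, 0, 0]], [[0, 0, 0, 0, -1, -1]]], [[0, 0, 1, 1, 1, 0], [0, 1, 2, 2, 2, 0], [0, 1, 1, 2, 2, 0], [0, 1, 2, 2, 1, 0]]⟩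
  | 3 => ⟨[5, 4, 3, 2, 1, 3, 4, 5, 4, 2, 3, 0, 2, 1, 3, 4, 3, 0, 2, 1, 3, 0, 2, 0], 3, 2, 3, [[-1, 0, -1, -1, -1, -1], [0, 0, 1, 1, 1, 0], [0, -1, -1, -1, 0, 0], [0, 0, 0, -1, -1, 0], [0, 0, 0, 1, 0, 0], [1, 1, 1, 1, 1, 0]], [[[0, 0, 0, 1, 0, 0], [0, 0, 0, 0, -1, 0]], [[0, 0, -1, 0, 0, 0], [0, 1, 0, 1, 0, 0]], [[0, 1, 0, 0, 0, 1], [1, 2, 2, 2, 2, 1]]], [[1, 3, 5, 9, 7, 5], [3, 0, 0, 0, 0, 0], [-2, 0, -1, 0, 1, 2]]⟩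
  | 4 => ⟨[2, 1, 3, 4, 3, 0, 2, 1, 3, 0], 2, 2, 1, [[0, -1, 0, -1, -1, 0], [1, 1, 1, 1, 0, 0], [0, 1, 1, 2, 1, 0], [-1, -1, -2, -2, -1, 0], [1, 0, 1, 1, 1, 0], [0, 1, 1, 1, 1, 1]], [[[1, 0, 1, 0, 0, 0], [0, 0, 1, 1, 0, 0]], [[0, 1, 0, 1, 1, 0], [1, 0, 0, 0, 0, 0]]], [[1, 3, 2, 2, 0, 1], [2, 8, 4, 6, 0, 3]]⟩
  | 5 => ⟨[3, 0, 2, 1], 1, 4, 1, [[0, 0, 1, 1, 0, 0], [0, -1, 0, -1, 0, 0], [-1, 0, -1, -1, 0, 0], [1, 1, 1, 1, 0, 0], [0, 0, 0, 1, 1, 0], [0, 0, 0, 0, 0, 1]], [[[1, 0, 0, 0, 0, 0], [1, 0, 1, 1, 0, 0], [1, 1, 1, 1, 0, 0], [1, 0, 1, 0, 0, 0]]], [[1, 1, 1, 2, 2, 0]]⟩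
  | 6 => ⟨[4, 5, 1, 3, 4, 3, 2, 1, 3, 0, 2, 0], 2, 2, 1, [[0, 0, 0, -1, -1, 0], [0, 1, 1, 1, 1, 0], [-1, -1, -1, -1, -1, -1], [1, 0, 0, 0, 0, 0], [0, 0, 1, 1, 1, 1], [0, 1, 0, 1, 0, 0]], [[[-1, 1, 0, 0, 1, 0], [1, 0, 2, 3, 2, 1]], [[0, 1, 0, 0, 0, 0], [0, 0, 1, 1, 1, 0]]], [[-1, 0, -1, 0, 0, 0], [0, 2, 2, 3, 0, 0]]⟩
  | 8 => ⟨[4, 2, 1, 3, 0], 1, 4, 1, [[-1, 0, -1, 0, 0, 0], [0, 0, 1, 1, 1, 0], [1, 1, 1, 1, 1, 0], [0, -1, -1, -1, -1, 0], [0, 1, 1, 1, 0, 0], [0, 0, 0, 0, 1, 1]], [[[1, 0, 1, 0, 0, 0], [0, 1, 0, 1, 1, 0], [0, 0, 1, 1, 0, 0], [1, 0, 0, 0, 0, 0]]], [[1, 3, 2, 2, 0, 1]]⟩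
  | 9 => ⟨[4, 5, 2, 3, 0, 2, 1, 3, 1, 0], 1, 6, 3, [[0, 0, 0, -1, -1, 0], [-1, 0, 0, 0, 0, 0], [0, 1, 0, 1, 1, 0], [0, -1, -1, -1, -1, 0], [1, 1, 2, 2, 2, 1], [0, 0, 0, 0, -1, -1]], [[[0, 0, 0, 0, 1, 1], [1, 1, 2, 2, 1, 0], [0, 1, 0, 1, 1, 1], [0, 0, 1, 1, 1, 1], [1, 1, 1, 2, 1, 0], [0, 0, 0, 0, 0, 1]]], [[2, 0, 1, 0, 2, 1]]⟩
  | 12 => ⟨[5, 4, 1, 3, 2, 0], 1, 4, 1, [[-1, -1, -1, -1, -1, -1], [0, 0, 0, 1, 1, 1], [1, 0, 0, 0, 0, 0], [0, 0, 1, 0, 0, 0], [0, 1, 0, 1, 0, 0], [0, 0, 0, 0, 1, 0]], [[[0, 1, 0, 0, 0, 0], [0, 0, 0, 1, 1, 1], [0, 0, 1, 1, 1, 0], [1, 1, 1, 1, 0, 0]]], [[-1, 1, 0, 1, 0, 0]]⟩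
  | _ => ⟨[], 0, 0, 0, [], [], []⟩

theorem okE6 : ∀ d ∈ [1, 2, 3, 4, 5, 6, 8, 9, 12], fastE6.chkHC (hcE6 d) (phiL d) = true ∧ (hcE6 d).N ∣ [2, 5, 6, 8, 9, 12].prod ∧
    (hcE6 d).a = ([2, 5, 6, 8, 9, 12].filter (d ∣ ·)).length ∧ (hcE6 d).k + 1 = (phiL d).length := by decide +kernel

/-- certificates -/
def hcE7 : ℕ → HC
  | 1 => ⟨[], 7, 1, 2, [[1, 0, 0, 0, 0, 0, 0], [0, 1, 0, 0, 0, 0, 0], [0, 0, 1, 0, 0, 0, 0], [0, 0, 0, 1, 0, 0, 0], [0, 0, 0, 0, 1, 0, 0], [0, 0, 0, 0, 0, 1, 0], [0, 0, 0, 0, 0, 0, 1]], [[[1, 0, 0, 0, 0, 0, 0]], [[0, 1, 0, 0, 0, 0, 0]], [[0, 0, 1, 0, 0, 0, 0]], [[0, 0, 0, 1, 0, 0, 0]], [[0, 0, 0, 0, 1, 0, 0]], [[0, 0, 0, 0, 0, 1, 0]], [[0, 0, 0, 0, 0, 0, 1]]], [[4, 4, 6, 8, 6, 4, 2], [4, 7, 8,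 12, 9, 6, 3], [6, 8, 12, 16, 12, 8, 4], [8, 12, 16, 24, 18, 12, 6], [6, 9, 12, 18, 15, 10, 5], [4, 6, 8, 12, 10, 8, 4], [2, 3, 4, 6, 5, 4, 3]]⟩
  | 2 => ⟨[6, 5, 4, 3, 2, 1, 3, 4, 5, 6, 0, 2, 3, 4, 5, 1, 3, 4, 2, 3, 0, 2, 1, 3, 4, 5, 6, 0, 2, 3, 4, 5, 1, 3, 4, 2, 3, 0, 2, 1, 3, 4, 5, 1, 3, 4, 2, 3, 0, 2, 1, 3, 4, 2, 3, 0, 2, 1, 3, 0, 2, 1, 0], 7, 1, 2, [[-1, 0, 0, 0, 0, 0, 0], [0, -1, 0, 0, 0, 0, 0], [0, 0, -1, 0, 0, 0, 0], [0, 0, 0, -1, 0, 0, 0], [0, 0, 0, 0, -1, 0, 0], [0, 0, 0, 0, 0, -1, 0], [0, 0, 0, 0, 0, 0, -1]], [[[-1, 0, 0, 0, 0, 0, 0]], [[0, -1, 0, 0, 0, 0, 0]], [[0, 0, -1, 0, 0, 0, 0]], [[0, 0, 0, -1, 0, 0, 0]], [[0, 0, 0, 0, -1, 0, 0]], [[0, 0, 0, 0, 0, -1, 0]], [[0, 0, 0, 0, 0, 0, -1]]], [[-4, -4, -6,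 -8, -6, -4, -2], [-4, -7, -8, -12, -9, -6, -3], [-6, -8, -12, -16, -12, -8, -4], [-8, -12, -16, -24, -18, -12, -6], [-6, -9, -12, -18, -15, -10, -5], [-4, -6, -8, -12, -10, -8, -4], [-2, -3, -4, -6, -5, -4, -3]]⟩
  | 3 => ⟨[6, 5, 1, 3, 4, 2, 3, 0, 2, 1, 3, 4, 5, 6, 4, 2, 3, 0, 2, 1, 3, 4, 2, 3, 0, 2], 3, 2, 1, [[0, 0, 1, 1, 0, 0, 0], [1, 0, 1, 1, 1, 1, 1], [-1, -1, -2, -2, -1, 0, 0], [0, 1, 1, 1, 1, 0, 0], [0, -1, -1, -2, -2, -1, -1], [1, 2, 2, 4, 3, 2, 1], [-1, -2, -2, -3, -2, -2, -1]], [[[0, 1, 0, 0, 0, 0, 0], [1, 1, 1, 1, 1, 1, 1]], [[1, 0, 0, 0, 0, 0, 0], [1, 0, 1, 1, 0, 0, 0]], [[0, 0, 1, 0, -1, 0, 0], [-1, 0, 0, 0, 0, 1, 1]]], [[0, 1, 0, 1, 0, 0, 0], [1, 1, 1, 2, 2, 3, 0], [1, 1, 2, 2, 2, 2, 0]]⟩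
  | 4 => ⟨[2, 3, 4, 2, 3, 1], 2, 2, 1, [[1, 0, 1, 1, 0, 0, 0], [0, -1, -1, -2, -1, 0, 0], [0, 0, 0, 0, 1, 0, 0], [0, 1, 1, 1, 0, 0, 0], [0, 0, -1, 0, 0, 0, 0], [0, 0, 1, 1, 1, 1, 0], [0, 0, 0, 0, 0, 0, 1]], [[[0, -1, 0, 0, 0, 0, 0], [0, 1, 1, 2, 1, 0, 0]], [[0, 0, 0, 1, 1, 0, 0], [0, 1, 0, 1, 0, 0, 0]]], [[1, 0, 1, 1, 0, 0, 0], [1, 0, 0, 0, 0, -1, 0]]⟩
  | 5 => ⟨[2, 3, 1, 0], 1, 4, 1, [[-1, 0, -1, 0, 0, 0, 0], [0, -1, -1, -1, 0, 0, 0], [1, 0, 1, 1, 0, 0, 0], [0, 1, 0, 0, 0, 0, 0], [0, 0, 1, 1, 1, 0, 0], [0, 0, 0, 0, 0, 1, 0], [0, 0, 0, 0, 0, 0, 1]], [[[0, 0, 1, 0, 0, 0, 0], [1, 0, 2, 1, 0, 0, 0], [1, 1, 2, 2, 0, 0, 0], [1, 1, 1, 1, 0, 0, 0]]], [[0, 1, 1, 1, 1, 0, 0]]⟩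
  | 6 => ⟨[3, 4, 2, 3, 0, 2, 1, 3, 4, 5, 6, 3, 2, 1, 3, 4, 5, 2, 3, 4, 1], 3, 2, 1, [[1, 1, 1, 1, 1, 0, 0], [-1, -1, -1, -2, -1, -1, 0], [0, 0, 1, 1, 1, 1, 0], [1, 1, 1, 2, 1, 1, 1], [-1, 0, -1, -1, -1, -1, -1], [0, -1, -1, -1, 0, 0, 0], [0, 0, 0, -1, -1, 0, 0]], [[[1, 0, 0, 0, 0, 0, 0], [0, 1, 1, 1, 1, 0, 0]], [[0, 1, 0, 1, 0, -1, 0], [0, 0, 1, 0, 0, 1, 1]], [[0, 0, 1, 0, 0, 0, 0], [0, 0, 0, 1, 1, 1, 0]]], [[2, 3, 3, 4, 2, 2, 0], [1, 2, 2, 3, 1, 1, 0], [1, 0, 2, 2, 1, 0, 0]]⟩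
  | 7 => ⟨[5, 6, 4, 3, 0, 2], 1, 6, 1, [[0, 0, 1, 1, 1, 1, 0], [0, 1, 0, 1, 1, 1, 0], [-1, 0, -1, -1, -1, -1, 0], [1, 0, 1, 0, 0, 0, 0], [0, 0, 0, 1, 0, 0, 0], [0, 0, 0, 0, 1, 1, 1], [0, 0, 0, 0, 0, -1, -1]], [[[0, 0, 0, 0, 0, 1, 1], [0, 0, 0, 0, 1, 1, 1], [0, 0, 0, 1, 1, 1, 1], [1, 0, 1, 1, 1, 1, 1], [0, 0, 1, 1, 1, 1, 1], [0, 0, 0, 0, 0, 0, 1]]], [[1, 2, 2, 3, 2, 2, 1]]⟩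
  | 8 => ⟨[5, 4, 3, 2, 1], 1, 4, 1, [[1, 0, 1, 1, 1, 1, 0], [0, -1, 0, -1, -1, -1, 0], [0, 0, -1, -1, -1, -1, 0], [0, 1, 1, 1, 1, 1, 0], [0, 0, 0, 1, 0, 0, 0], [0, 0, 0, 0, 1, 0, 0], [0, 0, 0, 0, 0, 1, 1]], [[[0, -1, -1, -1, 0, 0, 0], [0, 0, 0, 1, 1, 1, 0], [0, 1, 1, 2, 2, 1, 0], [0, 1, 1, 2, 1, 0, 0]]], [[1, 1, 0, 1, 1, 0, 0]]⟩
  | 9 => ⟨[3, 4, 5, 6, 5, 2, 1, 3, 0, 2, 1, 0], 1, 6, 1, [[0, -1, 0, -1, -1, 0, 0], [0, 0, -1, -1, -1, 0, 0], [-1, 0, -1, -1, 0, 0, 0], [1, 0, 1, 1, 1, 0, 0], [0, 1, 1, 2, 1, 1, 1], [0, 0, 0, 0, 0, 0, -1], [0, 0, 0, -1, -1, -1, 0]], [[[0, 0, 1, 1, 0, 0, 0], [0, 0, 0, 0, 1, 0, 0], [0, 1, 1, 2, 1, 1, 1], [1, 1, 2, 2, 1, 0, 0], [0, 0, 0, 0, 1, 1, 1], [0, 1, 1, 1, 0, 0, 0]]], [[0, 0, 1, 1,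 1, 1, 0]]⟩
  | 10 => ⟨[2, 3, 4, 5, 6, 1], 1, 4, 1, [[1, 0, 1, 0, 0, 0, 0], [0, -1, -1, -1, 0, 0, 0], [0, 0, 0, 1, 0, 0, 0], [0, 1, 1, 1, 1, 0, 0], [0, 0, 0, 0, 0, 1, 0], [0, 0, 0, 0, 0, 0, 1], [0, 0, -1, -1, -1, -1, -1]], [[[0, 0, 1, 1, 0, 0, 0], [0, 1, 0, 1, 1, 0, 0], [0, 0, 1, 1, 1, 1, 0], [0, 1, 0, 1, 1, 1, 1]]], [[0, 0, 0, 1, 0, 0, 0]]⟩
  | 12 => ⟨[5, 6, 5, 1, 3, 4, 0, 2], 1, 4, 1, [[0, 1, 1, 1, 0, 0, 0], [0, 0, 0, 1, 0, 0, 0], [-1, -1, -1, -1, 0, 0, 0], [1, 1, 1, 1, 1, 1, 1], [0, -1, 0, -1, -1, -1, -1], [0, 1, 0, 1, 1, 1, 0], [0, 0, 0, 0, 0, -1, 0]], [[[0, 1, 0, 0, 0, 0, 0], [0, 0, 0, 1, 0, 0, 0], [1, 0, 1, 1, 1, 1, 1], [0, 1, 1, 1, 1, 0, 0]]], [[1, 1, 1, 1, 0, 0, 0]]⟩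
  | 14 => ⟨[0, 2, 3, 4, 5, 6, 3, 4, 5, 2, 3, 4, 0, 2, 1], 1, 6, 1, [[0, 0, 0, 0, 0, 1, 0], [-1, -1, -1, -2, -2, -1, 0], [0, 0, -1, -1, -1, -1, 0], [1, 1, 2, 3, 3, 2, 1], [0, 0, 0, -1, -1, -1, -1], [0, 0, 0, 1, 0, 0, 0], [-1, 0, -1, -1, 0, 0, 0]], [[[1, -1, 0, 0, 0, 0, -1], [1, 2, 2, 3, 2, 2, 1], [1, 0, 1, 2, 1, 1, 0], [1, 3, 3, 5, 4, 3, 2], [1, 1, 2, 3, 2, 1, 0], [1, 3, 3, 4, 3, 2, 2]]], [[1, 1, 0, 1, 1, 0, 0]]⟩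
  | 18 => ⟨[0, 2, 3, 4, 5, 6, 1], 1, 6, 1, [[0, 0, 1, 0, 0, 0, 0], [-1, -1, -1, -1, 0, 0, 0], [0, 0, 0, 1, 0, 0, 0], [1, 1, 1, 1, 1, 0, 0], [0, 0, 0, 0, 0, 1, 0], [0, 0, 0, 0, 0, 0, 1], [-1, 0, -1, -1, -1, -1, -1]], [[[1, 0, 0, 0, 0, 0, 0], [0, 0, 1, 0, 0, 0, 0], [0, 0, 0, 1, 0, 0, 0], [0, 1, 1, 1, 1, 0, 0], [0, 0, 0, 1, 1, 1, 0], [1, 1, 1, 1, 1, 1, 1]]], [[1, 0, 1, 1, 1, 0, 0]]⟩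
  | _ => ⟨[], 0, 0, 0, [], [], []⟩

theorem okE7 : ∀ d ∈ [1, 2, 3, 4, 5, 6, 7, 8, 9, 10, 12, 14, 18], fastE7.chkHC (hcE7 d) (phiL d) = true ∧ (hcE7 d).N ∣ [2, 6, 8, 10, 12, 14, 18].prod ∧
    (hcE7 d).a = ([2, 6, 8, 10, 12, 14, 18].filter (d ∣ ·)).length ∧ (hcE7 d).k + 1 = (phiL d).length := by decide +kernel

/-- certificates -/
def hcE8 : ℕ → HC
  | 1 => ⟨[], 8, 1, 1, [[1, 0, 0, 0, 0, 0, 0, 0], [0, 1, 0, 0, 0, 0, 0, 0], [0, 0, 1, 0, 0, 0, 0, 0], [0, 0, 0, 1, 0, 0, 0, 0], [0, 0, 0, 0, 1, 0, 0, 0], [0, 0, 0, 0, 0, 1, 0, 0], [0, 0, 0, 0, 0, 0, 1, 0], [0, 0, 0, 0, 0, 0, 0, 1]], [[[1, 0, 0, 0, 0, 0, 0, 0]], [[0, 1, 0, 0, 0, 0, 0, 0]], [[0, 0, 1, 0, 0, 0, 0, 0]], [[0, 0, 0, 1, 0, 0, 0, 0]], [[0, 0, 0, 0, 1, 0, 0, 0]],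 [[0, 0, 0, 0, 0, 1, 0, 0]], [[0, 0, 0, 0, 0, 0, 1, 0]], [[0, 0, 0, 0, 0, 0, 0, 1]]], [[4, 5, 7, 10, 8, 6, 4, 2], [5, 8, 10, 15, 12, 9, 6, 3], [7, 10, 14, 20, 16, 12, 8, 4], [10, 15, 20, 30, 24, 18, 12, 6], [8, 12, 16, 24, 20, 15, 10, 5], [6, 9, 12, 18, 15, 12, 8, 4], [4, 6, 8, 12, 10, 8, 6, 3], [2, 3, 4, 6, 5, 4, 3, 2]]⟩
  | 2 => ⟨[7, 6, 5, 4, 3, 2, 1, 3, 4, 5, 6, 0, 2, 3, 4, 5, 1, 3, 4, 2, 3, 0, 2, 1, 3, 4, 5, 6, 7, 6, 5, 4, 3, 2, 1, 3, 4, 5, 6, 0, 2, 3, 4, 5, 1, 3, 4, 2, 3, 0, 2, 1, 3, 4, 5, 6, 7, 6, 5, 4, 3, 2, 1, 3, 4, 5, 6, 0, 2, 3, 4, 5, 1, 3, 4, 2, 3, 0, 2, 1, 3, 4, 5, 6, 0, 2, 3, 4, 5, 1, 3, 4, 2, 3, 0, 2, 1, 3, 4, 5, 1, 3, 4, 2, 3, 0, 2, 1, 3, 4, 2, 3, 0, 2, 1, 3, 0, 2, 1, 0], 8, 1, 1, [[-1, 0, 0, 0, 0,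 0, 0, 0], [0, -1, 0, 0, 0, 0, 0, 0], [0, 0, -1, 0, 0, 0, 0, 0], [0, 0, 0, -1, 0, 0, 0, 0], [0, 0, 0, 0, -1, 0, 0, 0], [0, 0, 0, 0, 0, -1, 0, 0], [0, 0, 0, 0, 0, 0, -1, 0], [0, 0, 0, 0, 0, 0, 0, -1]], [[[-1, 0, 0, 0, 0, 0, 0, 0]], [[0, -1, 0, 0, 0, 0, 0, 0]], [[0, 0, -1, 0, 0, 0, 0, 0]], [[0, 0, 0, -1, 0, 0, 0, 0]], [[0, 0, 0, 0, -1, 0, 0, 0]], [[0, 0, 0, 0, 0, -1, 0, 0]], [[0, 0, 0, 0, 0, 0, -1, 0]], [[0, 0, 0, 0, 0, 0, 0, -1]]], [[-4, -5, -7, -10, -8, -6, -4, -2], [-5, -8, -10, -15, -12, -9, -6, -3], [-7, -10, -14, -20, -16, -12, -8, -4], [-10, -15, -20, -30, -24, -18, -12, -6], [-8, -12, -16, -24, -20, -15, -10, -5], [-6, -9, -12, -18, -15, -12, -8, -4], [-4, -6, -8, -12, -10, -8, -6, -3], [-2, -3, -4, -6, -5,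 -4, -3, -2]]⟩
  | 3 => ⟨[1, 3, 4, 2, 3, 0, 2, 1, 3, 4, 5, 6, 7, 6, 5, 4, 3, 2, 1, 3, 4, 5, 6, 0, 2, 3, 4, 5, 1, 3, 4, 2, 3, 0, 2, 1, 3, 4, 5, 6, 7, 3, 4, 5, 6, 0, 2, 3, 4, 5, 1, 3, 4, 2, 3, 0, 2, 1, 3, 4, 5, 6, 2, 3, 4, 5, 1, 3, 4, 2, 3, 0, 2, 1, 3, 4, 5, 3, 2, 0], 4, 2, 1, [[-1, -1, -1, -2, -1, -1, -1, 0], [0, 0, 0, 1, 1, 1, 1, 1], [0, 1, 0, 1, 1, 1, 1, 0], [1, 0, 1, 0, 0, 0, 0, 0], [0, 1, 1, 2, 1, 1, 0, 0], [-2, -3, -4, -6, -5, -4, -2, -1], [1, 1, 1, 2, 2, 1, 0, 0], [0, 0, 1, 1, 1, 1, 1, 0]], [[[0, 0, 0, 1, 1, 0, 0, 0], [1, 1, 2, 3, 2, 1, 0, 0]], [[0, 0, 0, 1, 0, 0, 0, 0], [1, 0, 1, 1, 0, 0, 0, 0]], [[0, 0, 0, 0, 1, 0, 1, 0], [1, 2, 2, 4, 4, 2, 1, 0]], [[0, 0, 0, 0, 0, -1, 0, 0], [2, 3, 4, 6, 5, 3, 2, 1]]], [[0,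 -1, -1, -1, 0, 0, 0, 1], [0, 1, 1, 2, 1, 1, 1, 0], [0, 0, 1, 1, 1, 1, 1, 0], [-1, -1, -2, -3, -3, -3, -2, -1]]⟩
  | 4 => ⟨[6, 7, 4, 3, 2, 1, 3, 4, 5, 6, 0, 2, 3, 4, 5, 1, 3, 4, 2, 3, 0, 2, 1, 3, 4, 5, 6, 7, 4, 5, 6, 3, 4, 5, 1, 3, 4, 2, 3, 0, 2, 1, 3, 4, 5, 6, 4, 5, 1, 3, 4, 2, 3, 0, 2, 1, 3, 4, 5, 3], 4, 2, 1, [[0, 0, 0, 1, 0, 0, 0, 0], [1, 1, 1, 2, 2, 1, 0, 0], [1, 1, 1, 1, 1, 1, 1, 0], [-1, 0, 0, 0, 0, 0, 0, 0], [1, 0, 1, 1, 1, 1, 1, 1], [-2, -3, -4, -6, -5, -4, -3, -2], [0, 1, 0, 1, 1, 1, 1, 1], [1, 1, 2, 2, 1, 1, 0, 0]], [[[0, 0, 0, -1, 0, 0, 0, 1], [2, 1, 2, 2, 1, 1, 0, 0]], [[0, 0, 1, 1, 0, 0, 0, 0], [0, 1, 1, 1, 1, 1, 1, 0]], [[1, 0, 0, 0, 0, 0, 0, 0], [0, 0, 0, 1, 0, 0, 0, 0]], [[0, -1, 0, 0, 0, 0, 0,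 0], [-1, -1, -1, -2, -2, -1, 0, 0]]], [[2, 3, 4, 6, 5, 4, 3, 2], [1, 1, 2, 2, 1, -1, 0, 0], [2, 2, 3, 4, 3, 1, 2, 1], [1, 1, 2, 3, 3, 3, 2, 1]]⟩
  | 5 => ⟨[4, 5, 6, 7, 2, 1, 3, 4, 5, 6, 0, 2, 3, 4, 5, 1, 3, 4, 2, 3, 0, 2, 1, 3, 4, 5, 6, 7, 5, 4, 3, 2, 1, 3, 4, 5, 6, 2, 3, 4, 5, 3, 4, 3, 0, 2, 1, 3], 2, 4, 1, [[1, 1, 2, 2, 1, 1, 0, 0], [1, 1, 2, 3, 3, 2, 1, 1], [0, 1, 1, 2, 2, 1, 1, 0], [-2, -3, -4, -6, -5, -3, -2, -1], [2, 3, 3, 5, 4, 3, 2, 1], [0, -1, 0, -1, -1, -1, 0, 0], [-1, 0, -1, -1, -1, -1, -1, 0], [0, -1, -1, -1, -1, -1, -1, -1]], [[[0, 0, 0, 0, 1, 0, 0, 0], [2, 3, 3, 5, 5, 3, 2, 1], [3, 4, 5, 8, 7, 5, 3, 2], [2, 2, 3, 5, 4, 3, 2, 1]], [[0, 0, 1, 0, 0, 0, 0, 0], [0, 1, 2, 2, 2, 1, 1, 0], [0, 2, 2, 3, 3,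 2, 2, 1], [0, 1, 1, 2, 2, 1, 1, 1]]], [[-1, -2, -2, -3, -1, 0, 0, 0], [1, 0, 1, 0, 0, 0, 1, 1]]⟩
  | 6 => ⟨[1, 3, 4, 2, 3, 0, 2, 1, 3, 4, 5, 6, 7, 6, 5, 3, 4, 2, 3, 0, 2, 1, 3, 4, 5, 6, 5, 1, 3, 4, 2, 3, 0, 2, 1, 3, 4, 5, 2, 0], 4, 2, 1, [[0, -1, -1, -2, -1, -1, -1, 0], [0, 1, 0, 1, 1, 1, 1, 1], [0, 1, 1, 1, 1, 1, 1, 0], [1, 0, 1, 1, 0, 0, 0, 0], [0, 1, 1, 2, 2, 1, 0, 0], [-2, -3, -4, -6, -5, -3, -2, -1], [1, 1, 1, 2, 2, 1, 1, 0], [0, 0, 1, 1, 1, 1, 1, 1]], [[[-1, 0, 1, 0, 0, 0, 0, 0], [1, 2, 1, 3, 2, 2, 2, 0]], [[0, 0, 1, 0, 0, 0, 0, 0], [0, 1, 0, 1, 1, 1, 1, 0]], [[0, 0, 0, 0, 0, 0, 0, 1], [0, 0, 1, 1, 1, 1, 1, 0]], [[0, 0, 0, 0, 0, 0, 1, 1], [1, 1, 2, 3, 3, 2, 1, 0]]], [[0, 1, 1, 2, 1, 0, 0, 0], [2, 2, 3, 3,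 3, 3, 2, 1], [2, 3, 4, 6, 5, 5, 3, 2], [0, 0, 0, 0, 0, -1, 0, 0]]⟩
  | 7 => ⟨[7, 6, 4, 5, 1, 3], 1, 6, 1, [[1, 0, 0, 0, 0, 0, 0, 0], [0, 0, 0, 1, 1, 0, 0, 0], [0, 1, 1, 1, 1, 0, 0, 0], [0, -1, 0, -1, -1, 0, 0, 0], [0, 1, 0, 1, 1, 1, 1, 1], [0, 0, 0, 0, -1, -1, -1, -1], [0, 0, 0, 0, 1, 1, 0, 0], [0, 0, 0, 0, 0, 0, 1, 0]], [[[0, 1, 0, 0, 0, 0, 0, 0], [0, 1, 0, 1, 1, 0, 0, 0], [0, 1, 0, 1, 1, 1, 1, 1], [0, 1, 0, 1, 1, 1, 1, 0], [0, 1, 0, 1, 1, 1, 0, 0], [0, 1, 0, 1, 0, 0, 0, 0]]], [[0, 3, 4, 5, 4, 3, 2, 1]]⟩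
  | 8 => ⟨[3, 4, 2, 3, 0, 2, 1, 3, 4, 5, 6, 7, 1, 3, 4, 5, 6, 4, 2, 3, 0, 2, 1, 3, 4, 5, 4, 2, 3, 1], 2, 4, 1, [[0, 0, 1, 1, 1, 1, 1, 0], [-1, -1, -2, -2, -2, -1, -1, -1], [1, 1, 1, 2, 1, 1, 1, 1], [0, 0, 0, 0, 1, 0, 0, 0], [1, 1, 2, 2, 1, 1, 0, 0], [-2, -2, -3, -4, -3, -2, -1, 0], [1, 2, 2, 3, 2, 1, 1, 0], [0, -1, -1, -2, -1, 0, 0, 0]], [[[0, 0, 0, 0, 1, 0, 0, 0], [1, 1, 2, 2, 1, 1, 0, 0], [0, 0, 0, 1, 1, 1, 1, 1], [0, 0, 0, -1, 0, 0, 0, 0]], [[0, 0, 0, 0, 0, 0, 1, 0], [1, 2, 2, 3, 2, 1, 1, 0], [1, 2, 2, 4, 3, 2, 1, 0], [0, 1, 1, 2, 2, 1, 0, 0]]], [[1, 0, 1, 1, 1, 0, 0, 0], [0, 0, 1, 1, 1, 1, 1, 0]]⟩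
  | 9 => ⟨[3, 4, 5, 0, 2, 3, 4, 3, 0, 2, 1, 0], 1, 6, 1, [[0, 0, 0, 0, -1, -1, 0, 0], [-1, -1, -1, -2, -1, -1, 0, 0], [0, 0, -1, -1, 0, 0, 0, 0], [1, 1, 2, 3, 2, 1, 0, 0], [-1, 0, -1, -1, -1, 0, 0, 0], [1, 0, 1, 0, 0, 0, 0, 0], [0, 0, 0, 1, 1, 1, 1, 0], [0, 0, 0, 0, 0, 0, 0, 1]], [[[0, 0, 1, 1, 0, 0, 0, 0], [1, 1, 1, 2, 2, 1, 0, 0], [0, 1, 1, 1, 0, 0, 0, 0], [0, 0, 1, 1, 1, 0, 0, 0], [0, 1, 0, 1, 1, 1, 0, 0], [0, 0, 1, 0, 0, 0, 0, 0]]], [[1, 1, 2, 3, 2, 2, 1, 0]]⟩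
  | 10 => ⟨[4, 2, 3, 0, 2, 1, 3, 4, 5, 6, 7, 2, 1, 3, 4, 5, 6, 3, 4, 5, 0, 2, 1, 3], 2, 4, 1, [[1, 0, 1, 1, 1, 1, 0, 0], [1, 1, 1, 2, 2, 1, 1, 0], [0, 1, 1, 1, 1, 1, 1, 0], [-1, -2, -2, -3, -3, -2, -1, 0], [1, 2, 2, 3, 3, 2, 1, 1], [0, 0, 0, 0, -1, -1, -1, -1], [-1, -1, -1, -1, 0, 0, 0, 0], [0, 0, -1, -1, -1, 0, 0, 0]], [[[0, 0, 1, 0, 0, 0, 0, 0], [0, 1, 0, 1, 1, 1, 1, 0], [0, 0, 1, 1, 1, 0, 0, 0], [0, 1, 0, 1, 1, 1, 1, 1]], [[0, 1, 0, 0, 1, 0, 0, 0], [2, 2, 3, 5, 4, 3, 2, 1], [1, 2, 2, 3, 3, 2, 1, 1], [2, 2, 3, 5, 3, 3, 2, 1]]], [[1, 1, 2, 2, 2, 2, 2, 1], [1, 1, 1, 1, 0, -1, 0, 0]]⟩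
  | 12 => ⟨[0, 2, 3, 4, 5, 6, 7, 5, 6, 2, 3, 0, 2, 1, 3, 4, 5, 2, 3, 1], 2, 4, 1, [[1, 1, 1, 1, 1, 0, 0, 0], [-1, -1, -2, -2, -1, -1, -1, 0], [0, 0, 0, 1, 1, 1, 1, 0], [0, 0, 1, 0, 0, 0, 0, 0], [1, 1, 1, 2, 1, 1, 1, 1], [-1, -1, -2, -3, -2, -1, -1, -1], [1, 1, 2, 3, 2, 1, 0, 0], [-1, 0, -1, -1, -1, -1, 0, 0]], [[[0, 0, 0, 0, 0, 0, 1, 0], [1, 1, 2, 3, 2, 1, 0, 0], [1, 1, 2, 2, 2, 2, 1, 1], [0, 1, 0, 1, 1, 1, 1, 0]], [[1, 0, 1, 0, 0, 0, 0, 0], [1, 1, 1, 2, 2, 1, 1, 0], [1, 2, 2, 4, 3, 2, 1, 1], [0, 1, 1, 1, 1, 1, 1, 1]]], [[1, 1, 2, 3, 2, 2, 2, 1], [1, 1, 1, 1, 0, 0, 0, 0]]⟩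
  | 14 => ⟨[7, 6, 3, 0, 2, 1, 3, 4, 5, 4, 2], 1, 6, 2, [[0, 1, 1, 1, 0, 0, 0, 0], [1, 0, 1, 0, 0, 0, 0, 0], [0, -1, 0, 0, 0, 0, 0, 0], [0, 1, 0, 1, 1, 1, 1, 1], [0, 0, 0, 0, 0, -1, -1, -1], [-1, -1, -1, -2, -1, 0, 0, 0], [1, 1, 1, 2, 1, 1, 0, 0], [0, 0, 0, 0, 0, 0, 1, 0]], [[[0, 0, -1, 0, -1, -1, 0, 0], [1, 2, 2, 2, 2, 2, 1, 1], [1, 0, 1, 1, 0, 0, 1, 0], [1, 2, 3, 4, 3, 3, 1, 1], [0, 0, 0, 1, 1, 1, 2, 1], [1, 2, 2, 3, 3, 3, 1, 0]]], [[0, 1, 0, 1, 0, 0, 0, 0]]⟩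
  | 15 => ⟨[0, 2, 1, 3, 4, 5, 6, 7, 3, 4, 5, 6, 0, 2, 1, 3], 1, 8, 1, [[0, 1, 0, 1, 1, 0, 0, 0], [0, 1, 1, 1, 1, 1, 0, 0], [1, 0, 1, 1, 1, 1, 0, 0], [-1, -1, -2, -2, -2, -1, 0, 0], [1, 1, 2, 2, 2, 1, 1, 0], [0, 0, 0, 0, 0, 0, 0, 1], [0, 0, 0, 0, -1, -1, -1, -1], [-1, -1, -1, -1, 0, 0, 0, 0]], [[[0, 1, 0, 0, 0, 0, 0, 0], [0, 0, 1, 1, 1, 1, 0, 0], [1, 0, 1, 1, 1, 1, 1, 1], [0, 1, 0, 1, 1, 0, 0, 0], [0, 0, 1, 1, 1, 1, 1, 0], [1, 1, 1, 1, 0, 0, 0, 0], [0, 1, 0, 1, 1, 1, 0, 0], [0, 0, 1, 1, 1, 1, 1, 1]]], [[0, 0, 0, -1, 0, 0, 0, 0]]⟩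
  | 18 => ⟨[5, 6, 3, 4, 0, 2, 1], 1, 6, 1, [[0, 0, 1, 1, 0, 0, 0, 0], [0, -1, 0, -1, 0, 0, 0, 0], [-1, 0, -1, -1, 0, 0, 0, 0], [1, 1, 1, 2, 1, 1, 0, 0], [0, 0, 0, -1, -1, -1, 0, 0], [0, 0, 0, 1, 1, 1, 1, 0], [0, 0, 0, 0, 0, -1, -1, 0], [0, 0, 0, 0, 0, 1, 1, 1]], [[[0, 0, 0, 0, 0, 1, 0, 0], [0, 0, 0, 1, 1, 1, 1, 0], [1, 1, 1, 2, 1, 0, 0, 0], [1, 1, 2, 2, 1, 0, 0, 0], [0, 1, 1, 1, 1, 1, 0, 0], [0, 0, 0, 0, 1, 1, 1, 0]]], [[1, 0, 1, 1, 1, 1, 0, 0]]⟩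
  | 20 => ⟨[6, 7, 4, 5, 6, 4, 5, 0, 2, 1, 3, 4, 0, 2, 3, 0], 1, 8, 1, [[0, -1, 0, -1, -1, -1, -1, 0], [1, 1, 2, 2, 2, 2, 2, 1], [0, 1, 0, 1, 1, 1, 1, 1], [0, -1, -1, -1, -1, -1, -1, -1], [-1, 0, 0, 0, 0, 0, 0, 0], [1, 1, 1, 1, 1, 0, 0, 0], [0, 0, 0, 0, -1, 0, 0, 0], [0, 0, 0, 0, 1, 1, 0, 0]], [[[0, 0, 1, 0, 0, 0, 0, 0], [0, 1, 0, 1, 1, 1, 1, 1], [1, 1, 1, 2, 2, 2, 1, 0], [1, 1, 2, 2, 1, 0, 0, 0], [0, 0, 1, 1, 1, 1, 1, 1], [0, 1, 0, 1, 1, 1, 0, 0], [1, 1, 1, 2, 2, 1, 1, 0], [0, 0, 1, 1, 0, 0, 0, 0]]], [[0, 1, 1, 1, 1, 1, 1, 0]]⟩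
  | 24 => ⟨[6, 7, 0, 2, 3, 4, 5, 2, 3, 1], 1, 8, 1, [[0, 0, 1, 1, 0, 0, 0, 0], [-1, -1, -1, -2, -1, 0, 0, 0], [0, 0, 0, 0, 1, 0, 0, 0], [1, 1, 1, 1, 0, 0, 0, 0], [0, 0, 0, 1, 1, 1, 1, 0], [-1, 0, -1, -1, -1, -1, -1, 0], [1, 0, 1, 1, 1, 1, 1, 1], [0, 0, 0, 0, 0, 0, -1, -1]], [[[1, 0, 0, 0, 0, 0, 0, 0], [0, 0, 1, 1, 0, 0, 0, 0], [1, 1, 1, 1, 1, 0, 0, 0], [0, 0, 1, 1, 1, 1, 1, 0], [0, 1, 1, 2, 2, 1, 1, 1], [1, 1, 1, 2, 2, 2, 1, 0], [0, 1, 1, 2, 1, 1, 1, 1], [1, 1, 1, 1, 1, 1, 0, 0]]], [[1, 0, 1, 1, 1, 1, 1, 1]]⟩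
  | 30 => ⟨[4, 5, 6, 7, 0, 2, 1, 3], 1, 8, 1, [[0, 0, 1, 0, 0, 0, 0, 0], [1, 0, 1, 1, 1, 0, 0, 0], [0, 1, 0, 1, 1, 0, 0, 0], [-1, -1, -1, -1, -1, 0, 0, 0], [1, 1, 1, 1, 1, 1, 0, 0], [0, 0, 0, 0, 0, 0, 1, 0], [0, 0, 0, 0, 0, 0, 0, 1], [0, 0, 0, 0, -1, -1, -1, -1]], [[[1, 0, 0, 0, 0, 0, 0, 0], [1, 0, 1, 0, 0, 0, 0, 0], [0, 1, 1, 1, 1, 0, 0, 0], [0, 1, 1, 2, 2, 1, 0, 0], [0, 1, 1, 2, 2, 2, 1, 0], [0, 1, 1, 2, 2, 2, 2, 1], [1, 1, 1, 2, 1, 1, 1, 1], [1, 0, 1, 1, 0, 0, 0, 0]]], [[1, 1, 1, 2, 2, 1, 1, 0]]⟩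
  | _ => ⟨[], 0, 0, 0, [], [], []⟩

theorem okE8 : ∀ d ∈ [1, 2, 3, 4, 5, 6, 7, 8, 9, 10, 12, 14, 15, 18, 20, 24, 30], fastE8.chkHC (hcE8 d) (phiL d) = true ∧ (hcE8 d).N ∣ [2, 8, 12, 14, 18, 20, 24, 30].prod ∧
    (hcE8 d).a = ([2, 8, 12, 14, 18, 20, 24, 30].filter (d ∣ ·)).length ∧ (hcE8 d).k + 1 = (phiL d).length := by decide +kernel

/-- Sylow subgroups for primes away from the characteristic and the Weyl group. Let `G` be the Chevalley group of type G₂, B₂, D₄, F₄, E₆, E₇ or E₈ over a field with `q` elements, with the degrees of its Weyl group listed beside the type (their product is the order of the Weyl group), and let `r` be a prime dividing the order of `G`, not dividing `q` and not dividing the order of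 the Weyl group. Let `d` be the multiplicative order of `q` modulo `r`, `a` the number of degrees divisible by `d`, and `m` the `r`-part of the value at `q` of the `d`-th cyclotomic polynomial. Then every Sylow `r`-subgroup of `G` is homocyclic: a direct product of `a` cyclic groups of order `m` (in particular abelian). -/
theorem result {F : Type*} [Field F] [Fintype F] {q : ℕ} (hq : Fintype.card F = q)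
    (c : Cfsg.Lie.ChevalleyDatum × List ℕ)
    (hc : c ∈ [(Cfsg.Lie.chevG2, [2, 6]), (Cfsg.Lie.chevB2, [2, 4]), (Cfsg.Lie.chevD4, [2, 4, 4, 6]), (Cfsg.Lie.chevF4, [2, 6, 8, 12]),
      (Cfsg.Lie.chevE6, [2, 5, 6, 8, 9, 12]), (Cfsg.Lie.chevE7, [2, 6, 8, 10, 12, 14, 18]), (Cfsg.Lie.chevE8, [2, 8, 12, 14, 18, 20, 24, 30])])
    (r : ℕ) [Fact r.Prime] (hrq : ¬ r ∣ q) (hrW : ¬ r ∣ c.2.prod) (hrG : r ∣ Nat.card ↥(c.1.group F)) (P : Sylow r ↥(c.1.group F)) :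
    Nonempty (↥(P : Subgroup ↥(c.1.group F)) ≃*
      (Fin (c.2.filter (fun e => orderOf (q : ZMod r) ∣ e)).length →
        Multiplicative (ZMod (r ^ padicValNat r ((Polynomial.cyclotomic (orderOf (q : ZMod r)) ℤ).eval (q : ℤ)).natAbs)))) := by
  simp only [List.mem_cons, List.not_mem_nil, or_false] at hc
  rcases hc with rfl | rfl | rfl | rfl | rfl | rfl | rfl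
  · exact sylow_homo agreeG2 hq (fun _ _ => torS_G2 _) _ (by decide) (n := 6) (dvd_of_eq ((S1059.result hq).trans (by simp [mul_assoc])))
      hcG2 phiL _ (by decide) okG2 (fun d hd => phi_ok d (by revert d; decide)) r hrq hrW hrG P
  · exact sylow_homo agreeB2 hq (fun _ _ => torS_sgB2) _ (by decide) (n := 4) (Dvd.intro_left _ ((S1060.result hq).trans (by simp [mul_assoc])))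
      hcB2 phiL _ (by decide) okB2 (fun d hd => phi_ok d (by revert d; decide)) r hrq hrW hrG P
  · exact sylow_homo agreeD4 hq (fun _ _ => torS_sgD4) _ (by decide) (n := 12) (Dvd.intro_left _ ((S1061.result hq).trans (by simp [mul_assoc])))
      hcD4 phiL _ (by decide) okD4 (fun d hd => phi_ok d (by revert d; decide)) r hrq hrW hrG P
  · exact sylow_homo agreeF4 hq (fun _ _ => torS_F4 _) _ (by decide) (n := 24) (dvd_of_eq ((S1062.result hq).trans (by simp [mul_assoc])))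
      hcF4 phiL _ (by decide) okF4 (fun d hd => phi_ok d (by revert d; decide)) r hrq hrW hrG P
  · exact sylow_homo agreeE6 hq (fun _ _ => torS_sgE6) _ (by decide) (n := 36) (Dvd.intro_left _ ((S1063.result hq).trans (by simp [mul_assoc])))
      hcE6 phiL _ (by decide) okE6 (fun d hd => phi_ok d (by revert d; decide)) r hrq hrW hrG P
  · exact sylow_homo agreeE7 hq (fun _ _ => torS_sgE7) _ (by decide) (n := 63) (Dvd.intro_left _ ((S1064.result hq).trans (by simp [mul_assoc])))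
      hcE7 phiL _ (by decide) okE7 (fun d hd => phi_ok d (by revert d; decide)) r hrq hrW hrG P
  · exact sylow_homo agreeE8 hq (fun _ _ => torS_E8 _) _ (by decide) (n := 120) (dvd_of_eq ((S1065.result hq).trans (by simp [mul_assoc])))
      hcE8 phiL _ (by decide) okE8 (fun d hd => phi_ok d (by revert d; decide)) r hrq hrW hrG P

end Cfsg.Agent.S2378
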