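import Cfsg.Statements.S3767
import Cfsg.Agent.H20.McK2
import Cfsg.Agent.H24.Extra
import Cfsg.Agent.BG.Api2
-- import your own Cfsg.Agent.* helpers here

set_option autoImplicit false
open Cfsg

namespace Cfsg.Agent.S3767

open H24 H05 BG Subgroup
open scoped ComplexConjugate

theorem arith {h s : ℕ} {ι : Type*} [Fintype ι] (m : ι → ℕ) (h0 : 0 < h) (hι : Fintype.card ι ≤ h) (h1 : ∑ i, m i = s)
    (h2 : h * ∑ i, m i ^ 2 + 1 = s ^ 2 + h) (hc : h.Coprime s) : h ∣ s + 1 ∨ h ∣ s - 1 := by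
  have h3 := Nat.div_add_mod s h
  have h4 := Nat.mod_lt s h0
  generalize s / h = a at *
  generalize s % h = t at *
  have h5 : (0 : ℤ) ≤ ∑ i, ((m i : ℤ) ^ 2 - (2 * a + 1) * m i + a * (a + 1)) := Finset.sum_nonneg fun i _ => by
    rcases le_or_gt (m i : ℤ) a with h | h <;> nlinarith
  rw [Finset.sum_add_distrib, Finset.sum_sub_distrib, ← Finset.mul_sum, Finset.sum_const, Finset.card_univ, nsmul_eq_mul] at h5
  zify at h1 h2 h3 h4 hι h0
  rw [h1] at h5
  have h6 : (0 : ℤ) ≤ (t - 1) * (t + 1 - h) := by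
    have := mul_nonneg h0.le (h5.trans (add_le_add_right (mul_le_mul_of_nonneg_right hι (by positivity)) _))
    rw [← h3] at h2 this; nlinarith
  have h7 : t ≤ 1 ∨ t + 1 = h := by
    by_contra! h7
    have : (t : ℤ) + 1 ≠ h := by exact_mod_cast h7.2
    have : (1 : ℤ) < t := by exact_mod_cast h7.1
    have : (t : ℤ) + 1 < h := by omega
    nlinarith
  have h3 : h * a + t = s := by exact_mod_cast h3
  rcases h7 with h7 | h7
  · interval_cases t
    · exact Or.inl (by rw [hc.eq_one_of_dvd ⟨a, h3.symm⟩]; exact one_dvd _)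
    · exact Or.inr ⟨a, by omega⟩
  · exact Or.inl ⟨a + 1, by rw [mul_add]; omega⟩

theorem norm_eq {X : Type*} [Group X] [Finite X] {K R Z : Subgroup X} {ψ : X → ℂ} (h : IrrOn (K ⊔ R) ψ) (hK : IrrOn K ψ)
    (hR : R ≤ N_(K)) (hcop : (Nat.card R).Coprime (Nat.card K)) (hZ : Z ≤ K) (hZc : Z ≤ C_(K ⊔ R))
    (hcR : ∀ r ∈ R, r ≠ 1 → K ⊓ centralizer {r} ≤ Z) :
    ssum R (fun x => ψ x * conj (ψ x)) + 1 = (fdim ⊥ ψ : ℂ) ^ 2 + Nat.card R := by
  have hc' := h.charOn
  have hZG : Z ≤ K ⊔ R := hZ.trans le_sup_left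
  have hL : K ⊔ R ≤ N_(Z) := (le_centralizer_iff.mp hZc).trans (centralizer_le_normalizer _)
  have hKL := le_sup_left.trans hL
  have hRL := le_sup_right.trans hL
  have hd : K ⊓ R = ⊥ := H24.inf_eq_bot_of_coprime hcop.symm
  have hfp := fpf_im (qm Z) hKL hRL hR (H01.coprime_of_le_right hcop inf_le_left) (by rwa [kr_qm])
  have hF : ∀ r ∈ R, r ≠ 1 → ∀ k ∈ K, ψ (k * r) * conj (ψ (k * r)) = ψ r * conj (ψ r) := by
    intro r hr' h1 k hk
    have h3 : qm Z ⟨r, hRL hr'⟩ ≠ 1 := fun h4 => h1 (hd.le ⟨hZ (kr_qm Z ▸ mem_kr.mpr ⟨_, h4⟩), hr'⟩)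
    obtain ⟨_, ⟨c, hcK, rfl⟩, h4⟩ := exists_eq_commutator_of_fpf
      (im_le_normalizer hR (mem_im_of hr' (hRL hr'))) (hfp _ (mem_im_of hr' _) h3) (mem_im_of (f := qm Z) hk (hKL hk))
    have h5 : k * (c * r * (c : X)⁻¹ * r⁻¹)⁻¹ ∈ Z := by
      refine (kr_qm Z).le ((coe_mem_kr
        (x := ⟨k, hKL hk⟩ * (c * ⟨r, hRL hr'⟩ * c⁻¹ * ⟨r, hRL hr'⟩⁻¹)⁻¹)).mpr ?_)
      simp only [map_mul, map_inv]
      rw [← h4, mul_inv_cancel]
    have hcG : (c : X) ∈ K ⊔ R := mem_sup_left hcK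
    have hrG : r ∈ K ⊔ R := mem_sup_right hr'
    have h6 : k * r = (k * (c * r * (c : X)⁻¹ * r⁻¹)⁻¹) * (c * r * (c : X)⁻¹ * r⁻¹ * r) := by group
    rw [inv_mul_cancel_right] at h6
    rw [h6, h.apply_mul_central (hZG h5) (hZc h5) (mul_mem (mul_mem hcG hrG) (inv_mem hcG)),
      hc'.conj_eq hrG hcG, Complex.mul_conj', Complex.mul_conj', norm_mul, norm_div,
      h.norm_central (hZG h5) (hZc h5), ← hc'.fdim_bot, Complex.norm_natCast,
      div_self (by exact_mod_cast h.fdim_bot_pos.ne'), one_mul]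
  have h3 := ssum_frobenius hR hd (f := fun x => ψ x * conj (ψ x)) hF
  rw [h.ssum_normSq, hK.ssum_normSq, card_sup_of_disj hR hd, ← hc'.fdim_bot, Complex.conj_natCast] at h3
  apply mul_left_cancel₀ (Nat.cast_ne_zero.2 (card_ne_zero K) : (Nat.card K : ℂ) ≠ 0)
  push_cast at h3
  linear_combination -h3

/-- Let P be an extraspecial p-group of order p^(2n+1) and H a cyclic group of order h prime to p acting on P (inside a common finite group: H normalizes P) so that C_P(x) = Z(P) for every non-identity x ∈ H. Then h divides p^n + 1 or h divides p^n − 1. -/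
theorem result {G : Type*} [Group G] [Finite G] {p : ℕ} [Fact p.Prime] (P H : Subgroup G) (hP : Cfsg.IsExtraspecial p ↥P) (n : ℕ) (hn : Nat.card P = p ^ (2 * n + 1)) (hH : IsCyclic H) (hcop : (Nat.card H).Coprime p) (hHP : H ≤ Subgroup.normalizer (P : Set G)) (hfix : ∀ x ∈ H, x ≠ 1 → P ⊓ Subgroup.centralizer {x} = (Subgroup.center ↥P).map P.subtype) : Nat.card H ∣ p ^ n + 1 ∨ Nat.card H ∣ p ^ n - 1 := by
  classical
  have hp : p.Prime := Fact.out
  by_cases h0 : H = ⊥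
  · simp [h0]
  obtain ⟨⟨-, -, h1⟩, h2⟩ := hP
  set Z := (center P).map P.subtype with hZ
  have hZP : Z ≤ P := map_subtype_le _
  have hZe : P ⊓ C_(P) = Z := by
    ext x; exact ⟨fun ⟨h1, h2⟩ => ⟨⟨x, h1⟩, mem_center_iff.2 fun g => Subtype.ext (h2 g g.2), rfl⟩,
      fun ⟨y, hy, e⟩ => e ▸ ⟨y.2, fun g hg => congrArg Subtype.val (mem_center_iff.1 hy ⟨g, hg⟩)⟩⟩
  have hZc : Z ≤ C_(P) := hZe.ge.trans inf_le_right
  have hZH : Z ≤ C_(H) := fun z hz x hx => by
    by_cases e : x = 1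
    · simp [e]
    · exact ((hfix x hx e).ge hz).2 x rfl
  have h3 : ⁅P, P⁆ ≤ Z := by rw [hZ, ← h1, map_subtype_commutator]
  have h4 : Nat.card Z = p := by rw [hZ, card_map_of_injective P.subtype_injective, h2]
  obtain ⟨z, hz, hz1⟩ : ∃ z ∈ Z, z ≠ 1 := by
    by_contra! h; exact ne_bot_of_prime (h4 ▸ hp) ((eq_bot_iff_forall _).2 h)
  obtain ⟨θ, hθ⟩ := not_forall.1 fun h => hz1 (congrArg Subtype.val (eq_one_of_forall_irr (g := (⟨z, hZP hz⟩ : P)) h))
  have h5 := irrOn_extend θ.2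
  have h6 : ∀ y ∈ Z, extendByZero P θ.1 y = extendByZero P θ.1 1 → y = 1 := fun y hy e => by
    rcases BG.eq_bot_or_eq_of_prime (h4 ▸ hp) (inf_le_left : Z ⊓ kerOn P (extendByZero P θ.1) ≤ Z) with h | h
    · exact h.le ⟨hy, h5.charOn.mem_kerOn.2 ⟨hZP hy, e⟩⟩
    · have := (h5.charOn.mem_kerOn.1 (h.ge hz).2).2
      rw [extend_apply _ (hZP hz), extend_apply _ (one_mem _)] at this
      exact absurd this hθ
  obtain ⟨a, rfl⟩ := (Subgroup.isCyclic_iff_exists_zpowers_eq_top _).1 hH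
  have ha := hHP (mem_zpowers a)
  obtain ⟨χ, h7, h8⟩ := H20.ext_of_cyclic (a := a) rfl θ.2 ⟨ha, fun g => by
    by_cases hg : g.1 ∈ Z
    · exact congrArg _ (Subtype.ext (mul_inv_eq_iff_eq_mul.2 (hZH hg a (mem_zpowers a))))
    · rw [← extend_apply θ.1 g.2, ← extend_apply θ.1 (H07.cjA ha g).2, h5.vanish le_rfl hZP hZc h3 hZe.le h6 g.2 hg,
        h5.vanish le_rfl hZP hZc h3 hZe.le h6 (H07.cjA ha g).2 fun h => hg ?_]
      have := hZH h a (mem_zpowers a)
      rwa [show (g : G) = H07.cjA ha g from mul_left_cancel (a := a) (by rw [this]; simp)]⟩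
  have h9 : ∀ x ∈ P, extendByZero _ χ x = extendByZero P θ.1 x := fun x hx => by
    rw [extend_apply _ hx, extend_apply _ (mem_sup_left hx), h8 ⟨x, hx⟩]
  have h10 : IrrOn P (extendByZero _ χ) := by
    have : (fun g : P => extendByZero _ χ g) = fun g : P => extendByZero P θ.1 g := funext fun g => h9 g g.2
    rw [IrrOn, this]; exact h5
  have h11 : IrrOn (P ⊔ zpowers a) (extendByZero _ χ) :=
    H05.Cfsg.IsIrrCharacter.of_comp (charOn_extend h7) (inclusion le_sup_left) h10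
  have h12 := norm_eq h11 h10 hHP (hn ▸ hcop.pow_right _) hZP (by rw [cent_sup]; exact le_inf hZc hZH)
    fun r hr e => (hfix r hr e).le
  have h13 := h10.card_eq_sq hZP hZc h3 hZe.le fun y hy e => h6 y hy (by rwa [← h9 _ (hZP hy), ← h9 _ (one_mem _)])
  rw [hn, h4, pow_succ, mul_left_inj' hp.ne_zero, mul_comm, pow_mul, Nat.pow_left_inj two_ne_zero] at h13
  have := Fintype.ofFinite (zpowers a)
  have := Fintype.ofFinite (IrrCharacter (zpowers a))
  have h14 := h11.charOn.mono le_sup_right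
  obtain ⟨m, h15, h16⟩ := H05.Cfsg.IsCharacter.exists_nat_coeff h14
  refine arith m Nat.card_pos ?_ ?_ ?_ (hcop.pow_right n)
  · rw [← Nat.card_eq_fintype_card, card_irr_eq_card_conjClasses]
    exact Nat.card_le_card_of_surjective _ ConjClasses.mk_surjective
  · have := congrFun h16 1
    simp only [Finset.sum_apply, Pi.smul_apply, H05.Cfsg.IsIrrCharacter.apply_one_of_comm (Subtype.prop _), smul_eq_mul, mul_one,
      OneMemClass.coe_one, ← h14.fdim_bot, ← h13] at this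
    exact_mod_cast this.symm
  · rw [ssum_eq, ← card_mul_classInner, h16, classInner_sum_smul_sum_smul, ← h13] at h12
    simp only [Complex.conj_natCast, ← sq] at h12
    exact_mod_cast h12

end Cfsg.Agent.S3767
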