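import Mathlib
import Cfsg.Statements.S0214
import Cfsg.Agent.H08.StronglyEmbedded

set_option autoImplicit false
open Cfsg

namespace Cfsg.Agent.S0214

/-- Let H be a proper subgroup of the finite group G and P a nontrivial Sylow 2-subgroup of H. Then H is strongly embedded in G if and only if N_G(X) ≤ H for every nontrivial subgroup X of P. -/
theorem result {G : Type*} [Group G] [Finite G] (H : Subgroup G) (hH : H ≠ ⊤) (P : Sylow 2 ↥H) (hP : (P : Subgroup ↥H) ≠ ⊥) : Cfsg.IsStronglyEmbedded H ↔ (∀ X : Subgroup ↥H, X ≤ (P : Subgroup ↥H) → X ≠ ⊥ → Subgroup.normalizer ((X.map H.subtype : Subgroup G) : Set G) ≤ H) := by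
  constructor
  · intro h X hX hX1 g hg
    obtain ⟨t, ht, h2⟩ := (H08.even_card_iff (H := X)).1 (even_iff_two_dvd.2
      ((P.2.to_le hX).card_eq_or_dvd.resolve_left fun h => hX1 (Subgroup.card_eq_one.1 h)))
    refine H08.SE.mem_of_conj_mem h t.2 (by rw [Subgroup.orderOf_coe, h2]) ?_
    exact Subgroup.map_subtype_le X ((Subgroup.mem_normalizer_iff.1 hg t).1 ⟨t, ht, rfl⟩)
  · intro h
    rw [H08.isStronglyEmbedded_iff]
    refine ⟨hH, H08.even_card_iff.1 (even_iff_two_dvd.2 ((P.2.card_eq_or_dvd.resolve_left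
      fun h => hP (Subgroup.card_eq_one.1 h)).trans (Subgroup.card_subgroup_dvd_card _))),
      fun t ht h2 g hg => ?_⟩
    refine H08.mem_of_normalizer_le (p := 2) (fun X => X ≠ ⊥) (fun X Y hX hXY hY => hX (by
      rw [hY] at hXY; exact le_bot_iff.1 hXY)) (fun X g hX hb => hX ?_) (fun X hXH hX hX1 => ?_)
      (H08.isPGroup_zpowers_of_orderOf h2) (by simpa using H08.ne_one_of_orderOf h2)
      (Subgroup.zpowers_le.2 ht) ?_
    · rwa [Subgroup.map_eq_bot_iff_of_injective _ (MulAut.conj g).injective] at hb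
    · obtain ⟨a, ha, hc⟩ := H08.exists_conj_le_sylow_of_le P hX hXH
      have hle : X.map (MulAut.conj a).toMonoidHom ≤ (P : Subgroup H).map H.subtype := by
        rintro _ ⟨x, hx, rfl⟩; exact hc x hx
      have hle' := hle.trans (Subgroup.map_subtype_le _)
      have := h ((X.map (MulAut.conj a).toMonoidHom).subgroupOf H)
        (by rw [← Subgroup.map_le_map_iff_of_injective H.subtype_injective,
              Subgroup.map_subgroupOf_eq_of_le hle']; exact hle)
        (fun hb => hX1 (by
          have := congrArg (Subgroup.map H.subtype) hb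
          rwa [Subgroup.map_subgroupOf_eq_of_le hle', Subgroup.map_bot,
            Subgroup.map_eq_bot_iff_of_injective _ (MulAut.conj a).injective] at this))
      rw [Subgroup.map_subgroupOf_eq_of_le hle'] at this
      intro n hn
      have h3 : a * n * a⁻¹ ∈ H := this (by
        rw [← H08.map_conj_eq_iff, H08.map_conj_map_conj, inv_mul_cancel_right,
          ← H08.map_conj_map_conj, H08.map_conj_eq_iff.2 hn])
      simpa [mul_assoc] using mul_mem (mul_mem (inv_mem ha) h3) ha
    · intro x hx
      obtain ⟨k, rfl⟩ := Subgroup.mem_zpowers_iff.1 hx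
      rw [← conj_zpow]; exact zpow_mem hg k

end Cfsg.Agent.S0214
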