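import Mathlib
import Cfsg.Statements.S0224
import Cfsg.Agent.H08.StronglyEmbedded

set_option autoImplicit false
open Cfsg

namespace Cfsg.Agent.S0224

/-- Let H be a proper subgroup of even order of the finite group G. Then H is strongly embedded if and only if each involution of H fixes exactly one point (namely the coset H) in the action of G on the cosets of H. -/
theorem result {G : Type*} [Group G] [Finite G] (H : Subgroup G) (hH : H ≠ ⊤) (heven : Even (Nat.card H)) : Cfsg.IsStronglyEmbedded H ↔ ∀ t ∈ H, orderOf t = 2 → Nat.card {c : G ⧸ H // t • c = c} = 1 := by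
  have key : ∀ t g : G, t • (g : G ⧸ H) = g ↔ g⁻¹ * t * g ∈ H := by
    intro t g
    rw [eq_comm, MulAction.Quotient.smul_mk, QuotientGroup.eq, smul_eq_mul, mul_assoc]
  rw [H08.isStronglyEmbedded_iff]
  constructor
  · rintro ⟨-, -, h⟩ t ht h2
    rw [Nat.card_eq_one_iff_exists]
    refine ⟨⟨((1 : G) : G ⧸ H), (key t 1).2 (by simpa using ht)⟩, ?_⟩
    rintro ⟨c, hc⟩
    obtain ⟨g, rfl⟩ := QuotientGroup.mk_surjective c
    have hg := (key t g).1 hc
    refine Subtype.ext (QuotientGroup.eq.2 ?_)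
    have h3 := h _ hg (by rw [← h2, ← H08.orderOf_conj' g⁻¹ t, inv_inv]) g (by simpa [mul_assoc] using ht)
    simpa using h3
  · intro h
    refine ⟨hH, H08.even_card_iff.1 heven, fun t ht ht2 g hg => ?_⟩
    obtain ⟨c, hc⟩ := Nat.card_eq_one_iff_exists.1 (h t ht ht2)
    have h1 := hc ⟨((1 : G) : G ⧸ H), (key t 1).2 (by simpa using ht)⟩
    have h2 := hc ⟨((g⁻¹ : G) : G ⧸ H), (key t g⁻¹).2 (by simpa using hg)⟩
    have h3 := QuotientGroup.eq.1 (Subtype.mk.inj (h2.trans h1.symm))
    simpa using h3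

end Cfsg.Agent.S0224
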