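import Mathlib
import Cfsg.Statements.S0504
import Cfsg.Agent.H22.SigW2
import Cfsg.Agent.S1221

set_option autoImplicit false
open Cfsg

namespace Cfsg.Agent.S0504

open BG H22

/-- Let G be a finite group containing an elementary abelian subgroup of order 8, with no nontrivial normal subgroup of
odd order, not of component type, and with a Sylow 2-subgroup whose commuting graph of Klein four-subgroups is
connected. Then every 2-local subgroup H of G satisfies C_H(O₂(H)) ≤ O₂(H). -/
theorem result {G : Type*} [Group G] [Finite G]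
    (h3 : ¬ Cfsg.PRankLE 2 2 G) (hO : Cfsg.oddCore G = ⊥) (hc : ¬ Cfsg.IsComponentType G) (S : Sylow 2 G)
    (hS : Cfsg.IsFourConnected (S : Subgroup G)) : Cfsg.IsCharacteristicTwoType G := by
  have hS' := isSylowIn_top Nat.prime_two S
  have hr : ¬ PRankLE 2 2 (S : Subgroup G) := (hS'.pRankLE_iff Nat.prime_two).not.2 (pRankLE_top.not.2 h3)
  obtain ⟨U, h⟩ := exists_ws (lay_of_not_comp hc) hS' hr
  exact h.char_two S1221.result hO (rank_cent_of_conn S.2 hr hS)

end Cfsg.Agent.S0504
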