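import Mathlib
import Cfsg.Statements.S0647
import Cfsg.Agent.H17.Thompson

set_option autoImplicit false
open Cfsg

namespace Cfsg.Agent.S0647

/-- For a nonempty family of maximal abelian subgroups of a finite group, the intersection of the family is the centre of the subgroup it generates, which is also the full centralizer of that subgroup. -/
theorem result {S : Type*} [Group S] [Finite S] (𝒜 : Set (Subgroup S)) (hne : 𝒜.Nonempty) (hab : ∀ A ∈ 𝒜, IsMulCommutative A) (hmax : ∀ A ∈ 𝒜, ∀ B : Subgroup S, IsMulCommutative B → A ≤ B → B = A) : sInf 𝒜 = sSup 𝒜 ⊓ Subgroup.centralizer ((sSup 𝒜 : Subgroup S) : Set S) ∧ sInf 𝒜 = Subgroup.centralizer ((sSup 𝒜 : Subgroup S) : Set S) := by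
  have h2 : sInf 𝒜 = Subgroup.centralizer ((sSup 𝒜 : Subgroup S) : Set S) := by
    apply le_antisymm
    · rw [Subgroup.le_centralizer_iff]
      exact sSup_le fun A hA a ha b hb => H17.comm_of_mem (hab A hA) (sInf_le hA hb) ha
    · refine le_sInf fun A hA x hx => ?_
      have := hmax A hA (A ⊔ Subgroup.zpowers x) (H17.elemAb_sup (n := 0)
        ⟨hab A hA, fun a _ => pow_zero a⟩ (H17.elemAb_zpowers (pow_zero x)) ?_).1 le_sup_left
      · rw [← this]; exact Subgroup.mem_sup_right (Subgroup.mem_zpowers x)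
      · rintro a ha _ ⟨k, rfl⟩
        exact ((show Commute a x from hx a (le_sSup hA ha)).zpow_right k).eq
  refine ⟨le_antisymm (le_inf ?_ h2.le) (h2 ▸ inf_le_right), h2⟩
  obtain ⟨A, hA⟩ := hne
  exact (sInf_le hA).trans (le_sSup hA)

end Cfsg.Agent.S0647
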