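import Mathlib
import Cfsg.Statements.S0651
import Cfsg.Agent.H17.GlRepl

set_option autoImplicit false
open Cfsg

namespace Cfsg.Agent.S0651

/-- For odd p and D normal in the p-group S, the abelian subgroups of D of largest order satisfy the replacement property: a class-2 normal subgroup B of S with a member containing [B, B] but not B normalizes some such member. -/
theorem result {S : Type*} [Group S] [Finite S] {p : ℕ} [Fact p.Prime] (hS : IsPGroup p S) (hp : p ≠ 2) (D : Subgroup S) [D.Normal] : ∀ (B : Subgroup S) [B.Normal], ⁅⁅B, B⁆, B⁆ = ⊥ → (∃ U ∈ (Set.image (fun A : Subgroup ↥D => A.map D.subtype) (Cfsg.maxAbelianSubgroups ↥D)), ⁅B, B⁆ ≤ U ∧ ¬ B ≤ U) → ∃ A ∈ (Set.image (fun A : Subgroup ↥D => A.map D.subtype) (Cfsg.maxAbelianSubgroups ↥D)), ⁅B, B⁆ ≤ A ∧ ¬ B ≤ A ∧ B ≤ Subgroup.normalizer (A : Set S) := by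
  rw [H17.maxAbelian_eq, H17.image_maxElem]
  rintro B _ - ⟨U, hU, h1, h2⟩
  exact H17.exists_maxAb_normalized (P := ⊤) (hS.to_subgroup ⊤) (Or.inr hp) (Or.inr rfl) le_top
    Subgroup.le_normalizer_of_normal le_top Subgroup.le_normalizer_of_normal hU h1 h2

end Cfsg.Agent.S0651
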