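import Mathlib
import Cfsg.Statements.S0655
import Cfsg.Agent.H17.Thompson

set_option autoImplicit false
open Cfsg

namespace Cfsg.Agent.S0655

/-- In a p-group the intersection of all elementary abelian subgroups of largest order is the subgroup generated by the elements of order dividing p in the centre (equivalently the centralizer) of the elementary-version Thompson subgroup. -/
theorem result {S : Type*} [Group S] [Finite S] {p : ℕ} [Fact p.Prime] (hS : IsPGroup p S) : sInf (Cfsg.maxElementaryAbelianSubgroups p S) = Cfsg.omegaCenterThompson p S ∧ Cfsg.omegaCenterThompson p S = Cfsg.omegaOne p (Subgroup.centralizer (Cfsg.thompsonSubgroup p S : Set S)) := by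
  rw [H17.maxElem_eq_maxAb_top, H17.sInf_maxAb, H17.omegaCenterThompson_eq_top,
    H17.thompsonSubgroup_eq_top, ← H17.omegaOne_inf_centralizer_thompsonOf, top_inf_eq]
  exact ⟨rfl, rfl⟩

end Cfsg.Agent.S0655
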