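import Mathlib
import Cfsg.Statements.S0679
import Cfsg.Agent.H19.PrimeDeg
import Cfsg.Agent.H19.M12d
import Cfsg.Agent.H19.DegG
import Cfsg.Agent.H19.Ord11
import Cfsg.Agent.S0676
import Cfsg.Agent.S0713
import Cfsg.Agent.S0498
import Cfsg.Agent.S2060

set_option autoImplicit false
open Cfsg

namespace Cfsg.Agent.S0679

open MulAction Subgroup in
theorem odd_normalizer {G α : Type*} [Group G] [Finite G] [IsSimpleGroup G] [MulAction G α] [Fintype α] [FaithfulSMul G α]
    [IsPretransitive G α] (hG : ¬ IsMulCommutative G) {p : ℕ} [hp : Fact p.Prime] (hα : Fintype.card α = p) (h4 : p % 4 = 3)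
    (P : Sylow p G) : ¬ 2 ∣ Nat.card (normalizer ((P : Subgroup G) : Set G)) := fun h => by
  classical
  obtain ⟨h1, h2, -⟩ := H18.card_normalizer_sylow_prime_degree hα P
  obtain ⟨⟨t, ht⟩, ot⟩ := exists_prime_orderOf_dvd_card' 2 h
  rw [orderOf_mk] at ot
  obtain ⟨⟨x, hx⟩, ox⟩ := exists_prime_orderOf_dvd_card' (G := P) p h1.symm.dvd
  rw [orderOf_mk] at ox
  have hP : zpowers x = P := eq_of_le_of_card_ge (zpowers_le.2 hx) (by rw [h1, Nat.card_zpowers, ox])
  obtain ⟨e, he⟩ := H18.exists_coords hα ox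
  have h3 : ∀ σ ∈ zpowers x, ∃ s, ∀ a : α, e (σ • a) = e a + s := fun σ hσ => by
    obtain ⟨k, rfl⟩ := mem_powers_iff_mem_zpowers.2 hσ
    clear hσ
    exact ⟨k, fun a => by
      induction k with
      | zero => simp
      | succ k ih => simp only [pow_succ', mul_smul, he] at ih ⊢; rw [ih]; push_cast; ring⟩
  have h5 : Subsingleton (Function.fixedPoints (toPermHom G α t)) := ⟨fun ⟨a, ha⟩ ⟨b, hb⟩ => by_contra fun hab => by
    obtain ⟨τ, h5, h6⟩ := H18.exists_translation he (e b - e a)
    obtain ⟨s, h7⟩ := h3 (t * τ * t⁻¹) (hP ▸ (mem_normalizer_iff.1 ht τ).1 (hP ▸ h5))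
    have h8 : τ • a = b := e.injective (by rw [h6]; ring)
    have h9 := h7 a
    rw [mul_smul, mul_smul, inv_smul_eq_iff.2 (show a = t • a from ha.symm), h8, show t • b = b from hb] at h9
    have h10 : t * τ * t⁻¹ = τ := FaithfulSMul.eq_of_smul_eq_smul (α := α) fun c => e.injective (by rw [h7, h6, h9]; ring)
    have := orderOf_dvd_natCard _ (h2.le (H19.centralizer_eq_of_sylow h1 (hP ▸ h5) (fun e => hab (Subtype.ext (by
      simpa [e] using h8))) ▸ mem_centralizer_singleton_iff.2 (mul_inv_eq_iff_eq_mul.1 h10)))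
    rw [ot, h1] at this
    omega⟩
  have e4 : toPermHom G α t ^ 2 = 1 := by rw [← map_pow, ← ot, pow_orderOf_eq_one, map_one]
  have e5 := Equiv.Perm.sign_of_pow_two_eq_one e4
  have e6 := Equiv.Perm.card_fixedPoints_modEq (p := 2) (n := 1) (f := ⇑(toPermHom G α t))
    (funext fun x => DFunLike.congr_fun e4 x)
  have e7 := Fintype.card_le_one_iff_subsingleton.2 h5
  rw [H19.sign_eq_one_of_simple hG, hα, Odd.neg_one_pow (Nat.odd_iff.2 (by rw [hα, Nat.ModEq] at e6; omega))] at e5
  exact absurd e5 (by decide)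

theorem dvd_95040 {d m : ℕ} (h1 : d ∣ 11 - 1) (h2 : ¬ 2 ∣ 11 * d) (h3 : m % 11 = 1) (h4 : m * (11 * d) ∣ 190080) :
    m * (11 * d) ∣ 95040 := by
  have := Nat.le_of_dvd (by norm_num) h1
  exact (by decide +kernel : ∀ d ∈ [1, 5], ∀ m ∈ Nat.divisors 17280, m % 11 = 1 → m * (11 * d) ∣ 190080 →
    m * (11 * d) ∣ 95040) d (by interval_cases d <;> simp_all) m (Nat.mem_divisors.2 ⟨Nat.dvd_of_mul_dvd_mul_right
      (show 0 < 11 by norm_num) ((mul_dvd_mul_left m (dvd_mul_right 11 d)).trans h4), by norm_num⟩) h3 h4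

/-- A non-solvable transitive permutation group on 11 points that does not contain the alternating group is either sharply 4-transitive (of order 7920) or isomorphic to the projective special linear group of degree 2 over the field with 11 elements. -/
theorem result {α : Type*} [Fintype α] [DecidableEq α] (hα : Fintype.card α = 11) (G : Subgroup (Equiv.Perm α)) [MulAction.IsPretransitive G α] (hG : ¬ Group.IsSolvable G) (hA : ¬ alternatingGroup α ≤ G) : (MulAction.IsMultiplyPretransitive G α 4 ∧ ∀ x : Fin 4 ↪ α, MulAction.stabilizer G x = ⊥) ∨ Nonempty (G ≃* Matrix.ProjectiveSpecialLinearGroup (Fin 2) (ZMod 11)) := by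
  open H19 H05 Subgroup MulAction in
  have p11 := Fact.mk (by norm_num : Nat.Prime 11)
  obtain ⟨h1, h2, h3⟩ := simple_commutator_of_prime_degree (G := G) (α := α) (by rw [hα]; norm_num) hG
  have h4 := H18.exists_orderOf_eq_prime_degree (G := commutator G) hα
  have key : ∀ q k : ℕ, q.Prime → q ≤ 8 → ¬ q ^ (k + 1) ∣ Nat.factorial 11 → ¬ q ^ k ∣ Nat.card G := fun q k hq h5 h6 h7 => by
    obtain ⟨g, hg⟩ := (Equiv.Perm.exists_with_cycleType_iff α (m := {q})).2 ⟨by simp; omega, by simpa using hq.two_le⟩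
    obtain ⟨u, hu, e1⟩ := exists_isConj_mem_of_dvd (j := 1) hq h7
      (by rwa [Nat.card_perm, Nat.card_eq_fintype_card, hα]) (g := g) (by
        rw [← orderOf_dvd_iff_pow_eq_one, ← Equiv.Perm.lcm_cycleType, hg]; simp)
    rw [Equiv.Perm.isConj_iff_cycleType_eq, hg, eq_comm] at e1
    exact hA (S0713.result G (IsPreprimitive.of_prime_card (by rw [Nat.card_eq_fintype_card, hα]; norm_num)) hq (by omega)
      (by omega) (Equiv.Perm.card_cycleType_eq_one.1 (by simp [e1])) (by simp [← Equiv.Perm.sum_cycleType, e1]) hu)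
  have h5 : Nat.card G ∣ 190080 := by
    have h5 := card_subgroup_dvd_card G
    rw [Nat.card_perm, Nat.card_eq_fintype_card (α := α), hα, show Nat.factorial 11 = 2 ^ 8 * (3 ^ 4 * (5 ^ 2 * (7 ^ 1 * 11)))
      from rfl] at h5
    obtain ⟨_, _, a1, a2, e⟩ := exists_dvd_and_dvd_of_dvd_mul h5
    obtain ⟨_, _, b1, a3, rfl⟩ := exists_dvd_and_dvd_of_dvd_mul a2
    obtain ⟨_, _, c1, a4, rfl⟩ := exists_dvd_and_dvd_of_dvd_mul a3
    obtain ⟨_, _, d1, a5, rfl⟩ := exists_dvd_and_dvd_of_dvd_mul a4
    have k : ∀ {q k a : ℕ}, q.Prime → q ≤ 8 → ¬ q ^ (k + 1 + 1) ∣ Nat.factorial 11 → a ∣ q ^ (k + 1) → a ∣ Nat.card G →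
        a ∣ q ^ k := fun hq h5 h6 h7 h8 => by
      obtain ⟨j, h9, rfl⟩ := (Nat.dvd_prime_pow hq).1 h7
      exact pow_dvd_pow _ (Nat.le_of_lt_succ (h9.lt_of_ne fun e => key _ _ hq h5 h6 (e ▸ h8)))
    exact e ▸ mul_dvd_mul (k Nat.prime_two (by norm_num) (by decide) a1 (by rw [e]; simp))
      (mul_dvd_mul (k Nat.prime_three (by norm_num) (by decide) b1 (by rw [e]; simp [dvd_mul_of_dvd_right]))
      (mul_dvd_mul (k Nat.prime_five (by norm_num) (by decide) c1 (by rw [e]; simp [dvd_mul_of_dvd_right]))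
      (mul_dvd_mul (k (k := 0) (by norm_num) (by norm_num) (by decide) d1
        (e ▸ (((dvd_mul_right _ _).mul_left _).mul_left _).mul_left _)) a5)))
  obtain ⟨Q⟩ : Nonempty (Sylow 11 (commutator G)) := inferInstance
  obtain ⟨h6, -, d, h7, h8⟩ := H18.card_normalizer_sylow_prime_degree hα Q
  have h9 := odd_normalizer h2 hα (by norm_num) Q
  have h10 := card_sylow_mul_card_normalizer Q
  change _ * Nat.card (normalizer ((Q : Subgroup (commutator G)) : Set (commutator G))) = _ at h10
  have h11 : Nat.card (Sylow 11 (commutator G)) % 11 = 1 := card_sylow_modEq_one 11 _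
  have h12 := (card_subgroup_dvd_card (commutator G)).trans h5
  have h13 : Nat.card (commutator G) ∣ 95040 := by
    rw [← h10, h8] at h12 ⊢
    rw [h8] at h9
    exact dvd_95040 h7 h9 h11 h12
  obtain ⟨P⟩ : Nonempty (Sylow 11 G) := inferInstance
  obtain ⟨h14, h15, c, h16, h17⟩ := H18.card_normalizer_sylow_prime_degree hα P
  have h18 : Nat.card (Sylow 11 G) = Nat.card (Sylow 11 (commutator G)) := by
    refine Nat.eq_of_mul_eq_mul_right (show 0 < 11 - 1 by norm_num) ?_
    rw [← card_orderOf_eq_prime h14, ← card_orderOf_eq_prime h6]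
    exact Nat.card_congr ⟨fun g => ⟨⟨g, mem_of_dvd_card (fun e => by have := e.trans h5; omega) h4 g.2⟩,
      (orderOf_mk _ _).trans g.2⟩, fun g => ⟨g, (orderOf_coe _).trans g.2⟩, fun _ => rfl, fun _ => rfl⟩
  have h19 := card_sylow_mul_card_normalizer P
  change _ * Nat.card (normalizer ((P : Subgroup G) : Set G)) = _ at h19
  have h20 := Nat.le_of_dvd (by norm_num) h16
  have h21 := Nat.le_of_dvd (by norm_num) h7
  have h22 := card_subgroup_dvd_card (commutator G)
  rw [h8] at h9 h10
  rcases card_of_dvd_95040 h2 h13 h4 with h | h | h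
  · have h23 : Nat.card (Sylow 11 (commutator G)) = 12 := by interval_cases d <;> omega
    have h24 : Nat.card G = 660 := by
      by_contra e
      rw [h18, h23, h17] at h19
      have h25 : c = 10 := by rw [h, ← h19] at h22; interval_cases c <;> omega
      have := S0676.result hα G hG P (by rw [h17, h25]; decide)
      obtain ⟨x⟩ : Nonempty (Fin 3 ↪ α) := Function.Embedding.nonempty_of_card_le (by simp [hα])
      have : IsPretransitive G (Fin 3 ↪ α) := this
      have := (stabilizer G x).index_dvd_card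
      rw [@index_stabilizer_of_transitive _ _ _ _ _ ‹_›, Nat.card_eq_fintype_card, Fintype.card_embedding_eq, hα, Fintype.card_fin,
        show Nat.descFactorial 11 3 = 990 from rfl, ← h19, h25] at this
      omega
    rw [eq_top_of_card_eq _ (h.trans h24.symm)] at h1
    have := topEquiv.symm.isSimpleGroup (G := G)
    exact Or.inr (S0498.result 11 (Or.inl rfl) (by omega) (ZMod.card 11))
  · obtain ⟨e'⟩ := isoM11_of_simple h
    have h23 : Nat.card (Out (commutator G)) = 1 := (Nat.card_congr (QuotientGroup.congr (Inn _) (Inn Spor.M11)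
      (MulAut.congr e') (by
        ext φ
        refine ⟨?_, fun ⟨y, hy⟩ => ⟨_, ⟨e'.symm y, rfl⟩, by ext1 z; simp [← hy]⟩⟩
        rintro ⟨_, ⟨y, rfl⟩, rfl⟩
        exact ⟨e' y, by ext1 z; simp⟩)).toEquiv).trans S2060.result
    obtain ⟨f⟩ := prod_of_out (((center (commutator G)).normal_of_characteristic.eq_bot_or_eq_top).resolve_right fun e =>
      h2 ⟨⟨fun a b => (mem_center_iff.1 (e.ge (mem_top b)) a)⟩⟩) h23
    have h24 := Nat.card_congr f.toEquiv
    have h25 := card_dvd_of_le ((centralizer_le (show ((P : Subgroup G) : Set G) ⊆ commutator G from fun g hg => by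
      rcases (Nat.dvd_prime p11.out).1 (h14 ▸ orderOf_dvd_natCard _ hg) with e | e
      exacts [orderOf_eq_one_iff.1 e ▸ one_mem _, mem_of_dvd_card (fun e => by have := e.trans h5; omega) h4 e])).trans h15.le)
    rw [Nat.card_prod, h] at h24
    have h26 : Nat.card G = 7920 := by
      rcases (Nat.dvd_prime p11.out).1 (h14 ▸ h25) with e | e <;> rw [e] at h24
      · exact h24
      · rw [h24] at h5; omega
    rw [eq_top_of_card_eq _ (h.trans h26.symm)] at h1
    have := topEquiv.symm.isSimpleGroup (G := G)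
    obtain ⟨T⟩ := exists_m11T h26
    exact Or.inl (T.sharp h26 hα)
  · have := Fintype.ofFinite (commutator G)
    obtain ⟨S⟩ := exists_m12S h
    obtain ⟨T⟩ := S.exists_m12T h
    have : Nonempty α := Fintype.card_pos_iff.1 (by omega)
    obtain ⟨m, e1, -, e2, -⟩ := T.dec (isCharacter_perm (G := commutator G) α) (n := 11) (by simp [hα]) (Int.cast_natCast _).symm
      (Int.cast_natCast _).symm
    have e3 : m (irrOne _) = 1 := Nat.cast_eq_one.1 ((e1 (irrOne _)).symm.trans (classInner_perm_one_of_transitive α))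
    have e4 : m T.s = 0 ∧ m T.s' = 0 ∧ m T.m = 0 ∧ m T.k = 0 ∧ m T.c = 0 ∧ m T.b = 0 := by
      replace e2 := e2.ge; clear * - e2 e3; omega
    clear * - e2 e3 e4
    omega

end Cfsg.Agent.S0679
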