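import Cfsg.Statements.S0822
import Mathlib
import Cfsg.Agent.H27.U42
import Cfsg.Agent.H27.Sp43
import Cfsg.Agent.H27.MG3
-- import your own Cfsg.Agent.* helpers here

set_option autoImplicit false
open Cfsg

namespace Cfsg.Agent.S0822

open scoped Pointwise commutatorElement

open H13 H14.PK H14.PK.TS H27.MG

/-- PSU_4(2) ≅ PSp_4(3): with |F| = 4 and |K| = 3, the projective special unitary group of the standard Hermitian form on F^4 is isomorphic to PSp_4(K). -/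
theorem result {F K : Type*} [Field F] [Fintype F] [Field K] [Fintype K] (hF : Fintype.card F = 4) (hK : Fintype.card K = 3) : Nonempty (Cfsg.PSU 4 F 2 ≃* Cfsg.PSp 2 K) := by
  obtain ⟨S, M⟩ := H27.U42.model F hF
  obtain ⟨S', M'⟩ := H27.Sp43.model K hK
  obtain ⟨e⟩ := Mdl.equiv M.mem (M'.regen (Ts := [nat_lit 0x40315c51a3c70897d54e48111068929d774131e84866694d00a3a35986cb, nat_lit 0x5c539b0651947197551cf8582a40204c92e209098c4488e759e0da34449f]) (pr := [[nat_lit 1, nat_lit 0, nat_lit 0],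
   [nat_lit 1, nat_lit 1, nat_lit 0, nat_lit 1, nat_lit 0, nat_lit 0, nat_lit 2, nat_lit 0],
   [nat_lit 2, nat_lit 3, nat_lit 1, nat_lit 1, nat_lit 3, nat_lit 2, nat_lit 1, nat_lit 3, nat_lit 2],
   [nat_lit 0, nat_lit 0, nat_lit 1, nat_lit 1, nat_lit 1, nat_lit 0, nat_lit 0],
   [nat_lit 1, nat_lit 2, nat_lit 1, nat_lit 2, nat_lit 2, nat_lit 1, nat_lit 1, nat_lit 1],
   [nat_lit 1, nat_lit 0, nat_lit 1],
   [nat_lit 2, nat_lit 2, nat_lit 1, nat_lit 1, nat_lit 2, nat_lit 2],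
   [nat_lit 0, nat_lit 1, nat_lit 3, nat_lit 3, nat_lit 3, nat_lit 4, nat_lit 5, nat_lit 8, nat_lit 7, nat_lit 8, nat_lit 6],
   [nat_lit 4, nat_lit 4, nat_lit 4, nat_lit 4, nat_lit 6, nat_lit 8, nat_lit 7, nat_lit 7]]) (pr' := [[nat_lit 1, nat_lit 0, nat_lit 0],
   [nat_lit 2, nat_lit 1, nat_lit 0, nat_lit 2, nat_lit 1],
   [nat_lit 3, nat_lit 2, nat_lit 3, nat_lit 3],
   [nat_lit 1, nat_lit 1, nat_lit 1, nat_lit 0, nat_lit 1, nat_lit 1, nat_lit 1],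
   [nat_lit 2, nat_lit 2, nat_lit 1, nat_lit 2, nat_lit 2, nat_lit 1, nat_lit 1],
   [nat_lit 3, nat_lit 2, nat_lit 3, nat_lit 3, nat_lit 2, nat_lit 2, nat_lit 3, nat_lit 3, nat_lit 3],
   [nat_lit 1, nat_lit 2, nat_lit 2, nat_lit 0, nat_lit 2],
   [nat_lit 3, nat_lit 3, nat_lit 2, nat_lit 3, nat_lit 2, nat_lit 3],
   [nat_lit 4, nat_lit 2],
   [nat_lit 1, nat_lit 2]]) (lv := [(nat_lit 0, [nat_lit 10, nat_lit 11]), (nat_lit 1, [nat_lit 8, nat_lit 7]), (nat_lit 2, [nat_lit 6]), (nat_lit 4, [nat_lit 3, nat_lit 1]), (nat_lit 13, [nat_lit 0])]) (by decide +kernel))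
    (c := nat_lit 0x11c6c891515d94b79119498a4131ce3c959230d9c28808415d98df0e0698) (by decide +kernel)
  exact ⟨(Subgroup.topEquiv.symm.trans (MulEquiv.subgroupCongr M.cl.symm)).trans e⟩

end Cfsg.Agent.S0822
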