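import Mathlib
import Cfsg.Statements.S0840
import Cfsg.Agent.H07.Cnt

set_option autoImplicit false
open scoped ComplexConjugate
open Cfsg
open H05 Cfsg H07

namespace Cfsg.Agent.S0840

/-- Class multiplication coefficients from the character table: for elements a, b, c of a finite group G, the number of ordered pairs (x, y) with x conjugate to a, y conjugate to b and x * y = c equals the product of the sizes of the conjugacy classes of a and b, divided by the order of G, times the sum over the irreducible characters χ of χ a * χ b * conj (χ c) / χ 1. -/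
theorem result {G : Type*} [Group G] [Finite G] (a b c : G) : (Nat.card {p : G × G // IsConj a p.1 ∧ IsConj b p.2 ∧ p.1 * p.2 = c} : ℂ) = (Nat.card {x : G // IsConj a x} : ℂ) * (Nat.card {x : G // IsConj b x} : ℂ) / (Nat.card G : ℂ) * ∑ᶠ χ : Cfsg.IrrCharacter G, (χ : G → ℂ) a * (χ : G → ℂ) b * conj ((χ : G → ℂ) c) / (χ : G → ℂ) 1 := by
  classical
  have := Fintype.ofFinite G
  have h := card_fiber_eq (fun p : G × G => IsConj a p.1 ∧ IsConj b p.2) (fun p => p.1 * p.2) c
  simp only [and_assoc] at h
  apply mul_left_cancel₀ (H06.natCard_ne_zero G)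
  rw [h, finsum_eq_sum_of_fintype, Finset.mul_sum, Finset.mul_sum]
  refine Finset.sum_congr rfl fun χ _ => ?_
  have h1 : ∀ y, ∑ x, (if IsConj a x ∧ IsConj b y then χ.1 (x * y * c⁻¹) else 0) =
      (Subgroup.centralizer ({a} : Set G)).index * χ.1 a / χ.1 1 *
        if IsConj b y then χ.1 (y * c⁻¹) else 0 := fun y => by
    split_ifs with h
    · simp only [h, and_true, mul_assoc, sum_ite_isConj_mul χ.2]; ring
    · simp only [h, and_false, if_false]; simp
  rw [Fintype.sum_prod_type_right]
  simp only [h1, ← Finset.mul_sum, sum_ite_isConj_mul χ.2, card_isConj, χ.2.apply_inv]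
  have := χ.2.apply_one_ne_zero
  have := H06.natCard_ne_zero G
  field_simp

end Cfsg.Agent.S0840
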