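import Mathlib
import Cfsg.Agent.H20.Quot2
-- Template for statement S0972 (row 972; see /opt/grader/pristine/manifest.json for weights).
-- Copy to Cfsg/Agent/S0972.lean and replace the sorry. The statement below is byte-identical to the frozen
-- statement Cfsg.CfsgFrozen.S0972 (Cfsg/Statements/S0972.lean; the theorem Cfsg.reynolds_normal_defect_group_abelian_iff_heights_zero);
-- the grader kernel-checks Cfsg.Agent.S0972.result against that frozen type. Keep the theorem IN THIS FILE
-- (a `result` declared elsewhere and merely imported here is not credited); helpers may live anywhere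
-- under Cfsg/Agent/.
import Cfsg.Statements.S0972
-- import your own Cfsg.Agent.* helpers here

set_option autoImplicit false
open Cfsg

open H20 H05 H21 MonoidAlgebra Cfsg

namespace Cfsg.Agent.S0972

/-- Let B be a block of the finite group G (relative to a maximal ideal M of the algebraic integers containing the prime p) with a defect group P that is normal in G. Then P is commutative if and only if every member of B has height zero. -/
theorem result {G : Type*} [Group G] [Finite G] (p : ℕ) [Fact p.Prime] (M : Ideal Cfsg.AlgInt) (hM : Cfsg.IsPModular p M) (B : Set (Cfsg.IrrCharacter G)) (hB : Cfsg.IsPBlock M B) (P : Subgroup G) [P.Normal] (hP : Cfsg.IsDefectGroup p M B P) : (∀ a ∈ P, ∀ c ∈ P, a * c = c * a) ↔ ∀ χ ∈ B, Cfsg.blockHeight p B (χ : G → ℂ) = 0 := by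
  classical
  have := hM.2.1
  have := Fintype.ofFinite G
  have hp : p.Prime := hM.1
  have hd := hP.factorization_card hM hB
  obtain ⟨K, hK⟩ : ∃ K, K = P ⊔ Subgroup.centralizer (P : Set G) := ⟨_, rfl⟩
  have hKn : K.Normal := hK ▸ inferInstance
  have hPK : P ≤ K := hK ▸ le_sup_left
  have hCK : Subgroup.centralizer (P : Set G) ≤ K := hK ▸ le_sup_right
  have := Fintype.ofFinite K
  obtain ⟨b, hb, -, hcov, hD⟩ := knorr hM K hB hP
  rw [inf_eq_left.2 hPK] at hD
  have hs : P.subgroupOf K ⊔ Subgroup.centralizer (P.subgroupOf K : Set K) = ⊤ := by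
    rw [centralizer_subgroupOf' hPK, ← Subgroup.subgroupOf_sup hPK hCK, ← hK, Subgroup.subgroupOf_self]
  obtain ⟨χ₀, hχ₀, hk⟩ := hb.exists_ker hM hD.isPGroup
  have h0 := factorization_degree_of_ker hM hs hb hD hχ₀ hk
  have hc := Nat.card_congr (Subgroup.subgroupOfEquivOfLe hPK).toEquiv
  obtain ⟨Φ, hΦ⟩ := exists_thZ_equiv hM hs hb hD hχ₀ hk
  have hdeg : ∀ θ : b, charDegree (θ.1 : K → ℂ) =
      charDegree (Φ θ : P.subgroupOf K → ℂ) * charDegree (χ₀ : K → ℂ) := fun θ => by
    apply Nat.cast_injective (R := ℂ)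
    rw [Nat.cast_mul, θ.1.2.charDegree_eq, (Φ θ).2.charDegree_eq, χ₀.2.charDegree_eq, (hΦ θ).apply_one hp]
  have hi := factorization_index_add (p := p) K
  constructor
  · intro hab χ hχ
    have : IsMulCommutative (P.subgroupOf K) :=
      ⟨⟨fun a c => Subtype.ext (Subtype.ext (hab _ a.2 _ c.2))⟩⟩
    obtain ⟨θ, hθ, ho⟩ := hcov.exists_over hB hb.isInt_idem hχ
    obtain ⟨f, hf, h1⟩ := H07.exists_degree_eq_mul K χ.2 θ.2 (over_iff.1 ho)
    have h2 := hdeg ⟨θ, hθ⟩
    rw [H07.deg_eq_one_of_comm (Φ _).2, one_mul] at h2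
    have h3 := factorization_degree_add p hχ
    have hf0 : f ≠ 0 := by rintro rfl; exact K.index_ne_zero_of_finite (zero_dvd_iff.1 hf)
    rw [h1, Nat.factorization_mul hf0 (charDegree_ne_zero' θ), Finsupp.add_apply] at h3
    have h4 := (Nat.factorization_le_iff_dvd hf0 K.index_ne_zero_of_finite).2 hf p
    simp only at h2
    rw [← h2, hc] at h0
    omega
  · intro h
    suffices IsMulCommutative (P.subgroupOf K) from fun a ha c hc =>
      congrArg (fun x : P.subgroupOf K => ((x : K) : G))
        (this.1.1 ⟨⟨a, hPK ha⟩, ha⟩ ⟨⟨c, hPK hc⟩, hc⟩)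
    refine H07.comm_of_deg_one fun ζ => ?_
    obtain ⟨θ, rfl⟩ := Φ.surjective ζ
    obtain ⟨χ, ho⟩ := exists_over θ.1
    have hχ : χ ∈ B := by
      have h1 : Covers K (blockOf M (χ : G → ℂ)) b := ⟨χ, H20.mem_blockOf_self χ, θ, θ.2, ho⟩
      rw [(hcov.isInducedBlock_of_centralizer_le hM hP.isPGroup hPK hCK hB hb).unique
        (h1.isInducedBlock_of_centralizer_le hM hP.isPGroup hPK hCK (H20.isPBlock_blockOf χ) hb)]
      exact H20.mem_blockOf_self χ
    have h1 := H07.index_inertia_dvd K χ.2 θ.1.2 (over_iff.1 ho)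
    have hI : H06.inertia K (θ.1 : K → ℂ) ≤ bstab K b := fun g hg =>
      hb.mem_bstab_of_mem θ.2 (mem_cjB.2 ⟨θ, θ.2, fun n => ((H06.mem_inertia' K).1 hg n).symm⟩)
    have hT : (bstab K b).index.factorization p = K.index.factorization p := by
      obtain ⟨S, hS⟩ := exists_sylIn p (bstab K b)
      have hSK : S ≤ K := by
        refine hb.isBI.le_of_fong hM (le_bstab b) (by rw [Subgroup.normalizer_eq_top]; exact le_top)
          (cInv_bstab b) (fun D hD1 hD2 hD3 => ?_) hS.isPGroup hS.le
        have := charP_Res hM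
        have h5 := (isInducedBlock_iff_iB hM hP.isPGroup hPK hCK
          (by rw [Subgroup.normalizer_eq_top]; exact le_top) hb hB).1
          (hcov.isInducedBlock_of_centralizer_le hM hP.isPGroup hPK hCK hB hb)
        rw [trunc_idempotent_normal hM hP.isPGroup (isCen_eB B) hB.eB_mul_self] at h5
        rw [← h5, trunc_centralizer_mul (b := iB M K b) hD2 ((isCen_eB B).cInv _)
          ((cInv_bstab b).mono hD1)] at hD3
        obtain ⟨x, -, hx⟩ := ((maxBr_top_iff hM hB).2 hP).exists_cj_le hM hB.isBI_top hD2 le_top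
          (left_ne_zero_of_mul hD3)
        exact (SubConj.le_of_normal' ⟨x, hx⟩).trans hPK
      have h2 := (hS.mono hSK (le_bstab b)).factorization_card
      have h3 := hS.factorization_card
      have h4 := factorization_index_add (p := p) (bstab K b)
      omega
    have h2 := (Nat.factorization_le_iff_dvd (mul_ne_zero (mul_ne_zero
      Subgroup.index_ne_zero_of_finite (charDegree_ne_zero' _)) (charDegree_ne_zero' _))
      (charDegree_ne_zero' χ)).2 ((mul_dvd_mul_right (mul_dvd_mul_right
        (Subgroup.index_dvd_of_le hI) (charDegree (Φ θ : P.subgroupOf K → ℂ))) _).trans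
        (by rwa [mul_assoc, ← hdeg])) p
    rw [Nat.factorization_mul (mul_ne_zero Subgroup.index_ne_zero_of_finite (charDegree_ne_zero' _))
      (charDegree_ne_zero' _), Nat.factorization_mul Subgroup.index_ne_zero_of_finite
      (charDegree_ne_zero' _), Finsupp.add_apply, Finsupp.add_apply] at h2
    have h3 := (blockHeight_eq_zero_iff p hχ).1 (h χ hχ)
    obtain ⟨k, hk⟩ := IsPGroup.iff_card.1 hD.isPGroup
    obtain ⟨j, -, hj⟩ := (Nat.dvd_prime_pow hp).1 (hk ▸ (Φ θ).2.charDegree_dvd_card)
    rw [hj, hp.factorization_pow, Finsupp.single_eq_same] at h2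
    rw [hc] at h0
    rw [hj, show j = 0 by omega, pow_zero]

end Cfsg.Agent.S0972
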