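import Mathlib
import Cfsg.Statements.S0999
import Cfsg.Agent.H19.Brauer43

set_option autoImplicit false
open Cfsg

namespace Cfsg.Agent.S0999

/-- Let G be a non-cyclic finite simple group and p a prime divisor of its order with p^3 > |G|. Then p > 3 and G is isomorphic to the projective special linear group of dimension 2 over the field with p elements, or p - 1 is a power of 2 and G is isomorphic to that group over the field with p - 1 elements. -/
theorem result {G : Type*} [Group G] [Finite G] [IsSimpleGroup G] (hG : ¬ IsCyclic G) (p : ℕ) (hp : p.Prime) (hdvd : p ∣ Nat.card G) (hbig : Nat.card G < p ^ 3) : (∃ (F : Type) (_ : Field F) (_ : Fintype F), Fintype.card F = p ∧ 3 < p ∧ Nonempty (G ≃* Matrix.ProjectiveSpecialLinearGroup (Fin 2) F)) ∨ (∃ (m : ℕ) (F : Type) (_ : Field F) (_ : Fintype F), Fintype.card F = 2 ^ m ∧ p = 2 ^ m + 1 ∧ 3 < p ∧ Nonempty (G ≃* Matrix.ProjectiveSpecialLinearGroup (Fin 2) F)) := by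
  have := Fact.mk hp
  obtain ⟨h3, h | ⟨m, hm, h⟩⟩ := H19.brauer43_big_simple (fun h => hG (by
    have := Fact.mk (Group.is_simple_iff_prime_card.mp (inferInstance : IsSimpleGroup G))
    exact isCyclic_of_prime_card rfl)) hdvd hbig
  · exact Or.inl ⟨ZMod p, inferInstance, inferInstance, ZMod.card p, h3, h⟩
  · have hm0 : m ≠ 0 := by rintro rfl; omega
    obtain ⟨F, _, _, hF⟩ := H19.exists_field_two_pow hm0
    obtain ⟨e⟩ := h F hF
    obtain ⟨e'⟩ := H19.nonempty_sl_equiv_psl_of_even (F := F) (hF ▸ even_iff_two_dvd.2 (dvd_pow_self 2 hm0))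
    exact Or.inr ⟨m, F, _, _, hF, hm, h3, ⟨e.trans e'⟩⟩

end Cfsg.Agent.S0999
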