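import Mathlib
import Cfsg.Statements.S1253
import Cfsg.Agent.H22.Two
import Cfsg.Agent.H06.JRA
import Cfsg.Agent.S0215

set_option autoImplicit false
open Cfsg

namespace Cfsg.Agent.S1253

/-- Let z be an isolated involution of the finite group G with centralizer C, p an odd prime and P a Sylow p-subgroup of G normalized by z. Then P ∩ C has p-power-free index in C (it is a Sylow p-subgroup of C), and |P : C_P(z)| equals the number of elements x ∈ P with z x z⁻¹ = x⁻¹. -/
theorem result {G : Type*} [Group G] [Finite G] (z : G) (hz : Cfsg.IsIsolatedInvolution z) {p : ℕ} [Fact p.Prime] (hp : p ≠ 2) (P : Sylow p G) (hzP : z ∈ Subgroup.normalizer ((P : Subgroup G) : Set G)) : ¬ p ∣ ((P : Subgroup G) ⊓ Subgroup.centralizer ({z} : Set G)).relIndex (Subgroup.centralizer ({z} : Set G)) ∧ ((P : Subgroup G) ⊓ Subgroup.centralizer ({z} : Set G)).relIndex (P : Subgroup G) = Nat.card {x : G // x ∈ P ∧ z * x * z⁻¹ = x⁻¹} := by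
  open BG in
  have pp : p.Prime := Fact.out
  have zz := H08.Iso.mul_self hz
  have oP : Odd (Nat.card (P : Subgroup G)) := by
    obtain ⟨i, hi⟩ := pg_card pp P.2
    exact hi ▸ (pp.odd_of_ne_two hp).pow
  constructor
  · obtain ⟨R, hR⟩ := sylow_exists pp C_[z]
    obtain ⟨g, -, hg⟩ := sylow_Jsub pp (isSylowIn_top pp P) (hR.pg pp) le_top
    have oO := H08.odd_card_oddCore G
    have nO : ∀ X : Subgroup G, X ≤ N_(oddCore G) := fun _ => Subgroup.le_normalizer_of_normal
    have := mem_sup_cent_of_coprime (nO (Subgroup.zpowers z)) le_top (H06.cop2 zz oO) (.inl (sol_of_abelian inferInstance)) (Subgroup.mem_top g)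
      fun a ha => by
        rcases H22.mem_zpowers_two zz ha with rfl | rfl
        · simp
        · simpa [commutatorElement_def, mul_assoc] using inv_mem (S0215.zstar hz g)
    rw [cent_zpowers, top_inf_eq] at this
    obtain ⟨o, ho, c, hc, rfl⟩ := (mem_sup_norm (nO _)).1 this
    have oK : Odd (Nat.card ↥(oddCore G ⊔ P)) := (oO.mul oP).of_dvd_nat (card_sup_dvd (nO _))
    have nK : Subgroup.zpowers z ≤ N_(oddCore G ⊔ P) := norm_sup (nO _) (Subgroup.zpowers_le.2 hzP)
    have l : cj c R ≤ C_[z] := cj_le_of_mem hR.1 hc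
    obtain ⟨Q, hQ, nQ, lQ⟩ := coprime_sylow_superset pp (.inl (sol_of_abelian inferInstance)) nK (H06.cop2 zz oK) (X := cj c R)
      (isPGroup_cj.2 (hR.pg pp)) (by
        rw [← cj_cj, cj_le_iff] at hg
        exact hg.trans (cj_le_of_mem le_sup_right (inv_mem (Subgroup.mem_sup_left ho))))
      ((Subgroup.zpowers_le.2 (le_cent1_iff.1 l)).trans (Subgroup.centralizer_le_normalizer _))
    obtain ⟨d, hd, e⟩ := coprime_sylow_trans pp (.inl (sol_of_abelian inferInstance)) nK (H06.cop2 zz oK) hQ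
      ((isSylowIn_top pp P).sub le_sup_right le_top) nQ (Subgroup.zpowers_le.2 hzP)
    have d' : d ∈ C_[z] := cent_zpowers z ▸ hd.2
    have s : IsSylowIn p (cj d (cj c R)) C_[z] := (hR.cj_of_mem hc).cj_of_mem d'
    rw [s.eq_of_pg pp (pg_le P.2 inf_le_left) (le_inf (e ▸ cj_mono d lQ) s.1) inf_le_right]
    exact s.not_dvd' pp
  · have n := fun x (hx : x ∈ (P : Subgroup G)) => conj_mem_of_norm hzP hx
    have zi := H08.Iso.inv_eq hz
    refine Nat.card_congr (Equiv.ofBijective (Quotient.lift (fun x : (P : Subgroup G) =>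
      (⟨x * (z * (x : G)⁻¹ * z⁻¹), mul_mem x.2 (n _ (inv_mem x.2)), ?_⟩ : {x : G // x ∈ P ∧ z * x * z⁻¹ = x⁻¹})) ?_) ⟨?_, ?_⟩)
    · rw [zi]; simp [mul_assoc, zi, zz]
    · intro a b h
      have := mem_cent1.1 (QuotientGroup.leftRel_apply.1 h).2
      simp only [Subgroup.coe_subtype, Subgroup.coe_mul, Subgroup.coe_inv] at this
      apply Subtype.ext
      calc (a : G) * (z * (a : G)⁻¹ * z⁻¹) = a * (z * ((a : G)⁻¹ * b)) * (b : G)⁻¹ * z⁻¹ := by group
        _ = _ := by rw [← this]; group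
    · rintro ⟨a⟩ ⟨b⟩ h
      have := congrArg Subtype.val h
      refine Quotient.sound (QuotientGroup.leftRel_apply.2 ⟨(a⁻¹ * b).2, mem_cent1.2 ?_⟩)
      calc (a : G)⁻¹ * b * z = (a : G)⁻¹ * (b * (z * (b : G)⁻¹ * z⁻¹)) * z * b := by group
        _ = _ := by rw [← show (a : G) * (z * (a : G)⁻¹ * z⁻¹) = b * (z * (b : G)⁻¹ * z⁻¹) from this]; simp [mul_assoc]
    · rintro ⟨y, hy, e⟩
      obtain ⟨k, hk⟩ := H08.mem_zpowers_mul_self_of_odd (oP.of_dvd_nat (BG.orderOf_dvd_card hy))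
      refine ⟨(⟨y ^ k, zpow_mem hy k⟩ : (P : Subgroup G)), Subtype.ext ?_⟩
      show y ^ k * (z * (y ^ k)⁻¹ * z⁻¹) = y
      rw [← zpow_neg, ← conj_zpow, e, inv_zpow', neg_neg, ← (Commute.refl y).mul_zpow]
      exact hk

end Cfsg.Agent.S1253
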