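import Mathlib
import Cfsg.Statements.S1294
import Cfsg.Agent.H22.Conn
import Cfsg.Agent.H22.SFT

set_option autoImplicit false
open Cfsg

namespace Cfsg.Agent.S1294

open BG H22

/-- Let G be finite with O_{p'}(G) = 1 and p-rank at least 3, whose reduced rank-2 commuting graph for p is connected. Let θ assign to every element a of order p with m_p(C_G(a)) ≥ 3 a solvable subgroup θ a ≤ C_G(a) of order prime to p, so that θ (g a g⁻¹) = g (θ a) g⁻¹ for all g and θ a ∩ C_G(b) ≤ θ b for commuting such a, b. Then θ a = 1 for every such a. -/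
theorem result {G : Type*} [Group G] [Finite G] (p : ℕ) [Fact p.Prime] (hO : Cfsg.pPrimeCore p G = ⊥) (hrk : ¬ Cfsg.PRankLE p 2 G) (hconn : Cfsg.IsRankGraphConnected p 2 G) (θ : G → Subgroup G) (hC : ∀ a : G, (orderOf a = p ∧ ¬ Cfsg.PRankLE p 2 ↥(Subgroup.centralizer ({a} : Set G))) → θ a ≤ Subgroup.centralizer ({a} : Set G) ∧ ¬ p ∣ Nat.card ↥(θ a) ∧ Group.IsSolvable ↥(θ a)) (heq : ∀ a g : G, (orderOf a = p ∧ ¬ Cfsg.PRankLE p 2 ↥(Subgroup.centralizer ({a} : Set G))) → θ (g * a * g⁻¹) = (θ a).map (MulAut.conj g).toMonoidHom) (hbal : ∀ a b : G, (orderOf a = p ∧ ¬ Cfsg.PRankLE p 2 ↥(Subgroup.centralizer ({a} : Set G))) → (orderOf b = p ∧ ¬ Cfsg.PRankLE p 2 ↥(Subgroup.centralizer ({b} : Set G))) → a * b = b * a → θ a ⊓ Subgroup.centralizer {b} ≤ θ b) (a : G) (ha : (orderOf a = p ∧ ¬ Cfsg.PRankLE p 2 ↥(Subgroup.centralizer ({a} : Set G)))) : θ a = ⊥ := by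
  have hp : p.Prime := Fact.out
  have key : ∀ E : Subgroup G, IsElementaryAbelian p E → p ^ 3 ≤ Nat.card E → ∀ a ∈ E, a ≠ 1 →
      orderOf a = p ∧ ¬ PRankLE p 2 C_[a] := fun E hE h3 a ha h1 =>
    ⟨hE.orderOf hp ha h1, not_rank_of_le hp hE h3 fun e he => mem_cent1.2 (mul_comm_of_abelian hE.abelian he ha)⟩
  have sf : ∀ E : Subgroup G, IsElementaryAbelian p E → p ^ 3 ≤ Nat.card E → SF p E θ := fun E hE h3 =>
    ⟨hp, hE, fun a ha h1 => (hC a (key E hE h3 a ha h1)).1, fun a ha h1 => (hC a (key E hE h3 a ha h1)).2.1,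
      fun a ha h1 => le_norm_iff_cj.2 fun g hg => by
        rw [cj_eq_map, ← heq a g (key E hE h3 a ha h1), mul_comm_of_abelian hE.abelian hg ha, mul_inv_cancel_right],
      fun a ha h1 b hb h2 => hbal a b (key E hE h3 a ha h1) (key E hE h3 b hb h2) (mul_comm_of_abelian hE.abelian ha hb),
      fun a ha h1 => (hC a (key E hE h3 a ha h1)).2.2⟩
  exact GF.eq_bot_of_conn ⟨hp, sf, fun E hE h3 => (sf E hE h3).cpl h3⟩ hO hconn
    (fun E hE h3 a ha h1 g => heq a g (key E hE h3 a ha h1)) ha.1 ha.2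

end Cfsg.Agent.S1294
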