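import Mathlib
import Cfsg.Statements.S1295
import Cfsg.Agent.H22.SFT
import Cfsg.Agent.H22.SigW

set_option autoImplicit false
open Cfsg

namespace Cfsg.Agent.S1295

open BG H22

/-- Let G be finite with O_{p'}(G) = 1 and p-rank at least 3, whose reduced rank-2 commuting graph for p is connected. Suppose that for every element a of order p with m_p(C_G(a)) ≥ 3 the p-layer of C_G(a) is trivial and O_{p'}(C_G(a)) is solvable. Then F*(C_G(a)) = O_p(C_G(a)) for every such a. -/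
theorem result {G : Type*} [Group G] [Finite G] (p : ℕ) [Fact p.Prime] (hO : Cfsg.pPrimeCore p G = ⊥) (hrk : ¬ Cfsg.PRankLE p 2 G) (hconn : Cfsg.IsRankGraphConnected p 2 G) (hL : ∀ a : G, (orderOf a = p ∧ ¬ Cfsg.PRankLE p 2 ↥(Subgroup.centralizer ({a} : Set G))) → Cfsg.pLayer p ↥(Subgroup.centralizer ({a} : Set G)) = ⊥ ∧ Group.IsSolvable ↥(Cfsg.centralizerPPrimeCore p a)) (a : G) (ha : (orderOf a = p ∧ ¬ Cfsg.PRankLE p 2 ↥(Subgroup.centralizer ({a} : Set G)))) : Cfsg.generalizedFittingSubgroup ↥(Subgroup.centralizer ({a} : Set G)) = Cfsg.pCore p ↥(Subgroup.centralizer ({a} : Set G)) := by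
  have hp : p.Prime := Fact.out
  have key : ∀ E : Subgroup G, IsElementaryAbelian p E → p ^ 3 ≤ Nat.card E → ∀ a ∈ E, a ≠ 1 →
      orderOf a = p ∧ ¬ PRankLE p 2 C_[a] := fun E hE h3 a ha h1 =>
    ⟨hE.orderOf hp ha h1, not_rank_of_le hp hE h3 fun e he => mem_cent1.2 (mul_comm_of_abelian hE.abelian he ha)⟩
  have sf : ∀ E : Subgroup G, IsElementaryAbelian p E → p ^ 3 ≤ Nat.card E → SF p E (centralizerPPrimeCore p) := fun E hE h3 =>
    sf_cpc hp hE (fun a ha h1 => pLay_eq_bot_iff.2 (hL a (key E hE h3 a ha h1)).1) fun a ha h1 => (hL a (key E hE h3 a ha h1)).2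
  have h1 := GF.eq_bot_of_conn ⟨hp, sf, fun E hE h3 => (sf E hE h3).cpl h3⟩ hO hconn
    (fun E hE h3 a ha h1 g => cpc_cj hp g a) ha.1 ha.2
  rw [fstar_eq_pCore_iff_opE, sup_eq_bot_iff]
  exact ⟨pLay_eq_bot_iff.2 (hL a ha).1, h1⟩

end Cfsg.Agent.S1295
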