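import Mathlib
import Cfsg.Statements.S1314
import Cfsg.Agent.H22.Layer

set_option autoImplicit false
open Cfsg

namespace Cfsg.Agent.S1314

/-- Let x be an involution of a group G and L a perfect subgroup with ⁅L, x L x⁻¹⁆ = 1. Then l ↦ l (x l x⁻¹) is a group homomorphism π from L to G whose kernel is central in L and whose image lies in C_G(x); and the commutator subgroup of C_{L ⊔ xLx⁻¹}(x) equals the image of π. -/
theorem result {G : Type*} [Group G] [Finite G] (x : G) (hx : orderOf x = 2) (L : Subgroup G) (hperf : ⁅L, L⁆ = L) (hcomm : ⁅L, L.map (MulAut.conj x).toMonoidHom⁆ = ⊥) : ∃ π : ↥L →* G, (∀ l : ↥L, π l = (l : G) * (x * (l : G) * x⁻¹)) ∧ π.ker ≤ Subgroup.center ↥L ∧ π.range ≤ Subgroup.centralizer ({x} : Set G) ∧ ⁅(L ⊔ L.map (MulAut.conj x).toMonoidHom) ⊓ Subgroup.centralizer ({x} : Set G), (L ⊔ L.map (MulAut.conj x).toMonoidHom) ⊓ Subgroup.centralizer ({x} : Set G)⁆ = π.range := by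
  have hx2 : x * x = 1 := by
    have := pow_orderOf_eq_one x
    rwa [hx, pow_two] at this
  have hxi : x⁻¹ = x := inv_eq_of_mul_eq_one_right hx2
  set M := L.map (MulAut.conj x).toMonoidHom with hM
  have hLM : L ≤ Subgroup.centralizer (M : Set G) :=
    Subgroup.commutator_eq_bot_iff_le_centralizer.mp hcomm
  have hML : M ≤ Subgroup.centralizer (L : Set G) := Subgroup.le_centralizer_iff.mp hLM
  have hc : ∀ a ∈ L, ∀ b ∈ L, a * (x * b * x⁻¹) = (x * b * x⁻¹) * a := fun a ha b hb =>
    (hLM ha (x * b * x⁻¹) ⟨b, hb, rfl⟩).symm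
  let π : L →* G :=
    { toFun := fun l => (l : G) * (x * (l : G) * x⁻¹)
      map_one' := by simp
      map_mul' := fun a b => by
        have := hc b b.2 a a.2
        simp only [Subgroup.coe_mul]
        calc (a : G) * b * (x * (a * b) * x⁻¹) = a * (b * (x * a * x⁻¹)) * (x * b * x⁻¹) := by group
          _ = a * (x * a * x⁻¹ * b) * (x * b * x⁻¹) := by rw [this]
          _ = a * (x * a * x⁻¹) * (b * (x * b * x⁻¹)) := by group }
  have hπ : ∀ l : L, π l = (l : G) * (x * (l : G) * x⁻¹) := fun _ => rfl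
  have hr : π.range ≤ Subgroup.centralizer ({x} : Set G) := by
    rintro _ ⟨l, rfl⟩
    rw [Subgroup.mem_centralizer_singleton_iff, hπ]
    have h1 := hc l l.2 l l.2
    calc (l : G) * (x * l * x⁻¹) * x = l * x * l := by group
      _ = x * (x * l * x⁻¹ * l) * 1 := by
          have h2 : x * (x * l * x⁻¹ * l) = (x * x) * l * x⁻¹ * l := by group
          rw [mul_one, h2, hx2, hxi]; group
      _ = x * (l * (x * l * x⁻¹)) := by rw [h1, mul_one]
  have hrle : π.range ≤ L ⊔ M := by
    rintro _ ⟨l, rfl⟩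
    exact Subgroup.mul_mem _ (Subgroup.mem_sup_left l.2) (Subgroup.mem_sup_right ⟨l, l.2, rfl⟩)
  refine ⟨π, hπ, ?_, hr, ?_⟩
  · intro l hl
    rw [MonoidHom.mem_ker, hπ] at hl
    have h1 : (l : G) = (x * l * x⁻¹)⁻¹ := eq_inv_of_mul_eq_one_left hl
    have h2 : (l : G) ∈ M := h1 ▸ M.inv_mem ⟨l, l.2, rfl⟩
    exact Subgroup.mem_center_iff.mpr fun g => Subtype.ext (hML h2 g g.2)
  · apply le_antisymm
    · have hZ : L ⊓ M ≤ Subgroup.centralizer ((L ⊔ M : Subgroup G) : Set G) :=
        H22.le_centralizer_sup (inf_le_right.trans hML) (inf_le_left.trans hLM)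
      have hZr : L ⊓ M ≤ Subgroup.centralizer (π.range : Set G) :=
        hZ.trans (Subgroup.centralizer_le hrle)
      have hC : (L ⊔ M) ⊓ Subgroup.centralizer ({x} : Set G) ≤ π.range ⊔ (L ⊓ M) := by
        rintro c ⟨hc1, hc2⟩
        obtain ⟨a, ha, _, ⟨b, hb, rfl⟩, rfl⟩ :=
          (H22.mem_sup_of_le_normalizer (H22.le_normalizer_of_le_centralizer hML)).mp hc1
        have hc3 : a * (x * b * x⁻¹) * x = x * (a * (x * b * x⁻¹)) :=
          Subgroup.mem_centralizer_singleton_iff.mp hc2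
        have h4 : x * (a⁻¹ * b) * x⁻¹ = a⁻¹ * b := by
          have h5 : x * a * x⁻¹ * b = a * (x * b * x⁻¹) := by
            calc x * a * x⁻¹ * b = x * (a * (x * b * x⁻¹)) * x⁻¹ * 1 := by
                  rw [← hx2, hxi]
                  calc x * a * x * b = x * a * x * b * (x * x) * (x * x) := by rw [hx2]; group
                    _ = _ := by group
              _ = a * (x * b * x⁻¹) := by rw [← hc3]; group
          have h8 := hc a⁻¹ (L.inv_mem ha) a⁻¹ (L.inv_mem ha)
          calc x * (a⁻¹ * b) * x⁻¹ = (x * a⁻¹ * x⁻¹) * a⁻¹ * (a * (x * b * x⁻¹)) := by group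
            _ = (x * a⁻¹ * x⁻¹) * a⁻¹ * (x * a * x⁻¹ * b) := by rw [h5]
            _ = a⁻¹ * (x * a⁻¹ * x⁻¹) * (x * a * x⁻¹ * b) := by rw [h8]
            _ = a⁻¹ * b := by group
        have hz : a⁻¹ * b ∈ L := L.mul_mem (L.inv_mem ha) hb
        have hz' : a⁻¹ * b ∈ M := ⟨_, hz, h4⟩
        have h9 : a * (MulAut.conj x).toMonoidHom b = π ⟨a, ha⟩ * (a⁻¹ * b) := by
          rw [← h4, hπ]
          show a * (x * b * x⁻¹) = _
          group
        rw [h9]
        exact Subgroup.mul_mem _ (Subgroup.mem_sup_left ⟨_, rfl⟩) (Subgroup.mem_sup_right ⟨hz, hz'⟩)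
      refine (Subgroup.commutator_mono hC hC).trans ?_
      refine (H22.comm_sup_le_of_central (H22.le_normalizer_of_le_centralizer hZr)
        (H22.le_normalizer_of_le_centralizer hZr) hZr
        (hZ.trans (Subgroup.centralizer_le (SetLike.coe_subset_coe.mpr (inf_le_left.trans le_sup_left)))) hZr).trans ?_
      exact Subgroup.commutator_le_self _
    · have : Group.IsPerfect L := Subgroup.isPerfect_iff.mpr hperf
      have : Group.IsPerfect π.range := Group.IsPerfect.range π
      rw [← Subgroup.commutator_eq_self (H := π.range)]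
      exact Subgroup.commutator_mono (le_inf hrle hr) (le_inf hrle hr)

end Cfsg.Agent.S1314
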