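import Mathlib
import Cfsg.Statements.S1322
import Cfsg.Agent.H22.Two
import Cfsg.Agent.S1314

set_option autoImplicit false
open Cfsg

namespace Cfsg.Agent.S1322

open BG H22

/-- Let G be finite with L_{2'}(G) = E(G), t an involution and L ≤ C_G(t) a component of C_G(t). Then there is a component D of G with: L = D; or L < D and D = ⁅D, ⟨t⟩⁆; or tDt⁻¹ ≠ D and L is the layer of C_{D ⊔ tDt⁻¹}(t). -/
theorem result {G : Type*} [Group G] [Finite G] (hL2 : Cfsg.pLayer 2 G = Cfsg.layer G) (t : G) (ht : orderOf t = 2) (L : Subgroup G) (hLt : L ≤ Subgroup.centralizer ({t} : Set G)) (hL : Cfsg.IsComponent (L.subgroupOf (Subgroup.centralizer ({t} : Set G)))) : ∃ D : Subgroup G, Cfsg.IsComponent D ∧ (L = D ∨ (L < D ∧ D = ⁅D, Subgroup.zpowers t⁆) ∨ (D.map (MulAut.conj t).toMonoidHom ≠ D ∧ L = (Cfsg.layer ↥((D ⊔ D.map (MulAut.conj t).toMonoidHom) ⊓ Subgroup.centralizer ({t} : Set G))).map ((D ⊔ D.map (MulAut.conj t).toMonoidHom) ⊓ Subgroup.centralizer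 ({t} : Set G)).subtype)) := by
  have hP := pc_two_of_comp hLt hL
  have hP' : PC 2 L C_(Subgroup.zpowers t) := by rwa [cent_zpowers]
  have hE : L ≤ layer G := hL2 ▸ hP.le_pLayer_two ht
  obtain ⟨D, hD, hDL, hLD⟩ := hP'.exists_orb hE
  have hq := (qs_subgroupOf_iff hLt).1 hL.2
  refine ⟨D, hD, ?_⟩
  by_cases h : cj t D = D
  · have hn : Subgroup.zpowers t ≤ N_(D) := by simpa using cj_eq_self_iff.1 h
    rw [orb_eq hn] at hLD
    rcases hLD.eq_or_lt with h1 | h1
    · exact Or.inl h1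
    rcases comp_le_comm_or hD (Subgroup.zpowers t) with h2 | h2
    · exact Or.inr (Or.inl ⟨h1, le_antisymm (h2.trans (comm_comm _ _).le) (comm_le_left hn)⟩)
    · have h3 : D ≤ C_[t] := cent_zpowers t ▸ cent_symm (comm_eq_bot.1 h2)
      exact Or.inl (comp_eq_of_le_in h3 hL (comp_subgroupOf hD h3) hLD)
  refine Or.inr (Or.inr ⟨h, ?_⟩)
  obtain ⟨π, -, -, -, hπ⟩ := Cfsg.Agent.S1314.result t ht D (comp_perfect hD) (comp_comm_of_ne hD (comp_conj hD t) (Ne.symm h))
  have hn : Subgroup.zpowers t ≤ N_(D ⊔ cj t D) := by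
    rw [Subgroup.zpowers_le, ← cj_eq_self_iff, cj_sup, cj_cj, mul_self_of_two ht, sup_comm]; simp
  set U := (D ⊔ D.map (MulAut.conj t).toMonoidHom) ⊓ C_[t]
  have hLU : L ≤ U := le_inf (hLD.trans (orb_le le_sup_left hn)) hLt
  have hc : IsComponent (L.subgroupOf U) := (hP.sub hLU inf_le_right).comp hq
  have hJ : ∀ J ≤ U, ⁅J, J⁆ = J → J ≤ π.range := fun J h1 h2 => hπ ▸ h2 ▸ der_mono h1
  have hr : IsQuasisimple π.range := by
    have := (Subgroup.nontrivial_iff_ne_bot _).2 (ne_bot_mono hP.ne_bot (hJ L hLU hP.perfect))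
    exact qs_of_surjective hD.2 π.rangeRestrict π.rangeRestrict_surjective
  have hrU : π.range ≤ U := hπ ▸ der_le U
  have hr' := comp_of_norm hr hrU (hπ ▸ le_norm_der U)
  have h4 := comp_eq_of_le_in hrU hc hr' (hJ L hLU hP.perfect)
  exact le_antisymm (le_map_layer_subtype hLU hc) (h4 ▸ hJ _ (layerOf_le U) (layerOf_perfect U))

end Cfsg.Agent.S1322
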