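import Cfsg.Statements.S1323
import Cfsg.Agent.H24.Alt2
-- import your own Cfsg.Agent.* helpers here

set_option autoImplicit false
open Cfsg

namespace Cfsg.Agent.S1323

open H24.Alt H20 Finset Subgroup

/-- For n ≥ 9, the subgroup of the alternating group on Fin n fixing each of the points 0, 1, 2, 3 is a standard subgroup. -/
theorem result (n : ℕ) (h4 : 4 ≤ n) (hn : 9 ≤ n) : Cfsg.IsStandardSubgroup (⨅ i : Fin 4, MulAction.stabilizer ↥(alternatingGroup (Fin n)) (Fin.castLE h4 i : Fin n)) := by
  let s : Finset (Fin n) := univ.map (Fin.castLEEmb h4)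
  have hs : #s = 4 := by simp [s]
  have hc : 5 ≤ #sᶜ := by rw [card_compl, hs, Fintype.card_fin]; omega
  rw [show (⨅ i : Fin 4, MulAction.stabilizer (alternatingGroup (Fin n)) (Fin.castLE h4 i : Fin n)) = Al sᶜ by
    ext g; simp [mem_Al, s, Subgroup.mem_iInf, Subgroup.smul_def]]
  have h1 := centralizer_Al (s := sᶜ) (by omega)
  have h2 := centralizer_Al hs.ge
  rw [compl_compl] at h1
  refine ⟨qs_Al hc, ⟨?_, fun g hg => ?_⟩, fun g _ h => ?_, ?_⟩
  · rw [h1, ← Nat.card_congr (equivAl s).toEquiv, alternatingGroup.card_of_card_eq_four (by simp [hs])]; decide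
  · rw [h1] at hg ⊢
    rw [show (Al s).map _ = _ from cj_Al g s, Al_inf]
    refine odd_card_Al (Nat.lt_succ_iff.1 ((card_lt_card (Finset.ssubset_iff_subset_ne.2 ⟨inter_subset_left, fun e => hg ?_⟩)).trans_eq hs))
    rw [mem_normalizer_iff_cj, cj_Al, ← eq_of_subset_of_card_le (inter_eq_left.1 e) (by simp)]
  · rw [commutator_comm, commutator_eq_bot_iff_le_centralizer, h1, show (Al sᶜ).map _ = _ from cj_Al g sᶜ] at h
    have := card_le_card (subset_of_Al_le (by simp; omega) h)
    rw [card_map] at this; omega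
  · ext g
    simp only [mem_normalizer_iff_cj]
    exact ⟨fun h => by rw [cj_centralizer, h], fun h => by rw [h1] at h; rw [← h2, cj_centralizer, h]⟩

end Cfsg.Agent.S1323
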