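import Mathlib
import Cfsg.Statements.S1339
import Cfsg.Agent.H09.TvCent
import Cfsg.Agent.H22.FStar

set_option autoImplicit false
open Cfsg

namespace Cfsg.Agent.S1339

open Matrix H09 in

/-- Let F be a field with 2 elements, n ≥ 3, and t ∈ SL(n, F) a transvection (t = 1 + E_{ij}, i ≠ j). Then the generalized Fitting subgroup of C(t) is O_2(C(t)). -/
theorem result {F : Type*} [Field F] [Fintype F] [DecidableEq F] (hF : Fintype.card F = 2) (n : ℕ) (hn : 3 ≤ n) (i j : Fin n) (hij : i ≠ j) (t : Matrix.SpecialLinearGroup (Fin n) F) (ht : (t : Matrix (Fin n) (Fin n) F) = Matrix.transvection i j 1) : Cfsg.generalizedFittingSubgroup ↥(Subgroup.centralizer ({t} : Set (Matrix.SpecialLinearGroup (Fin n) F))) = Cfsg.pCore 2 ↥(Subgroup.centralizer ({t} : Set (Matrix.SpecialLinearGroup (Fin n) F))) := by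
  have h2 : Nat.card F = 2 := by rw [Nat.card_eq_fintype_card, hF]
  have hF1 : ∀ c : F, c ≠ 0 → c = 1 := fun c hc => by
    obtain ⟨y, -, hy⟩ := (Nat.card_eq_two_iff' (0 : F)).1 h2
    exact (hy c hc).trans (hy 1 one_ne_zero).symm
  have : CharP F 2 := CharTwo.of_one_ne_zero_of_two_eq_zero one_ne_zero (by
    have := FiniteField.cast_card_eq_zero F
    rwa [hF] at this)
  have hv : (Pi.single i 1 : Fin n → F) ≠ 0 := fun h => by simpa using congrFun h i
  have hw : (Pi.single j 1 : Fin n → F) ≠ 0 := fun h => by simpa using congrFun h j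
  have ht' : t.1 = 1 + vecMulVec (Pi.single i 1) (Pi.single j 1) := by
    have := transvection_val (F := F) hij 1
    rw [one_smul] at this
    exact ht.trans this
  set C := Subgroup.centralizer ({t} : Set (Matrix.SpecialLinearGroup (Fin n) F)) with hC
  have hCv : ∀ g ∈ C, g.1 *ᵥ Pi.single i 1 = Pi.single i 1 := fun g hg =>
    (mulVec_eq_of_commute_tv hF1 hv hw ht' (Subgroup.mem_centralizer_singleton_iff.1 hg)).1
  have hP : ptSub (Pi.single i 1 : Fin n → F) ≤ C := by
    rintro s ⟨φ, h, hs⟩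
    refine Subgroup.mem_centralizer_singleton_iff.2 (sl_ext ?_)
    rw [sl_val_mul, sl_val_mul, hs, ht', tv_mul h, tv_mul (by simp [hij]), add_comm φ]
  have hPQ : ptSub (Pi.single i 1 : Fin n → F) ≤ Cfsg.pCoreOf 2 C :=
    H02.le_pCoreOf hP (fun g hg => Subgroup.mem_normalizer_iff.2 fun s => ⟨fun hs => by
      simpa only [hCv g hg] using conj_mem_ptSub g hs, fun hs => by
      have := conj_mem_ptSub g⁻¹ hs
      rw [hCv _ (inv_mem hg)] at this
      simpa only [mul_assoc, inv_inv, inv_mul_cancel_left, inv_mul_cancel, mul_one] using this⟩) (isPGroup_ptSub 2 _)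
  rw [H22.fstar_eq_pCore_iff, ← H02.pCoreOf_subgroupOf]
  intro g hg
  refine hPQ ?_
  have h1 : ∀ ψ, ψ ⬝ᵥ (Pi.single i 1 : Fin n → F) = 0 → ψ ᵥ* g.1.1 = ψ := fun ψ hψ => by
    by_cases h0 : ψ = 0
    · simp [h0]
    have h3 : slTv _ ψ hψ ∈ ptSub (Pi.single i 1 : Fin n → F) := ⟨ψ, hψ, rfl⟩
    exact (mulVec_eq_of_commute_tv hF1 hv h0 (slTv_val _ _ hψ)
      (congrArg Subtype.val (hg ⟨_, hP h3⟩ (hPQ h3))).symm).2
  refine ⟨Pi.single i 1 ᵥ* g.1.1 - Pi.single i 1, by
    rw [sub_dotProduct, ← dotProduct_mulVec, hCv _ g.2, sub_self], ?_⟩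
  refine toLinearMapRight'.injective (LinearMap.ext fun x => ?_)
  rw [toLinearMapRight'_apply, toLinearMapRight'_apply, vecMul_one_add_vecMulVec]
  have h4 := h1 (x - (x ⬝ᵥ Pi.single i 1) • (Pi.single i 1 : Fin n → F)) (by simp)
  rw [sub_vecMul, smul_vecMul, sub_eq_iff_eq_add] at h4
  refine h4.trans ?_
  rw [smul_sub]; abel

end Cfsg.Agent.S1339
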