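import Mathlib
import Cfsg.Statements.S1340
import Cfsg.Agent.H09.Invol
import Cfsg.Agent.H09.SL2Basic

set_option autoImplicit false
open Cfsg

namespace Cfsg.Agent.S1340

open H09 Matrix Subgroup in

/-- Let F be a finite field of odd order and n ≥ 3 with (n, |F|) ≠ (3, 3). Then GL(n, F) has a non-central involution t such that C(t) / O(C(t)) has a component. -/
theorem result {F : Type*} [Field F] [Fintype F] [DecidableEq F] (hF : Odd (Fintype.card F)) (n : ℕ) (hn : 3 ≤ n) (h33 : ¬ (n = 3 ∧ Fintype.card F = 3)) : ∃ t : Matrix.GeneralLinearGroup (Fin n) F, orderOf t = 2 ∧ t ∉ Subgroup.center (Matrix.GeneralLinearGroup (Fin n) F) ∧ Cfsg.HasComponent (↥(Subgroup.centralizer ({t} : Set (Matrix.GeneralLinearGroup (Fin n) F))) ⧸ Cfsg.oddCore ↥(Subgroup.centralizer ({t} : Set (Matrix.GeneralLinearGroup (Fin n) F)))) := by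
  obtain ⟨k, rfl⟩ : ∃ k, n = k + 1 := ⟨n - 1, by omega⟩
  have h2 : (2 : F) ≠ 0 := two_ne_zero_of_odd_card hF
  have h3 : ∀ a : F, a = -a → a = 0 := fun a h =>
    (mul_eq_zero.1 (by linear_combination h)).resolve_left h2
  let e := glReindex (R := F) (finSumFinEquiv (m := k) (n := 1))
  have h4 : glBlk ((-1 : GL (Fin k) F), (1 : GL (Fin 1) F)) ∉ center _ := fun h => by
    obtain ⟨c, hc⟩ := GeneralLinearGroup.mem_center_iff_val_mem_range_scalar.1 h
    have h5 := congrFun₂ hc (.inl ⟨0, by omega⟩) (.inl ⟨0, by omega⟩)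
    have h6 := congrFun₂ hc (.inr 0) (.inr 0)
    simp [glBlk_val] at h5 h6
    exact one_ne_zero (h3 _ (h6.symm.trans h5))
  refine ⟨e (glBlk (-1, 1)), (e.orderOf_eq _).trans (orderOf_eq_prime (by
    rw [← map_pow, ← map_one glBlk]; congr 1; ext1 <;> simp) fun h => h4 (h ▸ one_mem _)), fun h => h4 ?_, ?_⟩
  · exact mem_center_iff.2 fun g => e.injective (by simpa using mem_center_iff.1 h (e g))
  have hk := comp_range_toGL (F := F) (n := k) (by omega) fun h => by
    obtain ⟨m, hm⟩ := hF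
    have := Fintype.one_lt_card (α := F)
    by_contra h'; exact h33 ⟨by omega, by omega⟩
  have h5 : (e.toMonoidHom.comp glBlk).range = centralizer {e (glBlk (-1, 1))} := by
    rw [MonoidHom.range_comp, range_glBlk h2]
    ext g
    obtain ⟨g, rfl⟩ := e.surjective g
    refine (mem_map_iff_mem e.injective).trans ?_
    simp only [mem_centralizer_singleton_iff, ← map_mul, EmbeddingLike.apply_eq_iff_eq]
  let ψ := (MonoidHom.ofInjective (f := e.toMonoidHom.comp glBlk)
    (e.injective.comp glBlk_injective)).trans (MulEquiv.subgroupCongr h5)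
  have h6 : IsComponent ((SpecialLinearGroup.toGL.range).map (MonoidHom.inl (GL (Fin k) F) (GL (Fin 1) F))) :=
    ⟨Normal.isSubnormal ⟨by
      rintro _ ⟨g, hg, rfl⟩ k
      rw [range_toGL_eq_ker_det] at *
      exact ⟨k.1 * g * k.1⁻¹, Normal.conj_mem inferInstance _ hg _, by ext1 <;> simp⟩⟩,
      (H22.qs_map_iff_of_injective fun _ _ h => congrArg Prod.fst h).2 hk.2⟩
  have h7 := H22.comp_map_equiv ψ h6
  refine ⟨_, H22.comp_map_surjective (QuotientGroup.mk'_surjective _) h7 fun h => ?_⟩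
  rw [Subgroup.map_eq_bot_iff, QuotientGroup.ker_mk'] at h
  let d : SpecialLinearGroup (Fin k) F := SpecialLinearGroup.diag2n
    (show (⟨0, by omega⟩ : Fin k) ≠ ⟨1, by omega⟩ by simp) (-1) (by simp)
  have h8 := H02.orderOf_coprime_of_mem_pPrimeCore (h ⟨_, ⟨_, ⟨d, rfl⟩, rfl⟩, rfl⟩)
  rw [MulEquiv.toMonoidHom_eq_coe, MonoidHom.coe_coe, ψ.orderOf_eq, orderOf_injective _
    (fun _ _ h => congrArg Prod.fst h), orderOf_injective _ SpecialLinearGroup.toGL_injective,
    orderOf_eq_prime (p := 2) ?_ fun h => ?_] at h8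
  · simp at h8
  · refine Subtype.ext ((Matrix.SpecialLinearGroup.coe_pow d 2).trans ?_)
    rw [Matrix.SpecialLinearGroup.diag2n_coe, diagonal_pow]
    refine (congrArg diagonal (funext fun i => ?_)).trans diagonal_one
    rw [Pi.pow_apply]; split_ifs <;> simp
  · have := congrFun₂ (congrArg Subtype.val h) ⟨0, by omega⟩ ⟨0, by omega⟩
    simp [d, SpecialLinearGroup.diag2n] at this
    exact one_ne_zero (h3 _ this.symm)

end Cfsg.Agent.S1340
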