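import Mathlib
import Cfsg.Statements.S1617
import Cfsg.Agent.H08.R3a
import Cfsg.Agent.H17.R3C
import Cfsg.Agent.H22.R3E

set_option autoImplicit false
open Cfsg

namespace Cfsg.Agent.S1617

/-- A generating conjugacy class of involutions on which the group (with trivial solvable radical) acts with rank 3 is a class of 3-transpositions. -/
theorem result {G : Type*} [Group G] [Finite G] (hsol : ∀ N : Subgroup G, N.Normal → Group.IsSolvable ↥N → N = ⊥) {D : Set G} (hinv : ∀ d ∈ D, orderOf d = 2) (hconj : ∃ d ∈ D, D = conjugatesOf d) (hgen : Subgroup.closure D = ⊤) (hrank : ∀ x ∈ D, ∃ y ∈ D, ∃ z ∈ D, {w : G | ∃ g : G, Commute g x ∧ g * y * g⁻¹ = w} ≠ {w : G | ∃ g : G, Commute g x ∧ g * x * g⁻¹ = w} ∧ {w : G | ∃ g : G, Commute g x ∧ g * z * g⁻¹ = w} ≠ {w : G | ∃ g : G, Commute g x ∧ g * x * g⁻¹ = w} ∧ {w : G | ∃ g : G, Commute g x ∧ g * y * g⁻¹ = w} ≠ {w : G | ∃ g : G, Commute g x ∧ g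 * z * g⁻¹ = w} ∧ D = {w : G | ∃ g : G, Commute g x ∧ g * x * g⁻¹ = w} ∪ {w : G | ∃ g : G, Commute g x ∧ g * y * g⁻¹ = w} ∪ {w : G | ∃ g : G, Commute g x ∧ g * z * g⁻¹ = w}) : Cfsg.IsThreeTranspositionClass D := by
  obtain ⟨⟨p, hp, p2, ho⟩, hc, h3⟩ := H17.R3.red hsol hinv hconj hgen hrank
  have cj : ∀ d ∈ D, ∀ g : G, g * d * g⁻¹ ∈ D := by
    obtain ⟨c, -, rfl⟩ := hconj
    exact fun d hd g => hd.trans (isConj_iff.2 ⟨g, rfl⟩)
  have sq : ∀ d ∈ D, d * d = 1 := fun d hd => by rw [← pow_two, ← hinv d hd, pow_orderOf_eq_one]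
  have ho' : ∀ a ∈ D, ∀ b ∈ D, a * b = b * a ∨ (a * b) ^ p = 1 := fun a ha b hb =>
    (ho a ha b hb).imp id fun h => by rw [← h]; exact pow_orderOf_eq_one _
  by_cases p3 : p = 3
  · refine ⟨⟨hinv, fun a ha b hb => (ho' a ha b hb).imp (fun h => ?_) fun h => p3 ▸ h⟩, hconj, hgen⟩
    rw [pow_two]; exact H29.RI.sq_cm (sq a ha) (sq b hb) h
  have po := hp.odd_of_ne_two p2
  have h5 : 5 ≤ p := hp.five_le_of_ne_two_of_ne_three p2 p3
  have hD : Cfsg.IsOddTranspositionSet D := H08.R3.not4 po ⟨hinv, hgen, cj, fun a ha b hb =>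
    (ho a ha b hb).imp id fun h => Or.inl (by rw [h]; exact po)⟩ ho'
  exact (H22.R3.fin (H17.R3.pcore_bot hsol) hinv hconj hgen hc h3
    (fun a ha b hb e he _ h0 h1 h2 => H08.R3.ll' hp h5 hD ho' ha hb he h0 h1 h2)
    fun x hx f hf g hg d hd => H08.R3.p4 hp h5 hD ho' hx hf hg hd).elim

end Cfsg.Agent.S1617
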