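import Cfsg.Statements.S1628
import Mathlib
import Cfsg.Agent.H27.RuE
-- import your own Cfsg.Agent.* helpers here

set_option autoImplicit false
open Cfsg

namespace Cfsg.Agent.S1628

open scoped Pointwise commutatorElement

/-- The Conway–Wales lattice as stored is even with no vectors of true norm 2: stored norms are multiples of 8, never equal to 8, and the minimum over nonzero vectors is 16. -/
theorem result : (∀ x ∈ Cfsg.Spor.ruLattice, (8 : ℤ) ∣ Cfsg.Spor.ruNorm x) ∧ (∀ x ∈ Cfsg.Spor.ruLattice, Cfsg.Spor.ruNorm x ≠ 8) ∧ (∀ x ∈ Cfsg.Spor.ruLattice, x ≠ 0 → 16 ≤ Cfsg.Spor.ruNorm x) ∧ ∃ x ∈ Cfsg.Spor.ruLattice, Cfsg.Spor.ruNorm x = 16 := by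
  simp only [H27.Ru.norm_eq]
  have h := H27.Ru.lat
  refine ⟨h.ev, fun x hx e => ?_, fun x hx h0 => ?_, _, h.mem 0 (by norm_num), h.nrm 0 (by norm_num)⟩
  · have := h.cls x hx (by rintro rfl; simp [H27.Ru.dot, H27.Ru.co_zero] at e) (by omega)
    omega
  · by_contra c
    have := h.cls x hx h0 (by omega)
    omega

end Cfsg.Agent.S1628
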