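import Mathlib
import Cfsg.Statements.S1669
import Cfsg.Agent.H14.RuR1
import Cfsg.Agent.H14.RuR2
import Cfsg.Agent.H14.RuR3
import Cfsg.Agent.H27.RuM

set_option autoImplicit false
open Cfsg

namespace Cfsg.Agent.S1669

open H13 H14.PK H14.PK.TS H27.PKx H27.MG H14.R3 H14.XS MulAction H14.RuR

set_option maxRecDepth 100000
set_option synthInstance.maxSize 2000

theorem c1 : ∀ i < 4060, (bt MA i = true ∧ (bt MD i = true ↔ i ≠ 0 ∧ ¬ bt MG i = true)) ∧
    (bt MD i = true → get 3 LC i ≤ 2 → get 3 LC (get 12 u i) ≤ 2 → bt (nat_lit 0x8000000000000000000000000000000000000000000000000000000000000000000000000000000000000000000000000000000000000000000000000000000040000000000000000000000000000000000000000000000000000000000000000000000000000000000000000000000000000000000000000000000000000000000000000000000000000000000000000000000000000000000000000000000000000000000000000000000000000000000000000000000000000000000000002000000000000000000000000000000000000000000000000000000000000000000000000000000000000000000000000000000000000000000000000000000000000000000000000000000000000000000000000000000000000000000000000000000000000000000000000000000000000000000000000000000000000000000000000000000000000000000000000000000000000000000000000000000000000000000000000000000000000000000000000000000000000000000000000000000000000000000000000000000000000000000000000000000000000000000000000000000000000000000000000000000000000000000000000000000000000000000000000000000000000000000000000000000000000000000000000)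 i = true) := fun i hi => by
  have := allLt_iff.1 (by decide +kernel : allLt (fun i => band (band (bt MA i) (bn (bx (bt MD i) (band (bn (Nat.beq i 0)) (bn (bt MG i))))))
    (bor (bn (band (bt MD i) (band (Nat.ble (get 3 LC i) 2) (Nat.ble (get 3 LC (get 12 u i)) 2)))) (bt (nat_lit 0x8000000000000000000000000000000000000000000000000000000000000000000000000000000000000000000000000000000000000000000000000000000040000000000000000000000000000000000000000000000000000000000000000000000000000000000000000000000000000000000000000000000000000000000000000000000000000000000000000000000000000000000000000000000000000000000000000000000000000000000000000000000000000000000000002000000000000000000000000000000000000000000000000000000000000000000000000000000000000000000000000000000000000000000000000000000000000000000000000000000000000000000000000000000000000000000000000000000000000000000000000000000000000000000000000000000000000000000000000000000000000000000000000000000000000000000000000000000000000000000000000000000000000000000000000000000000000000000000000000000000000000000000000000000000000000000000000000000000000000000000000000000000000000000000000000000000000000000000000000000000000000000000000000000000000000000000000000000000000000000000000)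 i))) 4060 = true) i hi
  simp only [band_eq_true, bor_eq_true, bn_iff, bx_iff, Nat.ble_eq, Nat.beq_eq, not_not] at this
  exact ⟨this.1, fun a b c => this.2.resolve_left fun d => d ⟨a, b, c⟩⟩

theorem hu : ∀ X ∈ (Finset.range 5).powerset, ∀ e < 2304, ∑ i ∈ X, nd 0 [1, 10, 80, 640, 1024] i + e = 2304 →
    2304 ∣ (4060 - 2304 - 1) * e → X = {4} := fun X hX e a b c =>
  (by decide +kernel : ∀ X ∈ (Finset.range 5).powerset, 0 < ∑ i ∈ X, nd 0 [1, 10, 80, 640, 1024] i →
    2304 ∣ 1755 * (2304 - ∑ i ∈ X, nd 0 [1, 10, 80, 640, 1024] i) → X = {4}) X hX (by omega) (by rwa [Nat.sub_eq_of_eq_add' b.symm])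

variable {R : Type*} [Group R] {S : TS R 12 4060} {bs : List ℕ} (M : Mdl S Ls bs 145926144000)
include M

theorem hS : ∀ t ∈ Ps.map Prod.fst, S.In (S.st 0) t := in_st (In.slp e2 M.mem) (by decide +kernel)

theorem cS : Nat.card (S.st 0) = 35942400 := by
  have c := card_st (S := S) (b := 0) (by norm_num) fun i hi =>
    (trans_of (by norm_num) (by decide +kernel) M.mem i hi).imp fun _ => And.right
  rw [M.card] at c
  omega

theorem gr : (∀ g ∈ S.st 0, ∀ i < 4060, get 1 MG (S.ap g i) = get 1 MG i) ∧
    ∀ x < 4060, ∀ y < 4060, Rel S (get 1 MG) 1 x y → Rel S (get 1 MG) 1 y x := by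
  obtain ⟨a, b, d⟩ := one_of lG (hS M) (cl_of_low lo (hS M) (cS M))
  exact ⟨d, fun x _ y hy => Rel.symm (by norm_num) (fun i hi e => (a i).1 ((b i hi).1 e)) (by decide +kernel) (by norm_num)
    (((apV_spec M.mem [0, 1, 0, 0, 0, 0, 1, 0, 0, 1, 0, 1, 1, 1, 1, 0, 1, 0, 1, 1, 0, 1, 1, 1, 1, 0, 1, 0, 1, 1, 0, 1, 1, 0, 0, 1, 1, 1, 0, 0, 1, 1, 0, 0, 1, 1, 1, 0, 0, 1, 1, 1, 1, 0, 1, 0, 1, 1, 0, 1, 1, 0, 0, 1, 1, 1, 0, 0, 1, 1, 0, 0, 1, 1, 1, 0, 0, 1, 1, 0, 0, 1, 1, 1, 0, 0, 1, 1, 1, 1, 0, 1, 0, 1, 1, 0, 1, 1, 0, 0, 1, 1, 1, 0, 0, 1, 1, 0, 0, 1, 1, 1, 0, 0]) 0 (by norm_num)).symm.trans (by decide +kernel))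
    (((apV_spec M.mem [0, 1, 0, 0, 0, 0, 1, 0, 0, 1, 0, 1, 1, 1, 1, 0, 1, 0, 1, 1, 0, 1, 1, 1, 1, 0, 1, 0, 1, 1, 0, 1, 1, 0, 0, 1, 1, 1, 0, 0, 1, 1, 0, 0, 1, 1, 1, 0, 0, 1, 1, 1, 1, 0, 1, 0, 1, 1, 0, 1, 1, 0, 0, 1, 1, 1, 0, 0, 1, 1, 0, 0, 1, 1, 1, 0, 0, 1, 1, 0, 0, 1, 1, 1, 0, 0, 1, 1, 1, 1, 0, 1, 0, 1, 1, 0, 1, 1, 0, 0, 1, 1, 1, 0, 0, 1, 1, 0, 0, 1, 1, 1, 0, 0]) 341 (by norm_num)).symm.trans (by decide +kernel)) hy⟩

theorem r0 : ∀ y < 4060, Rel S (get 1 MG) 1 0 y ↔ bt MG y = true :=
  rel_lit (j := 1) (by norm_num) (gr M).1 M.mem [] (by decide +kernel)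

theorem bound : Nat.card (AutR S (get 1 MG) 1) ≤ 2 * Nat.card R := by
  have a := In.slp e1 (hS M)
  have ik : ∀ t ∈ ks, S.In (S.st 0 ⊓ S.st 2305) t := fun t ht =>
    have b := a t (by simp [Ts, ht])
    b.of_el ⟨b.el_mem, (in_st (c := 2305) (gs := ks) (fun t ht => (a t (by simp [Ts, ht])).mono le_top) (by decide +kernel) t ht).el_mem⟩
  have hl := sig_inv (j := 1) (by norm_num) (gr M).1 (c := 2305) (by norm_num) M.mem (lab_of lA ik).1
    (fun i hi => mem_msk.2 ⟨hi, (c1 i hi).1.1⟩) (r0 M)
    (rel_lit (j := 1) (by norm_num) (gr M).1 M.mem _ kc') (v := 10) (r := 406) (by norm_num) (by norm_num) (us := uA) (by decide +kernel)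
    ((H14.forceL_eq _ _).symm.trans e9)
  refine (aut3 (lab' := fun i => get 2 5680 (get 4 LA i)) (by norm_num) (by norm_num) (fun g hg y hy => congrArg (get 2 5680) (hl g hg y hy)) a (r0 M) (by norm_num) (by norm_num)
    ((H14.forceL_eq _ _).symm.trans e10)).trans ?_
  rw [M.card]
  decide +kernel

theorem main {H Ω : Type*} [Group H] [MulAction H Ω] [Fintype Ω] {Γ : SimpleGraph Ω} [DecidableRel Γ.Adj] {l m : ℕ}
    (h : Γ.IsSRGWith 4060 2304 l m) {a : Ω} (hA : ∀ (g : H) x y, Γ.Adj (g • x) (g • y) ↔ Γ.Adj x y) (ha : ∀ g : H, g • a = a) {b c : Ω}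
    (hb : orbit H b = {y | Γ.Adj a y}) (hc : orbit H c = {y | y ≠ a ∧ ¬ Γ.Adj a y}) (nb : (orbit H b).ncard = 2304)
    (nc : (orbit H c).ncard = 1755) {T : TS H 12 4060} (N : Mdl T (Ps.map Prod.fst) (lv.map Prod.fst) 35942400) :
    ∃ Ψ : ℕ → Ω, Set.BijOn Ψ {i | i < 4060} Set.univ ∧ ∀ x < 4060, ∀ y < 4060, Γ.Adj (Ψ x) (Ψ y) ↔ Rel S (get 1 MG) 1 x y := by
  have iT := In.slp e1 N.mem
  have a1 := iT
  simp only [Ts, List.forall_mem_append, List.forall_mem_singleton] at a1
  obtain ⟨-, ik, ib, ip, ig, iu⟩ := a1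
  obtain ⟨tD, -, -⟩ := one_of lD N.mem N.cl
  obtain ⟨tG, hG, -⟩ := one_of lG N.mem N.cl
  simp only [Subgroup.mem_top, true_and] at tD tG
  have cD : (msk 4060 MD).card = 1755 := card_msk (by decide +kernel)
  have cs := card_st' (by norm_num) tD
  rw [cD, N.card] at cs
  replace cs : Nat.card (T.st 2305) = 20480 := by omega
  have ik' := in_st (c := 2305) ik (by decide +kernel)
  obtain ⟨Lc, hl⟩ := lab_of lC ik'
  rw [cl_of_low e3 ik' cs] at hl
  obtain ⟨z, hz, e⟩ := dich (p := 2) (a := 12) (r := 5) Nat.prime_two Lc hl sz.1 (fun g => (tD _).2 ⟨g, rfl⟩) rfl (by decide) (z := c)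
    (by rw [nc]; norm_num) cs (by rw [nc, N.card]; norm_num) (by decide +kernel) ((iu.ap_el _).trans (by decide +kernel))
  have hz' : orbit H z = orbit H c := orbit_eq_iff.2 hz
  rcases e with e | ⟨O, e1, -, o, e3, e4, e5⟩
  swap
  · have b2 : O ⊆ msk 4060 (nat_lit 0x8000000000000000000000000000000000000000000000000000000000000000000000000000000000000000000000000000000000000000000000000000000040000000000000000000000000000000000000000000000000000000000000000000000000000000000000000000000000000000000000000000000000000000000000000000000000000000000000000000000000000000000000000000000000000000000000000000000000000000000000000000000000000000000000002000000000000000000000000000000000000000000000000000000000000000000000000000000000000000000000000000000000000000000000000000000000000000000000000000000000000000000000000000000000000000000000000000000000000000000000000000000000000000000000000000000000000000000000000000000000000000000000000000000000000000000000000000000000000000000000000000000000000000000000000000000000000000000000000000000000000000000000000000000000000000000000000000000000000000000000000000000000000000000000000000000000000000000000000000000000000000000000000000000000000000000000000000000000000000000000000)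 := fun i hi =>
      have hi' := (mem_msk.1 (e1 i hi).1)
      mem_msk.2 ⟨hi'.1, (c1 i hi'.1).2 hi'.2 (e1 i hi).2.1 (iu.ap_el i ▸ (e1 i hi).2.2)⟩
    have b4 := Set.ncard_le_ncard b2
    rw [Set.ncard_coe_finset, card_msk (c := 3) (by decide +kernel)] at b4
    exact absurd e5 ((by decide : ∀ e ≤ 3, ∀ o < e, 0 < o → ¬ 10 ∣ o * e) _ b4 o e3 e4)
  obtain ⟨rfl, q, I, r3, y, hy, x, hx, r2⟩ := core' h (mu_ne (d := 1754) (p := 439) h (by norm_num) (by norm_num) (by norm_num) (by norm_num))
    hA ha (hz'.trans hc) (by norm_num) tD e (by rw [hz', nc, cD]) Lc sz.1 hu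
    (l' := 1328) (m' := 1280) (by decide) iT Nat.prime_five (pgrp (by decide +kernel) ip)
    (lab_of l5 fun t ht => (ip t ht).cl ht).1 ((H14.forceL_eq _ _).symm.trans e6) hb (by rw [nb]; norm_num)
  obtain ⟨t, ht, hd⟩ := H13.anyL_iff.1 (H13.allL_iff.1 e8 x hx)
  have it : T.In ⊤ t := List.forall_mem_cons.2 ⟨In.one, ig⟩ t ht
  have r4 : ∀ i ∈ msk 4060 MD, Γ.Adj ((T.el t)⁻¹ • y) (q i) ↔ bt x (get 7 L5 (get 12 t i)) = true := fun i hi => by
    rw [← hA (T.el t), smul_inv_smul, ← I.eqv _ i hi, r2 _ (I.inv _ i hi), it.ap_el]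
  have hy' : orbit H ((T.el t)⁻¹ • y) = orbit H b := orbit_eq_iff.2 (mem_orbit_of_mem_orbit _ hy)
  rcases bor_eq_true.1 hd with d | d
  swap
  · exact absurd (orb_big ((H14.forceL_eq _ _).symm.trans e7) iT hA I fun i hi => (r4 i hi).trans (agr_spec d i hi)) (by rw [hy', nb]; omega)
  have kb := rel_lit (j := 1) (by norm_num) (gr M).1 M.mem _ kb'
  have kc := rel_lit (j := 1) (by norm_num) (gr M).1 M.mem _ kc'
  refine finish' hA (rel_of_cl (by norm_num) N.mem N.cl fun t ht => (hS M t ht).mono le_top) (gr M).2 (by norm_num)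
    (fun i hi => (r0 M i hi).trans (mem_msk.trans (and_iff_right hi)).symm) (fun i hi => ?_)
    (fun c => absurd (mem_msk.1 c).2 (by decide +kernel)) I ((tD _).2 ⟨1, T.ap_one (by norm_num)⟩) (fun i => (tD i).1) (fun i hi => ?_)
    (by norm_num) tG (hy'.trans hb) (by rw [hy', nb, card_msk (c := 2304) (by decide +kernel)])
    (fun i hi => (r4 i hi).trans ((agr_spec d i hi).trans (kb i (mem_msk.1 hi).1).symm))
    (lab_of lB (in_st ib (by decide +kernel))).1 sz.2 (sep_of (by norm_num) (gr M).1 M.mem kb ((H14.forceL_eq _ _).symm.trans e11))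
    (Y := 60) ?_ fun i hi => ?_
  · rw [mem_msk, mem_msk, and_iff_right hi, and_iff_right hi]
    exact (c1 i hi).1.2
  · rw [kc i (mem_msk.1 hi).1, ← agr_spec (f := fun i => Nat.beq (get 3 LC i) 5) (by decide +kernel) i hi, Nat.beq_eq,
      r3 i (mem_msk.1 hi).1, and_iff_right hi]
  · classical
    rw [← Nat.card_coe_set_eq, Nat.card_eq_fintype_card, h.of_adj a _ (hb.le (hy' ▸ mem_orbit_self _))]
    decide +kernel
  · rw [kb i (mem_msk.1 hi).1]
    exact agr_spec (f := fun i => bt 60 (get 3 LB i)) (by decide +kernel) i hi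

omit M

/-- Recognition of the Rudvalis group as a rank 3 permutation group: a transitive permutation group on 4060 points in which the stabiliser of a point is isomorphic to the Ree group ²F₄(2) and has two further orbits, of sizes 1755 and 2304, is isomorphic to the Rudvalis group. -/
theorem result {Ω : Type*} [Fintype Ω] [DecidableEq Ω] (hΩ : Fintype.card Ω = 4060) (G : Subgroup (Equiv.Perm Ω)) [MulAction.IsPretransitive G Ω] (a : Ω)  (e : MulAction.stabilizer G a ≃* Cfsg.Lie.twistedF4 (ZMod 2) 1) (b c : Ω) (hb : (MulAction.orbit (MulAction.stabilizer G a) b).ncard = 1755) (hc : (MulAction.orbit (MulAction.stabilizer G a) c).ncard = 2304) : Cfsg.Spor.IsoRu G := by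
  obtain ⟨Γ, _, hA, h1, h2, l, m, h⟩ := rk3 (k := 2302) (l := 1753) hc hb (by norm_num) hΩ
  obtain ⟨S, M⟩ := H27.Ru.model
  obtain ⟨S', M'⟩ := H27.F42.model
  obtain ⟨f⟩ := res_sub (cS M) (M'.regen e4) (hS M) lo e5
  let e' := e.trans f.symm
  have N := mdl_of_low (S := (S.sub _).comap e'.toMonoidHom e'.injective) lo (fun t ht => in_comap.2
    ((Subgroup.map_top_of_surjective e'.toMonoidHom e'.surjective).symm ▸ (hS M t ht).sub)) ((Nat.card_congr e'.toEquiv).trans (cS M))
  obtain ⟨Ψ, p, q⟩ := main M (H := stabilizer G a) h (fun g => hA g) (fun g => g.2) h1 h2 hc hb N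
  have := H27.Ru.simple
  refine equiv_of_bound hA p q ?_ (by rw [M.card]; norm_num) (by norm_num) (bound M)
  rw [← (stabilizer G a).index_mul_card, index_stabilizer_of_transitive, Nat.card_eq_fintype_card, hΩ, N.card, M.card]

end Cfsg.Agent.S1669
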