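import Mathlib
import Cfsg.Statements.S1903
import Cfsg.Agent.H12.U34C

set_option autoImplicit false
open Cfsg

namespace Cfsg.Agent.S1903

/-- A finite group of order 320 whose derived subgroup has order 64 and has centre a Klein four-group is isomorphic to the centralizer of an involution in PSU₃(4). -/
theorem result {G : Type*} [Group G] [Finite G] (hG : Nat.card G = 320) (hD : Nat.card (commutator G) = 64)
    (hZ : IsKleinFour (Subgroup.center (commutator G)))
    {F : Type*} [Field F] [Fintype F] (hF : Fintype.card F = 16) :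
    ∃ t : Cfsg.PSU 3 F 4, orderOf t = 2 ∧ Nonempty (G ≃* Subgroup.centralizer ({t} : Set (Cfsg.PSU 3 F 4))) := by
  have : H18.U3.UF F 4 := ⟨hF⟩
  obtain ⟨t, t2, c, ⟨f⟩⟩ := H12.U34.cent (F := F)
  have cF : Fintype.card F = 2 ^ 4 := hF
  have : CharP F 2 := charP_of_card_eq_prime_pow cF
  let e := MulEquiv.ofBijective (H18.U3.toP : H18.U3.G F 4 →* _) ⟨(MonoidHom.ker_eq_bot_iff _).1 (by
    rw [H18.U3.ker_toP, eq_bot_iff]
    intro g hg
    obtain ⟨k, h, rfl⟩ := H18.U3.mem_center.1 hg
    have e : H18.U3.barU k = k ^ 4 := Units.ext (by simp [H18.U3.bar_apply])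
    have k15 : k ^ 15 = 1 := by
      have := pow_card_eq_one' (x := k)
      rwa [Nat.card_units, Nat.card_eq_fintype_card, hF] at this
    rw [e] at h
    have : k = 1 := calc
      k = k ^ 15 * (((k ^ 4) ^ 2 * k⁻¹) ^ 2)⁻¹ := by group
      _ = 1 := by simp [k15, h]
    simp [this]), H18.U3.toP_surj⟩
  obtain ⟨φ⟩ := H12.U34.iso hG hD hZ.card_four c ((Nat.card_congr f.toEquiv).trans H18.U3.Q.card)
    ((Nat.card_congr (Subgroup.centerCongr f).toEquiv).trans H18.U3.Q.card_center)
  refine ⟨e t, (e.orderOf_eq t).trans t2, ⟨φ.trans ((e.subgroupMap _).trans (.subgroupCongr ?_))⟩⟩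
  ext g
  obtain ⟨g, rfl⟩ := e.surjective g
  simp [Subgroup.mem_centralizer_singleton_iff, ← map_mul]

end Cfsg.Agent.S1903
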