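import Mathlib
import Cfsg.Statements.S1907
import Cfsg.Agent.BG.Quo3
import Cfsg.Agent.BG.Api4
import Cfsg.Agent.H24.T418
import Cfsg.Agent.H01.Coprime

set_option autoImplicit false
open Cfsg

namespace Cfsg.Agent.S1907

open BG

/-- Let P be a Sylow p-subgroup of a finite group G, H = P ∩ O_{p',p}(G), N = N_G(H) and D = O_{p'}(G). (a) If y is an element of p-power order of N and d ∈ D with d⁻¹ y d ∈ N, then d = d₁ d₂ with d₁ ∈ C_D(y) and d₂ ∈ C_D(H). (b) Two elements of P that are conjugate in G are conjugate in N. -/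
theorem result {G : Type*} [Group G] [Finite G] {p : ℕ} [Fact p.Prime] (P : Sylow p G) :
    (∀ y ∈ Subgroup.normalizer (((P : Subgroup G) ⊓ Cfsg.pPrimePCore p G : Subgroup G) : Set G), (∃ k : ℕ, orderOf y = p ^ k) →
      ∀ d ∈ Cfsg.pPrimeCore p G, d⁻¹ * y * d ∈ Subgroup.normalizer (((P : Subgroup G) ⊓ Cfsg.pPrimePCore p G : Subgroup G) : Set G) →
        ∃ d₁ ∈ Cfsg.pPrimeCore p G ⊓ Subgroup.centralizer ({y} : Set G),
          ∃ d₂ ∈ Cfsg.pPrimeCore p G ⊓ Subgroup.centralizer (((P : Subgroup G) ⊓ Cfsg.pPrimePCore p G : Subgroup G) : Set G), d = d₁ * d₂) ∧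
    ∀ x y : G, x ∈ (P : Subgroup G) → y ∈ (P : Subgroup G) → IsConj x y →
      ∃ n ∈ Subgroup.normalizer (((P : Subgroup G) ⊓ Cfsg.pPrimePCore p G : Subgroup G) : Set G), n * x * n⁻¹ = y := by
  have hp : p.Prime := Fact.out
  set H := (P : Subgroup G) ⊓ Cfsg.pPrimePCore p G with hH
  have hHs : IsSylowIn p H (Cfsg.pPrimePCore p G) :=
    (isSylowIn_top hp P).inf_normal le_top (H01.le_normalizer_of_normal _ _)
  have hD : (Nat.card (Cfsg.pPrimeCore p G)).Coprime p := H02.pPrimeCore_coprime p G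
  have hE : ∀ d ∈ Cfsg.pPrimeCore p G, d ∈ N_(H) → d ∈ C_(H) := by
    intro y hy hy' h hh
    have h2 : y * h * y⁻¹ * h⁻¹ ∈ H ⊓ Cfsg.pPrimeCore p G := Subgroup.mem_inf.2
      ⟨H.mul_mem ((hy' h).1 hh) (H.inv_mem hh), by
        have := Subgroup.mul_mem _ hy ((inferInstance : (Cfsg.pPrimeCore p G).Normal).conj_mem _
          (Subgroup.inv_mem _ hy) h)
        simpa only [mul_assoc] using this⟩
    rw [H02.isPGroup_inf_pPrimeCore (hHs.pg hp), Subgroup.mem_bot] at h2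
    calc h * y = (y * h * y⁻¹ * h⁻¹)⁻¹ * (y * h) := by group
      _ = y * h := by rw [h2]; group
  have ha : ∀ y ∈ N_(H), (∃ k : ℕ, orderOf y = p ^ k) → ∀ d ∈ Cfsg.pPrimeCore p G, d⁻¹ * y * d ∈ N_(H) →
      ∃ d₁ ∈ Cfsg.pPrimeCore p G ⊓ C_[y], ∃ d₂ ∈ Cfsg.pPrimeCore p G ⊓ C_(H), d = d₁ * d₂ := by
    rintro y hy ⟨k, hk⟩ d hd hdy
    obtain ⟨n, hn, h⟩ := H01.coset_fixed (A := Subgroup.zpowers y) (N := Cfsg.pPrimeCore p G ⊓ C_(H))
      (H01.le_normalizer_inf (H01.le_normalizer_of_normal _ _)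
        (H01.le_normalizer_centralizer (Subgroup.zpowers_le.2 hy)))
      (by rw [Nat.card_zpowers, hk]
          exact ((hD.coprime_dvd_left (Subgroup.card_dvd_of_le inf_le_left)).symm).pow_left k)
      (Or.inl inferInstance) (g := d) (by
        rintro _ ⟨i, rfl⟩
        have h1 : d⁻¹ * y ^ i * d * (y ^ i)⁻¹ ∈ Cfsg.pPrimeCore p G := by
          have := Subgroup.mul_mem _ (Subgroup.inv_mem _ hd)
            ((inferInstance : (Cfsg.pPrimeCore p G).Normal).conj_mem _ hd (y ^ i))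
          simpa only [mul_assoc] using this
        refine ⟨h1, hE _ h1 (Subgroup.mul_mem _ ?_ (Subgroup.inv_mem _ (Subgroup.zpow_mem _ hy i)))⟩
        have := Subgroup.zpow_mem _ hdy i
        rwa [show d⁻¹ * y * d = d⁻¹ * y * d⁻¹⁻¹ by rw [inv_inv], conj_zpow, inv_inv] at this)
    exact ⟨d * n, ⟨Subgroup.mul_mem _ hd hn.1, cent_zpowers y ▸ h⟩, n⁻¹, Subgroup.inv_mem _ hn, by group⟩
  refine ⟨ha, fun x y hx hy hc => ?_⟩
  obtain ⟨g, rfl⟩ := isConj_iff.1 hc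
  have hPN : (P : Subgroup G) ≤ N_(H) :=
    H01.le_normalizer_inf Subgroup.le_normalizer (H01.le_normalizer_of_normal _ _)
  have h1 : Cfsg.pPrimeCore p G ⊔ H = Cfsg.pPrimePCore p G := by
    have := ppcore_eq_sup (X := (⊤ : Subgroup G)) hp (by rw [H24.ppcore_top]; exact hHs)
    rwa [H24.ppcore_top, H02.piCoreOf_top, H02.piCore_compl_singleton hp] at this
  have h2 := sylow_frattini hp hHs le_top (H01.le_normalizer_of_normal _ _)
  have h3 : N_(H) ⊔ Cfsg.pPrimeCore p G = ⊤ := by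
    rw [eq_top_iff, ← h2, ← h1]
    exact sup_le (sup_le le_sup_right (Subgroup.le_normalizer.trans le_sup_left)) (inf_le_right.trans le_sup_left)
  obtain ⟨n, hn, d, hd, rfl⟩ := (H01.mem_sup_of_le_normalizer (H01.le_normalizer_of_normal _ _)).1
    (h3 ▸ Subgroup.mem_top g)
  obtain ⟨d₁, hd₁, d₂, hd₂, e⟩ := ha x (hPN hx) (IsPGroup.iff_orderOf.1 P.isPGroup' ⟨x, hx⟩ |>.imp
    fun k hk => by rw [← hk]; exact Subgroup.orderOf_coe (⟨x, hx⟩ : (P : Subgroup G))) d⁻¹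
    (Subgroup.inv_mem _ hd) (by
      have := Subgroup.mul_mem _ (Subgroup.mul_mem _ (Subgroup.inv_mem _ hn) (hPN hy)) hn
      convert this using 1; group)
  refine ⟨n * d₂⁻¹, Subgroup.mul_mem _ hn (Subgroup.inv_mem _ (Subgroup.centralizer_le_normalizer _ hd₂.2)), ?_⟩
  have h4 := mem_cent1.1 hd₁.2
  rw [← inv_inv d, e]
  calc n * d₂⁻¹ * x * (n * d₂⁻¹)⁻¹ = n * d₂⁻¹ * d₁⁻¹ * (d₁ * x) * (n * d₂⁻¹)⁻¹ := by group
    _ = _ := by rw [h4]; group

end Cfsg.Agent.S1907
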