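import Mathlib
import Cfsg.Statements.S1910
import Cfsg.Agent.H16.TI

set_option autoImplicit false
open Cfsg

namespace Cfsg.Agent.S1910

open BG

/-- Let Q be a tightly embedded subgroup of a finite group G, g an element outside N_G(Q), T a nontrivial Sylow 2-subgroup of Q^g ∩ N_G(Q), and S a Sylow 2-subgroup of QT containing T. Then T ∩ Q = 1, and N_S(T) is the direct product of T and N_S(T) ∩ Q, with N_S(T) ∩ Q isomorphic to T. -/
theorem result {G : Type*} [Group G] [Finite G] (Q : Subgroup G) (hQ : Cfsg.IsTightlyEmbedded Q)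
    (g : G) (hg : g ∉ Subgroup.normalizer (Q : Set G))
    (T : Subgroup G) (hT1 : T ≠ ⊥) (hT : T ≤ Q.map (MulAut.conj g).toMonoidHom ⊓ Subgroup.normalizer (Q : Set G))
    (hTsyl : IsPGroup 2 T ∧ ¬ 2 ∣ T.relIndex (Q.map (MulAut.conj g).toMonoidHom ⊓ Subgroup.normalizer (Q : Set G)))
    (S : Subgroup G) (hTS : T ≤ S) (hS : S ≤ Q ⊔ T) (hSsyl : IsPGroup 2 S ∧ ¬ 2 ∣ S.relIndex (Q ⊔ T)) :
    T ⊓ Q = ⊥ ∧
      T ⊓ (S ⊓ Subgroup.normalizer (T : Set G) ⊓ Q) = ⊥ ∧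
      ⁅T, S ⊓ Subgroup.normalizer (T : Set G) ⊓ Q⁆ = ⊥ ∧
      T ⊔ (S ⊓ Subgroup.normalizer (T : Set G) ⊓ Q) = S ⊓ Subgroup.normalizer (T : Set G) ∧
      Nonempty (↥(S ⊓ Subgroup.normalizer (T : Set G) ⊓ Q) ≃* T) := by
  have h2 := Nat.prime_two
  have h : H16.TE Q := ⟨even_iff_two_dvd.1 hQ.1, fun g hg e =>
    (Nat.not_even_iff_odd.2 (hQ.2 g hg)) (even_iff_two_dvd.2 e)⟩
  have hT' : IsSylowIn 2 T (cj g Q ⊓ N_(Q)) := isSylowIn_mk h2 hT hTsyl.1 hTsyl.2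
  have hS' : IsSylowIn 2 S (Q ⊔ T) := isSylowIn_mk h2 hS hSsyl.1 hSsyl.2
  obtain ⟨h1, hD, h3⟩ := h.step hg hT1 hT' hTS hS'
  refine ⟨h1, hD.disj, comm_eq_bot.2 hD.cent', hD.sup, ?_⟩
  set R := S ⊓ N_(T) ⊓ Q
  have hR2 : IsPGroup 2 R := pg_le hSsyl.1 (inf_le_left.trans inf_le_left)
  have h4 : Nat.card R = Nat.card T := le_antisymm (h.card_le_symm hg hT' hR2 (le_inf inf_le_right
    ((inf_le_left.trans inf_le_right).trans ((h.cj g).norm_le hTsyl.1 hT1 (hT.trans inf_le_left)))))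
    (h.card_le hg hT1 hT' hTS hS')
  rcases h3 with ⟨s, h5, h6⟩ | h5
  · have hn : cj s T ≤ N_(T) := h5.trans inf_le_right
    have hn' : R ≤ N_(T) := inf_le_left.trans inf_le_right
    have e : quo T (cj s T) = quo T R := by
      rw [quo_eq_quo_iff hn hn', hD.sup]
      refine eq_of_le_of_card_eq (sup_le hD.le_left h5) ?_
      rw [card_sup_of_disj hn (by rwa [inf_comm]), card_cj, hD.card, h4]
    exact ⟨((quoEquiv hn' hD.disj).trans (MulEquiv.subgroupCongr e.symm)).trans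
      ((quoEquiv hn (by rwa [inf_comm])).symm.trans (cjEquiv s T).symm)⟩
  · have h6 : IsSylowIn 2 (cj g⁻¹ T) Q := h5.of_card_eq
      (cj_le_iff.2 (by rw [inv_inv]; exact hT.trans inf_le_left)) (by rw [card_cj, h4])
    obtain ⟨x, -, e⟩ := sylow_trans h2 h6 h5
    rw [cj_cj] at e
    exact ⟨(MulEquiv.subgroupCongr e).trans (cjEquiv _ T).symm⟩

end Cfsg.Agent.S1910
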