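import Mathlib
import Cfsg.Statements.S1914
import Cfsg.Agent.H12.Rk3

set_option autoImplicit false
open Cfsg

namespace Cfsg.Agent.S1914

/-- Let A be a semisimple subgroup (a central product of quasisimple groups, A = E(A)) of a finite group and t an involution normalizing A such that the Sylow 2-subgroups of C_A(t) are cyclic of order 4. Then A has 2-rank exactly 1. -/
theorem result {G : Type*} [Group G] [Finite G] (A : Subgroup G) (hA : Cfsg.layer ↥A = ⊤)
    (t : G) (ht : orderOf t = 2) (htA : t ∈ Subgroup.normalizer (A : Set G))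
    (hC : ∀ R : Sylow 2 ↥(A ⊓ Subgroup.centralizer ({t} : Set G)), IsCyclic R ∧ Nat.card R = 4) :
    Cfsg.PRankLE 2 1 A ∧ ¬ Cfsg.PRankLE 2 0 A := by
  open Subgroup in
  have t2 : t * t = 1 := by rw [← pow_two, ← ht, pow_orderOf_eq_one]
  have hQ : ∀ Q : Subgroup G, IsPGroup 2 Q → Q ≤ A ⊓ centralizer {t} → IsCyclic Q ∧ Nat.card Q ≤ 4 := fun Q hQ le => by
    obtain ⟨R, hR⟩ := (hQ.comap_subtype (K := A ⊓ centralizer {t})).exists_le_sylow
    have := (hC R).1
    exact ⟨(H04.isCyclic_subgroupOf_iff le).1 (isCyclic_of_le hR), by rw [← H04.card_subgroupOf le, ← (hC R).2]; exact card_le_of_le hR⟩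
  obtain ⟨R⟩ : Nonempty (Sylow 2 ↥(A ⊓ centralizer {t})) := inferInstance
  obtain ⟨r, hr⟩ := (hC R).1.exists_ofOrder_eq_natCard
  have r4 : orderOf r.1.1 = 4 := by rw [orderOf_coe, orderOf_coe, hr, (hC R).2]
  obtain ⟨X, hX⟩ := H12.Rk2.ext (w := t) A (fun x hx => H03.conj_mem_of_mem_normalizer' htA hx) (t2 ▸ one_mem A)
  have AX : A ≤ X := fun x hx => (hX x).2 (.inl hx)
  have := normal_subgroupOf_of_le_normalizer (H := X) (N := A) fun x hx =>
    ((hX x).1 hx).elim (@le_normalizer _ _ A x) fun h => (mul_mem_cancel_right htA).1 (le_normalizer h)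
  refine ⟨(H04.pRankLE_subgroupOf AX).1 (H12.Rk3.main (t := ⟨t, (hX t).2 (.inr (t2 ▸ one_mem A))⟩) (r := ⟨r, AX r.1.2.1⟩)
    (H12.Rk1.perfect_sub (H12.Rk1.perfect hA) AX) (fun x => (hX x).1 x.2) (Subtype.ext t2) (fun Q q le => ?_) r.1.2.1
    (Subtype.ext (mem_centralizer_singleton_iff.1 r.1.2.2).symm) ((orderOf_coe _).symm.trans r4)), fun h => ?_⟩
  · have := hQ (Q.map X.subtype) (q.map _) (by
      rintro _ ⟨x, hx, rfl⟩
      exact ⟨(le hx).1, mem_centralizer_singleton_iff.2 (congrArg Subtype.val (mem_centralizer_singleton_iff.1 (le hx).2))⟩)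
    rwa [H04.isCyclic_map_subtype, card_subtype] at this
  · have o : orderOf (r.1.1 ^ 2) = 2 := by rw [orderOf_pow, r4]; rfl
    have := H04.pRankLE_iff.1 h (zpowers (r.1.1 ^ 2)) (zpowers_le.2 (A.pow_mem r.1.2.1 2)) ⟨inferInstance, by
      rintro _ ⟨i, rfl⟩
      rw [← zpow_natCast, ← zpow_mul, mul_comm, zpow_mul, zpow_natCast, orderOf_dvd_iff_pow_eq_one.1 o.dvd, one_zpow]⟩
    rw [Nat.card_zpowers, o] at this
    omega

end Cfsg.Agent.S1914
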