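import Mathlib
import Cfsg.Statements.S1915
import Cfsg.Agent.H12.Rk1
import Cfsg.Agent.H04.Rank

set_option autoImplicit false
open Cfsg

namespace Cfsg.Agent.S1915

/-- Let A be a semisimple subgroup (A = E(A)) of a finite group and U a Klein four-group normalizing A. If the subgroup of A generated by the normalizers N_A(V) of the nontrivial subgroups V of U has 2-rank exactly 1, then A has 2-rank exactly 1. -/
theorem result {G : Type*} [Group G] [Finite G] (A : Subgroup G) (hA : Cfsg.layer ↥A = ⊤)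
    (U : Subgroup G) (hU : IsKleinFour U) (hUA : U ≤ Subgroup.normalizer (A : Set G))
    (hΓ : Cfsg.PRankLE 2 1 ↥(⨆ V : {V : Subgroup G // V ≤ U ∧ V ≠ ⊥}, A ⊓ Subgroup.normalizer ((V : Subgroup G) : Set G)) ∧
      ¬ Cfsg.PRankLE 2 0 ↥(⨆ V : {V : Subgroup G // V ≤ U ∧ V ≠ ⊥}, A ⊓ Subgroup.normalizer ((V : Subgroup G) : Set G))) :
    Cfsg.PRankLE 2 1 A ∧ ¬ Cfsg.PRankLE 2 0 A := by
  open Subgroup in
  refine ⟨?_, fun h => hΓ.2 (H04.PRankLE.mono h (iSup_le fun _ => inf_le_left))⟩
  have := hU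
  let N := normalizer (A : Set G)
  have : (A.subgroupOf N).Normal := normal_in_normalizer
  have e := subgroupOfEquivOfLe hUA
  rw [← map_subgroupOf_eq_of_le (le_normalizer : A ≤ N), H04.pRankLE_map_subtype]
  refine H12.Rk1.four (H12.Rk1.perfect_sub (H12.Rk1.perfect hA) le_normalizer) (U := U.subgroupOf N)
    ⟨(Nat.card_congr e.toEquiv).trans hU.card_four, (Monoid.exponent_eq_of_mulEquiv e).trans hU.exponent_two⟩
    fun u u1 u2 x hx y hy ux uy xy x2 y2 x1 => ?_
  by_contra! k
  have m : ∀ x ∈ A.subgroupOf N, u * x = x * u → x.1 ∈ ⨆ V : {V : Subgroup G // V ≤ U ∧ V ≠ ⊥}, A ⊓ normalizer ((V : Subgroup G) : Set G) :=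
    fun x hx h => mem_iSup_of_mem ⟨zpowers u.1, zpowers_le.2 u1, by simpa using u2⟩ ⟨hx, centralizer_le_normalizer _ (by
      rintro _ ⟨k, rfl⟩; exact ((show Commute u.1 x.1 from congrArg Subtype.val h).zpow_left k).eq)⟩
  have c : ∀ a ∈ ({x.1, y.1} : Set G), ∀ b ∈ ({x.1, y.1} : Set G), a * b = b * a := by
    have : x.1 * y.1 = y.1 * x.1 := congrArg Subtype.val xy
    simp [this]
  have cc := isMulCommutative_closure c
  have := H04.pRankLE_iff.1 hΓ.1 (closure {x.1, y.1}) ((closure_le _).2 (Set.pair_subset (m x hx ux) (m y hy uy))) ⟨cc, fun a ha => by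
    induction ha using closure_induction with
    | mem a h => rcases h with rfl | rfl; exacts [(sq _).trans (congrArg Subtype.val x2), (sq _).trans (congrArg Subtype.val y2)]
    | one => simp
    | mul a b h k ha hb => rw [(show Commute a b from mul_comm_of_mem_isMulCommutative _ h k).mul_pow, ha, hb, one_mul]
    | inv a _ h => simp [h]⟩
  have := (Set.ncard_le_ncard (s := {1, x.1, y.1}) (t := closure {x.1, y.1}) (Set.insert_subset (one_mem _) subset_closure)).trans this
  rw [Set.ncard_eq_three.2 ⟨1, x.1, y.1, fun e => x1 (Subtype.ext e.symm), fun e => k.1 (Subtype.ext e.symm), fun e => k.2 (Subtype.ext e.symm), rfl⟩] at this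
  omega

end Cfsg.Agent.S1915
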