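import Mathlib
import Cfsg.Statements.S1916
import Cfsg.Agent.H08.AutL2

set_option autoImplicit false
open Cfsg

namespace Cfsg.Agent.S1916

open Subgroup H08

/-- Let L be a non-abelian simple subgroup of a finite group with dihedral Sylow 2-subgroups, and a, b two distinct commuting involutions normalizing L such that C_L(a) and C_L(b) have cyclic Sylow 2-subgroups and L is not contained in the subgroup generated by a, b, C_L(a) and C_L(b). Then ab centralizes L. -/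
theorem result {G : Type*} [Group G] [Finite G] (L : Subgroup G) (hL : IsSimpleGroup L) (hLn : ¬ IsMulCommutative L)
    (hD : ∀ P : Sylow 2 L, ∃ n : ℕ, Nonempty (↥(P : Subgroup L) ≃* DihedralGroup n))
    (a b : G) (ha : orderOf a = 2) (hb : orderOf b = 2) (hab : a ≠ b) (hc : a * b = b * a)
    (haL : a ∈ Subgroup.normalizer (L : Set G)) (hbL : b ∈ Subgroup.normalizer (L : Set G))
    (hCa : ∀ R : Sylow 2 ↥(L ⊓ Subgroup.centralizer ({a} : Set G)), IsCyclic R)
    (hCb : ∀ R : Sylow 2 ↥(L ⊓ Subgroup.centralizer ({b} : Set G)), IsCyclic R)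
    (hgen : ¬ L ≤ Subgroup.closure ({a, b} : Set G) ⊔ (L ⊓ Subgroup.centralizer ({a} : Set G)) ⊔ (L ⊓ Subgroup.centralizer ({b} : Set G))) :
    a * b ∈ Subgroup.centralizer (L : Set G) := by
  obtain ⟨P⟩ : Nonempty (Sylow 2 L) := inferInstance
  obtain ⟨n, ⟨eP⟩⟩ := hD P
  have key : ∀ {H : Type} [Group H] (e : L ≃* H) (g : G) (hg : g ∈ normalizer (L : Set G)), orderOf g = 2 →
      (∀ R : Sylow 2 ↥(L ⊓ centralizer ({g} : Set G)), IsCyclic R) → ∃ α : MulAut H, α ^ 2 = 1 ∧ NoK α ∧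
        ∀ x y : L, α (e x) = e y ↔ g * x * g⁻¹ = y := by
    intro H _ e g hg h2 hc
    have h1 : ∀ x y : L, MulAut.congr e (L.normalizerMonoidHom ⟨g, hg⟩) (e x) = e y ↔ g * x * g⁻¹ = y := fun x y => by
      simp only [MulAut.congr_apply, MulEquiv.trans_apply, MulEquiv.symm_apply_apply, EmbeddingLike.apply_eq_iff_eq, Subtype.ext_iff]
      rfl
    refine ⟨_, ?_, fun x y hx hy x2 y2 hxy => ?_, h1⟩
    · rw [← map_pow, ← map_pow, show (⟨g, hg⟩ : normalizer (L : Set G)) ^ 2 = 1 from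
        Subtype.ext (by simp [pow_two, mul_self_of_orderOf h2]), map_one, map_one]
    obtain ⟨x, rfl⟩ := e.surjective x
    obtain ⟨y, rfl⟩ := e.surjective y
    rw [e.orderOf_eq, ← orderOf_coe] at x2 y2
    have m : ∀ x : L, g * x * g⁻¹ = x → (x : G) ∈ L ⊓ centralizer ({g} : Set G) := fun x h =>
      ⟨x.2, mem_centralizer_singleton_iff.2 (mul_inv_eq_iff_eq_mul.1 h).symm⟩
    let x' : ↥(L ⊓ centralizer ({g} : Set G)) := ⟨x, m x ((h1 x x).1 hx)⟩
    let y' : ↥(L ⊓ centralizer ({g} : Set G)) := ⟨y, m y ((h1 y y).1 hy)⟩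
    have x3 : orderOf x' = 2 := by rw [orderOf_mk, x2]
    have y3 : orderOf y' = 2 := by rw [orderOf_mk, y2]
    obtain ⟨R, hR⟩ := (isPGroup_sup_zpowers_of_commute (isPGroup_zpowers_of_orderOf x3) (isPGroup_zpowers_of_orderOf y3)
      (Subtype.ext (congrArg (fun z : L => z.1) (e.injective (by simpa using hxy.eq) : x * y = y * x)))).exists_le_sylow
    have := hc R
    have := invol_eq_of_isCyclic x3 y3 (hR (mem_sup_left (mem_zpowers _))) (hR (mem_sup_right (mem_zpowers _)))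
    rw [show x = y from Subtype.ext (congrArg (fun z : ↥(L ⊓ centralizer ({g} : Set G)) => z.1) this)]
  obtain ⟨F, _, _, ho, h3, ⟨e⟩⟩ | ⟨⟨e⟩⟩ := NA.gw hLn P eP
  swap
  · obtain ⟨α, h1, h2, -⟩ := key e a haL ha hCa
    exact absurd h2 (not_noK_a7 h1)
  obtain ⟨α, a1, a2, a3⟩ := key e a haL ha hCa
  obtain ⟨β, b1, b2, b3⟩ := key e b hbL hb hCb
  set K := closure ({a, b} : Set G) ⊔ (L ⊓ centralizer ({a} : Set G)) ⊔ (L ⊓ centralizer ({b} : Set G))
  have aK : a ∈ K := mem_sup_left (mem_sup_left (subset_closure (by simp)))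
  have bK : b ∈ K := mem_sup_left (mem_sup_left (subset_closure (by simp)))
  have cj : ∀ g ∈ normalizer (L : Set G), ∀ x : L, ∃ y : L, g * x * g⁻¹ = y := fun g hg x =>
    ⟨⟨_, H03.conj_mem_of_mem_normalizer hg x.2⟩, rfl⟩
  have mem : ∀ x : L, e x ∈ (K.subgroupOf L).map e.toMonoidHom ↔ (x : G) ∈ K := fun x => mem_map_iff_mem e.injective
  have := noK_eq ho h3 a1 b1 a2 b2 (by
      ext x
      obtain ⟨x, rfl⟩ := e.surjective x
      obtain ⟨y, hy⟩ := cj a haL x
      obtain ⟨z, hz⟩ := cj b hbL x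
      obtain ⟨w, hw⟩ := cj a haL z
      rw [MulAut.mul_apply, MulAut.mul_apply, (a3 x y).2 hy, (b3 x z).2 hz, (a3 z w).2 hw,
        (b3 y w).2 (by rw [← hy, ← hw, ← hz, ← conj_conj, ← conj_conj, hc])])
    (H := (K.subgroupOf L).map e.toMonoidHom) (fun h => hgen fun x hx => (mem ⟨x, hx⟩).1 (h ▸ mem_top _))
    (fun x hx => by
      obtain ⟨x, rfl⟩ := e.surjective x
      obtain ⟨y, hy⟩ := cj a haL x
      rw [(a3 x y).2 hy, mem, ← hy]
      exact mul_mem (mul_mem aK ((mem x).1 hx)) (inv_mem aK))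
    (fun x hx => by
      obtain ⟨x, rfl⟩ := e.surjective x
      obtain ⟨y, hy⟩ := cj b hbL x
      rw [(b3 x y).2 hy, mem, ← hy]
      exact mul_mem (mul_mem bK ((mem x).1 hx)) (inv_mem bK))
    (fun x hx => by
      obtain ⟨x, rfl⟩ := e.surjective x
      exact (mem x).2 (mem_sup_left (mem_sup_right
        ⟨x.2, mem_centralizer_singleton_iff.2 (mul_inv_eq_iff_eq_mul.1 ((a3 x x).1 hx)).symm⟩)))
    (fun x hx => by
      obtain ⟨x, rfl⟩ := e.surjective x
      exact (mem x).2 (mem_sup_right ⟨x.2, mem_centralizer_singleton_iff.2 (mul_inv_eq_iff_eq_mul.1 ((b3 x x).1 hx)).symm⟩))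
  intro x hx
  obtain ⟨y, hy⟩ := cj b hbL ⟨x, hx⟩
  have h1 := (a3 _ y).1 (this ▸ (b3 _ y).2 hy)
  rw [eq_comm, ← mul_inv_eq_iff_eq_mul, conj_conj, hy, ← h1, ← conj_conj, mul_self_of_orderOf ha]
  simp

end Cfsg.Agent.S1916
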