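import Mathlib
import Cfsg.Statements.S1921
import Cfsg.Agent.H22.Layer
import Cfsg.Agent.H26.Syl

set_option autoImplicit false
open Cfsg

namespace Cfsg.Agent.S1921

/-- Let a be an involution of a finite group H and L a component of H with a L a⁻¹ ≠ L; put M = ⟨L, aLa⁻¹⟩ and let J be the subgroup generated by the elements x · a x a⁻¹ with x ∈ L (the diagonal). Then every element of M outside J·Z(M) generates M together with J. -/
theorem result {H : Type*} [Group H] [Finite H] (a : H) (ha : orderOf a = 2) (L : Subgroup H) (hL : Cfsg.IsComponent L)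
    (hLa : L.map (MulAut.conj a).toMonoidHom ≠ L) (x : H) (hxM : x ∈ L ⊔ L.map (MulAut.conj a).toMonoidHom)
    (hxJ : x ∉ Subgroup.closure {y : H | ∃ l ∈ L, y = l * (a * l * a⁻¹)} ⊔
      ((L ⊔ L.map (MulAut.conj a).toMonoidHom) ⊓ Subgroup.centralizer ((L ⊔ L.map (MulAut.conj a).toMonoidHom : Subgroup H) : Set H))) :
    Subgroup.closure {y : H | ∃ l ∈ L, y = l * (a * l * a⁻¹)} ⊔ Subgroup.zpowers x = L ⊔ L.map (MulAut.conj a).toMonoidHom := by
  set L' := L.map (MulAut.conj a).toMonoidHom with hL'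
  set J := Subgroup.closure {y : H | ∃ l ∈ L, y = l * (a * l * a⁻¹)} with hJ
  have hc : L ≤ Subgroup.centralizer (L' : Set H) :=
    Subgroup.commutator_eq_bot_iff_le_centralizer.mp (H22.comp_comm_of_ne hL (H22.comp_conj hL a) hLa.symm)
  have hJm : ∀ l ∈ L, l * (a * l * a⁻¹) ∈ J := fun l hl => Subgroup.subset_closure ⟨l, hl, rfl⟩
  set X := J ⊔ Subgroup.zpowers x with hX
  obtain ⟨l, hl, m, hm, rfl⟩ := (H26.mem_sup_of_le_normalizer
    (hc.trans (Subgroup.centralizer_le_normalizer _))).mp hxM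
  obtain ⟨k, hk, rfl⟩ := hm
  change l * (a * k * a⁻¹) ∉ _ at hxJ
  have e : l * (a * k * a⁻¹) = (l * k⁻¹) * (k * (a * k * a⁻¹)) := by group
  have hy : l * k⁻¹ ∈ X ⊓ L := ⟨by
    have h1 : l * (a * k * a⁻¹) ∈ X := Subgroup.mem_sup_right (Subgroup.mem_zpowers _)
    have := mul_mem h1 (inv_mem (Subgroup.mem_sup_left (hJm k hk) : _ ∈ X))
    rwa [e, mul_inv_cancel_right] at this, L.mul_mem hl (L.inv_mem hk)⟩
  have hn : L ≤ Subgroup.normalizer ((X ⊓ L : Subgroup H) : Set H) := by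
    refine H22.le_normalizer_iff_conj.mpr fun c hc' y hy => ⟨?_, L.mul_mem (L.mul_mem hc' hy.2) (L.inv_mem hc')⟩
    have h1 : c * (a * c * a⁻¹) ∈ X := Subgroup.mem_sup_left (hJm c hc')
    have h2 := mul_mem (mul_mem h1 hy.1) (inv_mem h1)
    have h3 := hc hy.2 _ (H26.conj_mem_cj (g := a) hc')
    have : c * (a * c * a⁻¹) * y * (c * (a * c * a⁻¹))⁻¹ = c * y * c⁻¹ := by
      rw [mul_assoc c, h3]; group
    rwa [this] at h2
  rcases (H22.isQuasisimple_subgroup_iff.mp hL.2).2.2 _ inf_le_right hn with h | h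
  · have h1 : L ≤ X := h.ge.trans inf_le_left
    refine le_antisymm (sup_le ((Subgroup.closure_le _).mpr ?_) (Subgroup.zpowers_le.mpr hxM))
      (sup_le h1 ?_)
    · rintro _ ⟨c, hc', rfl⟩
      exact mul_mem (Subgroup.mem_sup_left hc') (Subgroup.mem_sup_right (H26.conj_mem_cj hc'))
    · rintro _ ⟨c, hc', rfl⟩
      have := mul_mem (inv_mem (h1 hc')) (Subgroup.mem_sup_left (hJm c hc') : _ ∈ X)
      simpa using this
  · exfalso
    apply hxJ
    have hz : l * k⁻¹ ∈ Subgroup.centralizer ((L ⊔ L' : Subgroup H) : Set H) :=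
      H22.le_centralizer_sup h (inf_le_right.trans hc) hy
    have e2 : l * (a * k * a⁻¹) = (k * (a * k * a⁻¹)) * (l * k⁻¹) := by
      rw [e]
      exact (hz _ (mul_mem (Subgroup.mem_sup_left hk)
        (Subgroup.mem_sup_right (H26.conj_mem_cj hk)))).symm
    rw [e2]
    exact mul_mem (Subgroup.mem_sup_left (hJm k hk))
      (Subgroup.mem_sup_right ⟨Subgroup.mem_sup_left hy.2, hz⟩)

end Cfsg.Agent.S1921
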