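import Mathlib
import Cfsg.Statements.S1922
import Cfsg.Agent.H05.PD1
import Cfsg.Agent.H08.Util

set_option autoImplicit false
open Cfsg

namespace Cfsg.Agent.S1922

open Subgroup H26 H05 in
theorem odd_card_aux {G : Type*} [Group G] [Finite G] {z : G} {H : Subgroup G} (hz : z ∈ H)
    (h0 : ∀ g : G, g * z * g⁻¹ ∈ H → g ∈ H) (hodd : Odd (centralizer ({z} : Set G)).index) :
    Odd (Nat.card {e : G // IsConj z e ∧ e ∈ H}) := by
  have hle : centralizer ({z} : Set G) ≤ H := fun g hg => h0 g (by rw [H08.mem_centralizer_singleton'.1 hg]; exact hz)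
  have h1 := H08.card_isConj_eq_index (⟨z, hz⟩ : H)
  have h2 : Nat.card {e : G // IsConj z e ∧ e ∈ H} = Nat.card {y : H // IsConj (⟨z, hz⟩ : H) y} := by
    refine Nat.card_congr ⟨fun e => ⟨⟨e.1, e.2.2⟩, ?_⟩, fun y => ⟨y.1, ?_, y.1.2⟩, fun _ => rfl, fun _ => rfl⟩
    · obtain ⟨g, hg⟩ := isConj_iff.1 e.2.1
      exact isConj_iff.2 ⟨⟨g, h0 g (hg ▸ e.2.2)⟩, Subtype.ext hg⟩
    · obtain ⟨g, hg⟩ := isConj_iff.1 y.2
      exact isConj_iff.2 ⟨g, congrArg Subtype.val hg⟩
  have h3 : centralizer ({(⟨z, hz⟩ : H)} : Set H) = (centralizer ({z} : Set G)).subgroupOf H := by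
    ext x
    simp only [mem_subgroupOf, H08.mem_centralizer_singleton', Subtype.ext_iff]; rfl
  rw [h2, h1, h3]
  exact hodd.of_dvd_nat (relIndex_dvd_index_of_le hle)

/-- Let z be an involution of a finite group G and H a proper subgroup such that z lies in gHg⁻¹ exactly when g ∈ H. Then the following are equivalent: (1) for every conjugate t ≠ z of z commuting with z, the product zt lies in gHg⁻¹ exactly when g ∈ H; (2) z lies in the centre of some Sylow 2-subgroup of G, and for every conjugate t ≠ z of z commuting with z, the centralizer of zt is contained in H. -/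
theorem result {G : Type*} [Group G] [Finite G] (z : G) (hz : orderOf z = 2) (H : Subgroup G) (hH : H ≠ ⊤)
    (h0 : ∀ g : G, z ∈ H.map (MulAut.conj g).toMonoidHom ↔ g ∈ H) :
    (∀ t : G, IsConj z t → t ≠ z → t * z = z * t → ∀ g : G, z * t ∈ H.map (MulAut.conj g).toMonoidHom ↔ g ∈ H) ↔
      ((∃ P : Sylow 2 G, z ∈ (Subgroup.center ↥(P : Subgroup G)).map (P : Subgroup G).subtype) ∧
        ∀ t : G, IsConj z t → t ≠ z → t * z = z * t → Subgroup.centralizer ({z * t} : Set G) ≤ H) := by
  have hzH : z ∈ H := by simpa using (h0 1).2 H.one_mem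
  have h0' : ∀ g : G, g * z * g⁻¹ ∈ H → g ∈ H := fun g hg =>
    H.inv_mem_iff.1 ((h0 g⁻¹).1 (H08.mem_map_conj.2 (by simpa using hg)))
  haveI : Fact (Nat.Prime 2) := ⟨Nat.prime_two⟩
  constructor
  · intro h1
    have hD := H05.PD.of_coset hz hzH h0' (fun t ht hne hc g hg =>
      H.inv_mem_iff.1 ((h1 t ht hne hc.eq.symm g⁻¹).1 (H08.mem_map_conj.2 (by simpa using hg))))
    refine ⟨?_, fun t ht hne hc c hcz => (h1 t ht hne hc c).1 ?_⟩
    · obtain ⟨x, hx⟩ : ∃ x, x ∉ H := by
        by_contra hc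
        push Not at hc
        exact hH (eq_top_iff.2 fun x _ => hc x)
      obtain ⟨P, hP⟩ := (H08.isPGroup_zpowers_of_orderOf hz).exists_le_sylow
      -- a Sylow subgroup of `H` is a Sylow subgroup of `G`
      obtain ⟨T, hT, hzT⟩ := H26.exists_isSyl_ge (H08.isPGroup_zpowers_of_orderOf hz) (Subgroup.zpowers_le.2 hzH)
      have hne : H05.cosetPt H z (x * z * x⁻¹) ≠ H05.cosetPt H z z := by
        rw [H05.cosetPt_conj h0' hzH, H05.cosetPt_self h0' hzH]
        intro e
        exact hx (by simpa using QuotientGroup.eq.1 e.symm)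
      obtain ⟨e, he, hφ, hce⟩ := hD.exists_central' (P := T) (d := z) (IsConj.refl z) (H08.isConj_conj x z) hne hT.pg
        (fun g hg => by
          rw [H05.cosetPt_self h0' hzH, H05.smul_coset_iff]
          simpa using hT.le hg)
      obtain ⟨y, rfl⟩ := isConj_iff.1 he
      have hyH : y ∈ H := by
        rw [H05.cosetPt_conj h0' hzH, H05.cosetPt_self h0' hzH] at hφ
        simpa using QuotientGroup.eq.1 hφ.symm
      have hT' := hT.cj_of_mem (H.inv_mem hyH)
      have hcz : ∀ g ∈ T.map (MulAut.conj y⁻¹).toMonoidHom, Commute g z := fun g hg => by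
        have h2 := hce _ (H26.mem_cj.1 hg)
        have h3 := h2.eq
        simp only [inv_inv] at h3
        change g * z = z * g
        calc g * z = y⁻¹ * (y * g * y⁻¹ * (y * z * y⁻¹)) * y := by group
          _ = z * g := by rw [h3]; group
      have hzT' : z ∈ T.map (MulAut.conj y⁻¹).toMonoidHom :=
        hT'.le_of_le_normalizer (H08.isPGroup_zpowers_of_orderOf hz) (Subgroup.zpowers_le.2 hzH) (fun g hg =>
          Subgroup.centralizer_le_normalizer _ (fun w hw => by
            obtain ⟨k, rfl⟩ := Subgroup.mem_zpowers_iff.1 hw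
            exact ((hcz g hg).zpow_right k).eq.symm)) (Subgroup.mem_zpowers z)
      have hS : H26.IsSyl 2 (T.map (MulAut.conj y⁻¹).toMonoidHom) ⊤ := by
        refine H26.isSyl_of_normalizer ⟨le_inf le_top Subgroup.le_normalizer, hT'.pg, fun Q hQp hle hQ => ?_⟩
        refine hT'.max Q hQp hle (fun g hg => h0' g (hT'.le ?_))
        exact (Subgroup.mem_normalizer_iff.1 (hQ hg).2 z).1 hzT'
      obtain ⟨S, hS⟩ := hS.exists_sylow_top
      exact ⟨S, H08.mem_map_center.2 ⟨hS ▸ hzT', fun s hs => (hcz s (hS ▸ hs)).eq⟩⟩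
    · have := (h1 t ht hne hc 1).2 H.one_mem
      rw [H08.mem_map_conj] at this ⊢
      have h3 := H08.mem_centralizer_singleton'.1 ((Subgroup.centralizer _).inv_mem hcz)
      simp only [inv_inv] at h3
      rw [h3]
      simpa using this
  · rintro ⟨⟨P, hP⟩, h2⟩ t ht hne hc g
    have htH : t ∈ H := h0' t (by rw [hc]; simpa using hzH)
    refine ⟨fun hg => ?_, fun hg => by rw [H08.map_conj_of_mem hg]; exact H.mul_mem hzH htH⟩
    rw [H08.mem_map_center] at hP
    have hodd : Odd (Subgroup.centralizer ({z} : Set G)).index := by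
      have hle : (P : Subgroup G) ≤ Subgroup.centralizer ({z} : Set G) := fun s hs =>
        H08.mem_centralizer_singleton_commute.2 (hP.2 s hs)
      rw [← Nat.not_even_iff_odd, even_iff_two_dvd]
      exact fun hd => P.not_dvd_index (hd.trans (Subgroup.index_dvd_of_le hle))
    have ht2 : orderOf t = 2 := (H08.orderOf_eq_of_isConj ht).symm.trans hz
    have hw := H08.mem_map_conj.1 hg
    have hw2 : orderOf (g⁻¹ * (z * t) * g) = 2 := by
      have := H08.orderOf_conj' g⁻¹ (z * t)
      rw [inv_inv] at this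
      rw [this]
      refine H08.orderOf_eq_two_iff'.2 ⟨?_, fun h => hne ?_⟩
      · rw [mul_assoc, ← mul_assoc t, hc, mul_assoc, H08.mul_self_of_orderOf ht2, mul_one, H08.mul_self_of_orderOf hz]
      · rw [eq_inv_of_mul_eq_one_right h, H08.inv_eq_of_orderOf hz]
    obtain ⟨e, ⟨he, heH⟩, hce⟩ := H05.exists_central_of_odd (p := fun e => IsConj z e ∧ e ∈ H)
      (H08.isPGroup_zpowers_of_orderOf hw2) (fun x hx e he => ⟨he.1.trans (H08.isConj_conj x e),
        H.mul_mem (H.mul_mem (Subgroup.zpowers_le.2 hw hx) he.2) (H.inv_mem (Subgroup.zpowers_le.2 hw hx))⟩)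
      (odd_card_aux hzH h0' hodd)
    obtain ⟨y, rfl⟩ := isConj_iff.1 he
    have hyH := h0' y heH
    have h3 := (hce _ (Subgroup.mem_zpowers _)).eq
    have h4 : g * (y * z * y⁻¹) * g⁻¹ ∈ H := h2 t ht hne hc (H08.mem_centralizer_singleton_commute.2 (by
      change g * (y * z * y⁻¹) * g⁻¹ * (z * t) = z * t * (g * (y * z * y⁻¹) * g⁻¹)
      calc g * (y * z * y⁻¹) * g⁻¹ * (z * t) = g * ((y * z * y⁻¹) * (g⁻¹ * (z * t) * g)) * g⁻¹ := by group
        _ = _ := by rw [← h3]; group))
    have h5 := h0' (g * y) (by simpa [mul_assoc] using h4)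
    simpa using H.mul_mem h5 (H.inv_mem hyH)

end Cfsg.Agent.S1922
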