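import Mathlib
import Cfsg.Statements.S1930
import Cfsg.Agent.H26.Cq6
import Cfsg.Agent.S1265

set_option autoImplicit false
open Cfsg

namespace Cfsg.Agent.S1930
open H26

open Cfsg.Agent.H26.Cq

/-- Inside a finite group let G be a nontrivial subgroup and R an r-subgroup (r a prime) normalizing G, with the order of G prime to r. Let p > 3 be a prime with F*(G) = O_p(G), and let P be the intersection of all R-invariant Sylow p-subgroups of G. Then P has a nontrivial characteristic subgroup that is normalized by G. -/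
theorem result {X : Type*} [Group X] [Finite X] (G R : Subgroup X) (r : ℕ) [Fact r.Prime] (hR : IsPGroup r ↥R) (hcop : (Nat.card ↥G).Coprime r) (hnorm : R ≤ Subgroup.normalizer (G : Set X)) (hG : G ≠ ⊥) (p : ℕ) [Fact p.Prime] (hp : 3 < p) (hF : Cfsg.generalizedFittingSubgroup ↥G = Cfsg.pCore p ↥G) (P : Subgroup X) (hP : P = ⨅ S : {S : Sylow p ↥G // ∀ a ∈ R, ((S : Subgroup ↥G).map G.subtype).map (MulAut.conj a).toMonoidHom = (S : Subgroup ↥G).map G.subtype}, ((S : Sylow p ↥G) : Subgroup ↥G).map G.subtype) : ∃ C : Subgroup ↥P, C.Characteristic ∧ C ≠ ⊥ ∧ G ≤ Subgroup.normalizer ((C.map P.subtype : Subgroup X) : Set X) := by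
  have hc : Subgroup.centralizer (pCore p G : Set G) ≤ pCore p G := hF ▸ Cfsg.Agent.S1265.result
  obtain ⟨k, hk⟩ := IsPGroup.iff_card.1 hR
  have cp : Cp G R := ⟨hnorm, hk ▸ hcop.symm.pow_left k⟩
  have e : P = PP p G R := by
    refine hP.trans (le_antisymm (le_iInf₂ fun S hS => ?_) (le_iInf fun S => iInf₂_le _
      ⟨H26.isSyl_map_subtype S.1, fun a ha => H26.cj_eq_iff.1 (S.2 a ha)⟩))
    obtain ⟨T, -, rfl⟩ := hS.1.exists_sylow
    exact iInf_le_of_le ⟨T, fun a ha => H26.cj_eq_iff.2 (hS.2 ha)⟩ le_rfl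
  have h0 : pCoreOf p G ≠ ⊥ := fun h => hG (by
    rw [H02.pCoreOf_eq_bot_iff.1 h] at hc
    exact eq_bot_iff.2 fun x hx => congrArg Subtype.val (hc (x := ⟨x, hx⟩) fun y hy => by rw [Subgroup.mem_bot.1 hy]; simp))
  have h5 : 5 ≤ p := by
    by_contra h
    obtain rfl : p = 4 := by omega
    exact absurd (Fact.out : Nat.Prime 4) (by norm_num)
  have h1 : P ≠ ⊥ := fun h => h0 (eq_bot_iff.2 (cp.pCoreOf_le.trans (e ▸ h).le))
  have hPp : IsPGroup p P := e ▸ cp.PP_le.2
  refine ⟨kInfLower P, ?_, fun h => ?_, ?_⟩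
  · refine Subgroup.characteristic_iff_map_eq.2 fun φ => ?_
    rw [← H17.kLo_top, ← H17.kLo_map φ.injective, Subgroup.map_top_of_surjective _ φ.surjective]
  · have := H17.center_le_kLo P
    rw [← H17.map_kInfLower, h, Subgroup.map_bot, le_bot_iff] at this
    exact H26.center_ne_bot hPp h1 this
  · rw [H17.map_kInfLower, e]
    refine cp.flavell h5 hc (cp.cop.coprime_dvd_right ?_)
    obtain ⟨n, hn⟩ := IsPGroup.iff_card.1 (H02.pCoreOf_isPGroup (p := p) G)
    refine (dvd_pow_self p ?_).trans (hn ▸ Subgroup.card_dvd_of_le (H02.pCoreOf_le G))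
    rintro rfl
    exact h0 (Subgroup.card_eq_one.1 hn)

end Cfsg.Agent.S1930
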