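import Mathlib
import Cfsg.Statements.S1931
import Cfsg.Agent.H26.Cq8

set_option autoImplicit false
open Cfsg

namespace Cfsg.Agent.S1931
open H26

open Cfsg.Agent.H26.Cq

/-- Inside a finite group let G be a subgroup and R a noncyclic abelian r-subgroup (r a prime) normalizing G, with the order of G prime to r, and let p > 3 be a prime. Suppose that for every nonidentity a ∈ R, R centralizes the subgroup O^p(F*(C_G(a))) generated by the p'-elements of the generalized Fitting subgroup of C_G(a). Then R centralizes O^p(F*(G)). -/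
theorem result {X : Type*} [Group X] [Finite X] (G R : Subgroup X) (r : ℕ) [Fact r.Prime] (hR : IsPGroup r ↥R) (hcop : (Nat.card ↥G).Coprime r) (hnorm : R ≤ Subgroup.normalizer (G : Set X)) (hab : IsMulCommutative ↥R) (hnc : ¬ IsCyclic ↥R) (p : ℕ) [Fact p.Prime] (hp : 3 < p) (hloc : ∀ a ∈ R, a ≠ 1 → R ≤ Subgroup.centralizer ((((Cfsg.pResidual p ↥(Cfsg.generalizedFittingSubgroup ↥(G ⊓ Subgroup.centralizer ({a} : Set X)))).map (Cfsg.generalizedFittingSubgroup ↥(G ⊓ Subgroup.centralizer ({a} : Set X))).subtype).map (G ⊓ Subgroup.centralizer ({a} : Set X)).subtype : Subgroup X) : Set X)) : R ≤ Subgroup.centralizer ((((Cfsg.pResidual p ↥(Cfsg.generalizedFittingSubgroup ↥G)).map (Cfsg.generalizedFittingSubgroup ↥G).subtype).map G.subtype : Subgroup X) : Set X) := by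
  obtain ⟨k, hk⟩ := IsPGroup.iff_card.1 hR
  have cp : Cp G R := ⟨hnorm, hk ▸ hcop.symm.pow_left k⟩
  have h5 : 5 ≤ p := by
    by_contra h
    obtain rfl : p = 4 := by omega
    exact absurd (Fact.out : Nat.Prime 4) (by norm_num)
  have e : ∀ H : Subgroup X, ((pResidual p (generalizedFittingSubgroup H)).map (generalizedFittingSubgroup H).subtype).map
      H.subtype = pResidualOf p (H22.fstarOf H) := fun H => (H26.pResidualOf_map_inj H.subtype_injective _).symm
  rw [e]
  refine of_good (cp.good h5 hnc fun b hb h1 => (cp.of_le inf_le_left (H01.le_normalizer_inf hnorm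
    (le_trans (fun a ha => Subgroup.mem_centralizer_singleton_iff.2 ?_) Subgroup.le_normalizer))).good_of (e _ ▸ hloc b hb h1))
  exact congrArg Subtype.val (mul_comm' (⟨a, ha⟩ : R) ⟨b, hb⟩)

end Cfsg.Agent.S1931
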