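import Mathlib
import Cfsg.Statements.S1936
import Cfsg.Agent.H22.BStr
import Cfsg.Agent.H22.SigW2
import Cfsg.Agent.S0144

set_option autoImplicit false
open Cfsg

namespace Cfsg.Agent.S1936

open BG H22 H02.Suz

universe u

theorem simple_case {G : Type u} [Group G] [Finite G] [IsSimpleGroup G] {p : ℕ} (hp : p.Prime) (h5 : 5 ≤ p)
    (hG : ¬ IsMulCommutative G) (h : ∀ H : Subgroup G, ¬ p ∣ Nat.card H → IsMulCommutative H)
    (hs : ∀ H : Subgroup G, H ≠ ⊤ → Group.IsSolvable H) : False := by
  have p2 : p ≠ 2 := by omega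
  have h2 : ∀ T : Subgroup G, IsPGroup 2 T → IsMulCommutative T := fun T hT => h T (pg_not_dvd hp Nat.prime_two hT p2)
  obtain ⟨S, hS⟩ := sylow_exists Nat.prime_two (⊤ : Subgroup G)
  have hab := h2 S (hS.pg Nat.prime_two)
  have h0 : S ≠ ⊥ := hS.ne_bot' Nat.prime_two (by rw [Subgroup.card_top]; exact even_of_simple hG)
  have hN := simple_norm_ne_top hG Nat.prime_two (hS.pg Nat.prime_two) h0
  by_cases hr : PRankLE 2 2 S
  · have hc : N_(S) ≤ C_(S) := le_of_sylows fun q hq _ => by
      obtain ⟨P, hP⟩ := sylow_exists hq N_(S)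
      refine ⟨P, hP, ?_⟩
      by_cases e : q = p
      · subst e
        exact H01.prfT1_8.abelian_omega (p := 2) hP.le (pg_coprime_ne hq Nat.prime_two (hP.pg hq) (hS.pg Nat.prime_two) p2)
          (hS.pg Nat.prime_two) hab (cent_of_small hq (hP.pg hq) (norm_omega 2 hP.le)
            (lt_of_le_of_lt (hr.card_le (omega_elemAb 2 hab) (omega_le _ _)) (by omega)))
      · have h1 := h (S ⊔ P) fun hd => by
          rcases (Nat.Prime.dvd_mul hp).1 (hd.trans (card_sup_dvd hP.le)) with h3 | h3
          · exact pg_not_dvd hp Nat.prime_two (hS.pg Nat.prime_two) p2 h3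
          · exact pg_not_dvd hp hq (hP.pg hq) (Ne.symm e) h3
        exact le_sup_right.trans ((abelian_iff.1 h1).trans (cent_anti le_sup_left))
    have h1 := H01.prfT1_17.burnside hS (inf_le_right.trans hc)
    rcases (Subgroup.normalizer_eq_top_iff.1 (top_le_iff.1 (le_norm_pcore {2}ᶜ (⊤ : Subgroup G)))).eq_bot_or_eq_top with e | e
    · have h3 := h1.sup
      rw [e, bot_sup_eq] at h3
      exact hN (top_le_iff.1 (h3 ▸ le_norm S))
    · have h3 := h1.disj
      rw [e, top_inf_eq] at h3
      exact h0 h3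
  have hO := simple_oddCore hG
  obtain ⟨U, hU⟩ := exists_ws (fun t ht => pLay_eq_bot_of_sol Nat.prime_two (hs _ (simple_not_central hG ht))) hS hr
  have hle : ∀ t ∈ S, S ≤ C_[t] := fun t ht x hx => mem_cent1.2 (mul_comm_of_abelian hab hx ht)
  have hC : ∀ t ∈ S, orderOf t = 2 → C_[t] ≤ N_(S) := fun t ht h2 => by
    have h1 := hU.core_le (fun H hH => H17.BC.c1221 H25.BE.bender_core hH)
      (fun t ht _ => not_pRankLE_of_le hr (hle t ht)) h2
    rw [hO, le_bot_iff, cpc_eq Nat.prime_two] at h1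
    have h3 := cent_pcore_le Nat.prime_two (hs _ (simple_not_central hG h2)) h1
    have h4 : piCoreOf {2} C_[t] ≤ S :=
      IsSylowIn.le_of_norm_pg (hS.sub (hle t ht) le_top) Nat.prime_two (pcore_pg Nat.prime_two _) (pcore_le _ _) ((hle t ht).trans (le_norm_pcore _ _))
    have h5 : piCoreOf {2} C_[t] = S :=
      le_antisymm h4 ((le_inf (hle t ht) ((abelian_iff.1 hab).trans (cent_anti h4))).trans h3)
    exact h5 ▸ le_norm_pcore _ _
  obtain ⟨Q, w, f⟩ := H17.BC.fq_simple H25.BE.bender_core hG (se_norm_abelian hS hab h0 hN hC)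
  have hR := fq_r2 f (H17.BC.rk2_of_simple hG)
  obtain ⟨s, r, hsr⟩ := hR.exists_SR
  have hq := nc_iff.not.2 (not_not.2 (h2 Q f.pg))
  have e : r = s := by
    obtain ⟨-, h1 | h1 | h1⟩ := hR.concl hsr
    · exact hR.r_eq_of_sq hsr (h1 r hsr.rQ)
    · exact (hq h1.2.1).elim
    · exact (hq h1.2.1).elim
  have e1 := hsr.eq
  have ss := hsr.ss
  have ww := hR.tt
  have si : s⁻¹ = s := inv_eq_of_mul_eq_one_right ss
  have wi : w⁻¹ = w := inv_eq_of_mul_eq_one_right ww
  rw [e, si] at e1
  have e3 : (s * w) ^ 3 = 1 := by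
    calc (s * w) ^ 3 = (s * w * s) * (w * s * w) := by simp [pow_succ, mul_assoc]
      _ = w * (s * (w * w) * s) * w := by rw [← e1]; simp [mul_assoc]
      _ = 1 := by rw [ww, mul_one, ss, mul_one, ww]
  have hn : Subgroup.zpowers s ≤ N_(Subgroup.zpowers (s * w)) := by
    refine (Subgroup.zpowers_le).2 (mem_norm_of_cj_le ?_)
    rw [cj_zpowers]
    refine (Subgroup.zpowers_le).2 ?_
    have : s * (s * w) * s⁻¹ = (s * w)⁻¹ := by rw [← mul_assoc, ss, one_mul, mul_inv_rev, wi]
    rw [this]
    exact Subgroup.inv_mem _ (Subgroup.mem_zpowers _)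
  have h6 := h (Subgroup.zpowers (s * w) ⊔ Subgroup.zpowers s) fun hd => by
    have h1 := hd.trans (card_sup_dvd hn)
    rw [Nat.card_zpowers, Nat.card_zpowers] at h1
    have h3 := Nat.le_of_dvd (by norm_num) (h1.trans (mul_dvd_mul (orderOf_dvd_of_pow_eq_one e3)
      (orderOf_dvd_of_pow_eq_one (x := s) (n := 2) (by rw [sq, ss]))))
    have h4 := h1.trans (mul_dvd_mul (orderOf_dvd_of_pow_eq_one e3)
      (orderOf_dvd_of_pow_eq_one (x := s) (n := 2) (by rw [sq, ss])))
    interval_cases p
    · norm_num at h4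
    · norm_num at hp
  have h7 := mul_comm_of_abelian h6 (Subgroup.mem_sup_left (Subgroup.mem_zpowers _)) (Subgroup.mem_sup_right (Subgroup.mem_zpowers _))
  rw [← e1, ← mul_assoc, ss, one_mul] at h7
  have h8 : w * s = 1 := by simpa using h7
  have h9 : w = s := by rw [← wi]; exact inv_eq_of_mul_eq_one_right h8
  exact hR.ta (h9 ▸ hR.Qa s hsr.sQ)

theorem main (p : ℕ) (hp : p.Prime) (n : ℕ) : ∀ {G : Type u} [Group G] [Finite G], Nat.card G = n →
    (∀ H : Subgroup G, ¬ p ∣ Nat.card H → IsMulCommutative H ∧ ∀ x ∈ H, x ^ (p - 1) = 1) → Group.IsSolvable G := by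
  induction n using Nat.strong_induction_on with
  | _ n ih =>
  intro G _ _ hn h
  subst hn
  have hs : ∀ H : Subgroup G, H ≠ ⊤ → Group.IsSolvable H := fun H hH =>
    ih _ (by rw [← Subgroup.card_top (G := G)]; exact card_lt (lt_top_iff_ne_top.2 hH)) rfl fun K hK => by
      have h1 := h (K.map H.subtype) (by rwa [Subgroup.card_subtype])
      refine ⟨?_, fun x hx => Subtype.ext (h1.2 x ⟨x, hx, rfl⟩)⟩
      exact abelian_iff.2 (le_cent_iff.2 fun a ha b hb => Subtype.ext (mul_comm_of_abelian h1.1 ⟨a, ha, rfl⟩ ⟨b, hb, rfl⟩))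
  rcases subsingleton_or_nontrivial G with h1 | h1
  · infer_instance
  by_cases si : IsSimpleGroup G
  · by_cases hG : IsMulCommutative G
    · exact Group.isSolvable_of_comm fun a b => hG.1.1 a b
    by_cases h5 : 5 ≤ p
    · exact (simple_case hp h5 hG (fun H hH => (h H hH).1) hs).elim
    have hq : ∀ q : ℕ, q.Prime → q ∣ Nat.card G → q = 2 ∨ q = 3 := fun q hq hd => by
      have := hp.two_le
      by_cases e : q = p
      · subst e
        interval_cases q <;> simp_all (config := {decide := true})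
      haveI := Fact.mk hq
      obtain ⟨x, hx⟩ := exists_prime_orderOf_dvd_card' q hd
      have h2 := orderOf_dvd_of_pow_eq_one ((h (Subgroup.zpowers x) (by
        rw [Nat.card_zpowers, hx]
        exact fun hd => e ((Nat.prime_dvd_prime_iff_eq hp hq).1 hd).symm)).2 x (Subgroup.mem_zpowers x))
      rw [hx] at h2
      have h3 := Nat.le_of_dvd (by omega) h2
      have := hq.two_le
      omega
    refine S0144.result 2 3 ((Nat.card G).factorization 2) ((Nat.card G).factorization 3) Nat.prime_two Nat.prime_three ?_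
    have h0 : Nat.card G ≠ 0 := Nat.card_pos.ne'
    refine Nat.eq_of_factorization_eq h0 (by positivity) fun q => ?_
    rw [Nat.factorization_mul (by positivity) (by positivity), Nat.prime_two.factorization_pow, Nat.prime_three.factorization_pow]
    by_cases e2 : q = 2
    · simp [e2]
    by_cases e3 : q = 3
    · simp [e3]
    simp only [Finsupp.add_apply, Finsupp.single_apply, if_neg (Ne.symm e2), if_neg (Ne.symm e3), add_zero]
    by_cases hq' : q.Prime
    · exact Nat.factorization_eq_zero_of_not_dvd fun hd => (hq q hq' hd).elim e2 e3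
    · exact Nat.factorization_eq_zero_of_not_prime _ hq'
  obtain ⟨M, nM, M0, M1⟩ : ∃ M : Subgroup G, M.Normal ∧ M ≠ ⊥ ∧ M ≠ ⊤ := by
    by_contra! h
    exact si ⟨fun M hM => (em (M = ⊥)).imp_right (h M hM)⟩
  haveI := hs M M1
  haveI : Group.IsSolvable (G ⧸ M) := ih _ (by
      have := M.index_mul_card
      have h2 := (Subgroup.one_lt_card_iff_ne_bot M).2 M0
      have h3 : 0 < M.index := Nat.pos_of_ne_zero Subgroup.index_ne_zero_of_finite
      rw [← Subgroup.index_eq_card]
      nlinarith) rfl fun B hB => by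
    obtain ⟨H, hH, rfl⟩ := lift_pprime hp (QuotientGroup.mk' M) (QuotientGroup.mk'_surjective M) B hB
    have h1 := h H hH
    haveI := h1.1
    refine ⟨Subgroup.map_isMulCommutative _ _, ?_⟩
    rintro _ ⟨x, hx, rfl⟩
    rw [← map_pow, h1.2 x hx, map_one]
  exact solvable_of_ker_le_range M.subtype (QuotientGroup.mk' M) (by simp)

/-- Let p be a prime and G a finite group in which every subgroup of order prime to p is abelian of exponent dividing p − 1. Then G is solvable. -/
theorem result {G : Type*} [Group G] [Finite G] (p : ℕ) [Fact p.Prime] (h : ∀ H : Subgroup G, (Nat.card ↥H).Coprime p → IsMulCommutative ↥H ∧ ∀ x ∈ H, x ^ (p - 1) = 1) : Group.IsSolvable G := by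
  exact main p Fact.out _ rfl fun H hH => h H ((Nat.Prime.coprime_iff_not_dvd Fact.out).2 hH).symm

end Cfsg.Agent.S1936
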