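import Mathlib
import Cfsg.Statements.S1944
import Cfsg.Agent.S1907
import Cfsg.Agent.H26.Avg
import Cfsg.Agent.H02.FrobCompl

set_option autoImplicit false
open Cfsg

namespace Cfsg.Agent.S1944

open BG

/-- Let S be a Sylow p-subgroup of the finite group G and suppose that the centre Z(S) lies in O_{p',p}(G). The elements of S each of which is its only G-conjugate in S form a subgroup W of Z(S); W is then a direct factor of Z(S): there is a subgroup K of Z(S) with W ∩ K = 1 and WK = Z(S). -/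
theorem result {G : Type*} [Group G] [Finite G] {p : ℕ} [Fact p.Prime] (S : Sylow p G)
    (hZ : ((S : Subgroup G) ⊓ Subgroup.centralizer ((S : Subgroup G) : Set G)) ≤ Cfsg.pPrimePCore p G) :
    ∃ W K : Subgroup G, (∀ x : G, x ∈ W ↔ (x ∈ (S : Subgroup G) ∧ ∀ g : G, g * x * g⁻¹ ∈ (S : Subgroup G) → g * x * g⁻¹ = x)) ∧
      K ≤ ((S : Subgroup G) ⊓ Subgroup.centralizer ((S : Subgroup G) : Set G)) ∧ W ⊓ K = ⊥ ∧ W ⊔ K = ((S : Subgroup G) ⊓ Subgroup.centralizer ((S : Subgroup G) : Set G)) := by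
  have hp : p.Prime := Fact.out
  set H := (S : Subgroup G) ⊓ Cfsg.pPrimePCore p G with hH
  have hSN : (S : Subgroup G) ≤ N_(H) :=
    H01.le_normalizer_inf Subgroup.le_normalizer (H01.le_normalizer_of_normal _ _)
  have hab : IsMulCommutative (H ⊓ C_(H) : Subgroup G) := H02.isMulCommutative_inf_centralizer H
  obtain ⟨τ, h1, h2, -⟩ := H26.exists_relNorm (C := N_(H)) (T := S) hab
    (H01.le_normalizer_inf le_rfl (H01.le_normalizer_centralizer le_rfl)) hSN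
  have hZA : (S : Subgroup G) ⊓ C_((S : Subgroup G)) ≤ H ⊓ C_(H) := fun z hz =>
    ⟨⟨hz.1, hZ hz⟩, Subgroup.centralizer_le (show (H : Set G) ⊆ S from fun x hx => hx.1) hz.2⟩
  have hWZ : (S : Subgroup G) ⊓ C_(N_(H)) ≤ (S : Subgroup G) ⊓ C_((S : Subgroup G)) :=
    inf_le_inf_left _ (Subgroup.centralizer_le hSN)
  have hi : ¬ p ∣ (S : Subgroup G).relIndex N_(H) := fun h =>
    S.not_dvd_index (h.trans (Subgroup.relIndex_dvd_index_of_le hSN))
  refine ⟨(S : Subgroup G) ⊓ C_(N_(H)), (S : Subgroup G) ⊓ C_((S : Subgroup G)) ⊓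
    τ.ker.map (H ⊓ C_(H)).subtype, fun x => ⟨fun hx => ⟨hx.1, fun g hg => ?_⟩, fun ⟨hx, h⟩ => ⟨hx, ?_⟩⟩,
    inf_le_left, ?_, le_antisymm (sup_le hWZ inf_le_left) fun z hz => ?_⟩
  · obtain ⟨n, hn, e⟩ := (Cfsg.Agent.S1907.result S).2 x _ hx.1 hg (isConj_iff.2 ⟨g, rfl⟩)
    rw [← e, hx.2 n hn, mul_inv_cancel_right]
  · have h3 : x ∈ H := ⟨hx, hZ ⟨hx, fun s hs => by
      have := h s (Subgroup.mul_mem _ (Subgroup.mul_mem _ hs hx) (Subgroup.inv_mem _ hs))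
      rw [mul_inv_eq_iff_eq_mul] at this
      exact this⟩⟩
    intro n hn
    have := h n ((hn x).1 h3).1
    rwa [mul_inv_eq_iff_eq_mul] at this
  · rw [eq_bot_iff]
    rintro _ ⟨hw, -, u, hu, rfl⟩
    have h3 := h2 u hw.2
    rw [show τ u = 1 from hu] at h3
    exact H26.mem_of_pow_mem_of_not_dvd S.isPGroup' hw.1 hi
      (by rw [Subgroup.mem_bot]; exact (congrArg Subtype.val h3).symm)
  · refine H26.mem_of_pow_mem_of_not_dvd S.isPGroup' hz.1 hi (H26.mem_of_pow_mem_of_not_dvd S.isPGroup'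
      (Subgroup.pow_mem _ hz.1 _) hi ?_)
    let u : (H ⊓ C_(H) : Subgroup G) := ⟨z, hZA hz⟩
    have h3 : (τ u : G) ∈ (S : Subgroup G) ⊓ C_(N_(H)) := ⟨(τ u).2.1.1, h1 u hz.2⟩
    have h4 : τ ((τ u)⁻¹ * u ^ (S : Subgroup G).relIndex N_(H)) = 1 := by
      rw [map_mul, map_inv, map_pow, h2 (τ u) h3.2, inv_mul_cancel]
    have h5 : (τ u : G)⁻¹ * z ^ (S : Subgroup G).relIndex N_(H) ∈ (S : Subgroup G) ⊓ C_((S : Subgroup G)) ⊓
        τ.ker.map (H ⊓ C_(H)).subtype :=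
      ⟨Subgroup.mul_mem _ (Subgroup.inv_mem _ (hWZ h3)) (Subgroup.pow_mem _ hz _), _, h4, rfl⟩
    have h6 := Subgroup.mul_mem _ (Subgroup.mem_sup_left h3) (Subgroup.mem_sup_right h5)
    rw [mul_inv_cancel_left] at h6
    exact Subgroup.pow_mem _ h6 _

end Cfsg.Agent.S1944
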