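import Mathlib
import Cfsg.Statements.S2029
import Cfsg.Agent.H22.KM

set_option autoImplicit false
open Cfsg

namespace Cfsg.Agent.S2029

open BG H22

/-- Let p be an odd prime and G a finite group that is both of local characteristic p (p divides its order and every p-local subgroup N satisfies C_N(O_p(N)) ≤ O_p(N)) and of characteristic 2 type (even order and every 2-local subgroup M satisfies C_M(O_2(M)) ≤ O_2(M)). Then every 2-local subgroup of G has p-rank at most 2. -/
theorem result {G : Type*} [Group G] [Finite G] (p : ℕ) [Fact p.Prime] (hp : p ≠ 2) (hGp : Cfsg.IsOfLocalCharacteristic p G) (hG2 : Cfsg.IsCharacteristicTwoType G) : Cfsg.TwoLocalPRankLE p 2 G := by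
  have hpp : p.Prime := Fact.out
  have h1 : KM.LC p G := KM.lc_of hpp hGp.2
  have h2 : KM.LC 2 G := KM.lc_of Nat.prime_two hG2.2
  rintro H ⟨T, hT, h0, rfl⟩ A hA hAp
  by_contra hlt
  have hE : Cfsg.IsElementaryAbelian p (A.map (Subgroup.normalizer (T : Set G)).subtype) := by
    refine ⟨Subgroup.map_isMulCommutative _ _, ?_⟩
    rintro _ ⟨a, ha, rfl⟩
    exact congrArg Subtype.val (hAp a ha)
  obtain ⟨j, hj⟩ := hE.exists_isElem hpp
  have hc := hj.card
  rw [Subgroup.card_map_of_injective (Subgroup.subtype_injective _)] at hc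
  rw [hc, not_le, Nat.pow_lt_pow_iff_right hpp.one_lt] at hlt
  obtain ⟨E, hE'⟩ := hj.exists_le hpp (show 3 ≤ j by omega)
  exact KM.klinger_mason hpp hp h1 h2 hE'.self hT h0 (hE'.le.trans (Subgroup.map_subtype_le _))

end Cfsg.Agent.S2029
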