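import Cfsg.Statements.S2066
import Cfsg.Agent.H15.J2
import Cfsg.Agent.H15.J2Ad
-- import your own Cfsg.Agent.* helpers here

set_option autoImplicit false
open Cfsg

namespace Cfsg.Agent.S2066

/-- The outer automorphism group of the Hall–Janko group J₂ (the icosian reflection group modulo its centre) has order 2. -/
theorem result : Nat.card (Cfsg.Out Cfsg.Spor.J2) = 2 := by
  open H15 H15.J2 in
  have := simple
  have k := pi_ker.trans cov.cen
  have L := (L6 VV hh).map pi_surj
  have I : Inj (SM.map pi) zs := (by decide +kernel : zz = zs) ▸ inj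
  have A := Aq _ _ pi_surj k.le
  have o := Sem.ok_of_slp _ L.ok tab_so
  refine out_two_of I L.ok es_so (L.top_of_run (Sem.ok_of_slp _ L.ok es_so) ep_ok) card_J2 o_1
    (L.cent A ba_c (card_J2.trans ba_p.symm).le es_so ba_b ba_a) (L.cent A bc_c (card_J2.trans bc_p.symm).le es_so bc_b bc_a)
    o_n o_r o_o (L.endo ((U6 _ _).quot pi_surj (by decide) k.le) o ta_b ta_l
      ((Sem.rels _ o ta_b (allR Rn6 ta_r)).append (List.forall_mem_singleton.2 ?_))) ta_t
  simpa [H15.sg, H15.Sem.bg, H15.Sem.gen] using (I _ (H15.nthD_prop (H15.Sem.ok_one _) o 0)).2 (by decide +kernel)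

end Cfsg.Agent.S2066
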