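import Cfsg.Statements.S2067
import Cfsg.Agent.H15.J3
import Cfsg.Agent.H15.J3Af
-- import your own Cfsg.Agent.* helpers here

set_option autoImplicit false
open Cfsg

namespace Cfsg.Agent.S2067

/-- For any field with 4 elements and any element ω of it with ω² + ω + 1 = 0, the outer automorphism group of the Janko group J₃ (the group generated by explicit 9 × 9 matrices over that field built from ω, taken modulo its centre) has order 2. -/
theorem result {F : Type*} [Field F] [Fintype F] (hF : Fintype.card F = 4) (ω : F) (hω : ω ^ 2 + ω + 1 = 0) : Nat.card (Cfsg.Out (Cfsg.Spor.J3 F ω)) = 2 := by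
  open H15 H15.J3 in
  have t := two_eq hF
  unfold Spor.J3
  rw [three_eq t hω]
  have := fin5 _ (hh e9 t hω)
  have C := cov _ (hh e9 t hω)
  have := C.simple
  have hπ := QuotientGroup.mk'_surjective (Subgroup.center (mdl (g _ (hh e9 t hω)) dom5))
  have L := (L5 _ (hh e9 t hω)).map hπ
  have I := C.inj (zs := zs) ((sinj _ _).sub _) (L5 _ _) (by decide +kernel)
  have A := Aq _ _ hπ C.ker.le
  have o := Sem.ok_of_slp _ L.ok tab_so
  refine out_two_of I L.ok es_so (L.top_of_run (Sem.ok_of_slp _ L.ok es_so) ep_ok) C.card o_1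
    (L.cent A ba_c (C.card.trans ba_p.symm).le es_so ba_b ba_a) (L.cent A bc_c (C.card.trans bc_p.symm).le es_so bc_b bc_a)
    o_n o_r o_o (L.endo ((U5 _ _).quot hπ (by decide) C.ker.le) o ta_b ta_l
      ((Sem.rels _ o ta_b (allR Rn5 ta_r)).append (List.forall_mem_singleton.2 ?_))) ta_t
  simpa [H15.sg, H15.Sem.bg, H15.Sem.gen] using (I _ (H15.nthD_prop (H15.Sem.ok_one _) o 0)).2 (by decide +kernel)

end Cfsg.Agent.S2067
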