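import Mathlib
import Cfsg.Statements.S2080
import Cfsg.Agent.H29.Out

set_option autoImplicit false
open Cfsg

namespace Cfsg.Agent.S2080

/-- The outer automorphism group of the Fischer group Fi₂₃ (the finitely presented group of the definitions) is trivial: every automorphism is inner. -/
theorem result : Nat.card (Cfsg.Out Cfsg.Spor.Fi23) = 1 := by
  have h := H13.Fi23.t23
  obtain ⟨d, hd, -⟩ := h.1.two
  obtain ⟨a, ha⟩ := h.1.exists_adj hd
  exact h.card_out H13.Fi23.tr3cls.2.2 ((H13.Fi23.simple.eq_bot_or_eq_top_of_normal _ inferInstance).resolve_right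
    fun q => ha.2 (Subgroup.mem_center_iff.1 (q ▸ Subgroup.mem_top a) d))

end Cfsg.Agent.S2080
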