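import Cfsg.Statements.S2093
import Mathlib
import Cfsg.Agent.H27.Sp62
import Cfsg.Agent.H27.CovSp62
-- import your own Cfsg.Agent.* helpers here

set_option autoImplicit false
open Cfsg

namespace Cfsg.Agent.S2093

open scoped Pointwise commutatorElement

/-- Exceptional Schur multiplier: over the field with 2 elements, PSp₆ has Schur multiplier cyclic of order 2 (here the Schur multiplier is described through stem extensions, as in the definitions). -/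
theorem result {F : Type*} [Field F] [Fintype F] (hF : Fintype.card F = 2) : Cfsg.HasCyclicSchurMultiplier (Cfsg.PSp 3 F) 2 := by
  obtain ⟨S, M⟩ := H27.Sp62.model F hF
  exact H27.CovSp62.mult (M.regen (pr := [[nat_lit 0, nat_lit 0, nat_lit 1],
   [nat_lit 0, nat_lit 0, nat_lit 0, nat_lit 0, nat_lit 1],
   [nat_lit 1, nat_lit 1, nat_lit 2, nat_lit 2, nat_lit 1, nat_lit 3, nat_lit 3],
   [nat_lit 1, nat_lit 1, nat_lit 1, nat_lit 0],
   [nat_lit 2, nat_lit 0, nat_lit 0, nat_lit 0, nat_lit 2],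
   [nat_lit 1, nat_lit 3, nat_lit 2, nat_lit 3, nat_lit 2, nat_lit 1, nat_lit 3, nat_lit 3, nat_lit 2],
   [nat_lit 4, nat_lit 2, nat_lit 2, nat_lit 4, nat_lit 3, nat_lit 2, nat_lit 3, nat_lit 4, nat_lit 4, nat_lit 4],
   [nat_lit 0, nat_lit 2, nat_lit 0, nat_lit 1],
   [nat_lit 2, nat_lit 2, nat_lit 2, nat_lit 3, nat_lit 2, nat_lit 2, nat_lit 3, nat_lit 2, nat_lit 2, nat_lit 1],
   [nat_lit 4, nat_lit 3, nat_lit 3, nat_lit 2],
   [nat_lit 4, nat_lit 3, nat_lit 5, nat_lit 4, nat_lit 3, nat_lit 4, nat_lit 5, nat_lit 3, nat_lit 5],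
   [nat_lit 4, nat_lit 5, nat_lit 5, nat_lit 5, nat_lit 4, nat_lit 6, nat_lit 6, nat_lit 4, nat_lit 4, nat_lit 4, nat_lit 6],
   [nat_lit 5, nat_lit 7, nat_lit 7, nat_lit 7, nat_lit 5, nat_lit 7, nat_lit 7, nat_lit 5],
   [nat_lit 4, nat_lit 1, nat_lit 4, nat_lit 0, nat_lit 2, nat_lit 5],
   [nat_lit 4, nat_lit 3, nat_lit 1, nat_lit 3],
   [nat_lit 1, nat_lit 4, nat_lit 1, nat_lit 1, nat_lit 0],
   [nat_lit 0, nat_lit 9, nat_lit 14, nat_lit 12, nat_lit 14, nat_lit 16, nat_lit 16, nat_lit 15, nat_lit 15],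
   [nat_lit 1, nat_lit 3, nat_lit 7, nat_lit 12, nat_lit 13, nat_lit 15, nat_lit 13, nat_lit 16, nat_lit 16, nat_lit 17, nat_lit 16]]) (pr' := [[nat_lit 0, nat_lit 0, nat_lit 1, nat_lit 1],
   [nat_lit 2, nat_lit 1, nat_lit 0, nat_lit 2, nat_lit 1],
   [nat_lit 1, nat_lit 1],
   [nat_lit 0, nat_lit 0, nat_lit 0],
   [nat_lit 0, nat_lit 1, nat_lit 2, nat_lit 0, nat_lit 0, nat_lit 0],
   [nat_lit 3, nat_lit 3, nat_lit 0, nat_lit 3, nat_lit 0, nat_lit 3, nat_lit 1, nat_lit 0, nat_lit 1],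
   [nat_lit 3, nat_lit 1, nat_lit 3, nat_lit 1],
   [nat_lit 5, nat_lit 3, nat_lit 5, nat_lit 3, nat_lit 4, nat_lit 4, nat_lit 3, nat_lit 5, nat_lit 3, nat_lit 4, nat_lit 2],
   [nat_lit 0, nat_lit 2, nat_lit 1, nat_lit 2, nat_lit 0, nat_lit 2, nat_lit 0],
   [nat_lit 1, nat_lit 1],
   [nat_lit 2, nat_lit 3, nat_lit 3, nat_lit 4, nat_lit 2, nat_lit 3, nat_lit 2, nat_lit 4, nat_lit 3, nat_lit 3, nat_lit 4, nat_lit 3],
   [nat_lit 5, nat_lit 5, nat_lit 3, nat_lit 3, nat_lit 5, nat_lit 3, nat_lit 4],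
   [nat_lit 6, nat_lit 6, nat_lit 4, nat_lit 6, nat_lit 5, nat_lit 4, nat_lit 6, nat_lit 5, nat_lit 6],
   [nat_lit 7, nat_lit 7, nat_lit 7, nat_lit 6, nat_lit 6, nat_lit 6, nat_lit 5, nat_lit 7, nat_lit 7, nat_lit 6],
   [nat_lit 4, nat_lit 5, nat_lit 2],
   [nat_lit 6, nat_lit 1, nat_lit 4],
   [nat_lit 5, nat_lit 3],
   [nat_lit 2, nat_lit 1, nat_lit 1, nat_lit 0, nat_lit 1, nat_lit 2]]) (lv := [(nat_lit 0, [nat_lit 18, nat_lit 19]), (nat_lit 1, [nat_lit 16, nat_lit 15]), (nat_lit 3, [nat_lit 12, nat_lit 11]), (nat_lit 7, [nat_lit 9, nat_lit 8, nat_lit 7]), (nat_lit 15, [nat_lit 3, nat_lit 2]), (nat_lit 31, [nat_lit 0])]) (by decide +kernel))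

end Cfsg.Agent.S2093
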