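import Cfsg.Statements.S2101
import Mathlib
import Cfsg.Agent.H27.G23
import Cfsg.Agent.H27.CovG23
-- import your own Cfsg.Agent.* helpers here

set_option autoImplicit false
open Cfsg

namespace Cfsg.Agent.S2101

open scoped Pointwise commutatorElement

/-- Exceptional Schur multiplier: over the field with 3 elements the Chevalley group of type G₂ has Schur multiplier cyclic of order 3 (here the Schur multiplier is described through stem extensions, as in the definitions). -/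
theorem result {F : Type*} [Field F] [Fintype F] (hF : Fintype.card F = 3) : Cfsg.HasCyclicSchurMultiplier ↥(Cfsg.Lie.chevG2.group F) 3 := by
  obtain ⟨S, M⟩ := H27.G23.model F hF
  exact H27.CovG23.mult (M.regen (pr := [[nat_lit 1, nat_lit 2, nat_lit 0, nat_lit 1],
   [nat_lit 0, nat_lit 2, nat_lit 1, nat_lit 1, nat_lit 3, nat_lit 1, nat_lit 0],
   [nat_lit 2, nat_lit 2, nat_lit 4, nat_lit 4, nat_lit 2, nat_lit 3],
   [nat_lit 1, nat_lit 1, nat_lit 0, nat_lit 1, nat_lit 1],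
   [nat_lit 0, nat_lit 2, nat_lit 0, nat_lit 2],
   [nat_lit 1, nat_lit 3, nat_lit 2, nat_lit 1],
   [nat_lit 3, nat_lit 2, nat_lit 3, nat_lit 2, nat_lit 2, nat_lit 2, nat_lit 3, nat_lit 3],
   [nat_lit 3, nat_lit 5, nat_lit 5, nat_lit 4, nat_lit 5, nat_lit 5, nat_lit 3, nat_lit 3, nat_lit 4, nat_lit 5],
   [nat_lit 2, nat_lit 1, nat_lit 0, nat_lit 3, nat_lit 1, nat_lit 3],
   [nat_lit 4, nat_lit 3, nat_lit 2],
   [nat_lit 4, nat_lit 2, nat_lit 3, nat_lit 2],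
   [nat_lit 0, nat_lit 1],
   [nat_lit 3, nat_lit 2, nat_lit 3],
   [nat_lit 1, nat_lit 3],
   [nat_lit 0, nat_lit 0, nat_lit 0],
   [nat_lit 0, nat_lit 1, nat_lit 1, nat_lit 6, nat_lit 8, nat_lit 12, nat_lit 11, nat_lit 12, nat_lit 14, nat_lit 15, nat_lit 15, nat_lit 14, nat_lit 16, nat_lit 14],
   [nat_lit 2, nat_lit 2, nat_lit 3, nat_lit 6, nat_lit 10, nat_lit 8, nat_lit 12, nat_lit 15, nat_lit 15, nat_lit 17, nat_lit 16, nat_lit 15]]) (pr' := [[nat_lit 1, nat_lit 1, nat_lit 0, nat_lit 1, nat_lit 0, nat_lit 0],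
   [nat_lit 0, nat_lit 2, nat_lit 1, nat_lit 1, nat_lit 2],
   [nat_lit 2, nat_lit 1, nat_lit 1, nat_lit 2, nat_lit 1, nat_lit 2],
   [nat_lit 0, nat_lit 1, nat_lit 1, nat_lit 1, nat_lit 0, nat_lit 1],
   [nat_lit 2, nat_lit 2, nat_lit 2, nat_lit 1, nat_lit 2],
   [nat_lit 3, nat_lit 1, nat_lit 1, nat_lit 2, nat_lit 1, nat_lit 1, nat_lit 3, nat_lit 2, nat_lit 3],
   [nat_lit 2, nat_lit 4, nat_lit 2, nat_lit 3, nat_lit 3, nat_lit 4, nat_lit 2, nat_lit 2],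
   [nat_lit 5, nat_lit 3, nat_lit 3, nat_lit 4, nat_lit 5, nat_lit 4, nat_lit 3, nat_lit 5, nat_lit 4, nat_lit 4],
   [nat_lit 3, nat_lit 1, nat_lit 2, nat_lit 2, nat_lit 3],
   [nat_lit 4, nat_lit 2, nat_lit 1, nat_lit 3, nat_lit 2, nat_lit 3, nat_lit 4, nat_lit 1],
   [nat_lit 2, nat_lit 2, nat_lit 5, nat_lit 4, nat_lit 3],
   [nat_lit 6, nat_lit 4, nat_lit 3, nat_lit 3, nat_lit 3, nat_lit 4, nat_lit 6, nat_lit 3, nat_lit 6, nat_lit 3, nat_lit 6],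
   [nat_lit 6, nat_lit 6, nat_lit 5, nat_lit 4, nat_lit 6, nat_lit 6],
   [nat_lit 3, nat_lit 4, nat_lit 0, nat_lit 2],
   [nat_lit 3, nat_lit 3, nat_lit 4, nat_lit 5, nat_lit 5],
   [nat_lit 4, nat_lit 3],
   [nat_lit 2, nat_lit 1, nat_lit 0, nat_lit 1, nat_lit 2],
   [nat_lit 3, nat_lit 2, nat_lit 2, nat_lit 2, nat_lit 3],
   [nat_lit 1, nat_lit 0, nat_lit 0, nat_lit 0, nat_lit 0]]) (lv := [(nat_lit 0, [nat_lit 19, nat_lit 20]), (nat_lit 1, [nat_lit 17, nat_lit 16]), (nat_lit 2, [nat_lit 14]), (nat_lit 4, [nat_lit 10, nat_lit 9]), (nat_lit 13, [nat_lit 5, nat_lit 4, nat_lit 3]), (nat_lit 40, [nat_lit 2]), (nat_lit 5, [nat_lit 0])]) (by decide +kernel))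

end Cfsg.Agent.S2101
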