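import Cfsg.Statements.S2132
import Mathlib
import Cfsg.Agent.H27.HomB
import Cfsg.Agent.H27.McL
import Cfsg.Agent.H14.OutCo
-- import your own Cfsg.Agent.* helpers here

set_option autoImplicit false
open Cfsg

namespace Cfsg.Agent.S2132

open scoped Pointwise commutatorElement

open H13 H14.PK H14.PK.TS H27 H27.PKx H27.MG H27.McL Cfsg
open H15 hiding memL

set_option maxRecDepth 100000

theorem cover_of {K A : Type*} [Group K] [Group A] [Finite K] (φ : K →* A) (h1 : φ.range = ⊤) (h2 : Nat.card K = 2 * Nat.card A)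
    (h3 : Subgroup.center A = ⊥) {z x : K} (h4 : φ z = 1) (h5 : orderOf z = 2) (h6 : z ∈ Subgroup.center K) (h7 : x * x = z) :
    IsNonsplitDoubleCover K A := by
  have := Finite.of_surjective φ (MonoidHom.range_eq_top.1 h1)
  have b := Nonempty.intro (QuotientGroup.quotientKerEquivOfSurjective φ (MonoidHom.range_eq_top.1 h1))
  have a : Nat.card φ.ker = 2 := Nat.eq_of_mul_eq_mul_right (Nat.card_pos (α := A)) (by
    rw [← h2, ← φ.ker.card_mul_index, Subgroup.index_ker, h1, Subgroup.card_top])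
  have c : Subgroup.center K = φ.ker := le_antisymm (fun y hy => Subgroup.mem_bot.1 (h3.le (Subgroup.mem_center_iff.2 fun u => by
    obtain ⟨v, rfl⟩ := MonoidHom.range_eq_top.1 h1 u
    rw [← map_mul, Subgroup.mem_center_iff.1 hy, map_mul]))) ((Subgroup.eq_of_le_of_card_ge (Subgroup.zpowers_le.2 h4)
      (by rw [a, Nat.card_zpowers, h5])).ge.trans (Subgroup.zpowers_le.2 h6))
  refine ⟨c ▸ a, b.map (QuotientGroup.quotientMulEquivOfEq c).trans, fun L d => ?_⟩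
  have := Subgroup.disjoint_def.1 d.disjoint h6 (h7 ▸ L.mul_self_mem_of_index_two (d.index_eq_card.trans (c ▸ a)) x)
  simp [this] at h5

def Z : ℕ := nat_lit 0x4490a823d9ae1a9961b00f4938184150ac83ac4a4a6271e1fae8233e9e8f80fb89cef91c318722666901daec23b6c98fc7ab806cce123d87ee622350443a7534998176b91458de1e368381a67b91ded9190bd92c815bc854bf8583d830a6223d18b05d98d5c944820d1c61311a204bc34ae4250455a9015053340102aa518250e6e4e9513e9c4024a18983e22d2ab88426822b75f2d4d8bd4b1b4ba135082222775b4414a9b329c4289787c2402fe421d00476299c8fc702b281148d8700d5eb233a9cfe5a5d2cd684f2f81d12582d990b25c001bc189e39c041a50303fc0ae91086c824875bedacdf218f892ee709084ed31a371e2f31bb945c3b16b2c6220650d466d563b1432281ebc02ae311b7496307b8782cd12534052186c0744a7d442b5230661010a25505aa544862f0189a0e351d4f257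
def X : ℕ := nat_lit 0x44980d47223d30c38644604d97b108a47e711ea0a584f3d146ea4b271fc954dc0dc6780121112640e360e4ec703a124db123ada67b73c1c444769441c2b87e37d2640642dc2c821b111de4a5dc3da308361cd92d7489dcc27c4ca383c854bc39067467880dc3a22af584c537a061276062809e7128004af014317164797e81d14b9289381afa0fba6170d62119f0dc6613056d63583d96b67da1c727d3699a14c646378d0f71a2b026bf672c554f9792f1e6b017bb60848312b942325f0ccaaa53382076261815854ad2fa89e30018bc050a6052cd5eff652a13aab091502a9a2086896707322d20da1184042176ec1808e53fa50ba750c0f0326501a34b6ba298a4d41d08ad06a59071689af5218fc926340305aacd6806c5c37770b00a880a1818e3e5a8f53e6905800bca7048184a27168e148a9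
def Cs : List ℕ := [nat_lit 0x4358c6384339da4f70299fe2c822c0d2da5640d6af33d1bcb2a478be9eb126d9ade8e713358990a5faddf0c84d42d96aa7cbdc5ac750c38821f3db78106e61ac50a7133b65bed447c08fa3b518ad8911232c956ec7b114f8cd731746f0077b404f0660bb94e614123054802d2a20e1065198d8d26bba05caf528e13afc678846d0c57195725f298fcc05b80824e0b46ab849b100d315523d51095102972b75e46a5eae93e732a3f83852499380056019d0ee764a3f4f0950ba642a0a720585f0564a053c622019136dc119e4266d242cc0c8a28b612c7f5c2380e501d42422322a86dd618490e5990f5da0c8e9024ad87cbe1e281d2f0218cd5ad371bec16583404848447125c1e9c21300608714218185c75078ea14250d184983f00840d10ca340abc44838bc8b188d49622009c922040ea10ae0d, nat_lit 0x26122eb86221d8924b26e108441409fce1883a1c6167223d2b0f3290dbb0d7da3566226ab40aeca663bd92c141c28fa7b312849a1b569b1a68782a2a1ce7603e5d3002f8298c6d333d0b03333929b24c10351ae3179869969445c18e0805c038eadb393b8a7075e25d750173425f8ea2b1cce83f2cb71b0787b874883a1186496a56d345a4fd85b09349c5fa4177033b83cc2b00218ce2025b9a8aa4110944225d3e11dbec3822311cc44ca4d0cbe44c457285714497afa72a04067e09a88de7a2407d585420380a43b0f13c18792827990016b0d8841c7b090c8371a3398a14521793a5b5b1fd52a87c1a13ecd1e2c98ea71abd4002c14015fe2e138c030af6f1387af21c0c9e0cf158bc4a12559ad54692302de25c038b44ca3530e42ab5249d968b108280b43e0305c520d303b4546e04ab81045,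 Z, X]
def T0 : List ℕ := [nat_lit 0x44a14fe844021b0182c46050f83c1a16ff81c26190e82441fadb7db3da8ed65389cede63b19e2d673361f0c968ba196ea7abbda6cc71bd9bacd6fbd1c2dc7e3499cee643c1aaf972b69d6d07d365c0e474bddd8d779bc98a6854144b6855916106744e19540942d2313a612b2fcf476521b90c4e559a4fac3279ad2eaf5197914b9471c56abb299b0a49852a2ce4b83da34ea642e27d24b64b284ba5736ab580845e9e0f87331951528149ac4aa823bac122bc402553c59312b90e9a5313554c43398174903f9bd68662fa89128f60adce0be442ccf27e4da65845053ab0d4320c86c5c280e1184c44118f86a17111084e36180e8722b0c0f08220129303c3b0f9242a2c1c0a842481e9146624218fc5234178c42c47250689637200745a0a000200410068381e01058500e12048180604028441813,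
  nat_lit 0x3e90a5d1e4299e997b4396ae583b698cb9819ba02a64fa58a0e66f449e2f81f42dea3934aa1f2a466ad1da9c75b6c98e073bf2108c4d30c38e820bedba7475419069460b105c463d8407e8d86af5deb6658f4b6bb5941560d6711c5ae6b22af99c2a6416a08174833212ee2f31d40c51c2b05aae558984af253c00c0f051950b8b17f8249cec10b8e181e4bbf92ad81b09006b7479e9a0e43c22904792c0ee22776ca249e4b3283c407c69a39108b420e8eadc0c9c1847228c08da1a60045e62b05998fe633201c80a518ace20a164ae8b2870003418a214948defd40a749ae94006c884823b517e490c07dbe6168bdd950f431d9e8af1ba4c5808090c8be1413b555a35342f0a62817aa9529211889367d212601ce1251b0e6435c0101430008ccd4d23f074ac55338553c34310180a16488082657,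
  nat_lit 0x4354c783db022499541ad589383841867a81938a48558a09fae01cb3da8f817bc9eade22bd88c2b7505ddad7113bc98e673ba06ce40d31838fc163d08e2a66b49b240760e088f91e3687e247d339b6cc1907d90c91338874af8281d390e349b57a742d9911cb43fad95cb83f2a9fe76622d4290955ac8110b3e444c06851834b89f501bcdcc14d9b2185f33224b261842340665452e5248c2ea3d2c012c02a008441bf89e805bacc24a787c1027103bac00abc399c0c4724f2757c9a850457ea433a5d20ba2d1c528a54c03d16a15d98d2a8706150005629c04125040c0804e9259285c486ebc5e6d50c0f46ad86889c84d30ab15f6d611b9482251032c3c2d7b92460df7837052281f31c68d01bbac4233650c42ce10db8c32437707476ad3c9f4d5062f011445705a18a2a961018ea0e489351055,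
  nat_lit 0x4490af96617130a880c2a12ce710f932547b2c616be38b7946e845aee207229c0dc68208a10ba9023bb92ac966ba91afc12345ca937ac1c7e1c6d3f9ba946db7cf6176b9683a781e111cc1b4e421d70f4d201d8c83a9dd68812927c62c052c017abc7d0d15c3a1320ca2c5311f204b000ae54e9e28031110c56a3d7e557e82542a0612b01ecf17b2e0b0d34119dadc720c870f053035d28c7d9b472a94398222f25b3d188ca1013800b26c9e8d2d4631d18e760fbe1fe28379b9144c2c094f2973384860451dacc54862f979e30e0f358906b0a15949047bb0d6aab041f85a6c1a868325977a58c8d221840524070c1808d331ae112911b8d896ba02a4982654d8849a16011848270072dcd4e7118885c7f3996daae06812892186c0b0065705199e6424e89d1caa0584d444f03818663d0a8ad5e7d,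
  nat_lit 0x32223106c97192777b284dece290a5e49e80ac606a67f9e0a0e1232edf2286fc2d96f454c15e2aa66ac1da9823ba8943f190717a934d30df8d17bb51bab86d94e1e762f8205ede5b1cdc06c2dc21de7b7a8b21b12592a168347130862871da3dca407d20412dc2ab4ca2c53131e04ee0aa885a5451bc1e6c626c00c62655aba146e4fc113a1e0eb8d08ec0122d2a3a72090260c5f03434364b2291211601150a991e20974162b9f8607566158d4fe86360f817691c0e27284a80dad02c1e44a2b33814006052acc54646b81cbb0e6793cb26b3f9e96eac6d41d6afd2d1394e1b023a4844875bed0c1f219247cbc741046a835fa50720a1ba307ac40939d827d6a89d5aca341860cf817290d292118881c142227136e62623420183a2015e20488cd1019078851c90058e172d62f018cc4b00a5c0665,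
  nat_lit 0x17d148287961310154284ad0842039869e3bace18be389e1fae17d8c5e8286531836f91db89e23375bb890c977888643f253446ce4683c9f81c16351b63a6e859b2d86409488de1e075cce30f3388ecc263ddd8d7183d8540a82a75768754c0118bc60a45449426a0ca261811f4c4b0430254854558497f0b2aa3d10ad51ae6145e07c11845b399b0a50d2ba58b2b849a3574055303524bd45c4512a5602bcdb075b44026530113964003d9bc9efe819d8ca744d9c1fe723d01d0a9a2e168101433830ea0308ac5680189280ba6b4e1a92b0e4bc254eac402656a503c9f96ecb0cb9c6aed669182ad5218f45c407409c84d379b7072341bb949238783a5f4c70f9044cdf1031442f81f0b5ac1a11ba8522b17b3da4e07a89096180bb688a6840aa8c6044fc191c6605b115c69370192010321fcc07c,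
  nat_lit 0x4490a823d9ae1a9961b00f4938184150ac83ac4a4a6271e1fae8233e9e8f80fb89cef91c318722666901daec23b6c98fc7ab806cce123d87ee622350443a7534998176b91458de1e368381a67b91ded9190bd92c815bc854bf8583d830a6223d18b05d98d5c944820d1c61311a204bc34ae4250455a9015053340102aa518250e6e4e9513e9c4024a18983e22d2ab88426822b75f2d4d8bd4b1b4ba135082222775b4414a9b329c4289787c2402fe421d00476299c8fc702b281148d8700d5eb233a9cfe5a5d2cd684f2f81d12582d990b25c001bc189e39c041a50303fc0ae91086c824875bedacdf218f892ee709084ed31a371e2f31bb945c3b16b2c6220650d466d563b1432281ebc02ae311b7496307b8782cd12534052186c0744a7d442b5230661010a25505aa544862f0189a0e351d4f257,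
  nat_lit 0x16c9a77309a9825d0701412b42c97c085e38289120303a11facd1bb409227788a4582e168843015700a87aee68b84363f6ab983ae564065d6dd140d48e3177bc9a6c50b89490410b31838d70d0f04436250e480d81992c3ca983155006352169348c39c10c0b07f9b14e76572a93ab63480010b5031f42410359fd4caf059e56e4f099b8cc5385c3d16bb8044202bc4a420a8563aa21268d41241fcbe48a1974954941d0ea8311455aa15c27cb9033920d3cbd82949410c6115c227b329c4280a559b5586f5983ce88a4e004f0024d939326447ae4b00d61a58185087238fcf56737d943e6d90d8eed7a32deedc7e0c9d2d2783e846386f3683e3b6b39c4826230bc60f879b3db242260ac8ac97cba198347db8dc4ea223b1c8d41d3d840bf851a1630d52c49031133b112eb23e28cf49884c090ac0,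
  nat_lit 0x37deef56eba87ce36d36cf8c721ac852750c14c46418332d34301d1102e7284b49f0ee5012db0b81a9940ccc648bdec261408056346a0584af07fb719ea5651a1a25769c093ec577ab5e6fb213585ce8769444ed53a064c8b10e9e0784738bb08a111605004a787bf12e7f459d9005a612de0690382d16a214e1257e944aae9cc9b081a81cd92e37848ce4c0c8ce0016be5427b640308c3b2607894851f9bc3e1a0e06c110a5b44203126695622e9681e61a81549b1fc8d301cdf4f175c38dcb085aed06aa521749ac472a59cee01e9f416e15ea221063348dc9e9243010b6e2603c966506b8a8fc62542789c051c1e81a222b004800f558cc0eac421206d0c572760e5e5e2455e595c9851cf4518c4b0522a390da15630e415053340144995f1dcd61241228269361824070444bf582a64397d1e8c,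
  nat_lit 0x3e208d84a100f50581bb5564e61b9dc46e6323a0e614ec0972de49b802e463fbc858760a9dd9a491116cd66f753b1bed40f9ed907e6ac2dfcd963ac59311868adb887142a80462709f61e737a3fdb6b8691a0ac7031949a6454cb94384834ad1ae9c7300c728a1ebf14c3c068e16acf093c46a0704884b4a8170a95e1057224b2c11b17918f910369ed09623921c8538a6d0c4162a3c891284151d6644aa415884741d1acb21db0902f31d28de0b380c2974c04bbed3e96283e93cca581344cbf0310814332794506b7392eddeee41290b0bc48bf60ca032c3200a23303c322f25075345c6eb385a1411ba4341e3c3d4483f301b48e080c17c366a02201a2a9180c8520009ad9a08b3609c0af733a6196343e440eacc2985924435095caa113c8f84a4c5ea357c4b1b804baa71882c1ce3062215aa5]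
noncomputable def Ts : List ℕ := idv 9 275 :: T0
def TC : List ℕ := [nat_lit 0x33d18d0113f21ae77db995e8a2625dbc38748f464e465234466b61be9e4f84ebc618c6823d1c42a6c8cd46c11e2da0f0e4cb017ca6448e50f0a2f2a21ea441a9d9a126bae5670575998b0828940198ef80938be315e3e5e0b523125d8e0470da222b0f04c8a7d10b6d7e30161d84ec73d359b0f324370acd4693389e3a768edc2427b8543e9c3fa2dea5b08268161436a58064b72b10f0854924c48ba1f8357a4a75068c065400b929066e9a4b46c0d9a01cb2000606a43548fa10fe7424612742cb6936794435440a564911c6d14c004ce1c3982832252bb2d0c37408bc3b035b9dc1eab69c2d5c07381b9842d50a81624704aa9ecac2823cfca22014990617f9c5dc6258098aa28813153c5d7e9ed20b44faec0a5c42440187256934a8b83185cd47c2080810294a9bc68516f8182c7508810c853,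
  nat_lit 0x321a6d46891c3d0b423a9405c710d0a47e7b05de4cc628e4511145bb0f0953540dc6fe3e43220d267424a09c498d92485122f9806b7ac1cda8f322257a8e72915c0ae89240025d7435a00e97d439c8e60d1819ed725a6558023bae130db3ac3d4256648c162516fb85849e3b0a5b06f2ac08a67139058af017bb658e1d38189baee1d3fdb8bb04129865b24919560d2c06cd0443d83c64877dad9e8141101478a81fb7856862118408410e1b954f182a886a090abb568480390106cb75ab418190c07c7c26101d0a8332faf1f2ef18bc146cd13979aa4e12b193ef8168a85e9a5f9b122fd842596e5a1198c227a452e826fc3fad5049733c294a65403421b0627a05367910c11e659443694ee705a31881001b055ea64693070375c9a4cc0e3e9cd643b4a2a53a2c21801664d58019940a090b9483d,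
  nat_lit 0x2ed0f0549a3d823925299547b7c901ce127a0288cc06230d56cd0d0c4d8370232e208d333a44881740bc865f0e38512ef4111db283290c844eb39a69c03d1fac1181f890313692722f1d4997d2d9f8bd4b0421a9809930844d0d855af0002971a635649884cd52a3945adf3498d522e483c0c8ad33a44fef5574293e1105880da34799a070c8309dde25b04b18502c87a109c9e2c0ce063c791adc4074500942d41b2a13ab48221806a284290dd0b6f124de414a3b410483e8ee1d075f1f96eba7eae5590259abc88c24e115ed11762c5f085470501ab25c3ec56a307afcf45d62bf83a1868b40aa532c8642cca6e8a442ce0009dc6a739331a45700a2d9e6083368f280440f9b82325a94f90138398544f07078ecdb3c43074957b9d12e6a2f169feee1285d8e512819460756b01a12d83895940b5,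
  nat_lit 0x305ca8d66b99aee91cba0710073a41f2697a8d436936a8686f0a7127150f82f3ee0f0584b7a1694879a156cf418f132c0819ad0a8a45918b90e4fb19982069995bac786a389cf2751fd0efe761b4f62242189925b0bb5028b9788fa24fc572317c125d9697ef0833adaca4653b85cad8231178af76ad0a8f440421226124219a249222a5befa53974983110b8c16265322502105e915048f1233934010e0246c32239b022666d0f58a4b77bcd10d0658b432332690c4e1812905c9107018158402ca6da4ba320bd54032f87d243f6418ccee10e854080a029286823350b0a70c4bc04dca35b3d96a9d3930940b22c03ce2db288c1867a7ec45620d3b1dd30dc59c08e8ff6c1f4ea283f2e0ac9628364f83a0387800a1291e004701595cde2a3cac14ab721154760e4aa7810a27b818e60c278a42616,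
  nat_lit 0x449d70785331aefe121ed00e8411511ada88240bacd33264e5080db21ea676b249e8e76ab4196a48018c6eec42af9bc937cb387ee685a69cae462130da0347ab21c888687c70e943c1118c62fb814c6b1c9a582fa16868c044719d5930f6fb6da25a5dbb8a691811602ca532ab56e64651ccd0d221bc05c6c7fbbcc2260c065a65502c189a9884bd8f09c38a112a117e38928b175075501c3bb7602171e0f88e8b2e40d687a59a5c407e6026ce90c4b1e41e015cbf4f8502583045056cb705e127c138c4bc201fd022a67800a4b618ac0b2832f084dc1057224087062a9d3ed42b3ec762388929eebf55a1868ba1b0204aa1209a8642c76b85524963bc4b67d5782856f31993d440b0aaa84ec324228de14228796abd233c812a309a387a306c2c9709e011441ca0140d452422b8193a0d1d308ec07,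
  nat_lit 0x3046c6c77b81ae4c78bf1e6a67aadde8af738b89508163406ec07b2720af80391a06a83d35186b83dac956cf5b34e190a83c3a226d4b3ecb06b4ebc9b2301e1fc442b86ad5fec66d99542787622a1edd3bacd925b6c378faae1c90a24e85caf51ead5d99188260811c8aaa179006a12562fd6069769853cf94da4c22b42402038416f82888fa33225d2312589016f0801754b064635a20be71b91247968a89cacb75a3522a76909c5421668e0261a190cc522d0290c7a180a9259c827313e08ee2ca01b4632d329486a2fbdd34e1642e8ce3f0b0941ca92686c762301b54e6993e14940a341b891c9f3903cdc682e308fcea0688217097ea1604513a211303a312c4ec4e0b850042838a50de8b283312edc2f078ae8780bf8ea7063800acc500af102901f03068044a9510c090f818a65530065101d,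
  nat_lit 0x3247ea85333a1ade1924c58cd7cac5ea2f7a2a48cfc1c3c9da7b4d260d8670006d048d40130481185048865f2e284f10f883648edd3b9296ccc02868d61443988da2d6b8754ed05f2cc789976089808a459fd823109ba4605365822250839871b6b25dac1bea42a2143e263498c14686d110b4ca1ba9420e73d3a12881118f9183b5f8b988c87f949a85b37c2c50aa77c05689e68bde06ea61b81ec765e8a5c2f188c15704e56094c056803542ec61c8ac12c74faac2aa3138d1cd07720a9a4ba2cc2608ee5e2bde03a67915c4367d101f0e55a8f41a354ebec92486e3cd5cfe3897418182c2482c4d7e9d4aaad41808f88f021f5c69b393ad6e0e3ca59380332a400266440801e0b4ba44428438438fc6a2b8780ed344c31845019978964f3a190c302431b882514ac1884196b01972a062a89b08e,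
  nat_lit 0x4490a823d9ae1a9961b00f4938184150ac83ac4a4a6271e1fae8233e9e8f80fb89cef91c318722666901daec23b6c98fc7ab806cce123d87ee622350443a7534998176b91458de1e368381a67b91ded9190bd92c815bc854bf8583d830a6223d18b05d98d5c944820d1c61311a204bc34ae4250455a9015053340102aa518250e6e4e9513e9c4024a18983e22d2ab88426822b75f2d4d8bd4b1b4ba135082222775b4414a9b329c4289787c2402fe421d00476299c8fc702b281148d8700d5eb233a9cfe5a5d2cd684f2f81d12582d990b25c001bc189e39c041a50303fc0ae91086c824875bedacdf218f892ee709084ed31a371e2f31bb945c3b16b2c6220650d466d563b1432281ebc02ae311b7496307b8782cd12534052186c0744a7d442b5230661010a25505aa544862f0189a0e351d4f257,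
  nat_lit 0x4490a823d9ae1a9961b00f4938184150ac83ac4a4a6271e1fae8233e9e8f80fb89cef91c318722666901daec23b6c98fc7ab806cce123d87ee622350443a7534998176b91458de1e368381a67b91ded9190bd92c815bc854bf8583d830a6223d18b05d98d5c944820d1c61311a204bc34ae4250455a9015053340102aa518250e6e4e9513e9c4024a18983e22d2ab88426822b75f2d4d8bd4b1b4ba135082222775b4414a9b329c4289787c2402fe421d00476299c8fc702b281148d8700d5eb233a9cfe5a5d2cd684f2f81d12582d990b25c001bc189e39c041a50303fc0ae91086c824875bedacdf218f892ee709084ed31a371e2f31bb945c3b16b2c6220650d466d563b1432281ebc02ae311b7496307b8782cd12534052186c0744a7d442b5230661010a25505aa544862f0189a0e351d4f257]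
def UC : List ℕ := [nat_lit 0xcc7951,
  nat_lit 0x567c58,
  nat_lit 0xfac688,
  nat_lit 0xde96a0]
def VC : List ℕ := [nat_lit 0xf8c0ab,
  nat_lit 0x9784f1,
  nat_lit 0x3585f4,
  nat_lit 0xdcc6a8,
  nat_lit 0xdec650,
  nat_lit 0xdcc6a8,
  nat_lit 0xf94668,
  nat_lit 0xfac688,
  nat_lit 0xfac688]

noncomputable def sCl0 : H14.RK.SL :=
  ⟨(unp (nat_lit 2) (nat_lit 0xe404)),
  [((unp (nat_lit 1) (nat_lit 1542)), nat_lit 4, (unp (nat_lit 2) (nat_lit 0x5307))), ((unp (nat_lit 1) (nat_lit 1539)), nat_lit 5, (unp (nat_lit 2) (nat_lit 0x3505)))],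
  [[], [nat_lit 0], [nat_lit 1], [nat_lit 0, nat_lit 0], [nat_lit 1, nat_lit 0], [nat_lit 0, nat_lit 1], [nat_lit 1, nat_lit 1], (unp (nat_lit 1) (nat_lit 3)), (unp (nat_lit 1) (nat_lit 259)), (unp (nat_lit 2) (nat_lit 771)), (unp (nat_lit 1) (nat_lit 515)), (unp (nat_lit 1) (nat_lit 771)), (unp (nat_lit 1) (nat_lit 1539)), (unp (nat_lit 1) (nat_lit 1795)), (unp (nat_lit 1) (nat_lit 260)), (unp (nat_lit 2) (nat_lit 772)), (unp (nat_lit 1) (nat_lit 516)), (unp (nat_lit 1) (nat_lit 772)), (unp (nat_lit 2) (nat_lit 3076)), (unp (nat_lit 2) (nat_lit 3332)), (unp (nat_lit 1) (nat_lit 1284)), (unp (nat_lit 1) (nat_lit 1540)), (unp (nat_lit 1) (nat_lit 1796)), (unp (nat_lit 2) (nat_lit 0x5304)), (unp (nat_lit 1) (nat_lit 3588)), (unp (nat_lit 1) (nat_lit 3844)), (unp (nat_lit 1) (nat_lit 773)), (unp (nat_lit 1) (nat_lit 1285)), (unp (nat_lit 2) (nat_lit 0x1305)), (unp (nat_lit 1) (nat_lit 1541)), (unp (nat_lit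 2) (nat_lit 0x3705)), (unp (nat_lit 2) (nat_lit 0x14d05)), (unp (nat_lit 1) (nat_lit 0x1f05)), (unp (nat_lit 1) (nat_lit 1542)), (unp (nat_lit 1) (nat_lit 1798))],
  [[(nat_lit 1, []), (nat_lit 3, []), (nat_lit 5, []), (nat_lit 7, []), (nat_lit 10, []), (nat_lit 4, (unp (nat_lit 4) (nat_lit 0xca8604))), (nat_lit 12, []), (nat_lit 0, []), (nat_lit 16, []), (nat_lit 18, []), (nat_lit 2, (unp (nat_lit 4) (nat_lit 0xc866605))), (nat_lit 21, []), (nat_lit 13, (unp (nat_lit 4) (nat_lit 0xca666455409))), (nat_lit 24, []), (nat_lit 20, (unp (nat_lit 4) (nat_lit 0x8667455408))), (nat_lit 22, (unp (nat_lit 4) (nat_lit 0xa866655408))), (nat_lit 8, (unp (nat_lit 4) (nat_lit 0xcaa604))), (nat_lit 29, []), (nat_lit 9, (unp (nat_lit 4) (nat_lit 0xaa66654508))), (nat_lit 15, (unp (nat_lit 4) (nat_lit 0xcaa666745540b))), (nat_lit 14, (unp (nat_lit 4) (nat_lit 0xc6667554550a))), (nat_lit 28, (unp (nat_lit 3) (nat_lit 0x6d2c05))),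 (nat_lit 25, (unp (nat_lit 4) (nat_lit 0xca666506))), (nat_lit 23, (unp (nat_lit 4) (nat_lit 0xaa5404))), (nat_lit 6, (unp (nat_lit 4) (nat_lit 0xcaa6667408))), (nat_lit 19, (unp (nat_lit 4) (nat_lit 0xa6667506))), (nat_lit 33, []), (nat_lit 27, (unp (nat_lit 4) (nat_lit 0xaa8667507))), (nat_lit 34, (unp (nat_lit 4) (nat_lit 0xcaa8654508))), (nat_lit 31, (unp (nat_lit 3) (nat_lit 0xdb504))), (nat_lit 17, (unp (nat_lit 4) (nat_lit 0xcaa866455450b))), (nat_lit 30, (unp (nat_lit 4) (nat_lit 0xaa8554507))), (nat_lit 32, (unp (nat_lit 4) (nat_lit 0x866755407))), (nat_lit 26, (unp (nat_lit 3) (nat_lit 0xd6c04))), (nat_lit 11, (unp (nat_lit 4) (nat_lit 0x8666455508)))],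
  [(nat_lit 2, []), (nat_lit 4, []), (nat_lit 6, []), (nat_lit 8, []), (nat_lit 11, []), (nat_lit 10, (unp (nat_lit 4) (nat_lit 0xca664554550a))), (nat_lit 13, []), (nat_lit 14, []), (nat_lit 17, []), (nat_lit 19, []), (nat_lit 20, []), (nat_lit 22, []), (nat_lit 7, (unp (nat_lit 4) (nat_lit 0x86667554550a))), (nat_lit 25, []), (nat_lit 26, []), (nat_lit 18, (unp (nat_lit 4) (nat_lit 0xa5545506))), (nat_lit 27, []), (nat_lit 1, (unp (nat_lit 4) (nat_lit 0xa5545506))), (nat_lit 24, (unp (nat_lit 4) (nat_lit 0xaa866655450a))), (nat_lit 12, [nat_lit 5]), (nat_lit 29, [nat_lit 4, nat_lit 12]), (nat_lit 23, (unp (nat_lit 3) (nat_lit 0x1b696d07))), (nat_lit 3, (unp (nat_lit 4) (nat_lit 0xcaa84554550a))), (nat_lit 31, []), (nat_lit 28, (unp (nat_lit 4) (nat_lit 0xca666755450a))), (nat_lit 32, []), (nat_lit 34, []), (nat_lit 30, (unp (nat_lit 4) (nat_lit 0x86667455509))), (nat_lit 21, (unp (nat_lit 4) (nat_lit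 0xa866655408))), (nat_lit 16, (unp (nat_lit 4) (nat_lit 0xaa503))), (nat_lit 5, (unp (nat_lit 4) (nat_lit 0xc8666745540a))), (nat_lit 15, (unp (nat_lit 4) (nat_lit 0xca6675407))), (nat_lit 33, (unp (nat_lit 3) (nat_lit 0x6dbdb2d09))), (nat_lit 0, (unp (nat_lit 4) (nat_lit 0xcaa6455408))), (nat_lit 9, (unp (nat_lit 4) (nat_lit 0xca86674554550c)))],
  [(nat_lit 0, [nat_lit 12]), (nat_lit 1, [nat_lit 12]), (nat_lit 2, [nat_lit 12]), (nat_lit 3, [nat_lit 12]), (nat_lit 4, [nat_lit 12]), (nat_lit 5, [nat_lit 12]), (nat_lit 6, [nat_lit 12]), (nat_lit 7, [nat_lit 12]), (nat_lit 8, [nat_lit 12]), (nat_lit 9, [nat_lit 12]), (nat_lit 10, [nat_lit 12]), (nat_lit 11, [nat_lit 12]), (nat_lit 12, [nat_lit 12]), (nat_lit 13, [nat_lit 12]), (nat_lit 14, [nat_lit 12]), (nat_lit 15, [nat_lit 12]), (nat_lit 16, [nat_lit 12]), (nat_lit 17, [nat_lit 12]), (nat_lit 18, [nat_lit 12]), (nat_lit 19, [nat_lit 12]), (nat_lit 20,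 [nat_lit 12]), (nat_lit 21, [nat_lit 12]), (nat_lit 22, [nat_lit 12]), (nat_lit 23, [nat_lit 12]), (nat_lit 24, [nat_lit 12]), (nat_lit 25, [nat_lit 12]), (nat_lit 26, [nat_lit 12]), (nat_lit 27, [nat_lit 12]), (nat_lit 28, [nat_lit 12]), (nat_lit 29, [nat_lit 12]), (nat_lit 30, [nat_lit 12]), (nat_lit 31, [nat_lit 12]), (nat_lit 32, [nat_lit 12]), (nat_lit 33, [nat_lit 12]), (nat_lit 34, [nat_lit 12])],
  [(nat_lit 0, (unp (nat_lit 4) (nat_lit 0xcaa6505))), (nat_lit 2, (unp (nat_lit 4) (nat_lit 0xa5403))), (nat_lit 1, (unp (nat_lit 4) (nat_lit 0xcaa866755450b))), (nat_lit 9, []), (nat_lit 4, (unp (nat_lit 4) (nat_lit 0xca66705))), (nat_lit 8, (unp (nat_lit 4) (nat_lit 0xca6665507))), (nat_lit 6, [nat_lit 8, nat_lit 10]), (nat_lit 15, []), (nat_lit 5, (unp (nat_lit 4) (nat_lit 0x8664554508))), (nat_lit 3, [nat_lit 12]), (nat_lit 11, (unp (nat_lit 4) (nat_lit 0x8645545508))), (nat_lit 10, (unp (nat_lit 4)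 (nat_lit 0xca84505))), (nat_lit 23, []), (nat_lit 14, (unp (nat_lit 4) (nat_lit 0xa8667506))), (nat_lit 13, (unp (nat_lit 4) (nat_lit 0x86664554550a))), (nat_lit 7, [nat_lit 12]), (nat_lit 28, []), (nat_lit 18, (unp (nat_lit 4) (nat_lit 0xa866645408))), (nat_lit 17, (unp (nat_lit 4) (nat_lit 0xa8666455450a))), (nat_lit 30, []), (nat_lit 20, (unp (nat_lit 4) (nat_lit 0xa85504))), (nat_lit 26, (unp (nat_lit 4) (nat_lit 0xc667554508))), (nat_lit 27, (unp (nat_lit 4) (nat_lit 0xa86455507))), (nat_lit 12, [nat_lit 12]), (nat_lit 24, (unp (nat_lit 4) (nat_lit 0xa85545507))), (nat_lit 25, (unp (nat_lit 4) (nat_lit 0xcaa86606))), (nat_lit 21, (unp (nat_lit 4) (nat_lit 0xca45405))), (nat_lit 22, (unp (nat_lit 4) (nat_lit 0xca6655407))), (nat_lit 16, [nat_lit 12]), (nat_lit 32, (unp (nat_lit 4) (nat_lit 0xaa664554550a))), (nat_lit 19, [nat_lit 12]), (nat_lit 34, (unp (nat_lit 4) (nat_lit 0xc8554506))), (nat_lit 29,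 (unp (nat_lit 4) (nat_lit 0xcaa866554550b))), (nat_lit 33, [nat_lit 4]), (nat_lit 31, (unp (nat_lit 4) (nat_lit 0x8554505)))]]⟩

noncomputable def sCl1 : H14.RK.SL :=
  ⟨[nat_lit 4, nat_lit 5],
  [((unp (nat_lit 3) (nat_lit 0x16c03)), nat_lit 6, (unp (nat_lit 3) (nat_lit 0x16d03))), ((unp (nat_lit 3) (nat_lit 0x5b2d05)), nat_lit 7, (unp (nat_lit 3) (nat_lit 0x2d96c06)))],
  [[], [nat_lit 4], [nat_lit 5], [nat_lit 5, nat_lit 4], [nat_lit 4, nat_lit 5], [nat_lit 5, nat_lit 5], (unp (nat_lit 3) (nat_lit 0x12c03)), (unp (nat_lit 3) (nat_lit 0x12d03)), (unp (nat_lit 3) (nat_lit 0x16503)), (unp (nat_lit 3) (nat_lit 0x16c03)), (unp (nat_lit 3) (nat_lit 0x96c04)), (unp (nat_lit 3) (nat_lit 0x96d04)), (unp (nat_lit 3) (nat_lit 0xb6504)), (unp (nat_lit 3) (nat_lit 0x4b6505)), (unp (nat_lit 3) (nat_lit 0x5b2d05)), (unp (nat_lit 3) (nat_lit 0x25b2d06))],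
  [[(nat_lit 1, []), (nat_lit 0, [nat_lit 12]), (nat_lit 4, []), (nat_lit 6, []), (nat_lit 2, [nat_lit 12]), (nat_lit 9, []), (nat_lit 3, [nat_lit 12]), (nat_lit 10, []), (nat_lit 8, (unp (nat_lit 4) (nat_lit 0xa86604))), (nat_lit 5, [nat_lit 12]), (nat_lit 7, [nat_lit 12]), (nat_lit 11, (unp (nat_lit 4) (nat_lit 0xa86604))), (nat_lit 13, [nat_lit 10]), (nat_lit 12, (unp (nat_lit 4) (nat_lit 0xcaa03))), (nat_lit 14, (unp (nat_lit 4) (nat_lit 0xca803))), (nat_lit 15, [nat_lit 8, nat_lit 10])],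
  [(nat_lit 2, []), (nat_lit 3, []), (nat_lit 5, []), (nat_lit 7, []), (nat_lit 8, []), (nat_lit 9, [nat_lit 6]), (nat_lit 6, (unp (nat_lit 4) (nat_lit 0xca866606))), (nat_lit 11, []), (nat_lit 1, (unp (nat_lit 4) (nat_lit 0xc8603))), (nat_lit 12, []), (nat_lit 13, []), (nat_lit 4, (unp (nat_lit 4) (nat_lit 0xca666706))), (nat_lit 14, []), (nat_lit 15, []), (nat_lit 0, (unp (nat_lit 4) (nat_lit 0xc8666706))), (nat_lit 10, (unp (nat_lit 4) (nat_lit 0xcaa866607)))]]⟩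

noncomputable def sCl2 : H14.RK.SL :=
  ⟨[nat_lit 6, nat_lit 7],
  [([], nat_lit 8, (unp (nat_lit 3) (nat_lit 0x6dbe05))), ((unp (nat_lit 3) (nat_lit 0x1b703)), nat_lit 9, (unp (nat_lit 3) (nat_lit 0xdb604)))],
  [[], [nat_lit 6], [nat_lit 6, nat_lit 6], (unp (nat_lit 3) (nat_lit 0x1b603)), (unp (nat_lit 3) (nat_lit 0x1b703)), (unp (nat_lit 3) (nat_lit 0xdb704))],
  [[(nat_lit 1, []), (nat_lit 2, []), (nat_lit 3, []), (nat_lit 4, [nat_lit 8, nat_lit 10]), (nat_lit 5, [nat_lit 10, nat_lit 12]), (nat_lit 0, [nat_lit 8])],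
  [(nat_lit 0, (unp (nat_lit 4) (nat_lit 0xca803))), (nat_lit 1, [nat_lit 8]), (nat_lit 4, []), (nat_lit 5, []), (nat_lit 2, [nat_lit 12]), (nat_lit 3, [nat_lit 12])]]⟩

noncomputable def sCl3 : H14.RK.SL :=
  ⟨[nat_lit 8, nat_lit 9],
  [([nat_lit 8], nat_lit 10, [nat_lit 9]), ([], nat_lit 11, [nat_lit 8, nat_lit 8])],
  [[], [nat_lit 8]],
  [[(nat_lit 1, []), (nat_lit 0, [nat_lit 12])],
  [(nat_lit 1, [nat_lit 10]), (nat_lit 0, (unp (nat_lit 4) (nat_lit 0xcaa03)))]]⟩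

noncomputable def sCl4 : H14.RK.SL :=
  ⟨[nat_lit 10, nat_lit 11],
  [([nat_lit 10, nat_lit 10], nat_lit 12, (unp (nat_lit 4) (nat_lit 0xaab03)))],
  [[], [nat_lit 10], [nat_lit 10, nat_lit 10]],
  [[(nat_lit 1, []), (nat_lit 2, []), (nat_lit 0, [])],
  [(nat_lit 0, [nat_lit 12]), (nat_lit 1, [nat_lit 12]), (nat_lit 2, [nat_lit 12])]]⟩

noncomputable def sCl5 : H14.RK.SL :=
  ⟨[nat_lit 12],
  [],
  [[], [nat_lit 12]],
  [[(nat_lit 1, []), (nat_lit 0, [])]]⟩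

noncomputable def lvC : List H14.RK.SL :=
  [sCl0, sCl1, sCl2, sCl3, sCl4, sCl5]


theorem pc : pcOk 9 275 bs Ts 2 7 7 [[],
   [nat_lit 0, nat_lit 1, nat_lit 35, nat_lit 1, nat_lit 39, nat_lit 38, nat_lit 1, nat_lit 1],
   [nat_lit 0, nat_lit 67, nat_lit 2, nat_lit 2, nat_lit 69, nat_lit 2, nat_lit 71, nat_lit 2],
   [nat_lit 0, nat_lit 3, nat_lit 3, nat_lit 3, nat_lit 0xcc7, nat_lit 103, nat_lit 3, nat_lit 3],
   [nat_lit 0, nat_lit 135, nat_lit 133, nat_lit 0x10c7, nat_lit 4, nat_lit 4, nat_lit 4, nat_lit 4],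
   [nat_lit 0, nat_lit 166, nat_lit 5, nat_lit 167, nat_lit 5, nat_lit 5, nat_lit 5, nat_lit 5],
   [nat_lit 0, nat_lit 6, nat_lit 199, nat_lit 6, nat_lit 6, nat_lit 6, nat_lit 6, nat_lit 6],
   [nat_lit 0, nat_lit 7, nat_lit 7, nat_lit 7, nat_lit 7, nat_lit 7, nat_lit 7, nat_lit 7]] = true := by decide +kernel

def c1 : List (ℕ × List (ℕ × ℕ × ℕ)) := [(nat_lit 0, [(nat_lit 0, nat_lit 0, nat_lit 0), (nat_lit 0, nat_lit 1, nat_lit 0)])]
def c2 : List (ℕ × List (ℕ × ℕ × ℕ)) := [(nat_lit 0, [(nat_lit 0, nat_lit 0, nat_lit 0), (nat_lit 0, nat_lit 2, nat_lit 0)]),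
  (nat_lit 1, [(nat_lit 0, nat_lit 1, nat_lit 0), (nat_lit 0, nat_lit 34, nat_lit 0)])]
def c3 : List (ℕ × List (ℕ × ℕ × ℕ)) := [(nat_lit 0, [(nat_lit 0, nat_lit 0, nat_lit 0), (nat_lit 0, nat_lit 3, nat_lit 0)]),
  (nat_lit 1, [(nat_lit 0, nat_lit 1, nat_lit 0), (nat_lit 2, nat_lit 1, nat_lit 0)]),
  (nat_lit 2, [(nat_lit 0, nat_lit 2, nat_lit 0), (nat_lit 1, nat_lit 2, nat_lit 0)]),
  (nat_lit 34, [(nat_lit 0, nat_lit 34, nat_lit 0), (nat_lit 1, nat_lit 34, nat_lit 0)])]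
def c4 : List (ℕ × List (ℕ × ℕ × ℕ)) := [(nat_lit 0, [(nat_lit 0, nat_lit 0, nat_lit 0), (nat_lit 0, nat_lit 4, nat_lit 0)]),
  (nat_lit 1, [(nat_lit 0, nat_lit 1, nat_lit 0), (nat_lit 0, nat_lit 36, nat_lit 0)]),
  (nat_lit 2, [(nat_lit 0, nat_lit 2, nat_lit 0), (nat_lit 0, nat_lit 68, nat_lit 0)]),
  (nat_lit 34, [(nat_lit 0, nat_lit 34, nat_lit 0), (nat_lit 0, nat_lit 0x444, nat_lit 0)]),
  (nat_lit 3, [(nat_lit 0, nat_lit 3, nat_lit 0), (nat_lit 0, nat_lit 100, nat_lit 0)])]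
def c5 : List (ℕ × List (ℕ × ℕ × ℕ)) := [(nat_lit 0, [(nat_lit 0, nat_lit 0, nat_lit 0), (nat_lit 0, nat_lit 5, nat_lit 0)]),
  (nat_lit 1, [(nat_lit 0, nat_lit 1, nat_lit 0), (nat_lit 0, nat_lit 37, nat_lit 0)]),
  (nat_lit 2, [(nat_lit 0, nat_lit 2, nat_lit 0), (nat_lit 4, nat_lit 2, nat_lit 0)]),
  (nat_lit 34, [(nat_lit 0, nat_lit 34, nat_lit 0), (nat_lit 4, nat_lit 34, nat_lit 7)]),
  (nat_lit 3, [(nat_lit 0, nat_lit 3, nat_lit 0), (nat_lit 0, nat_lit 101, nat_lit 0)]),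
  (nat_lit 4, [(nat_lit 0, nat_lit 4, nat_lit 0), (nat_lit 2, nat_lit 4, nat_lit 0)]),
  (nat_lit 36, [(nat_lit 0, nat_lit 36, nat_lit 0), (nat_lit 2, nat_lit 0x464, nat_lit 0)]),
  (nat_lit 68, [(nat_lit 0, nat_lit 68, nat_lit 0), (nat_lit 2, nat_lit 68, nat_lit 0)]),
  (nat_lit 0x444, [(nat_lit 0, nat_lit 0x444, nat_lit 0), (nat_lit 4, nat_lit 0x444, nat_lit 7)]),
  (nat_lit 100, [(nat_lit 0, nat_lit 100, nat_lit 0), (nat_lit 2, nat_lit 100, nat_lit 0)])]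
def c6 : List (ℕ × List (ℕ × ℕ × ℕ)) := [(nat_lit 0, [(nat_lit 0, nat_lit 0, nat_lit 0), (nat_lit 0, nat_lit 6, nat_lit 0)]),
  (nat_lit 1, [(nat_lit 0, nat_lit 1, nat_lit 0), (nat_lit 5, nat_lit 1, nat_lit 0)]),
  (nat_lit 2, [(nat_lit 0, nat_lit 2, nat_lit 0), (nat_lit 0, nat_lit 70, nat_lit 0)]),
  (nat_lit 34, [(nat_lit 0, nat_lit 34, nat_lit 0), (nat_lit 5, nat_lit 34, nat_lit 7)]),
  (nat_lit 3, [(nat_lit 0, nat_lit 3, nat_lit 0), (nat_lit 4, nat_lit 3, nat_lit 7)]),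
  (nat_lit 4, [(nat_lit 0, nat_lit 4, nat_lit 0), (nat_lit 3, nat_lit 4, nat_lit 7)]),
  (nat_lit 36, [(nat_lit 0, nat_lit 36, nat_lit 0), (nat_lit 3, nat_lit 36, nat_lit 7)]),
  (nat_lit 68, [(nat_lit 0, nat_lit 68, nat_lit 0), (nat_lit 3, nat_lit 68, nat_lit 7)]),
  (nat_lit 0x444, [(nat_lit 0, nat_lit 0x444, nat_lit 0), (nat_lit 3, nat_lit 0x444, nat_lit 7)]),
  (nat_lit 100, [(nat_lit 0, nat_lit 100, nat_lit 0), (nat_lit 3, nat_lit 100, nat_lit 7)]),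
  (nat_lit 0x464, [(nat_lit 0, nat_lit 0x464, nat_lit 0), (nat_lit 3, nat_lit 0x464, nat_lit 7)]),
  (nat_lit 5, [(nat_lit 0, nat_lit 5, nat_lit 0), (nat_lit 1, nat_lit 5, nat_lit 0)]),
  (nat_lit 37, [(nat_lit 0, nat_lit 37, nat_lit 0), (nat_lit 1, nat_lit 37, nat_lit 0)]),
  (nat_lit 101, [(nat_lit 0, nat_lit 101, nat_lit 0), (nat_lit 1, nat_lit 101, nat_lit 0)])]
def c7 : List (ℕ × List (ℕ × ℕ × ℕ)) := [(nat_lit 0, [(nat_lit 0, nat_lit 0, nat_lit 0), (nat_lit 0, nat_lit 7, nat_lit 0)]),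
  (nat_lit 1, [(nat_lit 0, nat_lit 1, nat_lit 0), (nat_lit 4, nat_lit 1, nat_lit 0)]),
  (nat_lit 2, [(nat_lit 0, nat_lit 2, nat_lit 0), (nat_lit 6, nat_lit 2, nat_lit 0)]),
  (nat_lit 34, [(nat_lit 0, nat_lit 34, nat_lit 0), (nat_lit 6, nat_lit 34, nat_lit 0)]),
  (nat_lit 3, [(nat_lit 0, nat_lit 3, nat_lit 0), (nat_lit 5, nat_lit 3, nat_lit 0)]),
  (nat_lit 4, [(nat_lit 0, nat_lit 4, nat_lit 0), (nat_lit 1, nat_lit 4, nat_lit 0)]),
  (nat_lit 36, [(nat_lit 0, nat_lit 36, nat_lit 0), (nat_lit 1, nat_lit 36, nat_lit 0)]),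
  (nat_lit 68, [(nat_lit 0, nat_lit 68, nat_lit 0), (nat_lit 6, nat_lit 68, nat_lit 0)]),
  (nat_lit 0x444, [(nat_lit 0, nat_lit 0x444, nat_lit 0), (nat_lit 6, nat_lit 0x444, nat_lit 0)]),
  (nat_lit 100, [(nat_lit 0, nat_lit 100, nat_lit 0), (nat_lit 1, nat_lit 100, nat_lit 0)]),
  (nat_lit 0x464, [(nat_lit 0, nat_lit 0x464, nat_lit 0), (nat_lit 1, nat_lit 0x464, nat_lit 0)]),
  (nat_lit 5, [(nat_lit 0, nat_lit 5, nat_lit 0), (nat_lit 3, nat_lit 5, nat_lit 0)]),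
  (nat_lit 37, [(nat_lit 0, nat_lit 37, nat_lit 0), (nat_lit 3, nat_lit 37, nat_lit 0)]),
  (nat_lit 101, [(nat_lit 0, nat_lit 101, nat_lit 0), (nat_lit 3, nat_lit 101, nat_lit 0)]),
  (nat_lit 6, [(nat_lit 0, nat_lit 6, nat_lit 0), (nat_lit 2, nat_lit 6, nat_lit 0)]),
  (nat_lit 70, [(nat_lit 0, nat_lit 70, nat_lit 0), (nat_lit 2, nat_lit 70, nat_lit 0)])]
def c8 : List (ℕ × ℕ × ℕ) := [(nat_lit 0, nat_lit 0, nat_lit 0),
  (nat_lit 1, nat_lit 8, nat_lit 7),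
  (nat_lit 2, nat_lit 9, nat_lit 7),
  (nat_lit 34, nat_lit 0, nat_lit 0),
  (nat_lit 3, nat_lit 0x41105, nat_lit 7),
  (nat_lit 4, nat_lit 10, nat_lit 7),
  (nat_lit 36, nat_lit 0, nat_lit 0),
  (nat_lit 68, nat_lit 0, nat_lit 0),
  (nat_lit 0x444, nat_lit 0, nat_lit 0),
  (nat_lit 100, nat_lit 0, nat_lit 0),
  (nat_lit 0x464, nat_lit 0, nat_lit 0),
  (nat_lit 5, nat_lit 0x2109, nat_lit 7),
  (nat_lit 37, nat_lit 0, nat_lit 0),
  (nat_lit 101, nat_lit 0, nat_lit 0),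
  (nat_lit 6, nat_lit 0x40902, nat_lit 7),
  (nat_lit 70, nat_lit 0, nat_lit 0),
  (nat_lit 7, nat_lit 0, nat_lit 7)]

theorem s1 : stOk 9 275 bs Ts 2 7 7 1 (c2.map Prod.fst) c1 = true := by decide +kernel

theorem s2 : stOk 9 275 bs Ts 2 7 7 2 (c3.map Prod.fst) c2 = true := by decide +kernel

theorem s3 : stOk 9 275 bs Ts 2 7 7 3 (c4.map Prod.fst) c3 = true := by decide +kernel

theorem s4 : stOk 9 275 bs Ts 2 7 7 4 (c5.map Prod.fst) c4 = true := by decide +kernel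

theorem s5 : stOk 9 275 bs Ts 2 7 7 5 (c6.map Prod.fst) c5 = true := by decide +kernel

theorem s6 : stOk 9 275 bs Ts 2 7 7 6 (c7.map Prod.fst) c6 = true := by decide +kernel

theorem s7 : stOk 9 275 bs Ts 2 7 7 7 (c8.map Prod.fst) c7 = true := by decide +kernel

theorem fn : fnOk 9 275 bs Ts 2 [0, 7] c8 = true := by decide +kernel


theorem k1 : wkK 9 275 898128000 [[nat_lit 1, nat_lit 1],
   [nat_lit 2, nat_lit 1, nat_lit 2, nat_lit 1, nat_lit 1, nat_lit 1, nat_lit 0, nat_lit 1, nat_lit 0, nat_lit 2, nat_lit 1],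
   [nat_lit 1, nat_lit 2, nat_lit 2, nat_lit 2, nat_lit 1, nat_lit 2, nat_lit 2, nat_lit 3],
   [nat_lit 1, nat_lit 0, nat_lit 0],
   [nat_lit 2, nat_lit 2, nat_lit 0, nat_lit 1, nat_lit 0, nat_lit 1, nat_lit 0, nat_lit 1],
   [nat_lit 2, nat_lit 1, nat_lit 1, nat_lit 2, nat_lit 2],
   [nat_lit 0, nat_lit 0],
   [nat_lit 2, nat_lit 2, nat_lit 1, nat_lit 2],
   [nat_lit 1, nat_lit 3, nat_lit 1, nat_lit 3, nat_lit 2, nat_lit 1, nat_lit 3, nat_lit 2, nat_lit 3, nat_lit 2],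
   [nat_lit 2, nat_lit 4, nat_lit 1, nat_lit 2, nat_lit 3, nat_lit 3, nat_lit 2, nat_lit 1],
   [nat_lit 3, nat_lit 5, nat_lit 3, nat_lit 5, nat_lit 2, nat_lit 5, nat_lit 2, nat_lit 5, nat_lit 5],
   [nat_lit 2, nat_lit 1, nat_lit 2, nat_lit 2, nat_lit 0],
   [nat_lit 2, nat_lit 1, nat_lit 2, nat_lit 3, nat_lit 3],
   [nat_lit 0, nat_lit 3, nat_lit 4, nat_lit 8, nat_lit 5, nat_lit 8, nat_lit 5, nat_lit 9, nat_lit 11, nat_lit 10, nat_lit 14, nat_lit 13, nat_lit 14, nat_lit 12, nat_lit 13, nat_lit 14],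
   [nat_lit 5, nat_lit 8, nat_lit 6, nat_lit 9, nat_lit 6, nat_lit 12, nat_lit 12, nat_lit 10, nat_lit 12, nat_lit 10, nat_lit 15, nat_lit 14, nat_lit 14, nat_lit 13, nat_lit 13, nat_lit 13],
   [nat_lit 3, nat_lit 3, nat_lit 2, nat_lit 3, nat_lit 4, nat_lit 5, nat_lit 10, nat_lit 10, nat_lit 10, nat_lit 7, nat_lit 8, nat_lit 11, nat_lit 13, nat_lit 11],
   [nat_lit 4, nat_lit 3, nat_lit 7, nat_lit 9, nat_lit 11, nat_lit 9, nat_lit 12, nat_lit 12, nat_lit 13, nat_lit 13],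
   [nat_lit 5, nat_lit 5, nat_lit 9, nat_lit 11, nat_lit 9, nat_lit 10, nat_lit 15, nat_lit 13, nat_lit 13, nat_lit 13, nat_lit 14],
   [nat_lit 6, nat_lit 5, nat_lit 8, nat_lit 9, nat_lit 12, nat_lit 14, nat_lit 14, nat_lit 16, nat_lit 16],
   [nat_lit 7, nat_lit 7, nat_lit 6, nat_lit 7, nat_lit 10, nat_lit 14, nat_lit 11, nat_lit 11, nat_lit 13, nat_lit 15, nat_lit 15, nat_lit 16, nat_lit 16, nat_lit 15],
   [nat_lit 8, nat_lit 11, nat_lit 11, nat_lit 11, nat_lit 14, nat_lit 15, nat_lit 15, nat_lit 16, nat_lit 16, nat_lit 16, nat_lit 16, nat_lit 17],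
   [nat_lit 12, nat_lit 12],
   [nat_lit 10, nat_lit 10, nat_lit 9, nat_lit 9, nat_lit 13, nat_lit 16, nat_lit 17, nat_lit 17, nat_lit 18, nat_lit 18, nat_lit 18, nat_lit 18, nat_lit 19],
   [nat_lit 11, nat_lit 11, nat_lit 10, nat_lit 11, nat_lit 12, nat_lit 13, nat_lit 18, nat_lit 18, nat_lit 18, nat_lit 15, nat_lit 16, nat_lit 19, nat_lit 21, nat_lit 19],
   [nat_lit 11, nat_lit 12, nat_lit 14, nat_lit 19, nat_lit 16, nat_lit 17, nat_lit 20, nat_lit 22, nat_lit 22, nat_lit 22, nat_lit 22, nat_lit 25, nat_lit 24, nat_lit 25, nat_lit 24],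
   [nat_lit 13, nat_lit 16, nat_lit 15, nat_lit 16, nat_lit 20, nat_lit 19, nat_lit 20, nat_lit 20, nat_lit 18, nat_lit 23, nat_lit 21, nat_lit 23, nat_lit 23, nat_lit 21, nat_lit 25, nat_lit 25, nat_lit 25],
   [nat_lit 14, nat_lit 13, nat_lit 16, nat_lit 17, nat_lit 20, nat_lit 21, nat_lit 18, nat_lit 19, nat_lit 24, nat_lit 23, nat_lit 24, nat_lit 24, nat_lit 24, nat_lit 23, nat_lit 27, nat_lit 26, nat_lit 25, nat_lit 26, nat_lit 25, nat_lit 25]] Ls [(nat_lit 6, nat_lit 0xc631042118823084230846108c2310461188411046308c220886108c6118c62184621086218c6308441184411846210c6318c61184611842118c6210821084210842318c61184410882308c231842218c2110c2318c6118c6318c6208c4310463184611844218c2218c23184430886118c23088430842118421084231842310c220844108c220886118c2108c611884108462184231082318863104631042208c6308463184630fc2308462, [nat_lit 27, nat_lit 28, nat_lit 26]),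
   (nat_lit 113, nat_lit 0x40008030040010060000021800008002004200000000000000001000300c020082000c0000000004001004100400080030086218062184211084218c601002110c0108840080000806100062004000000100c000006310c2100c600046318be208c0000c221846318c620080000c4018821080211846008062000410842200820184021806210001084231844110440180610804000063084411886108421104620802110461, [nat_lit 25, nat_lit 24, nat_lit 23]),
   (nat_lit 126, nat_lit 0x200000200c001802000005080000000000400000000000000000280000040500400000000000000400180a001400080000006008045288650002228000180030800100800180002802500001000000000500c000000507ca500c6000421004021140000c40280a0008200080000800004a208022094200000100061000200080010c0000000080010006501402004a0000a2180200000528c010146028801000452800028c41, [nat_lit 22, nat_lit 21, nat_lit 20, nat_lit 22, nat_lit 19]),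
   (nat_lit 231, nat_lit 0x40000000000000001000000000000060000001800000000f800000000000000000000000000010804018040000000000000000000000000000000000000000000c000000000000000000000000000000200000000000000000000000000000000000000001000000000000000000001000000000000000000000000000000000000000000000000000400000000000000000000000000000800000000000000000000000000000000, [nat_lit 18, nat_lit 17, nat_lit 16]),
   (nat_lit 245, nat_lit 0x400000000000000010000000000003e000000080000000000000000000000000000000000000210040080200000000000000000000000000000000000000000008000000000000000000000000000000000000000000000000000000000000000000000002000000000000000000000800000000000000000000000000000000000000000000000000000000000000000000000000000000000000000000000000000000000000000, [nat_lit 15, nat_lit 14])] (fun Ms lv => band (allL (fun t => memL t Ms) (Cs ++ T0))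
    (trOk 9 275 2 Z Z Cs [idv 9 275] [(nat_lit 0, [[nat_lit 0], [nat_lit 1], [nat_lit 3]], [(nat_lit 89, nat_lit 0), (nat_lit 11, nat_lit 1), (nat_lit 253, nat_lit 0), (nat_lit 171, nat_lit 1), (nat_lit 40, nat_lit 2), (nat_lit 49, nat_lit 0), (nat_lit 30, nat_lit 1), (nat_lit 114, nat_lit 0), (nat_lit 156, nat_lit 1), (nat_lit 163, nat_lit 2), (nat_lit 201, nat_lit 0), (nat_lit 35, nat_lit 1), (nat_lit 80, nat_lit 2), (nat_lit 55, nat_lit 1), (nat_lit 200, nat_lit 1), (nat_lit 91, nat_lit 2), (nat_lit 95, nat_lit 1), (nat_lit 193, nat_lit 2), (nat_lit 187, nat_lit 1), (nat_lit 237, nat_lit 2), (nat_lit 152, nat_lit 1), (nat_lit 250, nat_lit 2), (nat_lit 207, nat_lit 0), (nat_lit 24, nat_lit 1), (nat_lit 103, nat_lit 0), (nat_lit 67, nat_lit 2), (nat_lit 236, nat_lit 0), (nat_lit 215, nat_lit 2), (nat_lit 72, nat_lit 1), (nat_lit 149, nat_lit 1), (nat_lit 269, nat_lit 0), (nat_lit 274, nat_lit 1), (nat_lit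 112, nat_lit 1), (nat_lit 248, nat_lit 2)]),
   (nat_lit 7, [[nat_lit 3], [nat_lit 2], [nat_lit 1, nat_lit 3, nat_lit 0, nat_lit 0, nat_lit 0], [nat_lit 3, nat_lit 3, nat_lit 3, nat_lit 3, nat_lit 3, nat_lit 2], [nat_lit 1, nat_lit 2, nat_lit 1, nat_lit 0, nat_lit 1, nat_lit 0], [nat_lit 2, nat_lit 1, nat_lit 3, nat_lit 0, nat_lit 0, nat_lit 0], [nat_lit 3, nat_lit 1, nat_lit 3, nat_lit 0, nat_lit 0, nat_lit 0], [nat_lit 3, nat_lit 1, nat_lit 1, nat_lit 3, nat_lit 0, nat_lit 1, nat_lit 0], [nat_lit 2, nat_lit 2, nat_lit 1, nat_lit 1, nat_lit 3, nat_lit 0, nat_lit 1, nat_lit 0], [nat_lit 1, nat_lit 1, nat_lit 0, nat_lit 2, nat_lit 3, nat_lit 3, nat_lit 1, nat_lit 0], [nat_lit 1, nat_lit 0, nat_lit 3, nat_lit 1, nat_lit 1, nat_lit 0, nat_lit 0, nat_lit 0], [nat_lit 0, nat_lit 1, nat_lit 3, nat_lit 1, nat_lit 1, nat_lit 1, nat_lit 0, nat_lit 0], [nat_lit 0, nat_lit 1, nat_lit 2, nat_lit 0, nat_lit 0, nat_lit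 3, nat_lit 0, nat_lit 0, nat_lit 0], [nat_lit 2, nat_lit 0, nat_lit 1, nat_lit 2, nat_lit 1, nat_lit 1, nat_lit 1, nat_lit 0, nat_lit 0], [nat_lit 3, nat_lit 1, nat_lit 2, nat_lit 2, nat_lit 2, nat_lit 3, nat_lit 0, nat_lit 0, nat_lit 0], [nat_lit 3, nat_lit 2, nat_lit 0, nat_lit 0, nat_lit 3, nat_lit 1, nat_lit 2, nat_lit 1, nat_lit 1, nat_lit 0], [nat_lit 1, nat_lit 3, nat_lit 1, nat_lit 1, nat_lit 3, nat_lit 0, nat_lit 3, nat_lit 0, nat_lit 0, nat_lit 0], [nat_lit 0, nat_lit 3, nat_lit 2, nat_lit 0, nat_lit 3, nat_lit 1, nat_lit 1, nat_lit 0, nat_lit 0, nat_lit 0], [nat_lit 0, nat_lit 1, nat_lit 3, nat_lit 3, nat_lit 0, nat_lit 3, nat_lit 1, nat_lit 1, nat_lit 0, nat_lit 0], [nat_lit 1, nat_lit 3, nat_lit 2, nat_lit 0, nat_lit 2, nat_lit 0, nat_lit 1, nat_lit 1, nat_lit 0, nat_lit 1], [nat_lit 1, nat_lit 1, nat_lit 1, nat_lit 1, nat_lit 2, nat_lit 0, nat_lit 2, nat_lit 1, nat_lit 1, nat_lit 0], [nat_lit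 2, nat_lit 1, nat_lit 1, nat_lit 3, nat_lit 1, nat_lit 1, nat_lit 1, nat_lit 3, nat_lit 3, nat_lit 1, nat_lit 1], [nat_lit 2, nat_lit 0, nat_lit 2, nat_lit 0, nat_lit 2, nat_lit 1, nat_lit 1, nat_lit 1, nat_lit 0, nat_lit 0, nat_lit 0], [nat_lit 0, nat_lit 2, nat_lit 1, nat_lit 1, nat_lit 2, nat_lit 3, nat_lit 2, nat_lit 1, nat_lit 0, nat_lit 1, nat_lit 0, nat_lit 1], [nat_lit 3, nat_lit 2, nat_lit 1, nat_lit 0, nat_lit 2, nat_lit 1, nat_lit 2, nat_lit 0, nat_lit 3, nat_lit 0, nat_lit 0, nat_lit 0], [nat_lit 1, nat_lit 3, nat_lit 3, nat_lit 0, nat_lit 1, nat_lit 2, nat_lit 1, nat_lit 1, nat_lit 3, nat_lit 0, nat_lit 1, nat_lit 1], [nat_lit 0, nat_lit 1, nat_lit 0, nat_lit 0, nat_lit 1, nat_lit 2, nat_lit 3, nat_lit 1, nat_lit 3, nat_lit 1, nat_lit 0, nat_lit 1], [nat_lit 3, nat_lit 1, nat_lit 1, nat_lit 2, nat_lit 0, nat_lit 2, nat_lit 1, nat_lit 3, nat_lit 3, nat_lit 2, nat_lit 2, nat_lit 0], [nat_lit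 3, nat_lit 1, nat_lit 3, nat_lit 1, nat_lit 0, nat_lit 1, nat_lit 3, nat_lit 2, nat_lit 0, nat_lit 1, nat_lit 0, nat_lit 1], [nat_lit 0, nat_lit 0, nat_lit 3, nat_lit 3, nat_lit 2, nat_lit 0, nat_lit 3, nat_lit 1, nat_lit 0, nat_lit 3, nat_lit 0, nat_lit 0], [nat_lit 1, nat_lit 2, nat_lit 2, nat_lit 1, nat_lit 1, nat_lit 0, nat_lit 3, nat_lit 2, nat_lit 0, nat_lit 0, nat_lit 1, nat_lit 0], [nat_lit 2, nat_lit 3, nat_lit 0, nat_lit 3, nat_lit 2, nat_lit 0, nat_lit 1, nat_lit 3, nat_lit 1, nat_lit 1, nat_lit 0, nat_lit 0], [nat_lit 3, nat_lit 0, nat_lit 3, nat_lit 0, nat_lit 0, nat_lit 1, nat_lit 1, nat_lit 3, nat_lit 3, nat_lit 1, nat_lit 0, nat_lit 0], [nat_lit 2, nat_lit 1, nat_lit 3, nat_lit 0, nat_lit 0, nat_lit 2, nat_lit 1, nat_lit 0, nat_lit 2, nat_lit 0, nat_lit 1, nat_lit 0, nat_lit 1], [nat_lit 3, nat_lit 0, nat_lit 3, nat_lit 0, nat_lit 2, nat_lit 3, nat_lit 3, nat_lit 0, nat_lit 1, nat_lit 1,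 nat_lit 1, nat_lit 0, nat_lit 0], [nat_lit 3, nat_lit 3, nat_lit 0, nat_lit 2, nat_lit 2, nat_lit 1, nat_lit 2, nat_lit 0, nat_lit 0, nat_lit 3, nat_lit 0, nat_lit 0, nat_lit 0], [nat_lit 1, nat_lit 0, nat_lit 3, nat_lit 3, nat_lit 3, nat_lit 3, nat_lit 3, nat_lit 3, nat_lit 3, nat_lit 1, nat_lit 1, nat_lit 0, nat_lit 0, nat_lit 0], [nat_lit 2, nat_lit 3, nat_lit 2, nat_lit 0, nat_lit 3, nat_lit 0, nat_lit 1, nat_lit 0, nat_lit 2, nat_lit 3, nat_lit 2, nat_lit 0, nat_lit 0, nat_lit 0], [nat_lit 0, nat_lit 3, nat_lit 0, nat_lit 0, nat_lit 0, nat_lit 0, nat_lit 0, nat_lit 0, nat_lit 1, nat_lit 2, nat_lit 0, nat_lit 1, nat_lit 3, nat_lit 1, nat_lit 0], [nat_lit 1, nat_lit 1, nat_lit 1, nat_lit 1, nat_lit 3, nat_lit 0, nat_lit 0, nat_lit 1, nat_lit 2, nat_lit 1, nat_lit 2, nat_lit 0, nat_lit 0, nat_lit 1, nat_lit 0], [nat_lit 1, nat_lit 2, nat_lit 3, nat_lit 1, nat_lit 0, nat_lit 1, nat_lit 0, nat_lit 2, nat_lit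 0, nat_lit 0, nat_lit 1, nat_lit 3, nat_lit 3, nat_lit 0, nat_lit 1], [nat_lit 2, nat_lit 1, nat_lit 0, nat_lit 3, nat_lit 1, nat_lit 2, nat_lit 0, nat_lit 0, nat_lit 1, nat_lit 1, nat_lit 3, nat_lit 1, nat_lit 0, nat_lit 0, nat_lit 0], [nat_lit 0, nat_lit 1, nat_lit 2, nat_lit 0, nat_lit 0, nat_lit 1, nat_lit 1, nat_lit 1, nat_lit 3, nat_lit 1, nat_lit 3, nat_lit 3, nat_lit 2, nat_lit 1, nat_lit 1], [nat_lit 3, nat_lit 3, nat_lit 0, nat_lit 2, nat_lit 0, nat_lit 2, nat_lit 2, nat_lit 2, nat_lit 0, nat_lit 1, nat_lit 0, nat_lit 0, nat_lit 1, nat_lit 0, nat_lit 1], [nat_lit 3, nat_lit 1, nat_lit 0, nat_lit 3, nat_lit 0, nat_lit 3, nat_lit 2, nat_lit 1, nat_lit 3, nat_lit 3, nat_lit 2, nat_lit 2, nat_lit 3, nat_lit 0, nat_lit 1], [nat_lit 2, nat_lit 3, nat_lit 3, nat_lit 0, nat_lit 2, nat_lit 3, nat_lit 2, nat_lit 3, nat_lit 1, nat_lit 3, nat_lit 1, nat_lit 1, nat_lit 1, nat_lit 0, nat_lit 0], [nat_lit 0,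 nat_lit 2, nat_lit 0, nat_lit 2, nat_lit 2, nat_lit 0, nat_lit 3, nat_lit 3, nat_lit 2, nat_lit 2, nat_lit 2, nat_lit 1, nat_lit 1, nat_lit 0, nat_lit 1], [nat_lit 3, nat_lit 3, nat_lit 3, nat_lit 2, nat_lit 3, nat_lit 3, nat_lit 0, nat_lit 1, nat_lit 2, nat_lit 0, nat_lit 2, nat_lit 0, nat_lit 3, nat_lit 0, nat_lit 0, nat_lit 0], [nat_lit 2, nat_lit 2, nat_lit 2, nat_lit 2, nat_lit 2, nat_lit 0, nat_lit 0, nat_lit 3, nat_lit 2, nat_lit 2, nat_lit 0, nat_lit 3, nat_lit 2, nat_lit 1, nat_lit 0, nat_lit 0, nat_lit 0], [nat_lit 1, nat_lit 1, nat_lit 3, nat_lit 0, nat_lit 0, nat_lit 2, nat_lit 2, nat_lit 2, nat_lit 2, nat_lit 2, nat_lit 2, nat_lit 3, nat_lit 3, nat_lit 3, nat_lit 1, nat_lit 0, nat_lit 1], [nat_lit 1, nat_lit 0, nat_lit 3, nat_lit 2, nat_lit 0, nat_lit 2, nat_lit 0, nat_lit 1, nat_lit 2, nat_lit 1, nat_lit 1, nat_lit 2, nat_lit 0, nat_lit 0, nat_lit 3, nat_lit 0, nat_lit 0, nat_lit 0], [nat_lit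 2, nat_lit 3, nat_lit 3, nat_lit 3, nat_lit 0, nat_lit 3, nat_lit 2, nat_lit 3, nat_lit 1, nat_lit 2, nat_lit 1, nat_lit 1, nat_lit 3, nat_lit 0, nat_lit 3, nat_lit 1, nat_lit 0, nat_lit 0], [nat_lit 1, nat_lit 0, nat_lit 0, nat_lit 2, nat_lit 0, nat_lit 1, nat_lit 3, nat_lit 0, nat_lit 1, nat_lit 1, nat_lit 3, nat_lit 0, nat_lit 1, nat_lit 3, nat_lit 1, nat_lit 1, nat_lit 0, nat_lit 0, nat_lit 0]], [(nat_lit 172, nat_lit 0), (nat_lit 126, nat_lit 1), (nat_lit 210, nat_lit 2), (nat_lit 260, nat_lit 3), (nat_lit 115, nat_lit 4), (nat_lit 218, nat_lit 5), (nat_lit 223, nat_lit 6), (nat_lit 21, nat_lit 7), (nat_lit 5, nat_lit 8), (nat_lit 83, nat_lit 9), (nat_lit 101, nat_lit 10), (nat_lit 43, nat_lit 11), (nat_lit 181, nat_lit 13), (nat_lit 68, nat_lit 14), (nat_lit 96, nat_lit 15), (nat_lit 77, nat_lit 16), (nat_lit 216, nat_lit 17), (nat_lit 177, nat_lit 18), (nat_lit 17, nat_lit 19), (nat_lit 61, nat_lit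 20), (nat_lit 39, nat_lit 21), (nat_lit 174, nat_lit 22), (nat_lit 265, nat_lit 23), (nat_lit 162, nat_lit 24), (nat_lit 59, nat_lit 25), (nat_lit 42, nat_lit 26), (nat_lit 202, nat_lit 27), (nat_lit 258, nat_lit 30), (nat_lit 129, nat_lit 31), (nat_lit 142, nat_lit 32), (nat_lit 127, nat_lit 36), (nat_lit 41, nat_lit 37), (nat_lit 160, nat_lit 38), (nat_lit 173, nat_lit 39), (nat_lit 102, nat_lit 40), (nat_lit 25, nat_lit 41), (nat_lit 15, nat_lit 42), (nat_lit 97, nat_lit 44), (nat_lit 199, nat_lit 45), (nat_lit 196, nat_lit 48), (nat_lit 180, nat_lit 49), (nat_lit 22, nat_lit 50), (nat_lit 167, nat_lit 51), (nat_lit 9, nat_lit 52), (nat_lit 117, nat_lit 4), (nat_lit 165, nat_lit 5), (nat_lit 178, nat_lit 6), (nat_lit 46, nat_lit 7), (nat_lit 2, nat_lit 9), (nat_lit 106, nat_lit 10), (nat_lit 69, nat_lit 11), (nat_lit 78, nat_lit 12), (nat_lit 110, nat_lit 13), (nat_lit 104, nat_lit 14), (nat_lit 151,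 nat_lit 15), (nat_lit 99, nat_lit 16), (nat_lit 81, nat_lit 17), (nat_lit 184, nat_lit 18), (nat_lit 75, nat_lit 19), (nat_lit 125, nat_lit 20), (nat_lit 175, nat_lit 21), (nat_lit 148, nat_lit 23), (nat_lit 64, nat_lit 24), (nat_lit 65, nat_lit 25), (nat_lit 56, nat_lit 27), (nat_lit 13, nat_lit 28), (nat_lit 194, nat_lit 29), (nat_lit 58, nat_lit 30), (nat_lit 124, nat_lit 31), (nat_lit 7, nat_lit 32), (nat_lit 33, nat_lit 33), (nat_lit 94, nat_lit 34), (nat_lit 255, nat_lit 35), (nat_lit 3, nat_lit 36), (nat_lit 186, nat_lit 37), (nat_lit 23, nat_lit 38), (nat_lit 191, nat_lit 39), (nat_lit 238, nat_lit 42), (nat_lit 214, nat_lit 45), (nat_lit 158, nat_lit 47), (nat_lit 18, nat_lit 48), (nat_lit 12, nat_lit 50), (nat_lit 37, nat_lit 7), (nat_lit 79, nat_lit 15), (nat_lit 145, nat_lit 19), (nat_lit 185, nat_lit 22), (nat_lit 122, nat_lit 23), (nat_lit 52, nat_lit 25), (nat_lit 197, nat_lit 26), (nat_lit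 47, nat_lit 27), (nat_lit 29, nat_lit 50), (nat_lit 66, nat_lit 13), (nat_lit 73, nat_lit 16), (nat_lit 51, nat_lit 19), (nat_lit 86, nat_lit 20), (nat_lit 144, nat_lit 24), (nat_lit 134, nat_lit 26), (nat_lit 159, nat_lit 27), (nat_lit 0, nat_lit 28), (nat_lit 14, nat_lit 29), (nat_lit 116, nat_lit 31), (nat_lit 53, nat_lit 34), (nat_lit 164, nat_lit 37), (nat_lit 16, nat_lit 39), (nat_lit 62, nat_lit 40), (nat_lit 8, nat_lit 41), (nat_lit 1, nat_lit 43), (nat_lit 4, nat_lit 46), (nat_lit 85, nat_lit 49), (nat_lit 220, nat_lit 51), (nat_lit 20, nat_lit 20), (nat_lit 105, nat_lit 21), (nat_lit 243, nat_lit 27), (nat_lit 84, nat_lit 47), (nat_lit 170, nat_lit 5), (nat_lit 121, nat_lit 14), (nat_lit 176, nat_lit 15), (nat_lit 136, nat_lit 18), (nat_lit 169, nat_lit 30), (nat_lit 247, nat_lit 40), (nat_lit 45, nat_lit 19), (nat_lit 111, nat_lit 20), (nat_lit 183, nat_lit 24), (nat_lit 157, nat_lit 27), (nat_lit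 87, nat_lit 28), (nat_lit 118, nat_lit 31), (nat_lit 262, nat_lit 39), (nat_lit 10, nat_lit 4), (nat_lit 128, nat_lit 12), (nat_lit 98, nat_lit 19), (nat_lit 155, nat_lit 35), (nat_lit 31, nat_lit 47), (nat_lit 38, nat_lit 4), (nat_lit 240, nat_lit 9), (nat_lit 100, nat_lit 27), (nat_lit 19, nat_lit 45), (nat_lit 213, nat_lit 26), (nat_lit 44, nat_lit 41), (nat_lit 90, nat_lit 48), (nat_lit 188, nat_lit 15), (nat_lit 48, nat_lit 8), (nat_lit 32, nat_lit 40), (nat_lit 179, nat_lit 34)]),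
   (nat_lit 0x88ed4, [[nat_lit 0, nat_lit 3, nat_lit 1, nat_lit 0, nat_lit 1, nat_lit 1, nat_lit 1, nat_lit 0, nat_lit 1, nat_lit 3], [nat_lit 0, nat_lit 3, nat_lit 1, nat_lit 3, nat_lit 0, nat_lit 1, nat_lit 3, nat_lit 1, nat_lit 0, nat_lit 3, nat_lit 0, nat_lit 0], [nat_lit 3, nat_lit 0, nat_lit 1, nat_lit 3, nat_lit 3, nat_lit 0, nat_lit 0, nat_lit 3, nat_lit 2, nat_lit 0, nat_lit 0, nat_lit 0], [nat_lit 3, nat_lit 2, nat_lit 0, nat_lit 1, nat_lit 1, nat_lit 0, nat_lit 1, nat_lit 3, nat_lit 0, nat_lit 1, nat_lit 1, nat_lit 1, nat_lit 1], [nat_lit 1, nat_lit 1, nat_lit 3, nat_lit 2, nat_lit 2, nat_lit 0, nat_lit 0, nat_lit 1, nat_lit 3, nat_lit 1, nat_lit 1, nat_lit 1, nat_lit 3], [nat_lit 2, nat_lit 3, nat_lit 2, nat_lit 3, nat_lit 0, nat_lit 0, nat_lit 1, nat_lit 1, nat_lit 0, nat_lit 3, nat_lit 0, nat_lit 1, nat_lit 1], [nat_lit 0, nat_lit 1, nat_lit 2, nat_lit 3, nat_lit 2, nat_lit 2, nat_lit 2, nat_lit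 1, nat_lit 3, nat_lit 1, nat_lit 1, nat_lit 0, nat_lit 0, nat_lit 3, nat_lit 2, nat_lit 1, nat_lit 1, nat_lit 0]], [(nat_lit 203, nat_lit 0), (nat_lit 245, nat_lit 1), (nat_lit 50, nat_lit 2), (nat_lit 26, nat_lit 3), (nat_lit 141, nat_lit 4), (nat_lit 208, nat_lit 5), (nat_lit 108, nat_lit 6), (nat_lit 256, nat_lit 0), (nat_lit 166, nat_lit 1), (nat_lit 239, nat_lit 2)])] lv)) = true := by
  decide +kernel

theorem k2 : homB 9 275 3 8 40320 20160 bs (Cs ++ TC) (UC ++ VC) lvC [[nat_lit 1, nat_lit 0, nat_lit 0, nat_lit 0, nat_lit 1, nat_lit 2, nat_lit 0, nat_lit 1],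
   [nat_lit 1, nat_lit 4, nat_lit 1, nat_lit 4, nat_lit 2, nat_lit 4, nat_lit 4, nat_lit 2, nat_lit 4, nat_lit 2]] [[nat_lit 3, nat_lit 1],
   [nat_lit 4, nat_lit 4, nat_lit 0, nat_lit 0],
   [nat_lit 5, nat_lit 0, nat_lit 0],
   [nat_lit 6, nat_lit 1, nat_lit 6, nat_lit 1, nat_lit 1, nat_lit 2],
   [nat_lit 1, nat_lit 1],
   [nat_lit 2, nat_lit 0, nat_lit 1, nat_lit 0, nat_lit 1],
   [nat_lit 1, nat_lit 1, nat_lit 2, nat_lit 3],
   [nat_lit 0, nat_lit 0, nat_lit 1, nat_lit 1],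
   [nat_lit 1, nat_lit 1, nat_lit 2, nat_lit 1, nat_lit 1],
   [nat_lit 1, nat_lit 0, nat_lit 0, nat_lit 1]] [(nat_lit 0, [nat_lit 2, nat_lit 3]), (nat_lit 1, [nat_lit 1, nat_lit 0]), (nat_lit 2, [nat_lit 0])] [(nat_lit 0, [nat_lit 10, nat_lit 11]), (nat_lit 1, [nat_lit 9]), (nat_lit 2, [nat_lit 7, nat_lit 6]), (nat_lit 3, [nat_lit 4]), (nat_lit 4, [nat_lit 2, nat_lit 1]), (nat_lit 5, [nat_lit 0])] = true := by decide +kernel

/-- tables of the alternating group -/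
noncomputable def HA : TS (alternatingGroup (Fin 8)) 3 8 := (SP 3 8 (by norm_num) (by norm_num)).sub _

theorem inA : ∀ t ∈ UC ++ VC, HA.In ⊤ t := by
  have : ∀ t ∈ UC, HA.In ⊤ t := In.slp (Ls := [nat_lit 0xfac611, nat_lit 0x3f58d0]) (pr := [[nat_lit 1, nat_lit 0, nat_lit 0, nat_lit 1, nat_lit 1, nat_lit 1],
   [nat_lit 0, nat_lit 2, nat_lit 2, nat_lit 0, nat_lit 2],
   [nat_lit 1, nat_lit 1, nat_lit 2],
   [nat_lit 0, nat_lit 0, nat_lit 1, nat_lit 0, nat_lit 0, nat_lit 1, nat_lit 0],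
   [nat_lit 1, nat_lit 1, nat_lit 2, nat_lit 1, nat_lit 2, nat_lit 1],
   [nat_lit 1, nat_lit 0, nat_lit 0],
   [nat_lit 1, nat_lit 2, nat_lit 1],
   [nat_lit 0, nat_lit 0, nat_lit 0, nat_lit 1, nat_lit 1],
   [nat_lit 1, nat_lit 1, nat_lit 2, nat_lit 1, nat_lit 0, nat_lit 1],
   [nat_lit 1, nat_lit 1, nat_lit 0, nat_lit 2, nat_lit 2, nat_lit 1, nat_lit 4, nat_lit 6, nat_lit 7, nat_lit 8],
   [nat_lit 1, nat_lit 2, nat_lit 2, nat_lit 3, nat_lit 3, nat_lit 4, nat_lit 6, nat_lit 5, nat_lit 6, nat_lit 7, nat_lit 7],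
   [],
   [nat_lit 3, nat_lit 4, nat_lit 4, nat_lit 5, nat_lit 5, nat_lit 10, nat_lit 9]]) (by decide +kernel) (List.forall_mem_cons.2
    ⟨⟨⟨Equiv.swap 0 1 * Equiv.swap 1 2, by simp⟩, trivial, by decide +kernel⟩, List.forall_mem_cons.2
    ⟨⟨⟨Equiv.swap 1 2 * Equiv.swap 2 3 * Equiv.swap 3 4 * Equiv.swap 4 5 * Equiv.swap 5 6 * Equiv.swap 6 7, by simp⟩, trivial,
      by decide +kernel⟩, List.forall_mem_nil _⟩⟩)
  exact List.forall_mem_append.2 ⟨this, In.slp (pr := [[nat_lit 3, nat_lit 1],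
   [nat_lit 4, nat_lit 4, nat_lit 0, nat_lit 0],
   [nat_lit 5, nat_lit 0, nat_lit 0],
   [nat_lit 6, nat_lit 1, nat_lit 6, nat_lit 1, nat_lit 1, nat_lit 2],
   [nat_lit 1, nat_lit 1],
   [nat_lit 2, nat_lit 0, nat_lit 1, nat_lit 0, nat_lit 1],
   [nat_lit 1, nat_lit 1, nat_lit 2, nat_lit 3],
   [nat_lit 0, nat_lit 0, nat_lit 1, nat_lit 1],
   [nat_lit 1, nat_lit 1, nat_lit 2, nat_lit 1, nat_lit 1],
   [nat_lit 1, nat_lit 0, nat_lit 0, nat_lit 1],
   [nat_lit 0, nat_lit 4, nat_lit 4, nat_lit 7, nat_lit 8, nat_lit 10, nat_lit 11, nat_lit 11],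
   [nat_lit 1, nat_lit 1, nat_lit 4, nat_lit 4, nat_lit 8, nat_lit 10, nat_lit 11, nat_lit 11, nat_lit 11, nat_lit 14],
   [nat_lit 2, nat_lit 2, nat_lit 7, nat_lit 7, nat_lit 15, nat_lit 10, nat_lit 12, nat_lit 12, nat_lit 12, nat_lit 15],
   [nat_lit 3, nat_lit 3, nat_lit 4, nat_lit 5, nat_lit 8, nat_lit 8, nat_lit 12],
   [nat_lit 7, nat_lit 11, nat_lit 9, nat_lit 17, nat_lit 13],
   [nat_lit 5, nat_lit 5, nat_lit 6, nat_lit 7, nat_lit 10, nat_lit 10, nat_lit 14],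
   [nat_lit 6, nat_lit 6, nat_lit 8, nat_lit 9, nat_lit 11, nat_lit 11, nat_lit 19, nat_lit 15],
   [],
   []]) (by decide +kernel) this⟩

/-- The McLaughlin group (as a two-vector stabiliser in the automorphism group of the rank-24 lattice) has a single conjugacy class of involutions, and the centraliser of an involution is a non-split double cover of the alternating group of degree 8. -/
theorem result : (∀ x y : ↥Cfsg.Spor.McL, orderOf x = 2 → orderOf y = 2 → IsConj x y) ∧ ∃ t : ↥Cfsg.Spor.McL, orderOf t = 2 ∧ Cfsg.IsNonsplitDoubleCover ↥(Subgroup.centralizer ({t} : Set ↥Cfsg.Spor.McL)) ↥(alternatingGroup (Fin 8)) := by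
  obtain ⟨S₀, M₀, -⟩ := model
  obtain ⟨e⟩ := H14.equiv_McL
  obtain ⟨S, M⟩ : ∃ S : TS Spor.McL 9 275, Mdl S Ls bs 898128000 := ⟨_, M₀.comap e⟩
  have := S.finite
  obtain ⟨a, LV, W, c1⟩ := M.wkL k1
  obtain ⟨a, a'⟩ := List.forall_mem_append.1 a
  have h : ∀ t ∈ Ts, S.In ⊤ t := List.forall_mem_cons.2 ⟨In.one, a'⟩
  have P := pc_of M.base h pc
  have c := P.cov Nat.prime_two (m := 7016625) M.card (by norm_num) (le_of_ok (S := S) (Ls := T0.take 7) (pr := [[nat_lit 3, nat_lit 2, nat_lit 2, nat_lit 3, nat_lit 6, nat_lit 1]]) (lv := [(nat_lit 0, [nat_lit 1, nat_lit 2, nat_lit 4]), (nat_lit 1, [nat_lit 0])])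
    (by decide +kernel) fun t ht => by
      obtain ⟨i, a, rfl⟩ := (by decide +kernel : ∀ t ∈ T0.take 7, ∃ i < 7, nd (idv 9 275) Ts (i + 1) = t) t ht
      exact (nd_prop In.one h _).of_el (mem_KK (g := gn S Ts) (by omega) a))
  have f : ∀ x : Spor.McL, orderOf x = 2 → IsConj x (evC (gn S Ts) 7) := fun x hx => by
    obtain ⟨y, a, b⟩ := Cov.fin M.base h fn (Cov.step M.base h P (by norm_num) s7 (Cov.step M.base h P (by norm_num) s6 (Cov.step M.base h P (by norm_num) s5 (Cov.step M.base h P (by norm_num) s4 (Cov.step M.base h P (by norm_num) s3 (Cov.step M.base h P (by norm_num) s2 (Cov.step M.base h P (by norm_num) s1 c))))))) x (hx ▸ pow_orderOf_eq_one x)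
    rcases List.mem_pair.1 a with rfl | rfl
    · rw [evC_zero, isConj_one_left] at b
      simp [b] at hx
    · exact b
  have a1 := a Z (by simp [Cs])
  have a2 := a X (by simp [Cs])
  have o := a1.order Nat.prime_two (by decide +kernel)
  obtain ⟨b, φ, b1, b2⟩ := hom_ss M.base (List.forall_mem_append.2 ⟨a, In.slp (pr := [[nat_lit 1, nat_lit 0, nat_lit 0, nat_lit 0, nat_lit 1, nat_lit 2, nat_lit 0, nat_lit 1],
   [nat_lit 1, nat_lit 4, nat_lit 1, nat_lit 4, nat_lit 2, nat_lit 4, nat_lit 4, nat_lit 2, nat_lit 4, nat_lit 2],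
   [nat_lit 0, nat_lit 1, nat_lit 0, nat_lit 0, nat_lit 1],
   [nat_lit 1, nat_lit 2, nat_lit 0, nat_lit 1],
   [nat_lit 3, nat_lit 3, nat_lit 0, nat_lit 1, nat_lit 0, nat_lit 0],
   [nat_lit 0, nat_lit 2, nat_lit 3, nat_lit 4, nat_lit 2, nat_lit 8, nat_lit 5, nat_lit 6, nat_lit 6],
   [nat_lit 1, nat_lit 2, nat_lit 5, nat_lit 5, nat_lit 9],
   [nat_lit 2, nat_lit 4, nat_lit 4, nat_lit 3, nat_lit 6, nat_lit 10, nat_lit 7, nat_lit 7, nat_lit 7, nat_lit 8],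
   [nat_lit 3, nat_lit 7, nat_lit 4, nat_lit 4, nat_lit 7, nat_lit 9, nat_lit 9, nat_lit 10],
   [nat_lit 4, nat_lit 6, nat_lit 9, nat_lit 9],
   [nat_lit 5, nat_lit 9, nat_lit 6, nat_lit 6, nat_lit 9, nat_lit 11, nat_lit 11],
   [nat_lit 9, nat_lit 10, nat_lit 8, nat_lit 10, nat_lit 7, nat_lit 12, nat_lit 11, nat_lit 12, nat_lit 13],
   [nat_lit 14],
   [nat_lit 15]]) (by decide +kernel) a⟩) inA (M := 20160)
    (by rw [nat_card_alternatingGroup]; simp [Nat.factorial]) (Ns := Cs) (by decide +kernel) k2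
  have d := trOk_cen W a1 a c1
  refine ⟨fun x y hx hy => (f x hx).trans (f y hy).symm, _, o, d ▸ cover_of φ b1 (by
    rw [b, nat_card_alternatingGroup]; simp [Nat.factorial]) (alternatingGroup.center_eq_bot (by simp))
    (z := ⟨_, (a1.cl (by simp [Cs])).el_mem⟩) (x := ⟨_, (a2.cl (by simp [Cs])).el_mem⟩)
    ((b2 2 (by decide +kernel) _).trans (by rw [gn, show nd _ _ _ = idv 3 8 by decide +kernel, el_idv])) (by simpa using o)
    (Subgroup.mem_center_iff.2 fun y => Subtype.ext (Subgroup.mem_centralizer_singleton_iff.1 (d.ge y.2)))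
    (Subtype.ext ((a2.el_tm a2).symm.trans (congrArg _ (by decide +kernel))))⟩

end Cfsg.Agent.S2132
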