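import Mathlib
import Cfsg.Statements.S2212
import Cfsg.Agent.H17.PGU2

set_option autoImplicit false
open Cfsg

namespace Cfsg.Agent.S2212

/-- Characterization of the three-dimensional projective unitary groups over finite fields of characteristic two by the centralizer of an involution. Let q = 2^n > 2 and let PGU₃(q) be the quotient of the full unitary group of a non-degenerate Hermitian form in three variables over the field with q² elements by its centre. Let G be a finite group of even order in which all involutions are conjugate, the centralizer of an involution is isomorphic to the centralizer of an involution in PGU₃(q), and a Sylow 2-subgroup is not normal. Then G ≅ PGU₃(q). -/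
theorem result {G : Type*} [Group G] [Finite G] {F : Type*} [Field F] [Fintype F] [CharP F 2] (q : ℕ) (hq : 2 < q) (hF : Fintype.card F = q ^ 2)
    (heven : Even (Nat.card G)) (hconj : ∀ s t : G, orderOf s = 2 → orderOf t = 2 → IsConj s t)
    (hC : ∀ (x : G) (y : (↥(Cfsg.GU 3 F q) ⧸ Subgroup.center ↥(Cfsg.GU 3 F q))), orderOf x = 2 → orderOf y = 2 →
      Nonempty (↥(Subgroup.centralizer ({x} : Set G)) ≃* ↥(Subgroup.centralizer ({y} : Set (↥(Cfsg.GU 3 F q) ⧸ Subgroup.center ↥(Cfsg.GU 3 F q))))))
    (hS : ∀ P : Sylow 2 G, ¬ (P : Subgroup G).Normal) :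
    Nonempty (G ≃* (↥(Cfsg.GU 3 F q) ⧸ Subgroup.center ↥(Cfsg.GU 3 F q))) := by
  have hU : H18.U3.UF F q := ⟨hF⟩
  obtain ⟨e0⟩ := H17.PGU.gIso (F := F) (q := q)
  let e := H09.centerQuotEquiv e0
  obtain ⟨e1⟩ := H17.PGU.main (F := F) hq heven (fun t ht => by
    obtain ⟨e2⟩ := hC t (e (H17.PGU.iP (H17.PGU.ub H17.PGU.z1))) ht (by
      rw [MulEquiv.orderOf_eq, orderOf_injective _ H17.PGU.iP_inj, H17.PGU.ord_z1])
    refine ⟨e2.trans ((e.symm.subgroupMap _).trans (MulEquiv.subgroupCongr ?_))⟩
    ext p
    refine (Subgroup.mem_map_equiv (f := e.symm)).trans ?_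
    rw [Subgroup.mem_centralizer_singleton_iff, Subgroup.mem_centralizer_singleton_iff, MulEquiv.symm_symm,
      ← map_mul, ← map_mul, e.injective.eq_iff]) hS
  exact ⟨e1.trans e⟩

end Cfsg.Agent.S2212
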