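import Cfsg.Statements.S2245
import Cfsg.Agent.H24.Sy1
-- import your own Cfsg.Agent.* helpers here

set_option autoImplicit false
open Cfsg

namespace Cfsg.Agent.S2245

/-- For n ≥ 5 with n ≠ 6, a Sylow 2-subgroup of the alternating group A_n lies in exactly one maximal subgroup of A_n if and only if n = 2^k + 1 for some k ≥ 2; the same holds for the symmetric group S_n. -/
theorem result (n : ℕ) (hn : 5 ≤ n) (h6 : n ≠ 6) :
    ((∀ R : Sylow 2 ↥(alternatingGroup (Fin n)), (∃! M : Subgroup ↥(alternatingGroup (Fin n)), IsCoatom M ∧ (R : Subgroup ↥(alternatingGroup (Fin n))) ≤ M) ↔ ∃ k : ℕ, 2 ≤ k ∧ n = 2 ^ k + 1) ∧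
    (∀ R : Sylow 2 (Equiv.Perm (Fin n)), (∃! M : Subgroup (Equiv.Perm (Fin n)), IsCoatom M ∧ (R : Subgroup (Equiv.Perm (Fin n))) ≤ M) ↔ ∃ k : ℕ, 2 ≤ k ∧ n = 2 ^ k + 1)) := by
  open Equiv Equiv.Perm Subgroup H24.Sy in
  refine ⟨fun R => ?_, fun R => ?_⟩
  · simpa using um_iff (by simpa) _ (alternatingGroup (Fin n)).subtype_injective (range_subtype _).ge R.1 R.2 (by
      rw [relIndex, subgroupOf, comap_map_eq_self_of_injective (subtype_injective _)]
      exact R.not_dvd_index) fun K _ h => (range_subtype _).le.trans h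
  obtain ⟨w, h⟩ := exists_mt R
  obtain ⟨a, ha⟩ := h.exists_ne (by simp; omega)
  simpa using um_iff (by simpa) (MonoidHom.id _) Function.injective_id (fun x _ => ⟨x, rfl⟩) R.1 R.2 (by
    rw [map_id, ← H03.Sym.index_eq_relIndex (h.mem a) (by simp [mem_alternatingGroup, ha.symm])]
    exact R.not_dvd_index) fun K h1 h2 g _ => by
      rw [map_id] at h1
      rcases Int.units_eq_one_or (sign g) with e | e
      · exact h2 e
      · exact (K.mul_mem_cancel_right (h1 (h.mem a))).1 (h2 (by simp [mem_alternatingGroup, e, ha.symm]))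

end Cfsg.Agent.S2245
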