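import Cfsg.Statements.S2268
import Cfsg.Agent.H20.SylIn
-- import your own Cfsg.Agent.* helpers here

set_option autoImplicit false
open Cfsg

namespace Cfsg.Agent.S2268

/-- Let G be a finite group with an abelian Sylow p-subgroup P and let Q ≤ P. Then N_G(Q) = (N_G(Q) ∩ N_G(P))·C_G(Q), so that N_G(Q)/C_G(Q) is a homomorphic image of the subgroup (N_G(Q) ∩ N_G(P))/C_G(P) of N_G(P)/C_G(P); in particular the order of N_G(Q)/C_G(Q) divides the order of N_G(P)/C_G(P). -/
theorem result {G : Type*} [Group G] [Finite G] {p : ℕ} [Fact p.Prime]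
    (P : Sylow p G) (hP : IsMulCommutative (P : Subgroup G)) (Q : Subgroup G) (hQ : Q ≤ (P : Subgroup G)) :
    Subgroup.normalizer (Q : Set G) =
      (Subgroup.normalizer (Q : Set G) ⊓ Subgroup.normalizer ((P : Subgroup G) : Set G)) ⊔ Subgroup.centralizer (Q : Set G) ∧
    ((Subgroup.centralizer (Q : Set G)).subgroupOf (Subgroup.normalizer (Q : Set G))).index ∣ ((Subgroup.centralizer ((P : Subgroup G) : Set G)).subgroupOf (Subgroup.normalizer ((P : Subgroup G) : Set G))).index := by
  have hC : (P : Subgroup G) ≤ Subgroup.centralizer (Q : Set G) := fun x hx y hy =>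
    congrArg Subtype.val (hP.is_comm.comm (⟨y, hQ hy⟩ : (P : Subgroup G)) ⟨x, hx⟩)
  have hCN := Subgroup.centralizer_le_normalizer (Q : Set G)
  have h1 : Subgroup.normalizer (Q : Set G) = (Subgroup.normalizer (Q : Set G) ⊓
      Subgroup.normalizer ((P : Subgroup G) : Set G)) ⊔ Subgroup.centralizer (Q : Set G) := by
    refine le_antisymm (fun g hg => ?_) (sup_le inf_le_left hCN)
    have h := (H20.sylIn_of_sylow P hC).cj g
    rw [H20.cj_centralizer, H20.cj_of_mem_normalizer hg] at h
    obtain ⟨c, hc, e⟩ := h.exists_conj (H20.sylIn_of_sylow P hC)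
    rw [H20.cj_cj] at e
    rw [show g = c⁻¹ * (c * g) by simp]
    exact mul_mem (Subgroup.mem_sup_right (inv_mem hc))
      (Subgroup.mem_sup_left ⟨mul_mem (hCN hc) hg, H20.mem_normalizer_iff_cj.2 e.symm⟩)
  refine ⟨h1, ?_⟩
  have h2 := Subgroup.relIndex_sup_right ((Subgroup.normalizer (Q : Set G) ⊓
    Subgroup.normalizer ((P : Subgroup G) : Set G)).subgroupOf (Subgroup.normalizer (Q : Set G)))
    ((Subgroup.centralizer (Q : Set G)).subgroupOf (Subgroup.normalizer (Q : Set G)))
  rw [← Subgroup.subgroupOf_sup inf_le_left hCN, ← h1, Subgroup.subgroupOf_self, Subgroup.relIndex_top_right,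
    Subgroup.relIndex_subgroupOf inf_le_left] at h2
  have h3 : Subgroup.centralizer ((P : Subgroup G) : Set G) ≤ Subgroup.centralizer (Q : Set G) := Subgroup.centralizer_le hQ
  rw [h2]
  exact (Subgroup.relIndex_dvd_of_le_left _ h3).trans (Dvd.intro _ (Subgroup.relIndex_mul_relIndex _ _ _
    (le_inf (h3.trans hCN) (Subgroup.centralizer_le_normalizer _)) inf_le_right))

end Cfsg.Agent.S2268
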