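import Cfsg.Statements.S2271
import Cfsg.Agent.H24.Alt
-- import your own Cfsg.Agent.* helpers here

set_option autoImplicit false
open Cfsg

namespace Cfsg.Agent.S2271

open Finset Equiv

variable {α : Type*} [Fintype α] [DecidableEq α]

theorem ext_even {ι : Type*} [Fintype ι] {f g : ι → α} (hf : Function.Injective f) (hg : Function.Injective g)
    (h : Fintype.card ι + 2 ≤ Fintype.card α) : ∃ k : Perm α, Perm.sign k = 1 ∧ ∀ i, k (f i) = g i := by
  obtain ⟨k, hk⟩ := Perm.exists_extending_pair _ _ hf hg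
  rcases Int.units_eq_one_or (Perm.sign k) with e | e
  · exact ⟨k, e, hk⟩
  obtain ⟨a, ha, b, hb, hab⟩ := one_lt_card.1 (show 1 < #(univ.image f)ᶜ by
    rw [card_compl, card_image_of_injective _ hf, card_univ]; omega)
  simp only [mem_compl, mem_image, mem_univ, true_and, not_exists] at ha hb
  exact ⟨k * swap a b, by simp [e, hab], fun i => by rw [Perm.mul_apply, swap_apply_of_ne_of_ne (ha i) (hb i), hk]⟩

theorem card_ext {ι : Type*} [Fintype ι] [DecidableEq ι] {f : ι → α} (hf : Function.Injective f)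
    (h : Fintype.card ι + 2 ≤ Fintype.card α) : ∃ N, 0 < N ∧ ∀ f g : ι → α, Function.Injective f → Function.Injective g →
      #{k : Perm α | Perm.sign k = 1 ∧ k ∘ f = g} = N := by
  refine ⟨#{k : Perm α | Perm.sign k = 1 ∧ k ∘ f = f}, card_pos.2 ⟨1, by simp⟩, fun f' g hf' hg => ?_⟩
  obtain ⟨k, h1, h2⟩ := ext_even hf hf' h
  obtain ⟨l, h3, h4⟩ := ext_even hg hf h
  refine card_bijective (fun x => l * x * k) ((Group.mulRight_bijective k).comp (Group.mulLeft_bijective l)) fun x => ?_
  simp only [mem_filter, mem_univ, true_and, map_mul, h1, h3, one_mul, mul_one, funext_iff, Function.comp_apply,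
    Perm.mul_apply, h2]
  simp only [← h4, EmbeddingLike.apply_eq_iff_eq]

/-- number of agreements -/
def F (a b k : Perm α) : ℕ := #{x | a (k (b x)) = k x}

theorem avg (h5 : 5 ≤ Fintype.card α) (a b : Perm α) {c : ℕ} (h : ∀ k, Perm.sign k = 1 → F a b k = c) :
    c * (Fintype.card α * (Fintype.card α - 1)) = #a.supportᶜ * #b.supportᶜ * (Fintype.card α - 1) + #a.support * #b.support := by
  obtain ⟨x, y, hxy⟩ := Fintype.exists_pair_of_one_lt_card (α := α) (by omega)
  have inj : ∀ x y : α, x ≠ y → Function.Injective ![x, y] := fun x y h i j => by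
    fin_cases i <;> fin_cases j <;> simp [h, h.symm]
  obtain ⟨N, hN, e⟩ := card_ext (inj x y hxy) (by simp; omega)
  have e1 : ∀ x y u v, x ≠ y → u ≠ v → #{k : Perm α | Perm.sign k = 1 ∧ k x = u ∧ k y = v} = N := fun x y u v h h' => by
    rw [← e _ _ (inj x y h) (inj u v h')]; simp [funext_iff, Fin.forall_fin_two]
  have e2 : ∀ x u, #{k : Perm α | Perm.sign k = 1 ∧ k x = u} = (Fintype.card α - 1) * N := fun x u => by
    obtain ⟨y, hy⟩ := Fintype.exists_ne_of_one_lt_card (α := α) (by omega) x
    rw [card_eq_sum_card_fiberwise (f := fun k => k y) (t := univ.erase u) fun k hk => by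
      simpa [← (mem_filter.1 (mem_coe.1 hk)).2.2] using hy, sum_congr rfl (g := fun _ => N) fun v hv => by
      rw [← e1 x y u v hy.symm (ne_of_mem_erase hv).symm, filter_filter]; simp [and_assoc]]
    simp
  have e3 : #{k : Perm α | Perm.sign k = 1} = Fintype.card α * ((Fintype.card α - 1) * N) := by
    rw [card_eq_sum_card_fiberwise (f := fun k => k x) (t := univ) (by simp)]; simp [filter_filter, e2]
  have e4 : ∀ z, #{k : Perm α | Perm.sign k = 1 ∧ a (k (b z)) = k z} =
      if z ∈ b.support then #a.support * N else #a.supportᶜ * ((Fintype.card α - 1) * N) := fun z => by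
    split_ifs with hz
    · rw [card_eq_sum_card_fiberwise (f := fun k => k (b z)) (t := a.support) fun k hk => by
        simpa [(mem_filter.1 (mem_coe.1 hk)).2.2] using (Perm.mem_support.1 hz).symm,
        sum_congr rfl (g := fun _ => N) fun v hv => by
        rw [← e1 (b z) z v (a v) (Perm.mem_support.1 hz) (Perm.mem_support.1 hv).symm, filter_filter]
        congr 1; ext k; simp only [mem_filter, mem_univ, true_and, and_assoc, and_congr_right_iff]
        exact fun _ => ⟨fun h => ⟨h.2, by rw [← h.1, h.2]⟩, fun h => ⟨by rw [h.1, h.2], h.1⟩⟩]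
      simp
    · rw [Perm.notMem_support.1 hz, card_eq_sum_card_fiberwise (f := fun k => k z) (t := a.supportᶜ) fun k hk => by
        simpa using (mem_filter.1 (mem_coe.1 hk)).2.2, sum_congr rfl (g := fun _ => (Fintype.card α - 1) * N) fun v hv => by
        rw [← e2 z v, filter_filter]
        congr 1; ext k; simp only [mem_filter, mem_univ, true_and, and_assoc, and_congr_right_iff, and_iff_right_iff_imp]
        rintro - rfl; simpa using hv]
      simp
  have e5 := sum_card_bipartiteAbove_eq_sum_card_bipartiteBelow (s := {k : Perm α | Perm.sign k = 1}) (t := univ)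
    fun k z => a (k (b z)) = k z
  simp only [bipartiteAbove, bipartiteBelow, filter_filter, e4] at e5
  rw [sum_ite] at e5
  replace e5 := (sum_congr rfl (g := fun _ => c) fun k hk => h k (mem_filter.1 hk).2).symm.trans e5
  simp only [sum_const, e3, smul_eq_mul, filter_mem_eq_inter, univ_inter, filter_notMem_eq_sdiff, ← compl_eq_univ_sdiff] at e5
  refine Nat.eq_of_mul_eq_mul_right hN ?_
  linear_combination e5

theorem le_F (a b k : Perm α) {ι : Type*} [Fintype ι] {f : ι → α} (hf : Function.Injective f) (h : ∀ i, a (k (b (f i))) = k (f i)) :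
    Fintype.card ι ≤ F a b k := card_le_card_of_injOn f (fun i _ => by simpa using h i) hf.injOn

theorem to_even {a b c : Perm α} (hc : Perm.sign c = -1) (h : Commute c a ∨ Commute c b) (k : Perm α) :
    ∃ l, Perm.sign l = 1 ∧ F a b l = F a b k := by
  rcases Int.units_eq_one_or (Perm.sign k) with e | e
  · exact ⟨k, e, rfl⟩
  rcases h with h | h
  · exact ⟨c * k, by simp [e, hc], by simp [F, show ∀ x, a (c x) = c (a x) from fun x => congrArg (· x) h.eq.symm]⟩
  · exact ⟨k * c, by simp [e, hc], card_bijective c c.bijective fun x => by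
      simp only [mem_filter, mem_univ, true_and, Perm.mul_apply, show b (c x) = c (b x) from congrArg (· x) h.eq.symm]
      exact mem_filter.trans (and_iff_right (mem_univ _))⟩

theorem arcs (h5 : 5 ≤ Fintype.card α) {a : Perm α} (h : #a.supportᶜ ≤ 1) : ∃ x y, Function.Injective ![x, y, a x, a y] := by
  have h1 := card_add_card_compl a.support
  obtain ⟨x, hx⟩ := card_pos.1 (show 0 < #a.support by omega)
  obtain ⟨y, hy, h2⟩ := exists_mem_notMem_of_card_lt_card (s := {x, a x, a⁻¹ x}) (t := a.support) (by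
    have := card_le_three (a := x) (b := a x) (c := a⁻¹ x); omega)
  simp only [mem_insert, mem_singleton, not_or, Perm.eq_inv_iff_eq, Perm.mem_support] at hx hy h2
  refine ⟨x, y, fun i j => ?_⟩
  fin_cases i <;> fin_cases j <;> simp [hx, hy, h2, Ne.symm hx, Ne.symm hy, Ne.symm h2.1, Ne.symm h2.2.1, Ne.symm h2.2.2]

theorem invol {a : Perm α} (ha : a ≠ 1) : (∃ c, Perm.sign c = -1 ∧ Commute c a) ∨ ∃ x, Function.Injective ![x, a x, a (a x)] := by
  obtain ⟨x, hx⟩ : ∃ x, a x ≠ x := by by_contra! h; exact ha (Perm.ext h)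
  by_cases h : a (a x) = x
  · exact Or.inl ⟨swap x (a x), by simp [hx.symm], by rw [Commute, SemiconjBy, Equiv.mul_swap_eq_swap_mul, h, swap_comm]⟩
  · exact Or.inr ⟨x, fun i j => by fin_cases i <;> fin_cases j <;> simp [hx, h, Ne.symm hx, Ne.symm h]⟩

theorem main (h5 : 5 ≤ Fintype.card α) {a b : Perm α} (ha : a ≠ 1) (hb : b ≠ 1) {c : ℕ} (h : ∀ k, Perm.sign k = 1 → F a b k = c) :
    False := by
  have h1 := avg h5 a b h
  have h2 := card_add_card_compl a.support
  have h3 := card_add_card_compl b.support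
  have h4 := Perm.two_le_card_support_of_ne_one ha
  have h6 := Perm.two_le_card_support_of_ne_one hb
  obtain ⟨n, hn⟩ := Nat.exists_eq_add_one_of_ne_zero (show Fintype.card α ≠ 0 by omega)
  rw [hn, Nat.add_sub_cancel] at h1
  by_cases h7 : #a.supportᶜ ≤ 1 ∧ #b.supportᶜ ≤ 1
  · suffices 2 ≤ c by
      obtain ⟨h7, h8⟩ := h7
      have : #a.supportᶜ * #b.supportᶜ ≤ 1 := Nat.mul_le_mul h7 h8
      have : #a.support * #b.support ≤ (n + 1) * (n + 1) := Nat.mul_le_mul (by omega) (by omega)
      have : 2 * ((n + 1) * n) ≤ c * ((n + 1) * n) := Nat.mul_le_mul_right _ ‹_›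
      have : #a.supportᶜ * #b.supportᶜ * n ≤ 1 * n := Nat.mul_le_mul_right _ ‹_›
      have : 4 ≤ n := by omega
      nlinarith
    have key : ∀ d, Perm.sign d = -1 → Commute d a ∨ Commute d b → 2 ≤ c := fun d hd h' => by
      obtain ⟨u, v, e⟩ := arcs h5 h7.1
      obtain ⟨x, y, e'⟩ := arcs h5 h7.2
      obtain ⟨k, hk⟩ := Perm.exists_extending_pair _ _ e' (e.comp (swap (0 : Fin 4) 2 * swap 1 3 : Perm _).injective)
      obtain ⟨l, h8, h9⟩ := to_even hd h' k
      rw [← h l h8, h9]
      refine le_F a b k (ι := Fin 2) (e'.comp (Fin.castLE_injective (by decide))) fun i => ?_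
      fin_cases i
      exacts [(congrArg a (hk 2)).trans (hk 0).symm, (congrArg a (hk 3)).trans (hk 1).symm]
    rcases invol ha with ⟨d, hd, e⟩ | ⟨u, e⟩
    · exact key d hd (Or.inl e)
    rcases invol hb with ⟨d, hd, e'⟩ | ⟨x, e'⟩
    · exact key d hd (Or.inr e')
    obtain ⟨k, h8, hk⟩ := ext_even e' (e.comp (swap (0 : Fin 3) 2).injective) (by simpa)
    rw [← h k h8]
    refine le_F a b k (ι := Fin 2) (e'.comp (Fin.castLE_injective (by decide))) fun i => ?_
    fin_cases i
    exacts [(congrArg a (hk 1)).trans (hk 0).symm, (congrArg a (hk 2)).trans (hk 1).symm]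
  · obtain ⟨m, hm⟩ : ∃ m, m = min #a.supportᶜ #b.supportᶜ := ⟨_, rfl⟩
    suffices m + 1 ≤ c by
      generalize #a.supportᶜ = s at *
      generalize #b.supportᶜ = t at *
      generalize #a.support = s' at *
      generalize #b.support = t' at *
      have : (m + 1) * ((n + 1) * n) ≤ c * ((n + 1) * n) := Nat.mul_le_mul_right _ this
      have h8 : s' * t' < (n + 1) * n := by
        rcases not_and_or.1 h7 with h7 | h7
        · calc s' * t' ≤ (n - 1) * (n + 1) := Nat.mul_le_mul (by omega) (by omega)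
            _ < _ := by rw [mul_comm]; exact Nat.mul_lt_mul_of_pos_left (by omega) (by omega)
        · calc s' * t' ≤ (n + 1) * (n - 1) := Nat.mul_le_mul (by omega) (by omega)
            _ < _ := Nat.mul_lt_mul_of_pos_left (by omega) (by omega)
      have h9 : s * t ≤ m * (n + 1) := by
        rcases le_total s t with e | e
        · rw [hm, min_eq_left e]; exact Nat.mul_le_mul_left _ (by omega)
        · rw [hm, min_eq_right e, mul_comm]; exact Nat.mul_le_mul_left _ (by omega)
      nlinarith
    have key : ∀ d : Perm α, d ≠ 1 → m ≤ #d.supportᶜ → ∃ (f : Fin m → α) (x : α), (∀ i, d (f i) = f i) ∧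
        Function.Injective (Sum.elim f ![x, d x]) := fun d hd hm => by
      obtain ⟨x, hx⟩ : ∃ x, d x ≠ x := by by_contra! h; exact hd (Perm.ext h)
      obtain ⟨f, hf⟩ := Function.Embedding.exists_of_card_le_finset (α := Fin m) (s := d.supportᶜ) (by simpa)
      have : ∀ i, d (f i) = f i := fun i => by simpa using hf ⟨i, rfl⟩
      refine ⟨f, x, this, f.injective.sumElim (fun i j => by fin_cases i <;> fin_cases j <;> simp [hx, hx.symm]) fun i j => ?_⟩
      fin_cases j
      · rintro rfl; exact hx (this i)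
      · intro e; exact hx (d.injective (by simpa [← show f i = d x from e] using this i))
    obtain ⟨f, u, e1, e2⟩ := key a ha (hm ▸ min_le_left _ _)
    obtain ⟨g, x, e3, e4⟩ := key b hb (hm ▸ min_le_right _ _)
    have e5 := e2.comp (sumCongr (1 : Perm (Fin m)) (swap (0 : Fin 2) 1)).injective
    have : ∀ k : Perm α, (∀ i, k (Sum.elim g ![x, b x] i) =
        (Sum.elim f ![u, a u] ∘ sumCongr (1 : Perm (Fin m)) (swap (0 : Fin 2) 1)) i) → m + 1 ≤ F a b k := fun k hk => by
      have := le_F a b k (e4.comp (Function.injective_id.sumMap (Fin.castLE_injective (show 1 ≤ 2 by decide)))) (by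
        rintro (i | i)
        · simp [e3, show k (g i) = f i from hk (.inl i), e1]
        · fin_cases i; exact (congrArg a (hk (.inr 1))).trans (hk (.inr 0)).symm)
      simpa using this
    by_cases h8 : m ≤ 1
    · obtain ⟨k, h9, hk⟩ := ext_even e4 e5 (by simp; omega)
      exact h k h9 ▸ this k hk
    · obtain ⟨k, hk⟩ := Perm.exists_extending_pair _ _ e4 e5
      have h9 : f ⟨0, by omega⟩ ≠ f ⟨1, by omega⟩ := fun e => by simpa using @e2 (.inl _) (.inl _) e
      obtain ⟨l, h10, h11⟩ := to_even (a := a) (b := b) (c := swap (f ⟨0, by omega⟩) (f ⟨1, by omega⟩)) (by simp [h9])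
        (Or.inl (by rw [Commute, SemiconjBy, Equiv.mul_swap_eq_swap_mul, e1, e1])) k
      exact h l h10 ▸ h11 ▸ this k hk

/-- Let n ≥ 5 and let a, b be non-identity permutations in the symmetric group S_n. Then the number of fixed points is not constant on the set of products a′b′ with a′ conjugate to a and b′ conjugate to b under the alternating group: there are even permutations g₁, h₁, g₂, h₂ such that (g₁ a g₁⁻¹)(h₁ b h₁⁻¹) and (g₂ a g₂⁻¹)(h₂ b h₂⁻¹) have different numbers of fixed points. -/
theorem result (n : ℕ) (hn : 5 ≤ n) (a b : Equiv.Perm (Fin n)) (ha : a ≠ 1) (hb : b ≠ 1) :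
    ∃ g₁ h₁ g₂ h₂ : Equiv.Perm (Fin n), g₁ ∈ alternatingGroup (Fin n) ∧ h₁ ∈ alternatingGroup (Fin n) ∧ g₂ ∈ alternatingGroup (Fin n) ∧ h₂ ∈ alternatingGroup (Fin n) ∧
      Nat.card (Function.fixedPoints ⇑(g₁ * a * g₁⁻¹ * (h₁ * b * h₁⁻¹))) ≠
        Nat.card (Function.fixedPoints ⇑(g₂ * a * g₂⁻¹ * (h₂ * b * h₂⁻¹))) := by
  by_contra! h
  have e : ∀ k : Equiv.Perm (Fin n), F a b k = Nat.card (Function.fixedPoints ⇑(k⁻¹ * a * k⁻¹⁻¹ * (1 * b * 1⁻¹))) := fun k => by
    rw [F, ← Fintype.card_subtype, ← Nat.card_eq_fintype_card]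
    exact Nat.card_congr (Equiv.subtypeEquivRight fun x => by simp [Function.IsFixedPt, Equiv.symm_apply_eq])
  exact main (by simpa) ha hb fun k hk => (e k).trans (h _ 1 1 1 (inv_mem hk) (one_mem _) (one_mem _) (one_mem _))

end Cfsg.Agent.S2271
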