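import Mathlib
import Cfsg.Statements.S2272

set_option autoImplicit false
open Cfsg

namespace Cfsg.Agent.S2272

open Matrix Matrix.SpecialLinearGroup in
theorem pos {F ι : Type*} [Field F] [Fintype ι] [DecidableEq ι] {A : SpecialLinearGroup ι F}
    (hA : A ∉ Subgroup.center _) {i j : ι} (h : i ≠ j) :
    ∃ (g : SpecialLinearGroup ι F) (c : F), c ≠ 0 ∧ ∀ k, (g * A * g⁻¹).1 k i = if k = j then c else 0 := by
  rw [← Projectivization.SL_mulAction_ker, MonoidHom.mem_ker, Equiv.ext_iff] at hA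
  obtain ⟨D, hD⟩ := not_forall.1 hA
  have e : ∀ i : ι, (Pi.single i 1 : ι → F) ≠ 0 := fun i => by simp
  obtain ⟨g, h1, h2⟩ := MulAction.is_two_pretransitive_iff.1 (inferInstance : MulAction.IsMultiplyPretransitive
    (SpecialLinearGroup ι F) (Projectivization F (ι → F)) 2) (Ne.symm hD)
    (c := .mk F _ (e i)) (d := .mk F _ (e j)) fun e => by
      obtain ⟨c, hc⟩ := (Projectivization.mk_eq_mk_iff _ _ _ _ _).1 e
      simpa [h] using congrFun hc i
  have h3 : (g * A * g⁻¹) • Projectivization.mk F _ (e i) = .mk F _ (e j) := by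
    rw [← h1, ← h2, mul_smul, inv_smul_smul, mul_smul]; rfl
  obtain ⟨c, hc⟩ := (Projectivization.mk_eq_mk_iff _ _ _ _ _).1 h3
  refine ⟨g, c, c.ne_zero, fun k => ?_⟩
  have := congrFun (show _ = (g * A * g⁻¹).1 *ᵥ Pi.single i 1 from hc) k
  rw [mulVec_single_one] at this
  simpa [Pi.single_apply, Units.smul_def] using this.symm

open Matrix Matrix.SpecialLinearGroup in
theorem key {F ι : Type*} [Field F] [Fintype ι] [DecidableEq ι] {A B : SpecialLinearGroup ι F}
    (hA : A ∉ Subgroup.center _) (hB : B ∉ Subgroup.center _) {i j k : ι} (h1 : i ≠ j) (h2 : k ≠ i) (h3 : k ≠ j)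
    (t : F) : ∃ g h : SpecialLinearGroup ι F, (g * A * g⁻¹ * (h * B * h⁻¹)).1.trace = t := by
  obtain ⟨g, c, hc, hg⟩ := pos hA h1
  obtain ⟨h, d, hd, hh⟩ := pos hB h2
  by_contra! H
  generalize e1 : g * A * g⁻¹ = A' at hg
  generalize e2 : h * B * h⁻¹ = B' at hh
  have h4 : ∀ x : SpecialLinearGroup ι F, (A'.1 * (x * B' * x⁻¹).1) k i = ((x * B' * x⁻¹).1 * A'.1) k i := fun x => by
    by_contra h5
    have := fun s => H (SpecialLinearGroup.transvection h2.symm s * g) (x * h)
    simp only [show ∀ y, y * g * A * (y * g)⁻¹ = y * A' * y⁻¹ from fun y => by rw [← e1]; group,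
      show x * h * B * (x * h)⁻¹ = x * B' * x⁻¹ by rw [← e2]; group, transvection_inv] at this
    generalize x * B' * x⁻¹ = X at this h5
    refine this ((t - (A'.1 * X.1).trace) / ((A'.1 * X.1) k i - (X.1 * A'.1) k i)) ?_
    simp only [Matrix.SpecialLinearGroup.coe_mul, transvection_coe, add_mul, mul_add, one_mul, mul_one, trace_add,
      single_mul_mul_single, hg, h3, if_false, mul_zero, zero_mul, single_zero, trace_zero]
    rw [mul_assoc (single _ _ _), trace_single_mul, mul_assoc, trace_mul_comm A'.1 (single _ _ _ * _), mul_assoc,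
      trace_single_mul, smul_eq_mul, smul_eq_mul]
    field_simp [sub_ne_zero.2 h5]
    ring
  let s := SpecialLinearGroup.transvection h2 (1 : F)
  let u := SpecialLinearGroup.transvection h3 (1 : F)
  have h5 : single k j d = (s * B' * s⁻¹).1 + (u * B' * u⁻¹).1 - (s * u * B' * (s * u)⁻¹).1 - (1 * B' * 1⁻¹).1 := by
    have : single k j d = -single k j (-d) := by rw [eq_neg_iff_add_eq_zero, ← single_add]; simp
    simp only [s, u, _root_.mul_inv_rev, transvection_inv, Matrix.SpecialLinearGroup.coe_mul, transvection_coe, add_mul,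
      mul_add, one_mul, mul_one, inv_one, single_mul_mul_single, hh, single_mul_single_of_ne _ _ _ _ h2.symm,
      single_mul_single_of_ne _ _ _ _ h3.symm, h1.symm, if_true, if_false, mul_zero, zero_mul, single_zero, mul_neg,
      neg_zero]
    rw [this]
    abel
  have h9 : (A'.1 * single k j d) k i = (single k j d * A'.1) k i := by
    simp only [h5, mul_add, add_mul, mul_sub, sub_mul, Matrix.add_apply, Matrix.sub_apply, h4]
  simp [h1, hg, hc, hd] at h9

/-- Let F be a finite field and d ≥ 3, and let a, b be non-identity elements of PSL_d(F). Then the product of the conjugacy classes of a and b is not a single conjugacy class: there are conjugates a′ of a and b′ of b such that a′b′ is not conjugate to ab. -/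
theorem result {F : Type*} [Field F] [Fintype F] (d : ℕ) (hd : 3 ≤ d)
    (a b : Matrix.ProjectiveSpecialLinearGroup (Fin d) F) (ha : a ≠ 1) (hb : b ≠ 1) :
    ∃ g h : Matrix.ProjectiveSpecialLinearGroup (Fin d) F, ¬ IsConj (a * b) (g * a * g⁻¹ * (h * b * h⁻¹)) := by
  obtain ⟨A, rfl⟩ := QuotientGroup.mk_surjective a
  obtain ⟨B, rfl⟩ := QuotientGroup.mk_surjective b
  by_contra! H
  have h1 : ∀ t : F, ∃ r : F, r ≠ 0 ∧ t = (A * B).1.trace * r := fun t => by
    obtain ⟨g, h, e⟩ := key (mt (QuotientGroup.eq_one_iff A).2 ha) (mt (QuotientGroup.eq_one_iff B).2 hb)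
      (i := ⟨0, by omega⟩) (j := ⟨1, by omega⟩) (k := ⟨2, by omega⟩) (by simp) (by simp) (by simp) t
    obtain ⟨c, hc⟩ := isConj_iff.1 (H g h)
    obtain ⟨c, rfl⟩ := QuotientGroup.mk_surjective c
    obtain ⟨r, h1, h2⟩ := Matrix.SpecialLinearGroup.mem_center_iff.1 (QuotientGroup.eq.1
      (show ((c * (A * B) * c⁻¹ : Matrix.SpecialLinearGroup _ F) : Matrix.ProjectiveSpecialLinearGroup (Fin d) F) =
        (g * A * g⁻¹ * (h * B * h⁻¹) : Matrix.SpecialLinearGroup _ F) from hc))
    refine ⟨r, fun e => by simp [e, show d ≠ 0 by omega] at h1, ?_⟩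
    rw [← e, ← mul_inv_cancel_left (c * (A * B) * c⁻¹) (g * A * g⁻¹ * _), Matrix.SpecialLinearGroup.coe_mul, ← h2,
      Matrix.scalar_apply, ← Matrix.smul_eq_mul_diagonal, Matrix.trace_smul, Matrix.SpecialLinearGroup.coe_mul,
      Matrix.trace_mul_comm, ← Matrix.SpecialLinearGroup.coe_mul,
      inv_mul_cancel_left, smul_eq_mul, mul_comm]
  obtain ⟨r, h2, h3⟩ := h1 0
  obtain ⟨s, -, h4⟩ := h1 1
  rw [(mul_eq_zero.1 h3.symm).resolve_right h2, zero_mul] at h4
  exact one_ne_zero h4

end Cfsg.Agent.S2272
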