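import Mathlib
import Cfsg.Statements.S2276
import Cfsg.Agent.H18.AltP

set_option autoImplicit false
open scoped Pointwise
open Cfsg

namespace Cfsg.Agent.S2276

/-- Let n ≥ 5, p ≥ 3 a prime, and u, w non-identity elements of p-power order in the alternating group A_n. Then there is g ∈ A_n such that u·(g w g⁻¹) does not have p-power order and ⟨u, g w g⁻¹⟩ is not solvable. -/
theorem result (n : ℕ) (hn : 5 ≤ n) (p : ℕ) (hp : p.Prime) (hp3 : 3 ≤ p) (u w : alternatingGroup (Fin n)) (hu : u ≠ 1) (hw : w ≠ 1)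
    (hu' : ∃ k : ℕ, orderOf u = p ^ k) (hw' : ∃ k : ℕ, orderOf w = p ^ k) :
    ∃ g : alternatingGroup (Fin n), (¬ ∃ k : ℕ, orderOf (u * (g * w * g⁻¹)) = p ^ k) ∧
      ¬ Group.IsSolvable ↥(Subgroup.closure ({u, g * w * g⁻¹} : Set (alternatingGroup (Fin n)))) := by
  have key : ∀ u w : alternatingGroup (Fin n), (∃ g : Equiv.Perm (Fin n), Equiv.Perm.sign g = 1 ∧
      H18.AP.Good p (u : Equiv.Perm (Fin n)) (g * w * g⁻¹)) → ∃ g : alternatingGroup (Fin n), H18.AP.Good p u (g * w * g⁻¹) :=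
    fun u w ⟨g, h1, h2⟩ => ⟨⟨g, h1⟩, H18.AP.Good.of_map (alternatingGroup (Fin n)).subtype h2⟩
  have a1 : ∀ l ∈ (u : Equiv.Perm (Fin n)).cycleType + (w : Equiv.Perm (Fin n)).cycleType, ∃ i, l = p ^ i := fun l hl => by
    obtain ⟨k, hk⟩ := hu'
    obtain ⟨k', hk'⟩ := hw'
    rcases Multiset.mem_add.1 hl with h | h <;> have := Equiv.Perm.dvd_of_mem_cycleType h
    · rw [Subgroup.orderOf_coe, hk] at this
      exact ((Nat.dvd_prime_pow hp).1 this).imp fun _ h => h.2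
    · rw [Subgroup.orderOf_coe, hk'] at this
      exact ((Nat.dvd_prime_pow hp).1 this).imp fun _ h => h.2
  have u1 : (u : Equiv.Perm (Fin n)) ≠ 1 := fun e => hu (Subtype.ext e)
  have w1 : (w : Equiv.Perm (Fin n)) ≠ 1 := fun e => hw (Subtype.ext e)
  obtain ⟨m, hm, hx⟩ := Multiset.exists_max_image
    (s := (u : Equiv.Perm (Fin n)).cycleType + (w : Equiv.Perm (Fin n)).cycleType) id (by simp [u1])
  obtain ⟨g, h⟩ : ∃ g : alternatingGroup (Fin n), H18.AP.Good p u (g * w * g⁻¹) := by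
    rcases Multiset.mem_add.1 hm with h | h
    · exact key u w (H18.AP.main hp hp3 (by simpa using hn) w1 h fun l hl => ⟨a1 l hl, hx l hl⟩)
    · obtain ⟨g, hg⟩ := key w u (H18.AP.main hp hp3 (by simpa using hn) u1 h fun l hl =>
        ⟨a1 l (by rwa [add_comm]), hx l (by rwa [add_comm])⟩)
      exact ⟨g⁻¹, by simpa [mul_assoc] using hg.symm.conj g⁻¹⟩
  exact ⟨g, fun ⟨k, e⟩ => h.1 k (e ▸ pow_orderOf_eq_one _), h.2⟩

end Cfsg.Agent.S2276
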