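import Cfsg.Statements.S2277
import Cfsg.Agent.H24.HH7
-- import your own Cfsg.Agent.* helpers here

set_option autoImplicit false
open Cfsg

namespace Cfsg.Agent.S2277

open H24 H24.HH Subgroup Module BG
open scoped commutatorElement

theorem three_le {K V : Type*} [Field K] [AddCommGroup V] [Module K V] [Module.Finite K V] {f g g' : End K V} {l : K}
    (hg : g' * g = 1) (h : f * g = l • (g * f)) (h1 : l ≠ 1) (h2 : l ^ 2 ≠ 1) (h0 : l ≠ 0) :
    3 * finrank K (LinearMap.ker (f - 1)) ≤ finrank K V := by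
  have hi : ∀ i : ℕ, ∀ v, f v = v → f ((g ^ i) v) = l ^ i • (g ^ i) v := fun i v hv => by
    induction i with
    | zero => simpa
    | succ i ih =>
      rw [pow_succ', End.mul_apply, ← End.mul_apply f, h, LinearMap.smul_apply, End.mul_apply, ih, map_smul, smul_smul,
        ← pow_succ']
  have hinj : Function.Injective fun i : Fin 3 => l ^ (i : ℕ) := by
    have e : l ^ 2 ≠ l := fun e => h1 (mul_left_cancel₀ h0 (by rw [← pow_two, e, mul_one]))
    have e1 := h1.symm; have e2 := h2.symm; have e3 := e.symm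
    intro i j hij
    fin_cases i <;> fin_cases j <;> first | rfl | (simp only [pow_zero, pow_one] at hij; contradiction)
  refine H27.mul_finrank_le_of_indep _ (f.eigenspaces_iSupIndep.comp hinj) _ fun i => ?_
  have hg' : Function.Injective (g ^ (i : ℕ)) := by
    rw [End.coe_pow]; exact Function.Injective.iterate (Function.LeftInverse.injective (g := g') (f := g)
      (LinearMap.congr_fun hg)) _
  rw [(Submodule.equivMapOfInjective _ hg' _).finrank_eq]
  refine Submodule.finrank_mono ?_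
  rintro _ ⟨v, hv, rfl⟩
  exact End.mem_eigenspace_iff.2 (hi i v (sub_eq_zero.1 (LinearMap.mem_ker.1 hv)))

theorem irr_case {P K V : Type*} [Group P] [Finite P] {p : ℕ} [hp : Fact p.Prime] (hp3 : 3 ≤ p) (hP : IsPGroup p P)
    [Field K] [IsAlgClosed K] [AddCommGroup V] [Module K V] [Module.Finite K V] [Nontrivial V]
    (ρ : Representation K P V) (hirr : ∀ U : Submodule K V, (∀ g, U.map (ρ g) ≤ U) → U = ⊥ ∨ U = ⊤)
    (h : ¬ ∀ g, ρ g = 1) : ∃ M : Subgroup P, M ≠ ⊤ ∧ ∀ c ∉ M, 3 * finrank K (LinearMap.ker (ρ c - 1)) ≤ finrank K V := by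
  by_cases hs : scal ρ ⊤ = ⊤
  · refine ⟨ρ.ker, fun e => h fun g => (e ▸ mem_top g : g ∈ ρ.ker), fun c hc => ?_⟩
    rw [(by_contra fun h0 => hc (LinearMap.ext fun w => scal_inf_le (ρ := ρ) le_top h0
      ⟨hs ▸ mem_top c, fun v hv => sub_eq_zero.1 (LinearMap.mem_ker.1 hv)⟩ w trivial) : LinearMap.ker (ρ c - 1) = ⊥)]
    simp
  have : (scal ρ ⊤).Normal := normalizer_eq_top_iff.1 (top_le_iff.1 (le_trans
    (show ⊤ ≤ stab ρ ⊤ from fun _ _ _ _ => trivial) stab_le_norm_scal))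
  have : Nontrivial (P ⧸ scal ρ ⊤) := (QuotientGroup.nontrivial_iff).2 hs
  have := (hP.to_quotient (scal ρ ⊤)).center_nontrivial
  obtain ⟨⟨g, hg⟩, h1⟩ := exists_ne (1 : center (P ⧸ scal ρ ⊤))
  obtain ⟨g, rfl⟩ := QuotientGroup.mk_surjective g
  refine ⟨(centralizer {ρ.toHomUnits g}).comap ρ.toHomUnits, fun e => h1 (Subtype.ext ((QuotientGroup.eq_one_iff g).2 ?_)),
    fun c hc => ?_⟩
  · obtain ⟨l, hl⟩ := schur ρ hirr (B := ρ g) fun a =>
      (congrArg Units.val (mem_centralizer_singleton_iff.1 (show a ∈ _ from e ▸ mem_top a))).symm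
    exact ⟨l, fun w _ => by rw [hl]; rfl⟩
  obtain ⟨l, hl⟩ : ⁅c, g⁆ ∈ scal ρ ⊤ := (QuotientGroup.eq_one_iff _).1
    (commutatorElement_eq_one_iff_mul_comm.2 (mem_center_iff.1 hg c))
  have h2 : ρ ⁅c, g⁆ = l • 1 := LinearMap.ext fun w => hl w trivial
  have h3 : ρ c * ρ g = l • (ρ g * ρ c) := by
    rw [← smul_one_mul, ← h2, ← map_mul, ← map_mul, ← map_mul, commutatorElement_def]; congr 1; group
  obtain ⟨k, hk⟩ := hP ⁅c, g⁆
  have h4 : l ^ p ^ k = 1 := by
    have := congrArg ρ hk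
    rw [map_pow, h2, smul_pow, one_pow, map_one] at this
    exact smul_left_injective K (one_ne_zero (α := End K V)) (this.trans (one_smul _ _).symm)
  have h5 : l ≠ 1 := fun e => hc (mem_centralizer_singleton_iff.2 (Units.ext (by simpa [e] using h3)))
  refine three_le (g' := ρ g⁻¹) (by rw [← map_mul, inv_mul_cancel, map_one]) h3 h5 (fun e => h5 ?_) fun e => ?_
  · obtain ⟨j, hj⟩ := (hp.out.odd_of_ne_two (by omega)).pow (n := k)
    rwa [hj, pow_succ, pow_mul, e, one_pow, one_mul] at h4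
  · rw [e, zero_pow (pow_pos hp.out.pos k).ne'] at h4; exact zero_ne_one h4

theorem closed_case {P K V : Type*} [Group P] [Finite P] {p : ℕ} [hp : Fact p.Prime] (hp3 : 3 ≤ p) (hP : IsPGroup p P)
    [Field K] [IsAlgClosed K] (hF : (p : K) ≠ 0) [AddCommGroup V] [Module K V] [Module.Finite K V]
    (ρ : Representation K P V) {C D : Set P} (hC : closure C = ⊤) (hD : closure D = ⊤)
    (h9 : ∀ c ∈ C, ∀ d ∈ D, ∀ v, ∃ a b, ρ c a = a ∧ ρ d b = b ∧ v = a + b) (g : P) : ρ g = 1 := by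
  by_contra hg
  have hc : (Nat.card (⊤ : Subgroup P) : K) ≠ 0 := by
    obtain ⟨n, hn⟩ := IsPGroup.iff_card.1 hP
    rw [card_top, hn, Nat.cast_pow]
    exact pow_ne_zero _ hF
  obtain ⟨W, h1, h2⟩ := exists_irr_nontriv (ρ := ρ) hc fun h => hg (h g trivial)
  obtain ⟨π, h3, h4, h5⟩ := exists_proj hc h1.2.1
  have : Nontrivial W := Submodule.nontrivial_iff_ne_bot.2 h1.1
  obtain ⟨M, h6, h7⟩ := irr_case hp3 (hP.to_subgroup ⊤) (res h1.2.1) h1.res fun h => h2 fun g hg w hw =>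
    congrArg Subtype.val (LinearMap.congr_fun (h ⟨g, hg⟩) ⟨w, hw⟩)
  have h8 : ∀ C : Set P, closure C = ⊤ → ∃ c ∈ C, ⟨c, trivial⟩ ∉ M := fun C hC => by
    by_contra! h8
    have : closure C ≤ M.map (⊤ : Subgroup P).subtype := (closure_le _).2 fun c hc => ⟨_, h8 c hc, rfl⟩
    exact h6 ((eq_top_iff' _).2 fun x => by
      obtain ⟨y, hy, e⟩ := this (hC.ge (mem_top x.1))
      exact (show y = x from Subtype.ext e) ▸ hy)
  obtain ⟨c, hc1, hc2⟩ := h8 C hC
  obtain ⟨d, hd1, hd2⟩ := h8 D hD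
  have h10 := Submodule.finrank_add_le_finrank_add_finrank (LinearMap.ker (res h1.2.1 ⟨c, trivial⟩ - 1))
    (LinearMap.ker (res h1.2.1 ⟨d, trivial⟩ - 1))
  rw [(Submodule.eq_top_iff' (p := _ ⊔ _)).2 fun w => ?_, finrank_top] at h10
  · have := h7 _ hc2; have := h7 _ hd2; have := finrank_pos (R := K) (M := W); omega
  obtain ⟨a, b, e1, e2, e3⟩ := h9 c hc1 d hd1 w
  have e : ∀ g a, ρ g a = a → (⟨π a, h3 a⟩ : W) ∈ LinearMap.ker (res h1.2.1 ⟨g, trivial⟩ - 1) := fun g a e =>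
    sub_eq_zero.2 (Subtype.ext (by
      change ρ g (π a) = π a
      rw [← End.mul_apply, ← h5 g trivial, End.mul_apply, e]))
  exact Submodule.mem_sup.2 ⟨_, e c a e1, _, e d b e2, Subtype.ext (by
    change π a + π b = w
    rw [← map_add, ← e3, h4 _ w.2])⟩

theorem mod_case {P F V : Type*} [Group P] [Finite P] {p : ℕ} [hp : Fact p.Prime] (hp3 : 3 ≤ p) (hP : IsPGroup p P)
    [Field F] (hF : (p : F) ≠ 0) [AddCommGroup V] [Module F V] [Module.Finite F V] (ρ : Representation F P V)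
    {C D : Set P} (hC : closure C = ⊤) (hD : closure D = ⊤)
    (h : ∀ c ∈ C, ∀ d ∈ D, ∀ v, ∃ a b, ρ c a = a ∧ ρ d b = b ∧ v = a + b) (g : P) : ρ g = 1 := by
  let K := AlgebraicClosure F
  refine LinearMap.baseChangeHom_injective F V K ((closed_case hp3 hP (K := K) ?_ (bc ρ) hC hD
    (fun c hc1 d hd1 v => ?_) g).trans (map_one (Module.End.baseChangeHom F K V)).symm)
  · rw [← map_natCast (algebraMap F K)]
    exact (map_ne_zero _).2 hF
  induction v using TensorProduct.induction_on with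
  | zero => exact ⟨0, 0, map_zero _, map_zero _, (add_zero _).symm⟩
  | tmul k v =>
    obtain ⟨a, b, e1, e2, rfl⟩ := h c hc1 d hd1 v
    exact ⟨k ⊗ₜ a, k ⊗ₜ b, congrArg (k ⊗ₜ[F] ·) e1, congrArg (k ⊗ₜ[F] ·) e2, TensorProduct.tmul_add _ _ _⟩
  | add v w hv hw =>
    obtain ⟨a, b, e1, e2, rfl⟩ := hv
    obtain ⟨a', b', e1', e2', rfl⟩ := hw
    exact ⟨a + a', b + b', by rw [map_add, e1, e1'], by rw [map_add, e2, e2'], add_add_add_comm _ _ _ _⟩

/-- Let p ≥ 3 be prime and G a finite group with a Sylow p-subgroup P and a normal p-complement N (N normal, of order prime to p, with NP = G). Suppose P is generated by a subset C and also by a subset D, and that ⟨x c x⁻¹, d⟩ is a p-group for all x ∈ N, c ∈ C, d ∈ D. Then P centralizes N, so that G = N × P. -/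
theorem result {G : Type*} [Group G] [Finite G] (p : ℕ) [Fact p.Prime] (hp3 : 3 ≤ p) (P : Sylow p G)
    (N : Subgroup G) [N.Normal] (hN : (Nat.card N).Coprime p) (hNP : N ⊔ (P : Subgroup G) = ⊤)
    (C D : Set G) (hC : Subgroup.closure C = (P : Subgroup G)) (hD : Subgroup.closure D = (P : Subgroup G))
    (h : ∀ x ∈ N, ∀ c ∈ C, ∀ d ∈ D, IsPGroup p ↥(Subgroup.closure ({x * c * x⁻¹, d} : Set G))) :
    ⁅(P : Subgroup G), N⁆ = ⊥ := by
  have hp : p.Prime := Fact.out
  rw [comm_comm, comm_eq_bot]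
  refine H01.le_of_sylow_le fun q hq => ?_
  by_cases hqp : q = p
  · exact ⟨⊥, bot_le, by rw [relIndex_bot_left, hqp]; exact hp.coprime_iff_not_dvd.1 hN.symm⟩
  have := Fact.mk hq
  obtain ⟨R, h1, h2, h3, h4⟩ := H01.exists_invariant_sylow (H01.le_normalizer_of_normal (P : Subgroup G) N)
    (H01.coprime_card_of_isPGroup P.2 hN).symm (Or.inl (H01.isSolvable_of_isPGroup P.2)) q
  refine ⟨R, comm_eq_bot.1 (by_contra fun h5 => ?_), h3⟩
  obtain ⟨Q, h6, hm⟩ := exists_minAct h2 h4 le_rfl (le_norm _) (H01.coprime_card_of_isPGroup P.2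
    ((Nat.coprime_primes hq hp).2 hqp)).symm h5
  obtain ⟨M, _, _, _, τ, κ, k1, k2, k3, k4, k5⟩ := exists_sm (q := q) (Z := ⁅Q, Q⁆) le_rfl
    (fun g hg => by rw [← hm.cent_eq_der, hm.cent_eq_phi]; exact pow_mem_phi hq hm.pg hg) hm.norm (norm_der hm.norm)
  let E : Sm q Q _ _ M := ⟨τ, κ, hm.norm, k1, k2, k3, k4, k5⟩
  have : Module.Finite (ZMod q) M := Module.Finite.of_finite
  have hcl : ∀ C : Set G, closure C = (P : Subgroup G) → closure ((P : Subgroup G).subtype ⁻¹' C) = ⊤ := fun C hC => by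
    have := closure_preimage_eq_top C
    rwa [hC] at this
  have h7 := mod_case hp3 P.2 (cast_ne_zero (p := q) hp (Ne.symm hqp)) τ (hcl C hC) (hcl D hD) fun c hc d hd v => by
    obtain ⟨x, rfl⟩ := k1 v
    have e1 : Subgroup.closure ({(x : G) * c * (x : G)⁻¹, (d : G)} : Set G) ≤ Q ⊔ P := (closure_le _).2 (by
      rintro _ (rfl | rfl)
      · exact mul_mem (mul_mem (mem_sup_left x.2) (mem_sup_right c.2)) (mem_sup_left (inv_mem x.2))
      · exact mem_sup_right d.2)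
    obtain ⟨T, hT⟩ := ((h x (h1 (h6 x.2)) c hc d hd).comap_subtype (K := Q ⊔ P)).exists_le_sylow
    obtain ⟨g, rfl⟩ := MulAction.exists_smul_eq ↥(Q ⊔ (P : Subgroup G)) (P.subtype le_sup_right) T
    obtain ⟨y, hy, s, hs, e2⟩ := (mem_sup_norm hm.norm).1 g.2
    have e3 : ∀ a ∈ Subgroup.closure ({(x : G) * c * (x : G)⁻¹, (d : G)} : Set G), y⁻¹ * a * y ∈ (P : Subgroup G) := fun a ha => by
      have : g.1⁻¹ * a * g.1 ∈ (P : Subgroup G) := by
        have := hT (show (⟨a, e1 ha⟩ : ↥(Q ⊔ (P : Subgroup G))) ∈ _ from ha)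
        rw [Sylow.coe_subgroup_smul, mem_pointwise_smul_iff_inv_smul_mem] at this
        simpa [mem_subgroupOf] using this
      rw [← e2] at this
      have := mul_mem (mul_mem hs this) (inv_mem hs)
      simpa [mul_assoc] using this
    have e4 : ∀ (a : (P : Subgroup G)) (u : Q), (u : G)⁻¹ * a * u ∈ (P : Subgroup G) → τ a (κ u) = κ u := fun a u hu => by
      have : (u : G)⁻¹ * (a * u * (a : G)⁻¹) = 1 := eq_one_of_mem_of_disj (H24.inf_eq_bot_of_coprime hm.cop')
        (by simpa [mul_assoc] using mul_mem hu (inv_mem a.2))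
        (mul_mem (inv_mem u.2) (conj_mem_of_norm (hm.norm a.2) u.2))
      exact (k4 a u u (inv_mul_eq_one.1 this)).symm
    refine ⟨κ (x⁻¹ * ⟨y, hy⟩)⁻¹, κ ⟨y, hy⟩, ?_, e4 d ⟨y, hy⟩ (e3 _ (subset_closure (by simp))), ?_⟩
    · rw [show κ _ = _ from E.inv _, map_neg]; congr 1
      exact e4 c _ (by simpa [mul_assoc] using e3 _ (subset_closure (Set.mem_insert _ _)))
    · rw [add_comm, ← k2]; congr 1; group
  have h8 : ⁅(P : Subgroup G), Q⁆ ≤ ⁅Q, Q⁆ := commutator_le.2 fun a ha g hg =>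
    (k3 ⟨_, comm_le_right hm.norm (commutator_mem_commutator ha hg)⟩).1 (by
      rw [show κ _ = _ from E.comm ⟨a, ha⟩ ⟨g, hg⟩ _ rfl, show E.τ _ = 1 from h7 _]; simp)
  rw [comm_comm, hm.comm_eq, ← hm.cent_eq_der] at h8
  exact hm.ne (comm_eq_bot.2 (h8.trans inf_le_right))

end Cfsg.Agent.S2277
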