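import Cfsg.Statements.S2340
import Cfsg.Agent.H28.Ex7
import Cfsg.Agent.H11.PoinAll
-- import your own Cfsg.Agent.* helpers here

set_option autoImplicit false
open Cfsg

namespace Cfsg.Agent.S2340
open Module
set_option linter.unusedVariables false
set_option linter.style.haveILetI false

open H11 Cfsg.Lie H28.Ex

set_option maxRecDepth 4000 in
theorem poin6 (q : ℕ) : poin (Set.univ : Set (Node chevE6)) q = (1 + q + q ^ 2 + 2 * q ^ 3 + 3 * q ^ 4 + 3 * q ^ 5 + 4 * q ^ 6 + 5 * q ^ 7 + 5 * q ^ 8 +
    5 * q ^ 9 + 6 * q ^ 10 + 6 * q ^ 11 + 5 * q ^ 12 + 5 * q ^ 13 + 5 * q ^ 14 + 4 * q ^ 15 + 3 * q ^ 16 + 3 * q ^ 17 + 2 * q ^ 18 + q ^ 19 + q ^ 20 +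
      q ^ 21) * poin (nodeSet chevE6 61) q := by
  rw [← nodeSet_full (l := 6) rfl, show 2 ^ 6 - 1 = 63 from rfl, poin_of_chk agreeE6 ⟨72, 0x888878887898879788798788988788878987797987987987789877979877898877788897978897897897889787888986878889797889987889789779979779898779788978978978897978889868788799978799897799889689787998977998896998779888969888698888a788887a788899788887a778799778989778887a878799777989779889778878a887979879879898879887899779799798799778988797988789888788878a887989879879798879988879878899797899987899789789979789898789788988978988897988889878888898, 0x47474747464746464546474645444642454543454441444444434340434342414245423740423f44413641403e4340353e3f413f3c343f3d403e3b333d3e3d3d3a323b3c3c3c3f2d3c3a3b3b3e2c3a3b393a3d2b39393a38392a38383839380f373637373742353734363641363533353540333436312d3f343235302c3e3233322f2b3d303131342931312f303328302f302e32272f2e2e2f2e192e2c2d2d29343c2d2b2c28333b2b2c2a27323a2a2a2b1d2a392829262d31292927252c30282728202b2f2725242926262626222825252523262424242424212323232321251f22222222231e212121201f271c18201e20221b171f1f1e211a161e1d1d1c2a1d0e1c1b1d20150d1a1c1b1f140c1b1a1a1e130b191918192e19181719152018161817141f17171616131e16151415181c0a131512171b09141311161a081112141212071210131111061011101010050f0f0f0e0f380e0e0d0f0e1d0d0c0e0d0a1c0b0d0c0c091b0c0b0b0b081a0a090a0a0d15080a07090c14090806080b13060709040712070508030611050605020510030404070404040203060303020301050202010102010001000000000100,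 0x1514131211121110100f0e0f0e0d0c0b11100f0f0e0d0e0d0c0b0e0d0c0b0d0c0b0c0b0b0a0a090a09080a0908070a0908070807060605040a090807060706050504030403020100, 0x134224330000000043322211112222333445453452345134524535402345145354254310⟩ 63 1 61
    [0, 1, 2, 3, 4, 3, 4, 5, 5, 6, 7, 6, 7, 8, 9, 10, 4, 5, 6, 6, 7, 8, 7, 8, 9, 10, 7, 8, 9, 10, 8, 9, 10, 9, 10, 10, 11, 11, 12, 11, 12, 13, 11, 12, 13, 14, 11, 12, 13, 14, 13, 14, 15, 15, 16, 17, 11, 12, 13, 14, 15, 14, 15, 16, 16, 17, 18, 17, 18, 19, 20, 21] (by decide +kernel) (by decide +kernel)]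
  simp only [List.map_cons, List.map_nil, List.sum_cons, List.sum_nil]
  ring


/-- For the Chevalley group of type E₆ over a finite field with q elements (the group generated by the root elements), every irreducible complex representation of degree at least 2 has degree at least q(q⁶ + q³ + 1)(q⁴ + 1). -/
theorem result {F : Type*} [Field F] [Fintype F] :
    (∀ (k : ℕ) (ρ : Representation ℂ (Cfsg.Lie.chevE6.group F) (Fin k → ℂ)), ρ.IsIrreducible → 2 ≤ k → Fintype.card F * (Fintype.card F ^ 6 + Fintype.card F ^ 3 + 1) * (Fintype.card F ^ 4 + 1) ≤ k) := by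
  intro k ρ h1 h2
  have hp := FiniteField.isPrimePow_card F
  obtain ⟨n, hn⟩ : ∃ n, Fintype.card F = n + 1 + 1 := ⟨_, (Nat.sub_add_cancel hp.two_le).symm⟩
  haveI := (chev_simple (K := F) (D := chevE6) (by simp) (by rintro (e | e) <;> exact absurd (congrArg (·.rank) e) (by decide))).1
  have b := bound1 agreeE6 slE6 ρ h1 h2 (rt _ 71) (e := 10) (by decide +kernel) (nd _ 1) hn (dl := [0,0,1,0,1,2,0,1,2,3,0,1,2,3,2,3,4,4,5,6,0,1,2,3,4,3,4,5,5,6,7,6,7,8,9,10])
    (by decide +kernel) (by decide +kernel) (J := nodeSet _ 61) (by simp only [nodeSet, Set.mem_ofPred_eq]; decide +kernel) (poin6 _)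
  rw [hn] at hp ⊢
  refine fin hp b (r := 6) (M := (n + 1 + 1) ^ 12 - 1) ?_ ?_ ?_ ⟨_, mul_assoc ..⟩ ?_
  · zify; rw [← sub_nonneg]; ring_nf; positivity
  · simp only [List.map_cons, List.map_nil, List.sum_cons, List.sum_nil]; ring
  · zify [Nat.one_le_pow 12 _ hp.pos]; ring
  rcases lt_or_ge n 5 with a | a
  · left; interval_cases n <;> decide +kernel
  obtain ⟨n, rfl⟩ := Nat.exists_eq_add_of_le a
  refine .inr ⟨by omega, (n + 7) ^ 9 + (n + 7) ^ 8 + (n + 7) ^ 6 + (n + 7) ^ 5 + (n + 7) ^ 2 + 1, .inl ?_, ?_, ?_⟩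
  · zify [Nat.one_le_pow 12 _ hp.pos]; ring
  all_goals zify; rw [← sub_pos]; ring_nf; positivity

end Cfsg.Agent.S2340
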