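import Cfsg.Statements.S2352
import Cfsg.Agent.S2271
-- import your own Cfsg.Agent.* helpers here

set_option autoImplicit false
open Cfsg

namespace Cfsg.Agent.S2352

/-- A non-trivial law holds in only finitely many alternating groups: for every non-trivial element w of the free group on countably many generators there is N such that for all n ≥ N some substitution of elements of the alternating group of degree n into w is not the identity. -/
theorem result (w : FreeGroup ℕ) (hw : w ≠ 1) :
    ∃ N : ℕ, ∀ n : ℕ, N ≤ n → ∃ f : ℕ → alternatingGroup (Fin n), FreeGroup.lift f w ≠ 1 := by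
  refine ⟨w.toWord.length + 2, fun n hn => ?_⟩
  have hr := FreeGroup.isReduced_toWord (x := w)
  have h0 : w.toWord ≠ [] := by simpa using hw
  rw [← w.mk_toWord]
  generalize w.toWord = L at *
  let s : Bool → {i : Fin L.length // True} → Fin n := fun b i => ⟨if L[i.1].2 = b then i.1 + 1 else i.1, by
    have := i.1.2; split_ifs <;> omega⟩
  have key : ∀ (a : ℕ) (b : Bool), Function.Injective fun i : {i : Fin L.length // L[i].1 = a} => s b ⟨i.1, trivial⟩ := by
    rintro a b ⟨i, hi⟩ ⟨j, hj⟩ h
    have h1 : ∀ i j : Fin L.length, L[i].1 = L[j].1 → i.val + 1 = j.val → L[i].2 = L[j].2 := by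
      rintro i ⟨j, hj⟩ h rfl
      exact hr.getElem i hj h
    simp only [s, Fin.mk.injEq] at h
    ext
    split_ifs at h with e1 e2 e2
    · simpa using h
    · exact absurd ((h1 i j (hi.trans hj.symm) h).symm.trans e1) e2
    · exact absurd ((h1 j i (hj.trans hi.symm) h.symm).symm.trans e2) e1
    · exact h
  choose f hf hf' using fun a => S2271.ext_even (key a true) (key a false) (by
    have := Fintype.card_subtype_le fun i : Fin L.length => L[i].1 = a
    simp only [Fintype.card_fin] at this ⊢; omega)
  refine ⟨fun a => ⟨f a, hf a⟩, fun h => ?_⟩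
  have h1 : ∀ k (hk : k ≤ L.length), ((L.take k).map fun x => cond x.2 (f x.1) (f x.1)⁻¹).prod ⟨k, by omega⟩ = ⟨0, by omega⟩ := by
    intro k hk
    induction k with
    | zero => rfl
    | succ k ih =>
      rw [List.take_succ_eq_append_getElem hk, List.map_append, List.prod_append, Equiv.Perm.mul_apply, ← ih (by omega)]
      congr 1
      have := hf' _ ⟨⟨k, hk⟩, rfl⟩
      cases e : L[k].2 <;> simp_all [s, Equiv.symm_apply_eq]
  have h2 := h1 _ le_rfl
  have h3 := congrArg (alternatingGroup (Fin n)).subtype h
  rw [FreeGroup.lift_mk, map_list_prod, List.map_map] at h3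
  rw [List.take_length, List.map_congr_left (g := _) fun x _ => ?_, h3] at h2
  · exact h0 (by simpa using h2)
  · cases e : x.2 <;> simp [e]

end Cfsg.Agent.S2352
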