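import Cfsg.Statements.S2373
import Cfsg.Agent.H11.Tori
-- import your own Cfsg.Agent.* helpers here

set_option autoImplicit false
open Cfsg

namespace Cfsg.Agent.S2373
open H11 Cfsg.Lie

/-- torus data -/
def ct : CT := ⟨[[0, 0, 1, 0, 0, 0], [1, 0, 1, 1, 0, 0], [0, 1, 0, 1, 0, 0], [0, 0, 0, 0, 1, 0], [0, 0, 0, 0, 0, 1], [-1, -1, -1, -1, -1, -1]],
    [[-1, 1, 0, 0, 0, 0], [1, -1, -1, 1, 0, 0], [-1, 0, 1, -1, 1, 0], [0, 0, -1, 1, -1, 1], [0, -1, 0, 0, 1, -1], [0, 1, 0, -1, 0, 1], [0, -1, 0, 1, -1, 0]],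
    [[0, 1, 0, -1, -1, 0], [1, 1, 0, -1, -1, 0], [0, 1, 1, -1, -2, -1], [1, 2, 1, -1, -2, -1], [1, 2, 1, -1, -1, 0], [0, 1, 1, 0, -1, 0]], [1, 1, 0, -1, 0, 1, 1]⟩

theorem reg (q : ℕ) (h : 2 ≤ q) : 6 ≤ q ∨ ∃ p N, fastE6.chkRegT ct q p N = true := by
  by_cases h6 : 6 ≤ q
  · exact .inl h6
  right; interval_cases q
  exacts [⟨[-22, -21, -66, -63, -15, -10], 91, by decide +kernel⟩,
    ⟨[-105, -104, -420, -416, -92, -69], 949, by decide +kernel⟩,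
    ⟨[-316, -315, -1580, -1575, -295, -236], 5061, by decide +kernel⟩,
    ⟨[-745, -744, -4470, -4464, -714, -595], 18631, by decide +kernel⟩]

/-- The group E₆(q) (the simple Chevalley group of type E₆) contains a cyclic subgroup of order (q⁴ − q² + 1)(q² + q + 1)/gcd(3, q − 1) which is its own centralizer. -/
theorem result {F : Type*} [Field F] [Fintype F] (q : ℕ) (hF : Fintype.card F = q) :
    ∃ H : Subgroup ↥(Cfsg.Lie.chevE6.group F), IsCyclic ↥H ∧ Nat.card ↥H = (q ^ 4 - q ^ 2 + 1) * (q ^ 2 + q + 1) / Nat.gcd 3 (q - 1) ∧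
      Subgroup.centralizer (H : Set ↥(Cfsg.Lie.chevE6.group F)) = H := by
  subst hF
  obtain ⟨H, h1, h2, h3⟩ := selfcent_untw (K := F) agreeE6 ct [nd _ 0, nd _ 1, nd _ 2, nd _ 3, nd _ 4, nd _ 5] (by decide +kernel)
    (reg _ Fintype.one_lt_card) fun _ _ => torS_sgE6
  refine ⟨H, h1, ?_, h3⟩
  rw [kerE6, Nat.card_units, Nat.card_eq_fintype_card] at h2
  have h4 : Fintype.card F ^ 2 ≤ Fintype.card F ^ 4 := Nat.pow_le_pow_right Fintype.card_pos (by decide)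
  refine (Nat.div_eq_of_eq_mul_right (Nat.gcd_pos_of_pos_left _ (by decide)) ?_).symm
  zify [h4] at h2 ⊢
  rw [h2]; simp [pv, Finset.sum_range_succ, ct, fastE6]; ring

end Cfsg.Agent.S2373
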