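import Cfsg.Statements.S2375
import Cfsg.Agent.H11.Tori
-- import your own Cfsg.Agent.* helpers here

set_option autoImplicit false
open Cfsg

namespace Cfsg.Agent.S2375
open H11 Cfsg.Lie

/-- torus data -/
def ct : CT := ⟨[[0, 0, 1, 0, 0, 0, 0, 0], [1, 0, 1, 1, 0, 0, 0, 0], [0, 1, 0, 1, 0, 0, 0, 0], [0, 0, 0, 0, 1, 0, 0, 0], [0, 0, 0, 0, 0, 1, 0, 0], [0, 0, 0, 0, 0, 0, 1, 0], [0, 0, 0, 0, 0, 0, 0, 1], [-1, -1, -1, -1, -1, -1, -1, -1]],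
    [[0, 0, 0, 0, 0, 0, 0, 1], [-1, -1, 0, 1, 0, 0, 0, 0], [0, 0, -1, 0, 1, 0, 0, 0], [0, -1, 0, 0, 0, 1, 0, 0], [-1, 0, 0, 0, 0, 0, 1, 0], [0, -1, -1, 1, 0, 0, 0, 1], [-1, -1, 0, 0, 1, 0, 0, 0], [0, 0, -1, 0, 0, 1, 0, 0], [0, -1, 0, 0, 0, 0, 1, 0]],
    [[0, 0, 1, 1, 0, 0, -1, -1], [1, 1, 1, 0, 0, -1, -1, 0], [1, 1, 1, 1, 0, -1, -1, -1], [1, 2, 2, 1, 0, -1, -2, -1], [1, 1, 2, 1, 0, -1, -1, -1], [1, 1, 1, 1, 0, -1, -1, 0], [0, 0, 1, 1, 1, 0, -1, -1], [1, 0, 0, 0, 0, 0, 0, 0]], [1, 1, 0, -1, -1, -1, 0, 1, 1]⟩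

theorem reg (q : ℕ) (h : 2 ≤ q) : 6 ≤ q ∨ ∃ p N, fastE8.chkRegT ct q p N = true := by
  by_cases h6 : 6 ≤ q
  · exact .inl h6
  right; interval_cases q
  exacts [⟨[-180, -89, -209, -267, -205, -81, -164, 1], 331, by decide +kernel⟩,
    ⟨[-2880, -959, -3119, -3836, -3110, -932, -2799, 1], 8401, by decide +kernel⟩,
    ⟨[-20400, -5099, -21419, -25495, -21403, -5035, -20144, 1], 80581, by decide +kernel⟩,
    ⟨[-93600, -18719, -96719, -112314, -96694, -18594, -92975, 1], 464881, by decide +kernel⟩]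

/-- The group E₈(q) contains a cyclic subgroup of order q⁸ + q⁷ − q⁵ − q⁴ − q³ + q + 1 which is its own centralizer. -/
theorem result {F : Type*} [Field F] [Fintype F] (q : ℕ) (hF : Fintype.card F = q) :
    ∃ H : Subgroup ↥(Cfsg.Lie.chevE8.group F), IsCyclic ↥H ∧ Nat.card ↥H = q ^ 8 + q ^ 7 - q ^ 5 - q ^ 4 - q ^ 3 + q + 1 ∧
      Subgroup.centralizer (H : Set ↥(Cfsg.Lie.chevE8.group F)) = H := by
  subst hF
  obtain ⟨H, h1, h2, h3⟩ := selfcent_untw (K := F) agreeE8 ct [nd _ 0, nd _ 1, nd _ 2, nd _ 3, nd _ 4, nd _ 5, nd _ 6, nd _ 7] (by decide +kernel)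
    (reg _ Fintype.one_lt_card) fun _ _ => torS_E8 _
  refine ⟨H, h1, ?_, h3⟩
  rw [kerE8, one_mul] at h2
  have hq : 1 < Fintype.card F := Fintype.one_lt_card
  generalize Fintype.card F = q at h2 hq
  have h4 : q ^ 5 + q ^ 4 + q ^ 3 + Nat.card H = q ^ 8 + q ^ 7 + q + 1 := by zify; rw [h2]; simp [pv, Finset.sum_range_succ, ct, fastE8]; ring
  have h5 := Nat.pow_le_pow_right hq.le (show 5 ≤ 7 by decide)
  have h6 := Nat.pow_le_pow_right hq.le (show 3 ≤ 4 by decide)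
  have h7 := Nat.pow_le_pow_right hq.le (show 5 ≤ 8 by decide)
  have h8 : q ^ 4 * 2 ≤ q ^ 5 := Nat.mul_le_mul_left _ hq
  omega

end Cfsg.Agent.S2375
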