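import Mathlib
import Cfsg.Statements.S2419
import Cfsg.Agent.H03.CoxZ

set_option autoImplicit false
open Cfsg

namespace Cfsg.Agent.S2419

/-- The Coxeter groups of types B₂, G₂, E₆, E₇, E₈ are generated by the Coxeter element `s₁ s₂ ⋯ s_l` together with one suitable reflection (a conjugate of a simple reflection); for types D₄ and F₄ the Coxeter element together with two suitable reflections suffices. -/
theorem result (c : (Σ n : ℕ, CoxeterMatrix (Fin n)) × ℕ)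
    (hc : c ∈ [(⟨2, CoxeterMatrix.B 2⟩, 1), (⟨2, CoxeterMatrix.G₂⟩, 1), (⟨4, Cfsg.Lie.coxeterD4⟩, 2), (⟨4, CoxeterMatrix.F₄⟩, 2),
      (⟨6, CoxeterMatrix.E₆⟩, 1), (⟨7, CoxeterMatrix.E₇⟩, 1), (⟨8, CoxeterMatrix.E₈⟩, 1)]) :
    ∃ T : Finset c.1.2.Group, T.card = c.2 ∧ (∀ t ∈ T, ∃ (g : c.1.2.Group) (i : Fin c.1.1), t = g * c.1.2.simple i * g⁻¹) ∧
      Subgroup.closure (({((List.finRange c.1.1).map c.1.2.simple).prod} : Set c.1.2.Group) ∪ ↑T) = ⊤ := by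
  simp only [List.mem_cons, List.not_mem_nil, or_false] at hc
  rcases hc with rfl | rfl | rfl | rfl | rfl | rfl | rfl <;> dsimp only
  · exact H03.CoxZ.transfer_gen H11.coxB2 H11.sW_injective (0 : Fin 2) (0 : Fin 2) 1 (Or.inl ⟨rfl, rfl⟩)
      (H03.CoxZ.gen_of_chk H11.agreeB2 (List.finRange 2) (0 : Fin 2) (0 : Fin 2)
        (fun i : Fin 2 => ([[2], [2, 0]] : List (List ℕ)).getD i [])
        (show ∀ i : Fin 2, _ by decide +kernel))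
  · exact H03.CoxZ.transfer_gen H11.coxG2 H11.sW_injective (0 : Fin 2) (0 : Fin 2) 1 (Or.inl ⟨rfl, rfl⟩)
      (H03.CoxZ.gen_of_chk H11.agreeG2 (List.finRange 2) (0 : Fin 2) (0 : Fin 2)
        (fun i : Fin 2 => ([[2], [2, 0]] : List (List ℕ)).getD i [])
        (show ∀ i : Fin 2, _ by decide +kernel))
  · exact H03.CoxZ.transfer_gen H11.coxD4 H11.sW_injective (1 : Fin 4) (2 : Fin 4) 2 (Or.inr ⟨by decide, rfl⟩)
      (H03.CoxZ.gen_of_chk H11.agreeD4 (List.finRange 4) (1 : Fin 4) (2 : Fin 4)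
        (fun i : Fin 4 => ([[1, 2, 0], [2], [3], [0, 3, 2, 3, 1]] : List (List ℕ)).getD i [])
        (show ∀ i : Fin 4, _ by decide +kernel))
  · exact H03.CoxZ.transfer_gen H11.coxF4 H11.sW_injective (0 : Fin 4) (2 : Fin 4) 2 (Or.inr ⟨by decide, rfl⟩)
      (H03.CoxZ.gen_of_chk H11.agreeF4 (List.finRange 4) (0 : Fin 4) (2 : Fin 4)
        (fun i : Fin 4 => ([[2], [0, 2, 1], [3], [0, 3, 1]] : List (List ℕ)).getD i [])
        (show ∀ i : Fin 4, _ by decide +kernel))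
  · exact H03.CoxZ.transfer_gen H11.coxE6 H11.sW_injective (3 : Fin 6) (3 : Fin 6) 1 (Or.inl ⟨rfl, rfl⟩)
      (H03.CoxZ.gen_of_chk H11.agreeE6 (List.finRange 6) (3 : Fin 6) (3 : Fin 6)
        (fun i : Fin 6 => ([[1, 1, 1, 1, 1, 2, 0, 0, 0, 0, 0], [2, 1, 1, 1, 2, 0, 0, 0, 2], [1, 1, 1, 1, 2, 0, 0, 0, 0], [2], [0, 2, 1], [0, 0, 2, 1, 1]] : List (List ℕ)).getD i [])
        (show ∀ i : Fin 6, _ by decide +kernel))
  · exact H03.CoxZ.transfer_gen H11.coxE7 H11.sW_injective (3 : Fin 7) (3 : Fin 7) 1 (Or.inl ⟨rfl, rfl⟩)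
      (H03.CoxZ.gen_of_chk H11.agreeE7 (List.finRange 7) (3 : Fin 7) (3 : Fin 7)
        (fun i : Fin 7 => ([[1, 2, 1, 1, 1, 1, 2, 0, 0, 0, 0, 2, 0], [2, 0, 2, 1, 1, 1, 1, 2, 0, 0, 0, 0, 2, 1, 2], [2, 1, 1, 1, 1, 2, 0, 0, 0, 0, 2], [2], [0, 2, 1], [0, 0, 2, 1, 1], [0, 0, 0, 2, 1, 1, 1]] : List (List ℕ)).getD i [])
        (show ∀ i : Fin 7, _ by decide +kernel))
  · exact H03.CoxZ.transfer_gen H11.coxE8 H11.sW_injective (3 : Fin 8) (3 : Fin 8) 1 (Or.inl ⟨rfl, rfl⟩)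
      (H03.CoxZ.gen_of_chk H11.agreeE8 (List.finRange 8) (3 : Fin 8) (3 : Fin 8)
        (fun i : Fin 8 => ([[1, 2, 0, 0, 0, 0, 0, 0, 2, 1, 1, 1, 1, 1, 1, 2, 0], [2, 0, 2, 0, 0, 0, 0, 0, 0, 2, 1, 1, 1, 1, 1, 1, 2, 1, 2], [2, 0, 0, 0, 0, 0, 0, 2, 1, 1, 1, 1, 1, 1, 2], [2], [0, 2, 1], [0, 0, 2, 1, 1], [0, 0, 0, 2, 1, 1, 1], [0, 0, 0, 0, 2, 1, 1, 1, 1]] : List (List ℕ)).getD i [])
        (show ∀ i : Fin 8, _ by decide +kernel))

end Cfsg.Agent.S2419
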