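import Mathlib
import Cfsg.Statements.S2468
import Cfsg.Agent.H16.SpecPG

set_option autoImplicit false
open Cfsg

namespace Cfsg.Agent.S2468

/-- Adjacency of two odd primes in the prime graph of PSL(n,q): let F be a finite field of characteristic p with q elements, n ≥ 2 with PSL(n,F) simple, and let r ≠ s be odd primes different from p dividing the order of PSL(n,F). Let k and l be the multiplicative orders of q modulo r and modulo s, and suppose 2 ≤ k ≤ l. Then PSL(n,F) has NO element of order r·s if and only if k + l > n and k does not divide l. -/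
theorem result {F : Type*} [Field F] [Fintype F] (p : ℕ) [Fact p.Prime] [CharP F p] (n : ℕ) (hn : 2 ≤ n) (hsmall : n = 2 → 4 ≤ Fintype.card F)
    (r s : ℕ) (hr : r.Prime) (hs : s.Prime) (hr2 : r ≠ 2) (hs2 : s ≠ 2) (hrp : r ≠ p) (hsp : s ≠ p) (hrs : r ≠ s)
    (hrG : r ∣ Nat.card (Matrix.ProjectiveSpecialLinearGroup (Fin n) F)) (hsG : s ∣ Nat.card (Matrix.ProjectiveSpecialLinearGroup (Fin n) F))
    (k l : ℕ) (hk : k = orderOf ((Fintype.card F : ℕ) : ZMod r)) (hl : l = orderOf ((Fintype.card F : ℕ) : ZMod s))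
    (h2k : 2 ≤ k) (hkl : k ≤ l) :
    (r * s ∉ Set.range (orderOf : Matrix.ProjectiveSpecialLinearGroup (Fin n) F → ℕ)) ↔ (n < k + l ∧ ¬ k ∣ l) := by
  have hq : 0 < Fintype.card F := Fintype.card_pos
  have hl0 : 0 < l := by omega
  obtain ⟨e0, he0, he1, he2⟩ := H16.exists_of_dvd_card_psl p (by omega) hs hsp hsG
  rw [H16.dvd_pow_sub_one_iff hq, ← hl] at he2
  have hln : l ≤ n := (Nat.le_of_dvd he0 he2).trans he1
  have hc : Nat.Coprime r s := (Nat.coprime_primes hr hs).2 hrs
  have h1 : ∀ {t m : ℕ}, 2 ≤ m → m = orderOf ((Fintype.card F : ℕ) : ZMod t) → ¬ t ∣ Fintype.card F - 1 :=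
    fun h2 h3 h => by
      rw [← pow_one (Fintype.card F), H16.dvd_pow_sub_one_iff hq, ← h3] at h
      have := Nat.le_of_dvd one_pos h
      omega
  rw [H16.psl_rs_iff p (by omega) hr hs hrs hrp hsp (h1 h2k hk) (h1 (by omega) hl), ← not_iff_not, not_not,
    not_and_or, not_not, not_lt]
  constructor
  · rintro (⟨a, b, ha, hb, hab, h2, h3⟩ | ⟨e, he, hen, h2⟩)
    · rw [H16.dvd_pow_sub_one_iff hq] at h2 h3
      rw [← hk] at h2
      rw [← hl] at h3
      have := Nat.le_of_dvd ha h2
      have := Nat.le_of_dvd hb h3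
      left; omega
    · have h3 := (Dvd.intro _ rfl).trans h2
      have h4 := (Dvd.intro_left _ rfl).trans h2
      rw [H16.dvd_pow_sub_one_iff hq] at h3 h4
      rw [← hk] at h3
      rw [← hl] at h4
      obtain ⟨t, rfl⟩ := h4
      rcases t with _ | _ | t
      · omega
      · right; simpa using h3
      · left; nlinarith
  · rintro (h | h)
    · exact Or.inl ⟨k, l, by omega, hl0, h, by rw [H16.dvd_pow_sub_one_iff hq, hk],
        by rw [H16.dvd_pow_sub_one_iff hq, hl]⟩
    · exact Or.inr ⟨l, hl0, hln, hc.mul_dvd_of_dvd_of_dvd (by rwa [H16.dvd_pow_sub_one_iff hq, ← hk])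
        (by rw [H16.dvd_pow_sub_one_iff hq, hl])⟩

end Cfsg.Agent.S2468
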