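import Mathlib
import Cfsg.Statements.S2469
import Cfsg.Agent.H16.SpecPG

set_option autoImplicit false
open Cfsg

namespace Cfsg.Agent.S2469

/-- Adjacency of two odd primes in the prime graph of PSp(2n,q): let F be a finite field of characteristic p with q elements, n ≥ 2 with PSp(2n,F) simple, and let r ≠ s be odd primes different from p dividing the order of PSp(2n,F). Let k, l be the multiplicative orders of q modulo r and s, put η(m) = m for odd m and η(m) = m/2 for even m, and suppose η(k) ≤ η(l). Then PSp(2n,F) has NO element of order r·s if and only if η(k) + η(l) > n and l/k is not an odd integer. -/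
theorem result {F : Type*} [Field F] [Fintype F] (p : ℕ) [Fact p.Prime] [CharP F p] (n : ℕ) (hn : 2 ≤ n) (hsmall : n = 2 → 3 ≤ Fintype.card F)
    (r s : ℕ) (hr : r.Prime) (hs : s.Prime) (hr2 : r ≠ 2) (hs2 : s ≠ 2) (hrp : r ≠ p) (hsp : s ≠ p) (hrs : r ≠ s)
    (hrG : r ∣ Nat.card (Cfsg.PSp n F)) (hsG : s ∣ Nat.card (Cfsg.PSp n F))
    (k l ηk ηl : ℕ) (hk : k = orderOf ((Fintype.card F : ℕ) : ZMod r)) (hl : l = orderOf ((Fintype.card F : ℕ) : ZMod s))
    (hηk : (Odd k ∧ ηk = k) ∨ (Even k ∧ 2 * ηk = k)) (hηl : (Odd l ∧ ηl = l) ∨ (Even l ∧ 2 * ηl = l)) (hkl : ηk ≤ ηl) :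
    (r * s ∉ Set.range (orderOf : Cfsg.PSp n F → ℕ)) ↔ (n < ηk + ηl ∧ ¬ ∃ t : ℕ, Odd t ∧ l = k * t) := by
  have hq : 0 < Fintype.card F := Fintype.card_pos
  have hl0 : 0 < l := hl ▸ H16.orderOf_pos_of_char p hs hsp
  have hk0 : 0 < k := hk ▸ H16.orderOf_pos_of_char p hr hrp
  have hηl0 : 0 < ηl := by omega
  have hηk0 : 0 < ηk := by omega
  obtain ⟨e0, he0, he1, he2⟩ := H16.exists_of_dvd_card_psp p (by omega) hs hsp hsG
  rw [H16.dvd_pow_sub_one_iff hq, ← hl, H16.eta_dvd_iff hηl] at he2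
  have hln : ηl ≤ n := (Nat.le_of_dvd he0 he2).trans he1
  have hc : Nat.Coprime r s := (Nat.coprime_primes hr hs).2 hrs
  rw [H16.psp_rs_iff p hr hs hrs hr2 hs2 hrp hsp, ← not_iff_not, not_not, not_and_or, not_not, not_lt]
  constructor
  · rintro (⟨a, b, ha, hb, hab, h2, h3⟩ | ⟨e, he, hen, h2⟩)
    · rw [H16.dvd_pow_sub_one_iff hq] at h2 h3
      rw [← hk, H16.eta_dvd_iff hηk] at h2
      rw [← hl, H16.eta_dvd_iff hηl] at h3
      have := Nat.le_of_dvd ha h2
      have := Nat.le_of_dvd hb h3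
      left; omega
    · have h5 := H16.dvd_sq_sub_one (h2.imp (Dvd.intro_left _ rfl).trans (Dvd.intro_left _ rfl).trans)
      rw [H16.dvd_pow_sub_one_iff hq, ← hl, H16.eta_dvd_iff hηl] at h5
      by_cases h6 : ηk + ηl ≤ n
      · exact Or.inl h6
      right
      obtain rfl : e = ηl := by
        obtain ⟨t, rfl⟩ := h5
        rcases t with _ | _ | t
        · omega
        · simp
        · nlinarith
      rcases h2 with h2 | h2
      · have h3 := (Dvd.intro _ rfl).trans h2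
        have h4 := (Dvd.intro_left _ rfl).trans h2
        rw [H16.dvd_pow_sub_one_iff hq] at h3 h4
        rw [← hk] at h3
        rw [← hl] at h4
        have := Nat.le_of_dvd he h4
        rcases hηl with ⟨h7, rfl⟩ | ⟨-, h7⟩
        · obtain ⟨t, ht⟩ := h3
          exact ⟨t, (Nat.odd_mul.1 (ht ▸ h7)).2, ht⟩
        · omega
      · have h3 := (Dvd.intro _ rfl).trans h2
        have h4 := (Dvd.intro_left _ rfl).trans h2
        rw [H16.dvd_pow_add_one_iff hq hr hr2, ← hk] at h3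
        rw [H16.dvd_pow_add_one_iff hq hs hs2, ← hl] at h4
        rcases hηl with ⟨h7, rfl⟩ | ⟨-, h7⟩
        · exact absurd dvd_rfl h4.2
        · obtain ⟨t, ht⟩ := h3.1
          refine ⟨t, Nat.not_even_iff_odd.1 ?_, h7 ▸ ht⟩
          rintro ⟨u, rfl⟩
          exact h3.2 ⟨u, by nlinarith⟩
  · rintro (h | ⟨t, ht, h⟩)
    · exact Or.inl ⟨ηk, ηl, hηk0, hηl0, h, by rw [H16.dvd_pow_sub_one_iff hq, ← hk, H16.eta_dvd_iff hηk],
        by rw [H16.dvd_pow_sub_one_iff hq, ← hl, H16.eta_dvd_iff hηl]⟩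
    · refine Or.inr ⟨ηl, hηl0, hln, ?_⟩
      rcases hηl with ⟨h7, rfl⟩ | ⟨-, h7⟩
      · exact Or.inl (hc.mul_dvd_of_dvd_of_dvd (by rw [H16.dvd_pow_sub_one_iff hq, ← hk]; exact ⟨t, h⟩)
          (by rw [H16.dvd_pow_sub_one_iff hq, hl]))
      · refine Or.inr (hc.mul_dvd_of_dvd_of_dvd ?_ ?_)
        · rw [H16.dvd_pow_add_one_iff hq hr hr2, ← hk, h7]
          refine ⟨⟨t, h⟩, ?_⟩
          rintro ⟨u, hu⟩
          have : t = 2 * u := Nat.eq_of_mul_eq_mul_left hk0 (by rw [← h, ← h7, hu]; ring)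
          exact ht.not_two_dvd_nat ⟨u, this⟩
        · rw [H16.dvd_pow_add_one_iff hq hs hs2, ← hl, h7]
          exact ⟨dvd_rfl, fun h8 => by have := Nat.le_of_dvd hηl0 h8; omega⟩

end Cfsg.Agent.S2469
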