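import Mathlib
import Cfsg.Statements.S2470
import Cfsg.Agent.H16.SpecPG

set_option autoImplicit false
open Cfsg

namespace Cfsg.Agent.S2470

/-- Adjacency of an odd prime and the characteristic in the prime graph of PSL(n,q): let F be a finite field of characteristic p with q elements, n ≥ 2 with PSL(n,F) simple, and let r ≠ p be an odd prime dividing the order of PSL(n,F), with k the multiplicative order of q modulo r. Then PSL(n,F) has NO element of order r·p if and only if either k > n − 2, or n = 3, r = 3 and 3 divides q − 1 exactly once. -/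
theorem result {F : Type*} [Field F] [Fintype F] (p : ℕ) [Fact p.Prime] [CharP F p] (n : ℕ) (hn : 2 ≤ n) (hsmall : n = 2 → 4 ≤ Fintype.card F)
    (r : ℕ) (hr : r.Prime) (hr2 : r ≠ 2) (hrp : r ≠ p) (hrG : r ∣ Nat.card (Matrix.ProjectiveSpecialLinearGroup (Fin n) F))
    (k : ℕ) (hk : k = orderOf ((Fintype.card F : ℕ) : ZMod r)) :
    (r * p ∉ Set.range (orderOf : Matrix.ProjectiveSpecialLinearGroup (Fin n) F → ℕ)) ↔
      (n - 2 < k ∨ (n = 3 ∧ r = 3 ∧ 3 ∣ Fintype.card F - 1 ∧ ¬ 9 ∣ Fintype.card F - 1)) := by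
  have hq : 0 < Fintype.card F := Fintype.card_pos
  have hk0 : 0 < k := hk ▸ H16.orderOf_pos_of_char p hr hrp
  have h1 : r ∣ Fintype.card F - 1 ↔ k = 1 := by
    rw [← pow_one (Fintype.card F), H16.dvd_pow_sub_one_iff hq, ← hk, Nat.dvd_one]
  rw [mul_comm]
  by_cases h : r ∣ Fintype.card F - 1
  · rw [H16.psl_ps_one p hn hr hrp h, h1.1 h, not_and_or, not_not]
    refine or_congr (by omega) ⟨fun h2 => ⟨h2.1, h2.2.1, h2.2.1 ▸ h, h2.2.2⟩, fun h2 => ⟨h2.1, h2.2.1, h2.2.2.2⟩⟩
  · rw [H16.psl_ps_iff p (by omega) hr hrp h]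
    constructor
    · intro h2
      left
      by_contra h3
      exact h2 ⟨k, hk0, by omega, by rw [H16.dvd_pow_sub_one_iff hq, hk]⟩
    · rintro (h2 | ⟨-, rfl, h2, -⟩)
      · rintro ⟨e, he, hen, h3⟩
        rw [H16.dvd_pow_sub_one_iff hq, ← hk] at h3
        have := Nat.le_of_dvd he h3
        omega
      · exact absurd h2 h

end Cfsg.Agent.S2470
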