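import Mathlib
import Cfsg.Statements.S2477

set_option autoImplicit false
open Cfsg

namespace Cfsg.Agent.S2477

set_option synthInstance.maxSize 8192 in
set_option synthInstance.maxHeartbeats 400000 in
theorem aux_list (l : List ℕ) (h2 : ∀ a ∈ l, 2 ≤ a) (hs : l.sum ≤ 10) (he : (l.sum + l.length) % 2 = 0) :
    l.foldr Nat.lcm 1 ∈ [1, 2, 3, 4, 5, 6, 7, 8, 9, 10, 12, 15, 21] := by
  match l, h2, hs, he with
  | [], _, _, _ => simp
  | [a], h2, hs, he =>
    simp only [List.mem_cons, List.not_mem_nil, or_false, forall_eq_or_imp, forall_eq, List.sum_cons, List.sum_nil, List.length_cons, List.length_nil] at h2 hs he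
    have : ∀ a < 11, 2 ≤ a → (a + 0 + (0 + 1)) % 2 = 0 → [a].foldr Nat.lcm 1 ∈ [1, 2, 3, 4, 5, 6, 7, 8, 9, 10, 12, 15, 21] := by decide +kernel
    exact this a (by omega) h2 he
  | [a, b], h2, hs, he =>
    simp only [List.mem_cons, List.not_mem_nil, or_false, forall_eq_or_imp, forall_eq, List.sum_cons, List.sum_nil, List.length_cons, List.length_nil] at h2 hs he
    have : ∀ a < 11, 2 ≤ a → ∀ b < 11, 2 ≤ b → a + b ≤ 10 → (a + b) % 2 = 0 → [a, b].foldr Nat.lcm 1 ∈ [1, 2, 3, 4, 5, 6, 7, 8, 9, 10, 12, 15, 21] := by decide +kernel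
    exact this a (by omega) (by omega) b (by omega) (by omega) (by omega) (by omega)
  | [a, b, c], h2, hs, he =>
    simp only [List.mem_cons, List.not_mem_nil, or_false, forall_eq_or_imp, forall_eq, List.sum_cons, List.sum_nil, List.length_cons, List.length_nil] at h2 hs he
    have : ∀ a < 11, 2 ≤ a → ∀ b < 11, 2 ≤ b → ∀ c < 11, 2 ≤ c → a + b + c ≤ 10 → (a + b + c) % 2 = 1 → [a, b, c].foldr Nat.lcm 1 ∈ [1, 2, 3, 4, 5, 6, 7, 8, 9, 10, 12, 15, 21] := by decide +kernel
    exact this a (by omega) (by omega) b (by omega) (by omega) c (by omega) (by omega) (by omega) (by omega)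
  | [a, b, c, d], h2, hs, he =>
    simp only [List.mem_cons, List.not_mem_nil, or_false, forall_eq_or_imp, forall_eq, List.sum_cons, List.sum_nil, List.length_cons, List.length_nil] at h2 hs he
    have : ∀ a < 5, 2 ≤ a → ∀ b < 5, 2 ≤ b → ∀ c < 5, 2 ≤ c → ∀ d < 5, 2 ≤ d → a + b + c + d ≤ 10 → [a, b, c, d].foldr Nat.lcm 1 ∈ [1, 2, 3, 4, 5, 6, 7, 8, 9, 10, 12, 15, 21] := by decide +kernel
    exact this a (by omega) (by omega) b (by omega) (by omega) c (by omega) (by omega) d (by omega) (by omega) (by omega)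
  | [a, b, c, d, e], h2, hs, he =>
    simp only [List.mem_cons, List.not_mem_nil, or_false, forall_eq_or_imp, forall_eq, List.sum_cons, List.sum_nil, List.length_cons, List.length_nil] at h2 hs he
    omega
  | a :: b :: c :: d :: e :: f :: r, h2, hs, he =>
    simp only [List.mem_cons, forall_eq_or_imp, List.sum_cons] at h2 hs
    omega

theorem aux_lcm (l : List ℕ) : (l : Multiset ℕ).lcm = l.foldr Nat.lcm 1 := by
  induction l with
  | nil => simp
  | cons a l ih => rw [← Multiset.cons_coe, Multiset.lcm_cons, ih]; rfl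

theorem aux_ex (l : List ℕ) (h2 : ∀ a ∈ l, 2 ≤ a) (hs : l.sum ≤ 10) (he : (l.sum + l.length) % 2 = 0) :
    l.foldr Nat.lcm 1 ∈ Set.range (orderOf : alternatingGroup (Fin 10) → ℕ) := by
  obtain ⟨g, hg⟩ := (Equiv.Perm.exists_with_cycleType_iff (Fin 10) (m := (l : Multiset ℕ))).2
    ⟨by simpa using hs, by simpa using h2⟩
  refine ⟨⟨g, ?_⟩, ?_⟩
  · rw [Equiv.Perm.mem_alternatingGroup, Equiv.Perm.sign_of_cycleType, hg]
    apply Even.neg_one_pow
    rw [Nat.even_iff]; simpa using he
  · rw [← Subgroup.orderOf_coe]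
    show orderOf g = _
    rw [← aux_lcm, ← hg, Equiv.Perm.lcm_cycleType]

/-- The set of element orders of the alternating group of degree 10 is {1, 2, 3, 4, 5, 6, 7, 8, 9, 10, 12, 15, 21}. -/
theorem result : Set.range (orderOf : alternatingGroup (Fin 10) → ℕ) = {1, 2, 3, 4, 5, 6, 7, 8, 9, 10, 12, 15, 21} := by
  apply Set.Subset.antisymm
  · rintro _ ⟨⟨g, hg⟩, rfl⟩
    rw [← Subgroup.orderOf_coe, ← Equiv.Perm.lcm_cycleType]
    rw [Equiv.Perm.mem_alternatingGroup, Equiv.Perm.sign_of_cycleType] at hg
    have h2 : ∀ a ∈ g.cycleType, 2 ≤ a := fun a => Equiv.Perm.two_le_of_mem_cycleType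
    have hs : g.cycleType.sum ≤ 10 := by
      rw [Equiv.Perm.sum_cycleType]
      simpa using Finset.card_le_univ g.support
    have he : Even (g.cycleType.sum + Multiset.card g.cycleType) := by
      by_contra hc
      rw [Nat.not_even_iff_odd] at hc
      rw [hc.neg_one_pow] at hg
      exact absurd hg (by decide)
    show g.cycleType.lcm ∈ _
    generalize g.cycleType = m at h2 hs he
    induction m using Quot.ind with
    | mk l =>
      have := aux_list l (by simpa using h2) (by simpa using hs) (by simpa [Nat.even_iff] using he)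
      rw [← aux_lcm] at this
      simpa using this
  · intro n hn
    simp only [Set.mem_insert_iff, Set.mem_singleton_iff] at hn
    rcases hn with rfl|rfl|rfl|rfl|rfl|rfl|rfl|rfl|rfl|rfl|rfl|rfl|rfl
    · exact aux_ex [] (by decide) (by decide) (by decide)
    · exact aux_ex [2, 2] (by decide) (by decide) (by decide)
    · exact aux_ex [3] (by decide) (by decide) (by decide)
    · exact aux_ex [4, 2] (by decide) (by decide) (by decide)
    · exact aux_ex [5] (by decide) (by decide) (by decide)
    · exact aux_ex [6, 2] (by decide) (by decide) (by decide)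
    · exact aux_ex [7] (by decide) (by decide) (by decide)
    · exact aux_ex [8, 2] (by decide) (by decide) (by decide)
    · exact aux_ex [9] (by decide) (by decide) (by decide)
    · exact aux_ex [5, 2, 2] (by decide) (by decide) (by decide)
    · exact aux_ex [4, 3, 2] (by decide) (by decide) (by decide)
    · exact aux_ex [5, 3] (by decide) (by decide) (by decide)
    · exact aux_ex [7, 3] (by decide) (by decide) (by decide)

end Cfsg.Agent.S2477
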