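import Cfsg.Statements.S2506
import Cfsg.Agent.H24.Abel
-- import your own Cfsg.Agent.* helpers here

set_option autoImplicit false
open scoped Pointwise
open Cfsg

namespace Cfsg.Agent.S2506

open H24.Alt H20

/-- In the alternating group of any degree, any two abelian subgroups of the largest possible order (among abelian subgroups) are conjugate. -/
theorem result (n : ℕ)
    (A B : Subgroup (alternatingGroup (Fin n))) (hA : IsMulCommutative A) (hB : IsMulCommutative B)
    (hAmax : ∀ C : Subgroup (alternatingGroup (Fin n)), IsMulCommutative C → Nat.card C ≤ Nat.card A)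
    (hBmax : ∀ C : Subgroup (alternatingGroup (Fin n)), IsMulCommutative C → Nat.card C ≤ Nat.card B) :
    ∃ g : alternatingGroup (Fin n), B = MulAut.conj g • A := by
  obtain ⟨⟨C, hC, h1⟩, h2⟩ := isGreatest_fA (α := Fin n)
  have key : ∀ A : Subgroup (alternatingGroup (Fin n)), IsMulCommutative A →
      (∀ C : Subgroup (alternatingGroup (Fin n)), IsMulCommutative C → Nat.card C ≤ Nat.card A) →
      Nat.card (A.map (alternatingGroup (Fin n)).subtype) = fA (Finset.univ : Finset (Fin n)).card := fun A hA h => by
    rw [Subgroup.card_map_of_injective (Subgroup.subtype_injective _)]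
    exact le_antisymm (h2 ⟨A, hA, rfl⟩) (h1.ge.trans (h C hC))
  obtain ⟨c, c1, -, c2⟩ := conj_of_max (Sp_univ.ge.trans' le_top) (comm_map hA) (Subgroup.map_subtype_le _) (key A hA hAmax)
    (Sp_univ.ge.trans' le_top) (comm_map hB) (Subgroup.map_subtype_le _) (key B hB hBmax) rfl
  by_cases h : 3 ≤ n
  · refine ⟨⟨c, c1 (by simpa)⟩, Subgroup.ext fun x => ?_⟩
    rw [← Subgroup.mem_map_iff_mem (Subgroup.subtype_injective _), c2, mem_cj, Subgroup.mem_pointwise_smul_iff_inv_smul_mem,
      ← Subgroup.mem_map_iff_mem (Subgroup.subtype_injective _)]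
    rfl
  · have : fA (Finset.univ : Finset (Fin n)).card = 1 := by
      rw [Finset.card_fin]; interval_cases n <;> rfl
    have k1 := key A hA hAmax
    have k2 := key B hB hBmax
    rw [this, Subgroup.card_map_of_injective (Subgroup.subtype_injective _), Subgroup.card_eq_one] at k1 k2
    exact ⟨1, by simp [k1, k2]⟩

end Cfsg.Agent.S2506
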