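import Mathlib
import Cfsg.Statements.S2530
import Cfsg.Agent.H29.Coxeter

set_option autoImplicit false
open Cfsg

namespace Cfsg.Agent.S2530

/-- The Coxeter presentation of the symmetric group: for every n, the symmetric group on n+1 letters is the Coxeter group of type A_n with the adjacent transpositions (i, i+1) as simple reflections; that is, it is presented by generators r_1, …, r_n subject to r_i² = 1, (r_i r_j)² = 1 for |i − j| > 1 and (r_i r_{i+1})³ = 1, with r_i mapping to (i, i+1). -/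
theorem result (n : ℕ) :
    ∃ cs : CoxeterSystem (CoxeterMatrix.A n) (Equiv.Perm (Fin (n + 1))), ∀ i : Fin n, cs.simple i = Equiv.swap i.castSucc i.succ := by
  classical
  let M := CoxeterMatrix.A n
  let cs0 := M.toCoxeterSystem
  have hM1 : ∀ i j : Fin n, (i : ℕ) + 1 = j → M i j = 3 := by
    intro i j h
    have : i ≠ j := fun e => by subst e; omega
    simp [M, CoxeterMatrix.A, this, h]
  have hM2 : ∀ i j : Fin n, (i : ℕ) + 1 < j → M i j = 2 := by
    intro i j h
    have : i ≠ j := fun e => by subst e; omega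
    have h1 : ¬ ((j : ℕ) + 1 = i) := by omega
    have h2 : ¬ ((i : ℕ) + 1 = j) := by omega
    simp [M, CoxeterMatrix.A, this, h1, h2]
  have braid : ∀ {H : Type} [Group H] (a b : H), a * a = 1 → b * b = 1 →
      ((a * b) ^ 3 = 1 ↔ a * b * a = b * a * b) := by
    intro H _ a b ha hb
    have ha' : a⁻¹ = a := inv_eq_of_mul_eq_one_right ha
    have hb' : b⁻¹ = b := inv_eq_of_mul_eq_one_right hb
    rw [← mul_inv_eq_one (a := a * b * a)]
    simp only [mul_inv_rev, ha', hb', pow_succ, pow_zero, one_mul, mul_assoc]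
  have comm : ∀ {H : Type} [Group H] (a b : H), a * a = 1 → b * b = 1 →
      ((a * b) ^ 2 = 1 ↔ a * b = b * a) := by
    intro H _ a b ha hb
    have ha' : a⁻¹ = a := inv_eq_of_mul_eq_one_right ha
    have hb' : b⁻¹ = b := inv_eq_of_mul_eq_one_right hb
    rw [← mul_inv_eq_one (a := a * b)]
    simp only [mul_inv_rev, ha', hb', pow_succ, pow_zero, one_mul, mul_assoc]
  obtain ⟨φ, hφ⟩ := H29.exists_hom_perm_of_coxeter (s := cs0.simple)
    (fun i => cs0.simple_mul_simple_self i)
    (fun i j h => (braid _ _ (cs0.simple_mul_simple_self i) (cs0.simple_mul_simple_self j)).1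
      (by rw [← hM1 i j h]; exact cs0.simple_mul_simple_pow i j))
    (fun i j h => (comm _ _ (cs0.simple_mul_simple_self i) (cs0.simple_mul_simple_self j)).1
      (by rw [← hM2 i j h]; exact cs0.simple_mul_simple_pow i j))
  let σ : Fin n → Equiv.Perm (Fin (n + 1)) := fun i => Equiv.swap i.castSucc i.succ
  have s1 : ∀ i, σ i * σ i = 1 := fun i => Equiv.swap_mul_self _ _
  have s2 : ∀ i j : Fin n, (i : ℕ) + 1 = j → (σ i * σ j) ^ 3 = 1 := by
    intro i j h
    rw [braid _ _ (s1 i) (s1 j)]
    have e : j.castSucc = i.succ := Fin.ext (by simp; omega)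
    have a1 : i.castSucc ≠ i.succ := fun e => by simp [Fin.ext_iff] at e
    have a2 : i.castSucc ≠ j.succ := fun e => by simp [Fin.ext_iff] at e; omega
    have a3 : i.succ ≠ j.succ := fun e => by simp [Fin.ext_iff] at e; omega
    simp only [σ, e]
    rw [Equiv.swap_mul_swap_mul_swap a1 a2, Equiv.swap_comm i.castSucc i.succ,
      Equiv.swap_comm i.succ j.succ, Equiv.swap_mul_swap_mul_swap a3.symm a2.symm, Equiv.swap_comm]
  have s3 : ∀ i j : Fin n, (i : ℕ) + 1 < j → (σ i * σ j) ^ 2 = 1 := by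
    intro i j h
    rw [comm _ _ (s1 i) (s1 j)]
    simp only [σ]
    rw [Equiv.mul_swap_eq_swap_mul, Equiv.swap_apply_of_ne_of_ne, Equiv.swap_apply_of_ne_of_ne] <;>
      (intro e; simp [Fin.ext_iff] at e; omega)
  have hlift : M.IsLiftable σ := by
    intro i j
    rcases lt_trichotomy (i : ℕ) j with h | h | h
    · rcases Nat.lt_or_ge ((i : ℕ) + 1) j with h' | h'
      · rw [hM2 i j h']; exact s3 i j h'
      · rw [hM1 i j (by omega)]; exact s2 i j (by omega)
    · have : i = j := Fin.ext h
      subst this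
      rw [M.diagonal, pow_one, s1]
    · rw [M.symmetric i j]
      rcases Nat.lt_or_ge ((j : ℕ) + 1) i with h' | h'
      · rw [hM2 j i h', comm _ _ (s1 i) (s1 j), eq_comm, ← comm _ _ (s1 j) (s1 i)]; exact s3 j i h'
      · rw [hM1 j i (by omega), braid _ _ (s1 i) (s1 j), eq_comm, ← braid _ _ (s1 j) (s1 i)]
        exact s2 j i (by omega)
  let ψ : M.Group →* Equiv.Perm (Fin (n + 1)) := cs0.lift ⟨σ, hlift⟩
  have hψ : ∀ i, ψ (cs0.simple i) = σ i := fun i => cs0.lift_apply_simple hlift i
  have h1 : φ.comp ψ = MonoidHom.id _ := cs0.ext_simple fun i => by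
    simp only [MonoidHom.comp_apply, hψ, MonoidHom.id_apply]; exact hφ i
  have h2 : ψ.comp φ = MonoidHom.id _ := by
    apply MonoidHom.eq_of_eqOn_denseM (Equiv.Perm.mclosure_swap_castSucc_succ n)
    rintro _ ⟨i, rfl⟩
    simp only [MonoidHom.comp_apply, MonoidHom.id_apply, hφ, hψ, σ]
  refine ⟨cs0.map (MonoidHom.toMulEquiv ψ φ h1 h2), fun i => ?_⟩
  rw [CoxeterSystem.map_simple]
  exact hψ i

end Cfsg.Agent.S2530
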