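import Mathlib
import Cfsg.Statements.S2649
import Cfsg.Agent.H14.Shap2
import Cfsg.Agent.H14.N11
import Cfsg.Agent.S0051

set_option autoImplicit false
open Cfsg

namespace Cfsg.Agent.S2649

open H14 H14.Sh PK PK.TS RK Finset MulAction
open scoped Pointwise symmDiff

def hCh : Ch := [(23, [nat_lit 0xbdab49ca307b9ac5a928398a418820]),
  (0, [nat_lit 0xbdab49ca307b9ac5a928398a418820, nat_lit 0xb9ed584e49a3dc851591680cb19022, nat_lit 0xbb209b45f574a8852cf3680c518824, nat_lit 0xba2a763dd0945335a9b6a100618825, nat_lit 0xbce0d43a558bcf652e8c4948018826, nat_lit 0xba50d89e4e85ab4599ec0900518a6a, nat_lit 0xbd187925cface0d51636080c41890b]),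
  (2, [nat_lit 0xbdab49ca307b9ac5a928398a418820, nat_lit 0xbc12e8be76951a72aaa86196219020, nat_lit 0xb9d89ad20f8d83312a4d7196419500, nat_lit 0xb9ec34d18193a6d22e2f828a241aa0, nat_lit 0xbb635405c7b327411a0f915641a920, nat_lit 0xbb0f54bad29c031229eda18a21ad00]),
  (4, [nat_lit 0xbdab49ca307b9ac5a928398a418820, nat_lit 0xbcdcc958f4abd1022a2149965189a0, nat_lit 0xb862e64927a0e702aecf6a88640aa0, nat_lit 0xbd251831a141d2e21ad3a956a189e0, nat_lit 0xbc9f0b4d2c754342a8ed8988b18900]),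
  (5, [nat_lit 0xbdab49ca307b9ac5a928398a418820, nat_lit 0xbc5330b9926c0f6595157a8c418a80, nat_lit 0xbb101a42ce3c9f159aa96954418a60, nat_lit 0xb9eb383994b062d328697956440a40]),
  (1, [nat_lit 0xbdab49ca307b9ac5a928398a418820, nat_lit 0xba613a3dd5945075aacd618a408860, nat_lit 0xbc670ab6d4426435a9cf098a4608e0, nat_lit 0xba5d2846830b6b632d8f3a8a498900, nat_lit 0xbd62d986c37310f51a5482ca438920, nat_lit 0xbbc34444ee1a67551a0d92ca4b0980, nat_lit 0xbc13171e9664c2f5aaa3918a4409a0, nat_lit 0xbb2486d46f806765a8f4498a4889c0, nat_lit 0xbb92da5a0c3ca7132c680a8a4a89e0, nat_lit 0xbda638a2ada48275198e4aca478a00, nat_lit 0xbd12f831c7b064d519159aca418a20, nat_lit 0xb9d0e0cdf46c2365192362ca4a8a40, nat_lit 0xbb070905ae8d1e732d35b28a440a60, nat_lit 0xbc9811d9a74a2355a9ee818a498a80, nat_lit 0xba681736089bc6c518f1b2ca490aa0, nat_lit 0xbb64e1bd90aa42832e919a8a438ac0]),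
  (3, [nat_lit 0xbdab49ca307b9ac5a928398a418820, nat_lit 0xbb595924763c61451a6f42ca470820, nat_lit 0xbc28c4cdcd40ed532e477a8a488820])]

theorem h_full : S24.Full (stS [23] [0x800c75] []) hCh :=
  full_stS [(23, [nat_lit 0xbdab49ca307b9ac5a928398a418820, nat_lit 0x5883388a1c8f5140b46cd317aed7, nat_lit 0x89a93bcab24d161c4d57515283017, nat_lit 0x10dca440cc2d120248f67d5738b437, nat_lit 0x191eb4c4ed355412cd008599493857, nat_lit 0x2160c5490e3d96235121881b59bc77, nat_lit 0x29a2d5cd2f401833d542905d6a4097, nat_lit 0x31e4e65150485a445963989e0ac4b7, nat_lit 0x3910e0d597141a03286f4ca34996cb, nat_lit 0x4152f159b71c5c13ac9054e55a180c, nat_lit 0x4cc87118a3a5eaf6b20b75a4142a20, nat_lit 0x53a2f9a65441c978358012c2519ab6, nat_lit 0x5be50a2a754a0b78b9a11b04621ec0, nat_lit 0x64271aae96524d793dc2234672a001, nat_lit 0x6c692b32a05a8f79c1e32b88832422, nat_lit 0x74ab3036c162d17a460433ca93a843, nat_lit 0x7c462291a79b21649a97506a874960, nat_lit 0x84883315c8a362051eb758ac97cd81,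 nat_lit 0x8a55583a926844b9a0b625cec30de0, nat_lit 0x929768beb37086ca24c02dd0d39201, nat_lit 0x9ad80942d478c8daa8e135d2e41622, nat_lit 0xa24a3584e07925668a2a819cc44ef5, nat_lit 0xaa8c4609018166070e4b89ded4d2f6, nat_lit 0xb2ce568d2289a817926c9220e556e0]),
  (0, [nat_lit 0xbdab49ca307b9ac5a928398a418820, nat_lit 0xb82d5a4e5183dcd62d4941cc520c41, nat_lit 0xb8416ad2728c1ee6b16a4a0e629062, nat_lit 0xb8820b56939460f7358b5250731483, nat_lit 0xb8c4105ab49ca307b9ac5a928398a4, nat_lit 0xb9062082d5a4e5183dcd62d4941cc5, nat_lit 0xb948310416ad2728c1ee6b16a4a0e6, nat_lit 0xb98a418820b56939460f7358b52507, nat_lit 0xb9cc520c4105ab49ca307b9ac5a928, nat_lit 0xba0e629062082d5a4e5183dcd62d49, nat_lit 0xba5073148310416ad2728c1ee6b16a, nat_lit 0xba928398a418820b56939460f7358b, nat_lit 0xbad4941cc520c4105ab49ca307b9ac, nat_lit 0xbb16a4a0e629062082d5a4e5183dcd, nat_lit 0xbb58b525073148310416ad2728c1ee, nat_lit 0xbb9ac5a928398a418820b56939460f,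 nat_lit 0xbbdcd62d4941cc520c4105ab49ca30, nat_lit 0xbc1ee6b16a4a0e629062082d5a4e51, nat_lit 0xbc60f7358b525073148310416ad272, nat_lit 0xbca307b9ac5a928398a418820b5693, nat_lit 0xbce5183dcd62d4941cc520c4105ab4, nat_lit 0xbd2728c1ee6b16a4a0e629062082d5, nat_lit 0xbd6939460f7358b525073148310416]),
  (2, [nat_lit 0xbdab49ca307b9ac5a928398a418820, nat_lit 0xbc54770a697ad90b150daca8618480, nat_lit 0xbc50c229c60ce543bec5489ab80ea0, nat_lit 0xbccb5585c87da098d1ac508f2190c0, nat_lit 0xb9ad26396f50470a2224389b3a9520, nat_lit 0xbba8ab116d7c52899d90286a219a40, nat_lit 0xb8a614da2fa1868ab1d25120b29da0, nat_lit 0xb9e23095724cdae61046851567a2a0, nat_lit 0xbad07095915520f33483b3a42aa660, nat_lit 0xb9d2d70a34090b29a0d662df582860, nat_lit 0xba613ab4d2a09ee8846861d562ac80, nat_lit 0xba9c331e216ae164c882456937b0a0, nat_lit 0xbc58a31d2ea550f142439d8242b560, nat_lit 0xbd0ed588d0530830d9f194d09ab8a0, nat_lit 0xbace29126140e146da35628ae4bcc0,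 nat_lit 0xb905641ab4634af0ca2b51c699c1c0, nat_lit 0xba8a99982d3a043939eb25a0ca46a0, nat_lit 0xbace589acc7cd0d75609a11411c840, nat_lit 0xbb1b6a2424519f15c870414eeacc40, nat_lit 0xbc5ecb0c4e915415a6a481d066d260, nat_lit 0xbb9e998c9609e868b4b24298285560, nat_lit 0xbd55089048a264334dee0ad8d2d8e0]),
  (4, [nat_lit 0xbdab49ca307b9ac5a928398a418820, nat_lit 0xbd1d5618e992d48b40b1991a1189e0, nat_lit 0xbd9062b2120c54e79ea4a356348a60, nat_lit 0xbcce692968855af08d89245c5b0a80, nat_lit 0xbae963bd0a0d4b37360c8c92618880, nat_lit 0xb9a1429221b32691adc893da750aa0, nat_lit 0xb99d2a85911a5e46cd505d0a838ac0, nat_lit 0xbd4af5d0289c07193987519a9b0880, nat_lit 0xbda04aacd38b46c0d0e82bd2a70a40, nat_lit 0xbb6c134983510e5826954466b709e0, nat_lit 0xb8666552086d5713a5c41d8ac78a40, nat_lit 0xbc9812c086a21d35bd51b1c6da8920, nat_lit 0xbccad39a44521f0a56234d96e08980, nat_lit 0xb84962c5149413568e6c32cef70940, nat_lit 0xbd1217588c3a8687d6716c8b0588c0,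 nat_lit 0xbc956499045ccf01baac784b168a80, nat_lit 0xba9e13a1968d2644b8b55b4d280860, nat_lit 0xba4a7784d173164b290dac873a0a00, nat_lit 0xbda6a805f530dcc910a84c4f468960, nat_lit 0xba8ab1da8c491a834e0f704f590a20, nat_lit 0xb84a3a2a445ba158bcec9a0d6489a0]),
  (5, [nat_lit 0xbdab49ca307b9ac5a928398a418820, nat_lit 0xbc9c950eb129a8b6d98f44024988e0, nat_lit 0xbd02f5ba712a8e64d60d62064b0a40, nat_lit 0xbd872750f064daf52d09894c4a8820, nat_lit 0xb8cccb4dd50c12da49657c4e450900, nat_lit 0xbce0b928ce3c59448da12d504b09e0, nat_lit 0xbd1cb818b26da21a8df352124608e0, nat_lit 0xbb101a42ce3c9f159aa96954418a60, nat_lit 0xbc0eeabd8d1a2c9516349996490820, nat_lit 0xbd906a2d41946077b9232cd84a89a0, nat_lit 0xb8cb1652489baaf0c16a3d9a430920, nat_lit 0xbc2832d5365982a63cf144dc4909a0, nat_lit 0xbaa2d1da064556964e870b9e4908a0, nat_lit 0xbca63325115aa85b35eca8604708e0, nat_lit 0xbd4afb3a630c10d9514661e2458920, nat_lit 0xbb950ad8331a1e93d0c56c64458980,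 nat_lit 0xbc25530d165142b7b2274ba64a09a0, nat_lit 0xbcc355a46f519c53c5b644a8480980, nat_lit 0xbceca8acaea49871a42d322a4809e0, nat_lit 0xbade74c64640cb56c1cca06c498940]),
  (1, [nat_lit 0xbdab49ca307b9ac5a928398a418820, nat_lit 0xba0f07d82963ab351a926aca488860, nat_lit 0xbc670ab6d4426435a9cf098a4608e0, nat_lit 0xbd6ce8b2693d0725aa01798a468900, nat_lit 0xba1f10c8f58586d32e6ea28a460920, nat_lit 0xbbc34444ee1a67551a0d92ca4b0980, nat_lit 0xb85e93d510952d1519cc1aca4989a0, nat_lit 0xbbd163b433a459232ea9828a4189c0, nat_lit 0xbce29b0eae0c18d5aa87418a4909e0, nat_lit 0xb84f3431f64d5a332e34728a490a00, nat_lit 0xbc9a9620749b8ef32e16aa8a408a20, nat_lit 0xb9d0e0cdf46c2365192362ca4a8a40, nat_lit 0xbb070905ae8d1e732d35b28a440a60, nat_lit 0xb9c3578d1174e4c32ed04a8a468a80, nat_lit 0xb8d9469e49b410132dd38a8a478aa0, nat_lit 0xbb64e1bd90aa42832e919a8a438ac0]),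
  (3, [nat_lit 0xbdab49ca307b9ac5a928398a418820, nat_lit 0xbb595924763c61451a6f42ca470820, nat_lit 0xbc28c4cdcd40ed532e477a8a488820])] (by decide +kernel)

def kCh : Ch := [(23, [nat_lit 0xbdab49ca307b9ac5a928398a418820]),
  (1, [nat_lit 0xbdab49ca307b9ac5a928398a418820]),
  (0, [nat_lit 0xbdab49ca307b9ac5a928398a418820, nat_lit 0xb9ed584e49a3dc851591680cb19022, nat_lit 0xbd6364a28e6ce4728a0f6196a18024, nat_lit 0xbc6cea0e156a5ec592679004a41825, nat_lit 0xbb8f6ab1af90e11216899894b40026, nat_lit 0xbb2964b9b38a21222cf5788c51802a, nat_lit 0xbcacc3a2096d66e291f4880461a82b]),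
  (2, [nat_lit 0xbdab49ca307b9ac5a928398a418820, nat_lit 0xbd9c7ac68d40e09315ec9296299020, nat_lit 0xbd9cd1c0f44be5352eac8888641420, nat_lit 0xbd9f171db2622951113382d4519820, nat_lit 0xbda72651b170ce9112af814cb42820, nat_lit 0xbd98d44287ace2f3152e9088a1ac20]),
  (4, [nat_lit 0xbdab49ca307b9ac5a928398a418820, nat_lit 0xbc6ac9a6c3435d452e4f3988580820, nat_lit 0xbd62d1a653830f4512cf7156640820, nat_lit 0xba64d4562f83a87312d362caa18820, nat_lit 0xbc92e7d6c81b58731633a288b80820]),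
  (5, [nat_lit 0xbdab49ca307b9ac5a928398a418820, nat_lit 0xbb5e3a22b689e12595cc4a8c498820, nat_lit 0xbb66838d36952112ad8ea994478820, nat_lit 0xbd9277c6509b1ae29aa3a296440820]),
  (3, [nat_lit 0xbdab49ca307b9ac5a928398a418820, nat_lit 0xbb595924763c61451a6f42ca470820, nat_lit 0xbc28c4cdcd40ed532e477a8a488820])]

theorem k_full : S24.Full (stS [23, 1] [0x800c75] []) kCh :=
  full_stS [(23, [nat_lit 0xbdab49ca307b9ac5a928398a418820, nat_lit 0x5883388a1c8f5140b46cd317aed7, nat_lit 0x89a93bcab24d161c4d57515283017, nat_lit 0x10dca440cc2d120248f67d5738b437, nat_lit 0x191eb4c4ed355412cd008599493857, nat_lit 0x2160c5490e3d96235121881b59bc77, nat_lit 0x29a2d5cd2f401833d542905d6a4097, nat_lit 0x31e4e65150485a445963989e0ac4b7, nat_lit 0x3910e0d597141a03286f4ca34996cb, nat_lit 0x4152f159b71c5c13ac9054e55a180c, nat_lit 0x4cc87118a3a5eaf6b20b75a4142a20, nat_lit 0x53a2f9a65441c978358012c2519ab6, nat_lit 0x5be50a2a754a0b78b9a11b04621ec0,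 nat_lit 0x64271aae96524d793dc2234672a001, nat_lit 0x6c692b32a05a8f79c1e32b88832422, nat_lit 0x74ab3036c162d17a460433ca93a843, nat_lit 0x7c462291a79b21649a97506a874960, nat_lit 0x84883315c8a362051eb758ac97cd81, nat_lit 0x8a55583a926844b9a0b625cec30de0, nat_lit 0x929768beb37086ca24c02dd0d39201, nat_lit 0x9ad80942d478c8daa8e135d2e41622, nat_lit 0xa24a3584e07925668a2a819cc44ef5, nat_lit 0xaa8c4609018166070e4b89ded4d2f6, nat_lit 0xb2ce568d2289a817926c9220e556e0]),
  (1, [nat_lit 0xbdab49ca307b9ac5a928398a418820, nat_lit 0xbd6939460f7358b525073148310416, nat_lit 0xb82d5a4e5183dcd62d4941cc520c41, nat_lit 0xb8416ad2728c1ee6b16a4a0e629062, nat_lit 0xb8820b56939460f7358b5250731483, nat_lit 0xb8c4105ab49ca307b9ac5a928398a4, nat_lit 0xb9062082d5a4e5183dcd62d4941cc5, nat_lit 0xb948310416ad2728c1ee6b16a4a0e6, nat_lit 0xb98a418820b56939460f7358b52507, nat_lit 0xb9cc520c4105ab49ca307b9ac5a928, nat_lit 0xba0e629062082d5a4e5183dcd62d49,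 nat_lit 0xba5073148310416ad2728c1ee6b16a, nat_lit 0xba928398a418820b56939460f7358b, nat_lit 0xbad4941cc520c4105ab49ca307b9ac, nat_lit 0xbb16a4a0e629062082d5a4e5183dcd, nat_lit 0xbb58b525073148310416ad2728c1ee, nat_lit 0xbb9ac5a928398a418820b56939460f, nat_lit 0xbbdcd62d4941cc520c4105ab49ca30, nat_lit 0xbc1ee6b16a4a0e629062082d5a4e51, nat_lit 0xbc60f7358b525073148310416ad272, nat_lit 0xbca307b9ac5a928398a418820b5693, nat_lit 0xbce5183dcd62d4941cc520c4105ab4, nat_lit 0xbd2728c1ee6b16a4a0e629062082d5]),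
  (0, [nat_lit 0xbdab49ca307b9ac5a928398a418820, nat_lit 0xb9544b562892d2700df37329069822, nat_lit 0xba98b6d4e58809473d0698a1692423, nat_lit 0xbc18b4954d1d6c83d26f3464270024, nat_lit 0xb92cfa2173531c9846a2900ed19825, nat_lit 0xbd0702aa33a81ee1365659c884b026, nat_lit 0xbc1332362519aa063d5412d1693827, nat_lit 0xb8acf5b950a00a78cd92255a919828, nat_lit 0xbc1f6530e6ab9131ca2d0516520829, nat_lit 0xbb4c42ae90449c0b4c47abd891c42a, nat_lit 0xbce4543e2449c66755b060ad45002b, nat_lit 0xb91a8a0e3650a4b326a503a1379c2c, nat_lit 0xbbce820a13b2806a158b1d5d24c42d, nat_lit 0xba1f6826346b1423c86430265aac2e, nat_lit 0xb907064e85329128b96db55271002f, nat_lit 0xba1801526a726436acc53c6b623c30, nat_lit 0xbb26969a875d85550d059009073c31, nat_lit 0xb9d0d80a8470271aac697a8ac35832, nat_lit 0xb950db10f090983a45eb4b8caa8033, nat_lit 0xb904e5da1260d3551c13345e82b434, nat_lit 0xbc0454ba8c1bcca022648d8ed5c835, nat_lit 0xb956c3a2891546f919d0045a49a836]),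
  (2, [nat_lit 0xbdab49ca307b9ac5a928398a418820, nat_lit 0xbd2a56192b89c88509cd7da5380c20, nat_lit 0xbbdc2ad2258310b9b6c39292731020, nat_lit 0xbc1f52506c58a66925b63a22a71420, nat_lit 0xbca087b2b41cec9229b172c4539820, nat_lit 0xba14e5a6a4688a3851928da6f31c20, nat_lit 0xb9dd0b48cfa28ac1562b9a4646a020, nat_lit 0xb98a35a05193d9699e0eab544a2420, nat_lit 0xbb051799c55d60869ec3a249392820, nat_lit 0xbcca7489e453a8c946c86d4c382c20, nat_lit 0xbaa2d48e5338a16aba8f219055b020, nat_lit 0xba22e958a3a2cd021d827cd2aab420, nat_lit 0xb9a2a2a0eb251e99d65610db063820, nat_lit 0xbb44753ab320e50595064d191b3c20, nat_lit 0xbb5549b92244ac65d62f2b0e41c020, nat_lit 0xbca828314f29e6623869aa16db4420, nat_lit 0xbb1353bcab251119a9cd80ec234820, nat_lit 0xbaeaa145c42a06d7c19231ed44cc20, nat_lit 0xb8cf56d853828922c506731eb4d020, nat_lit 0xba5c720e8d9c576788cc54a0545420, nat_lit 0xb8a8b32064555a9744f32c9907d820]),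
  (4, [nat_lit 0xbdab49ca307b9ac5a928398a418820, nat_lit 0xbc51662a6e818b47b48992ce3a8820, nat_lit 0xbb976924f18546fa348a6226530820, nat_lit 0xb9d4e7b6558a27680ca44d18658820, nat_lit 0xb99f151253722b0b146da258758820, nat_lit 0xbb1b580d2b3aa4e89a65259e8a0820, nat_lit 0xbd1cb2ce0f65947aa24688c8968820, nat_lit 0xbbc6b89894635353a2532ba0ab0820, nat_lit 0xbc887b0de8ad18e8ccc56c12b50820, nat_lit 0xba20769532aa97174cc3b11eca0820, nat_lit 0xbc0ea332364b892451ebaccad18820, nat_lit 0xb950d624c324e2fa5a0a92eae38820, nat_lit 0xba9c829ac9942953ad9388daf20820, nat_lit 0xbb4ef348a4a0ecc5a548ace3070820, nat_lit 0xb8d6d92aa521dd47da09620d198820, nat_lit 0xbaed5215ec3d11171a638353250820, nat_lit 0xbd68e491878acd0b0cad7aa5340820, nat_lit 0xba4688cdaa911e7aad862bad480820, nat_lit 0xbcd31a358672cf68146453e5540820, nat_lit 0xb92a99b0ad50e1243e8b39a3670820]),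
  (5, [nat_lit 0xbdab49ca307b9ac5a928398a418820, nat_lit 0xbb646628b69ba0f4d4f45a06488820, nat_lit 0xbb5e3a22b689e12595cc4a8c498820, nat_lit 0xbb52e5327629a0b944687d0e4a8820, nat_lit 0xbc2713524d2aeca48dcf3d50460820, nat_lit 0xbc1c72ca8d32acb4566c88d2478820, nat_lit 0xbb66838d36952112ad8ea994478820, nat_lit 0xbd9277c6509b1ae29aa3a296440820, nat_lit 0xbda9550d1032da574cf14bd8490820, nat_lit 0xbc12ba18ad946c79b11553dc418820, nat_lit 0xbda435d5302a9a69ba27431e4a0820, nat_lit 0xbda6aaacb048da8951ec31e2470820, nat_lit 0xbb46f2cd9652e063d1357464440820, nat_lit 0xbc10a914cda1ed173d235b264a8820, nat_lit 0xbc0b57212d9becc91ccb1c68450820, nat_lit 0xbd8ac8be7091db44a16a70ea430820]),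
  (3, [nat_lit 0xbdab49ca307b9ac5a928398a418820, nat_lit 0xbb595924763c61451a6f42ca470820, nat_lit 0xbc28c4cdcd40ed532e477a8a488820])] (by decide +kernel)

theorem card_h : Nat.card (stS [23] [0x800c75] []) = 40320 := h_full.card.trans (by decide +kernel)

theorem card_k : Nat.card (stS [23, 1] [0x800c75] []) = 2520 := k_full.card.trans (by decide +kernel)

def tR : ℕ := nat_lit 0xbc66ea8ec97d18d52e08388a491820
def tS : ℕ := nat_lit 0xbba954ca113d86c59a687a88568820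
def tC : ℕ := nat_lit 0xbce30b32b47a472119c83a8a46ac20
def t7 : ℕ := nat_lit 0xbd95198cd50092d83161248e8751e5
def gR : ℕ := nat_lit 0xbc9cd1ce8c2257535a072c5e850820
def gS : ℕ := nat_lit 0xbccaa49c860c5cf6d60095188b0c4b
def Ts : List ℕ := [nat_lit 0xb8ecf9b241751b15913039440a990a, nat_lit 0xbda4f84cf56a50302994894467102b]

theorem inR : S24.In (stS [23, 1] [0x800c75] []) tR := in_stS (by decide +kernel)
theorem inS : S24.In (stS [23, 1] [0x800c75] []) tS := in_stS (by decide +kernel)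
theorem inC : S24.In (stS [23, 1] [] []) tC := in_stS (by decide +kernel)
theorem in7 : S24.In (stS [23] [] []) t7 := in_stS (by decide +kernel)
theorem inGR : S24.In (stS [23] [] []) gR := in_stS (by decide +kernel)
theorem inGS : S24.In (stS [23] [] []) gS := in_stS (by decide +kernel)
theorem inT : ∀ t ∈ Ts, S24.In (stS [23] [0x800c75] []) t := in_stSL (by decide +kernel)

theorem card_d : Nat.card (S24.cl [tR, tS]) = 8 :=
  (full_of_ss (pr := []) (ch := [(2, [nat_lit 0xbdab49ca307b9ac5a928398a418820, nat_lit 0xbc66ea8ec97d18d52e08388a491820, nat_lit 0xbc136a35d33d58332e287888592820, nat_lit 0xba611732953cdb212ac8798851ac20]),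
  (3, [nat_lit 0xbdab49ca307b9ac5a928398a418820, nat_lit 0xbba954ca113d86c59a687a88568820])])
    (sl := [([nat_lit 0xbc66ea8ec97d18d52e08388a491820], nat_lit 0x100000000ffffffff),
  ([nat_lit 0xbba954ca113d86c59a687a88568820], nat_lit 0xffffffff)]) (by simp [inR.top, inS.top]) (by decide +kernel)).card.trans (by decide +kernel)

theorem cl_T : S24.cl Ts = stS [23] [0x800c75] [] :=
  cl_eq card_h inT (pr := [[], [2, 1, 2], [2, 2, 3, 2], [0, 0, 1], [2, 2, 1, 2, 1], [0, 1], [2, 2, 2, 1], [1, 1, 0, 1], [2, 1, 1, 1], [0, 1], [4, 4], [4, 5], [6, 5], [6, 6], [7, 3], [9, 3], [9, 4], [10, 4], [12, 4], [12, 4], [13, 4], [14, 1], [18, 17], [19, 0], [19, 1], [23, 23], [23, 24], [25, 24], [26, 2], [26, 3], [28, 3], [29, 2], [30, 2], [30, 3], [32, 3], [32, 3], [33, 2], [34, 2], [38, 38], [40, 0], [40, 0], [41, 0]]) (ch := [(0, [nat_lit 0xbdab49ca307b9ac5a928398a418820, nat_lit 0xb8ecf9b241751b15913039440a990a, nat_lit 0xbda4f84cf56a50302994894467102b,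 nat_lit 0xbd46e9c588a3db258121388cab1604, nat_lit 0xbc9c981c747b51302d81890aab0aa6, nat_lit 0xbb28909eaf7361352e289004419ac5, nat_lit 0xbc5e941ecea343322e50628c0a9462]),
  (1, [nat_lit 0xbdab49ca307b9ac5a928398a418820, nat_lit 0xbb8690c236432b2518ed990a27ae80, nat_lit 0xbbead45a704d02720a436154b899c0, nat_lit 0xbb1e7a5a2e6c87031275088ab42920, nat_lit 0xbd2327426f19eb61158142d46491a0, nat_lit 0xba0756b8363a69312e0f914ca89180, nat_lit 0xbc9134ba2cac1f620823a2caa698e0, nat_lit 0xb9d2c6be740da302ad157194418a40, nat_lit 0xba630658287cc6e596546a8c438aa0, nat_lit 0xbc1a13b2321d90e12e8f4a8a6a9260, nat_lit 0xbccf2aa029a3a362a9a3610c27ae00, nat_lit 0xbb2470a50d73e7051075a144b89ac0, nat_lit 0xb9e3693a8d405ec51609a98829ac60, nat_lit 0xbc02e61e768bc74311a990945aad00, nat_lit 0xb9ecc74861a251012e356a8c4995e0, nat_lit 0xbb26fb51a11b92712a12a956641220]),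
  (2, [nat_lit 0xbdab49ca307b9ac5a928398a418820, nat_lit 0xbb676a41098b2af328ee1904592c20, nat_lit 0xba22f49e4d8587512dd3610aaa1820, nat_lit 0xbb91138e154b653599947944ab1020, nat_lit 0xbb1c81c9333d614311f68896a69420, nat_lit 0xbda72651b170ce9112af814cb42820]),
  (3, [nat_lit 0xbdab49ca307b9ac5a928398a418820, nat_lit 0xb8d287b66e9563022d96a28c538820, nat_lit 0xbbd8e940f41cd362162d42ccaa8820, nat_lit 0xb9d96945f56a66e2920342d46a0820, nat_lit 0xbd62d1a653830f4512cf7156640820, nat_lit 0xbca156ba883bd8329a71b114b48820, nat_lit 0xb8ed38510eaca2f518e96916560820, nat_lit 0xba2cf81c6c4c65332a95690ab70820, nat_lit 0xba6713b1af7428859472a988ab0820, nat_lit 0xbb0e9ac612a590e2a9e39988b68820, nat_lit 0xbc28c4cdcd40ed532e477a8a488820, nat_lit 0xb9c6f722d54b6725aa8c8948680820, nat_lit 0xbb5e3a22b689e12595cc4a8c498820, nat_lit 0xbc647459239d1cd21ab062d4578820, nat_lit 0xba4757358f3a29021a768956a90820]),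
  (4, [nat_lit 0xbdab49ca307b9ac5a928398a418820, nat_lit 0xbb1f3a4232ab916218ed4a8ab18820, nat_lit 0xba64d4562f83a87312d362caa18820, nat_lit 0xb9e086be3593a6952d94b10a618820])]) (by decide +kernel)

/-- values of `1 + tC` with preimages -/
def pre : List (ℕ × ℕ) := [(0, 0), (nat_lit 0x43c4c, nat_lit 0x149f), (nat_lit 0x114e44, nat_lit 0x10f13), (nat_lit 0x157208, nat_lit 0x11b8c), (nat_lit 0x226a0c, nat_lit 0x20ab9), (nat_lit 0x265640, nat_lit 0x21e26), (nat_lit 0x332448, nat_lit 0x305aa), (nat_lit 0x371804, nat_lit 0x31135), (nat_lit 0x486648, nat_lit 0x803da), (nat_lit 0x4c5a04, nat_lit 0x81745), (nat_lit 0x59280c, nat_lit 0x90cc9), (nat_lit 0x5d1440, nat_lit 0x91856), (nat_lit 0x6a0c44, nat_lit 0xa0963), (nat_lit 0x6e3008, nat_lit 0xa1dfc), (nat_lit 0x7b4200, nat_lit 0xb0670), (nat_lit 0x7f7e4c, nat_lit 0xb12ef)]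

theorem pre_ok : all2 64 64 (fun k => H13.force (cw k) fun m => H13.force (pm tC m) fun t =>
    band (memL (Nat.xor m t) (pre.map Prod.fst)) (bor (bor (bit m 23) (bn (Nat.beq t m)))
      (bor (bn (memL (Nat.xor m (pm t7 m)) (pre.map Prod.fst))) (memL m (pre.map Prod.fst))))) = true := by decide +kernel

theorem pre_ok' : H13.allL (fun x => band (isCw x.2) (band (bn (bit x.2 23)) (Nat.beq (Nat.xor x.2 (pm tC x.2)) x.1))) pre = true := by
  decide +kernel

/-- the restrictions of the code words without the extra point -/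
def Λ : AddSubgroup (GolayPt → ZMod 2) where
  carrier := {f | ∃ s ∈ Code, none ∉ s ∧ f = ind (s ∩ toSet 0x7ff38a)}
  zero_mem' := ⟨∅, Code_empty, by simp, by simp [ind_empty]⟩
  add_mem' := by
    rintro _ _ ⟨s, a, b, rfl⟩ ⟨t, c, d, rfl⟩
    exact ⟨s ∆ t, Code_symmDiff a c, by simp [mem_symmDiff, b, d], by rw [← ind_symmDiff]; exact congrArg _ (inf_symmDiff_distrib_right _ _ _).symm⟩
  neg_mem' h := by rwa [neg_eq_of_add_eq_zero_left (f2 _)]

/-- `m` is the restriction of `c` -/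
noncomputable def lamOk (m c : ℕ) : Bool := band (isCw c) (band (bn (bit c 23)) (Nat.beq m (Nat.land c 0x7ff38a)))

theorem lam_of {m c : ℕ} (h : lamOk m c = true) : ind (toSet m) ∈ Λ := by
  simp only [lamOk, band_iff, bn_iff, Nat.beq_eq] at h
  exact ⟨_, toSet_mem_Code h.1, by rw [← pt_23, pt_mem_toSet (by norm_num)]; exact h.2.1, by rw [h.2.2, ← toSet_and]; rfl⟩

/-- `m` meets a code word off the octad oddly -/
noncomputable def oddOk (m : ℕ) : Bool := H13.force m fun m => H13.anyL (fun c => bn (Nat.beq (Nat.mod (pc (Nat.land c m)) 2) 0)) [0x4b18a, 0xba288, 0x11c382, 0x237180, 0x42528a]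

theorem not_lam {m : ℕ} (h : oddOk m = true) : ind (toSet m) ∉ Λ := by
  rintro ⟨s, a, -, e⟩
  rw [oddOk, H13.force_eq] at h
  obtain ⟨c, hc, h⟩ := H13.anyL_iff.1 h
  have k := (by decide +kernel : ∀ c ∈ [0x4b18a, 0xba288, 0x11c382, 0x237180, 0x42528a], isCw c = true ∧ c &&& 0x7ff38a = c) c hc
  have := Code_even_inter (toSet_mem_Code k.1) a
  rw [← k.2, toSet_and, inter_assoc, inter_comm _ s, ← ind_inj e, card_inter_toSet _ (isCw_lt k.1)] at this
  exact bn_iff.1 h (Nat.beq_eq ▸ Nat.mod_eq_zero_of_dvd this)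

theorem red (s : Finset GolayPt) (h : s ⊆ toSet 0x7ff38a) : ∃ t ⊆ toSet 0x38a, ind s + ind t ∈ Λ := by
  induction s using Finset.induction_on with
  | empty => exact ⟨∅, by simp, by simpa [ind_empty] using Λ.zero_mem⟩
  | insert p s hp ih =>
    obtain ⟨t, a, b⟩ := ih ((subset_insert _ _).trans h)
    obtain ⟨x, -, c, d⟩ := (by decide +kernel : ∀ p ∈ toSet 0x7ff38a, ∃ x ∈ [(2, 0), (8, 0), (128, 0), (256, 0), (512, 0), (138, nat_lit 0x149f), (266, nat_lit 0x293e), (642, nat_lit 0x46e3), (386, nat_lit 0x8dc6), (770, nat_lit 0x10f13), (648, nat_lit 0x20ab9), (392, nat_lit 0x401ed), (906, nat_lit 0x803da), (896, nat_lit 0x1007b4), (776, nat_lit 0x200f68), (522, nat_lit 0x400a4f)],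
      x.1 &&& 0x38a = x.1 ∧ lamOk (2 ^ idx p ^^^ x.1) x.2 = true) p (h (mem_insert_self _ _))
    have d := lam_of d
    rw [toSet_xor, toSet_two_pow (idx_lt p), pt_idx, ind_symmDiff] at d
    refine ⟨toSet x.1 ∆ t, symmDiff_le_sup.trans (union_subset (c ▸ toSet_and _ _ ▸ inter_subset_right) a), ?_⟩
    rw [show insert p s = {p} ∆ s by ext; simp only [mem_insert, mem_symmDiff, mem_singleton]; grind, ind_symmDiff, ind_symmDiff,
      add_add_add_comm]
    exact add_mem d b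

/-- the principal derivations -/
def wit : List (ℕ × ℕ × ℕ × ℕ × ℕ) := [(0, 0, 0, 0, 0), (0, 10, 266, nat_lit 0x21007b, nat_lit 0x104157), (0, 130, 640, 0, nat_lit 0x21e26), (0, 136, 906, nat_lit 0x21007b, nat_lit 0x125f71), (0, 514, 394, nat_lit 0x21007b, nat_lit 0x124bee), (0, 520, 128, 0, nat_lit 0x20ab9), (0, 640, 778, nat_lit 0x21007b, nat_lit 0x1055c8), (0, 650, 512, 0, nat_lit 0x149f), (258, 0, 2, 0, 0), (258, 10, 264, nat_lit 0x21007b, nat_lit 0x104157), (258, 130, 642, 0, nat_lit 0x21e26), (258, 136, 904, nat_lit 0x21007b, nat_lit 0x125f71), (258, 514, 392, nat_lit 0x21007b, nat_lit 0x124bee), (258, 520, 130, 0, nat_lit 0x20ab9), (258, 640, 776, nat_lit 0x21007b, nat_lit 0x1055c8), (258, 650, 514, 0, nat_lit 0x149f), (514, 0, 522, nat_lit 0x200f68, nat_lit 0x527c), (514, 10, 768, nat_lit 0x10f13, nat_lit 0x10132b), (514, 130, 138, nat_lit 0x200f68, nat_lit 0x24c5a), (514, 136, 384, nat_lit 0x10f13, nat_lit 0x120d0d),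 (514, 514, 896, nat_lit 0x10f13, nat_lit 0x121992), (514, 520, 650, nat_lit 0x200f68, nat_lit 0x258c5), (514, 640, 256, nat_lit 0x10f13, nat_lit 0x1007b4), (514, 650, 10, nat_lit 0x200f68, nat_lit 0x46e3), (768, 0, 520, nat_lit 0x200f68, nat_lit 0x527c), (768, 10, 770, nat_lit 0x10f13, nat_lit 0x10132b), (768, 130, 136, nat_lit 0x200f68, nat_lit 0x24c5a), (768, 136, 386, nat_lit 0x10f13, nat_lit 0x120d0d), (768, 514, 898, nat_lit 0x10f13, nat_lit 0x121992), (768, 520, 648, nat_lit 0x200f68, nat_lit 0x258c5), (768, 640, 258, nat_lit 0x10f13, nat_lit 0x1007b4), (768, 650, 8, nat_lit 0x200f68, nat_lit 0x46e3)]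

def rls : List (List ℕ) := [[0, 0, 0], [1, 1, 1, 1], [0, 0, 1, 0, 0, 1, 0, 0, 1, 0, 0, 1, 0, 0, 1]]

theorem h1_ok : allSub (fun x => allSub (fun y => bor (H13.anyL (fun u => oddOk (dM Ts [x, y] u)) rls)
    (H13.anyL (fun w => band (Nat.beq w.1 x) (Nat.beq w.2.1 y)) wit)) 0x38a 24 0) 0x38a 24 0 = true := by decide +kernel

theorem wit_ok : H13.allL (fun w => band (lamOk (w.1 ^^^ (w.2.2.1 ^^^ pm (nd 0 Ts 0) w.2.2.1)) w.2.2.2.1)
    (lamOk (w.2.1 ^^^ (w.2.2.1 ^^^ pm (nd 0 Ts 1) w.2.2.1)) w.2.2.2.2)) wit = true := by decide +kernel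

/-- an extension of `M23` by the code -/
structure Md {E : Type*} [Group E] (π : E →* M24) (L : E → Finset GolayPt) : Prop where
  rng : π.range = stS [23] [] []
  mul : ∀ a ∈ π.ker, ∀ b ∈ π.ker, L (a * b) = L a ∆ L b
  cj : ∀ g, ∀ n ∈ π.ker, L (g * n * g⁻¹) = π g • L n
  inj : ∀ a ∈ π.ker, ∀ b ∈ π.ker, L a = L b → a = b
  mem : ∀ n ∈ π.ker, L n ∈ Code ∧ none ∉ L n
  ex : ∀ s ∈ Code, none ∉ s → ∃ n ∈ π.ker, L n = s

namespace Md

variable {E : Type*} [Group E] {π : E →* M24} {L : E → Finset GolayPt} (M : Md π L)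
include M

theorem sur {g : M24} (h : g ∈ stS [23] [] []) : ∃ a, π a = g := M.rng.ge h

theorem one : L 1 = ∅ := by simpa using M.mul 1 (one_mem _) 1 (one_mem _)

theorem invC : ∃ a, π a = S24.el tC ∧ a * a = 1 := by
  obtain ⟨t, ht⟩ := M.sur (g := S24.el tC) ⟨fun b hb => inC.el_mem.1 b (by simp_all), by simp⟩
  obtain ⟨σ, hσ⟩ := M.sur in7.el_mem
  have hu : t * t ∈ π.ker := by
    rw [MonoidHom.mem_ker, map_mul, ht, ← inC.el_tm inC, ← el_idv (S := S24)]; exact congrArg _ (by decide +kernel)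
  have hn : σ * t * σ⁻¹ * t⁻¹ ∈ π.ker := by
    rw [MonoidHom.mem_ker, map_mul, map_mul, map_mul, map_inv, map_inv, ht, hσ, in7.conj_eq inC inC (by decide +kernel), mul_inv_cancel]
  have k : ∀ n ∈ π.ker, L (n * t * (n * t)) = (L n ∆ (S24.el tC • L n)) ∆ L (t * t) := fun n hn => by
    have c := π.normal_ker.conj_mem n hn t
    rw [← ht, ← M.cj t n hn, ← M.mul _ hn _ c, ← M.mul _ (mul_mem hn c) _ hu]
    congr 1; group
  have e1 := M.cj t _ hu
  have e2 := k _ hn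
  rw [show t * (t * t) * t⁻¹ = t * t by group, ht] at e1
  rw [show σ * t * σ⁻¹ * t⁻¹ * t * (σ * t * σ⁻¹ * t⁻¹ * t) = σ * (t * t) * σ⁻¹ by group, M.cj _ _ hu, hσ] at e2
  obtain ⟨a, ha, e3⟩ := mem_Code_iff.1 (M.mem _ hu).1
  obtain ⟨b, hb, e4⟩ := mem_Code_iff.1 (M.mem _ hn).1
  have c1 := (all2_iff _ _ _).1 pre_ok a ha
  have c2 := (all2_iff _ _ _).1 pre_ok b hb
  have e5 := (M.mem _ hu).2
  rw [e3, el24_smul inC] at e1
  rw [e3, e4, el24_smul inC, el24_smul in7, ← toSet_xor, ← toSet_xor] at e2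
  rw [e3, ← pt_23, pt_mem_toSet (by norm_num)] at e5
  have lt : ∀ T m, pm T m < 2 ^ 24 → True := fun _ _ _ => trivial
  have l7 : pm t7 (cw a) < 2 ^ 24 := in7.tb_el ▸ (SP_tab _).pm_lt _
  have lC : ∀ m, pm tC m < 2 ^ 24 := fun m => inC.tb_el ▸ (SP_tab _).pm_lt _
  have e1 := toSet_inj (cw_lt ha) (lC _) e1
  have e2 := toSet_inj l7 (xor_lt24 (xor_lt24 (cw_lt hb) (lC _)) (cw_lt ha)) e2
  simp only [H13.force_eq, band_iff, bor_iff, bn_iff, Nat.beq_eq, memL_iff] at c1 c2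
  obtain ⟨x, hx, e6⟩ := List.mem_map.1 ((c1.2.resolve_left (not_or.2 ⟨e5, not_not.2 e1.symm⟩)).resolve_left (not_not.2 (by
    rw [e2, show ∀ x y : ℕ, Nat.xor x (y ^^^ x) = y from fun x y => by
      change x ^^^ _ = _; rw [Nat.xor_comm y, Nat.xor_xor_cancel_left]]
    exact c2.1)))
  have c3 := H13.allL_iff.1 pre_ok' x hx
  simp only [band_iff, bn_iff, Nat.beq_eq] at c3
  obtain ⟨m, hm, e7⟩ := M.ex _ (toSet_mem_Code c3.1) (by rw [← pt_23, pt_mem_toSet (by norm_num)]; exact c3.2.1)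
  have h2 : π (m * t) = S24.el tC := by rw [map_mul, hm, one_mul, ht]
  refine ⟨m * t, h2, M.inj _ (by rw [MonoidHom.mem_ker, map_mul, h2, ← ht, ← map_mul]; exact hu) _ (one_mem _) ?_⟩
  rw [k m hm, e7, e3, el24_smul inC, ← toSet_xor, ← e6, ← c3.2.2, M.one]
  exact symmDiff_self _

theorem l_add (p : GolayPt) : AddOn π.ker fun n => ind (L n) p := fun a ha b hb => by
  beta_reduce; rw [M.mul a ha b hb, ind_symmDiff]; rfl

theorem l_cj (g : E) {n : E} (hn : n ∈ π.ker) (p : GolayPt) : ind (L (g⁻¹ * n * g)) p = ind (L n) ((π g : Equiv.Perm GolayPt) p) := by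
  have := M.cj g⁻¹ n hn
  rw [inv_inv] at this
  rw [this, map_inv]
  exact (congrFun (act_ind _ _) p).symm

theorem chiD : ∃ χ, AddOn ((S24.cl [tR, tS]).comap π) χ ∧ ∀ n ∈ π.ker, χ n = ind (L n) (pt 1) := by
  obtain ⟨c, hc, c2⟩ := M.invC
  obtain ⟨x, hx⟩ := M.sur inGR.el_mem
  obtain ⟨y, hy⟩ := M.sur inGS.el_mem
  obtain ⟨r, hr, r2⟩ : ∃ a, π a = S24.el tR ∧ a * a = 1 := ⟨x * c * x⁻¹, by
    rw [map_mul, map_mul, map_inv, hx, hc, inGR.conj_eq inC inR (by decide +kernel)], by rw [conj_mul, c2]; simp⟩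
  obtain ⟨s, hs, s2⟩ : ∃ a, π a = S24.el tS ∧ a * a = 1 := ⟨y * c * y⁻¹, by
    rw [map_mul, map_mul, map_inv, hy, hc, inGS.conj_eq inC inS (by decide +kernel)], by rw [conj_mul, c2]; simp⟩
  have e : (Subgroup.closure {r, s}).map π = S24.cl [tR, tS] := by
    rw [MonoidHom.map_closure, Set.image_pair, hr, hs, TS.cl]; congr 1; ext; simp [eq_comm]
  have fx : ∀ b, π b ∈ stS [23, 1] [] [] → ∀ n ∈ π.ker, ind (L (b * n * b⁻¹)) (pt 1) = ind (L n) (pt 1) := fun b hb n hn => by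
    have := M.l_cj b⁻¹ hn (pt 1)
    rw [inv_inv] at this
    rw [this, map_inv]
    exact congrArg _ ((inv_mem hb).1 1 (by simp))
  rw [← e, Subgroup.comap_map_eq, sup_comm]
  refine ext_compl (M.l_add _) (fun b hb => fx b ?_) fun n hn hb => ?_
  · have := cl_le (K := stS [23, 1] [0x800c75] []) (Ls := [tR, tS]) (by simp [inR, inS]) (e.le ⟨b, hb, rfl⟩)
    exact ⟨this.1, by simp⟩
  have u1 : π (r * s) = S24.el (tm 5 24 tR tS) := by rw [map_mul, hr, hs, inR.el_tm inS]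
  have u2 : π ((r * s) ^ 2) = S24.el tC := by
    rw [map_pow, u1, ← (inR.mul inS).el_tp]; exact congrArg _ (by decide +kernel)
  have o : orderOf (π (r * s)) = 2 ^ (1 + 1) := orderOf_eq_prime_pow (by
    rw [pow_one, ← map_pow, u2, ← el_idv (S := S24), inC.eq_iff (In.one (K := ⊤))]; decide +kernel) (by
    rw [show 2 ^ (1 + 1) = 2 + 2 from rfl, pow_add, ← map_pow, u2, ← hc, ← map_mul, c2, map_one])
  have ri : r * (r * s) * r⁻¹ = (r * s)⁻¹ := by
    rw [mul_inv_rev, ← mul_assoc, r2, one_mul, inv_eq_of_mul_eq_one_right s2]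
  have nf : ∃ i : ℤ, n = (r * s) ^ i ∨ n = (r * s) ^ i * r := by
    have z : ∀ i : ℤ, r * (r * s) ^ i = (r * s) ^ (-i) * r := fun i => by rw [zpow_neg, ← inv_zpow, ← ri, conj_zpow]; group
    clear hn
    induction hb using Subgroup.closure_induction with
    | mem x hx =>
      rcases hx with rfl | rfl
      · exact ⟨0, .inr (by simp)⟩
      · exact ⟨-1, .inr (by rw [zpow_neg_one, mul_inv_rev, inv_mul_cancel_right, inv_eq_of_mul_eq_one_right s2])⟩
    | one => exact ⟨0, .inl (by simp)⟩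
    | mul x y _ _ a b =>
      obtain ⟨i, rfl | rfl⟩ := a <;> obtain ⟨j, rfl | rfl⟩ := b
      · exact ⟨i + j, .inl (zpow_add _ _ _).symm⟩
      · exact ⟨i + j, .inr (by rw [zpow_add, mul_assoc])⟩
      · exact ⟨i + -j, .inr (by rw [zpow_add, mul_assoc, z, mul_assoc])⟩
      · exact ⟨i + -j, .inl (by rw [zpow_add, mul_assoc, ← mul_assoc r, z, mul_assoc, r2, mul_one])⟩
    | inv x _ a =>
      obtain ⟨i, rfl | rfl⟩ := a
      · exact ⟨-i, .inl (zpow_neg _ _).symm⟩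
      · exact ⟨i, .inr (by rw [mul_inv_rev, inv_eq_of_mul_eq_one_right r2, ← zpow_neg, z, neg_neg])⟩
  obtain ⟨i, rfl | rfl⟩ := nf
  · rw [MonoidHom.mem_ker, map_zpow, ← orderOf_dvd_iff_zpow_eq_one, o] at hn
    obtain ⟨j, rfl⟩ := hn
    have m : (r * s) ^ 2 * c⁻¹ ∈ π.ker := by rw [MonoidHom.mem_ker, map_mul, map_inv, u2, hc, mul_inv_cancel]
    have m' := π.normal_ker.conj_mem _ m c⁻¹⁻¹
    let W : Subgroup E :=
      { carrier := {n | n ∈ π.ker ∧ ind (L n) (pt 1) = 0}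
        one_mem' := ⟨one_mem _, (M.l_add _).one⟩
        mul_mem' := fun a b => ⟨mul_mem a.1 b.1, (M.l_add _ _ a.1 _ b.1).trans (by beta_reduce; rw [a.2, b.2, add_zero])⟩
        inv_mem' := fun {x} a => ⟨inv_mem a.1, by
          have := M.l_add (pt 1) _ a.1 _ (inv_mem a.1)
          rw [mul_inv_cancel] at this
          have := (M.l_add (pt 1)).one.symm.trans this
          beta_reduce at this
          rwa [a.2, zero_add, eq_comm] at this⟩ }
    rw [zpow_mul]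
    refine (W.zpow_mem (x := _) ⟨?_, ?_⟩ j).2 <;> rw [show (r * s) ^ (((2 ^ (1 + 1) : ℕ) : ℤ)) =
      (r * s) ^ 2 * c⁻¹ * (c⁻¹⁻¹ * ((r * s) ^ 2 * c⁻¹) * c⁻¹⁻¹⁻¹) by
        rw [inv_eq_of_mul_eq_one_right c2, inv_eq_of_mul_eq_one_right c2, inv_eq_of_mul_eq_one_right c2, mul_assoc, ← mul_assoc c,
          ← mul_assoc c, c2, one_mul, mul_assoc, c2, mul_one, ← pow_add, zpow_natCast]; rfl]
    · exact mul_mem m m'
    · exact (M.l_add _ _ m _ m').trans (by beta_reduce; rw [fx _ (by rw [inv_inv, hc]; exact inC.el_mem) _ m, z2])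
  · have : π r * π (r * s) = π (r * s) * π r := by
      rw [MonoidHom.mem_ker, map_mul, map_zpow, mul_eq_one_iff_inv_eq] at hn
      rw [← hn]; exact (((Commute.refl _).zpow_left i).inv_left).eq
    rw [hr, u1, ← inR.el_tm (inR.mul inS), ← (inR.mul inS).el_tm inR, (inR.mul (inR.mul inS)).eq_iff ((inR.mul inS).mul inR)] at this
    exact absurd this (by decide +kernel)

theorem st [Finite E] : ∃ F, St (M24.subtype.comp π) ((stS [23] [0x800c75] []).comap π) π.ker Λ F ∧ ∀ a, ∀ p ∉ toSet 0x7ff38a, F a p = 0 := by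
  obtain ⟨χ, a, b⟩ := M.chiD
  obtain ⟨χ, a, c⟩ := transf (U := (stS [23, 1] [0x800c75] []).comap π) (by
    rw [Subgroup.relIndex_comap, Subgroup.map_comap_eq_self (H := stS [23, 1] [0x800c75] []) (fun g h => M.rng.ge ⟨fun b hb => h.1 b (by simp_all), by simp⟩),
      relIndex_odd (TS.cl_le (by simp [inR, inS])) card_d (b := 315) card_k]; decide) a
  have d : ∀ n ∈ π.ker, χ n = ind (L n) (pt 1) := fun n hn => c n _ fun t ht =>
    have := π.normal_ker.conj_mem' n hn t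
    ⟨Subgroup.ker_le_comap _ _ this, (b _ this).trans ((M.l_cj t hn _).trans (congrArg _ (ht.1 1 (by simp))))⟩
  obtain ⟨F, e, f, g⟩ := shap (M24.subtype.comp π) ((stS [23] [0x800c75] []).comap π) (pt 1)
    (fun x hx h => (⟨by simpa using ⟨hx.1 23 (by simp), h⟩, hx.2⟩ : π x ∈ stS [23, 1] [0x800c75] [])) a
  have f : ∀ a, ∀ p ∉ toSet 0x7ff38a, F a p = 0 := fun a p hp => f a p fun t ht k => by
    have := (smul_mem_smul_finset_iff (π t) (s := toSet 0x800c75) (b := pt 1)).1 (by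
      rw [ht.2.1 _ List.mem_cons_self]
      exact (by decide +kernel : ∀ p ∉ toSet 0x7ff38a, p ∈ toSet 0x800c75) _ (k ▸ hp :))
    revert this; decide +kernel
  have k : ∀ n ∈ π.ker, F n = ind (L n ∩ toSet 0x7ff38a) := fun n hn => funext fun p => by
    by_cases hp : p ∈ toSet 0x7ff38a
    · obtain ⟨c, hc, rfl⟩ := reach_on (K := stS [23] [0x800c75] []) (b := 1) (in_stSL (Ls := [nat_lit 0xbd9d1a1eb3925e33120c428026942b, nat_lit 0xbb2c179e1343aa9101b1a2ca492866, nat_lit 0xbd0314c9ec43676316b07100a1ace2, nat_lit 0xbc5d09b2960d5e72152d1ad4090906, nat_lit 0xbca93a85103bd96281a38acc27112a, nat_lit 0xbd2d048e756c42f52dc8380c491582, nat_lit 0xbda7174a147d4e30092c0994b415a4, nat_lit 0xbdaac4860f8c9a8590f4988c0195ca, nat_lit 0xbcd2d742b261e9102c2341845b11ea, nat_lit 0xbd52c89e8173c72315b69808a40a0b, nat_lit 0xbca76a35e938d1512c2c718858022a, nat_lit 0xbcea96046f8ba871010db2cc48164a, nat_lit 0xb9eaf64609a59a8116411996072a64, nat_lit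 0xbc0f54cdf2731a320ac1418aa8828b, nat_lit 0xbbe2e38e6cb4930502814148668aab, nat_lit 0xbb63578d217321352e92418a4382c2]) (by decide +kernel))
        (by norm_num) (by decide +kernel) p hp
      obtain ⟨t, rfl⟩ := M.sur (g := c) ⟨hc.1, by simp⟩
      obtain ⟨s, -, h, k⟩ := g t hc
      refine (k n (by simp [MonoidHom.mem_ker.1 hn])).trans ((d _ (π.normal_ker.conj_mem' n hn s)).trans ((M.l_cj s hn _).trans ?_))
      exact (congrArg _ h).trans (by
        change ind _ (π t • pt 1) = ind _ (π t • pt 1)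
        simp only [ind, mem_inter, show π t • pt 1 ∈ toSet 0x7ff38a from hp, and_true])
    · rw [f n p hp]; simp [ind, hp]
  refine ⟨F, ⟨Subgroup.ker_le_comap _ _, inferInstance, fun n hn => by simp [MonoidHom.mem_ker.1 hn], e, fun x => ⟨?_, ?_⟩,
    fun n hn h => M.inj _ hn _ (one_mem _) (M.one ▸ Code_eq_empty (M.mem n hn).1 ?_)⟩, f⟩
  · rintro ⟨s, a, b, rfl⟩
    obtain ⟨n, hn, rfl⟩ := M.ex s a b
    exact ⟨n, hn, k n hn⟩
  · rintro ⟨n, hn, rfl⟩
    exact ⟨_, (M.mem n hn).1, (M.mem n hn).2, k n hn⟩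
  · rw [k n hn, ← ind_empty] at h
    refine (card_le_card (t := toSet 0xc75) fun p hp => ?_).trans_lt (by decide +kernel)
    exact (by decide +kernel : ∀ p ≠ none, p ∉ toSet 0x7ff38a → p ∈ toSet 0xc75) p (fun c => (M.mem n hn).2 (c ▸ hp))
      fun c => notMem_empty p (ind_inj h ▸ mem_inter.2 ⟨hp, c⟩)

theorem compl [Finite E] : ∃ A ≤ (stS [23] [0x800c75] []).comap π, A ⊓ π.ker = ⊥ ∧ π.ker ⊔ A = (stS [23] [0x800c75] []).comap π := by
  obtain ⟨F, S, f⟩ := M.st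
  choose g hg using fun i => M.sur (g := gT S24 Ts i) ⟨(gT_mem inT i).1, by simp⟩
  have m : ∀ i, g i ∈ (stS [23] [0x800c75] []).comap π := fun i => by rw [Subgroup.mem_comap, hg]; exact gT_mem inT i
  have a : ∀ i, ∃ x < 2 ^ 24, (∀ j, x.testBit j = true → Nat.testBit 0x38a j = true) ∧ F (g i) + ind (toSet x) ∈ Λ := fun i => by
    obtain ⟨t, a, b⟩ := red (support₂ (F (g i))) fun p hp => by_contra fun c => by simpa [f _ p c] using (mem_support₂ _ _).1 hp
    obtain ⟨x, hx, rfl⟩ := exists_toSet t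
    exact ⟨x, hx, fun j hj => by rw [← (toSet_subset_iff _ hx).1 a, Nat.testBit_and, Bool.and_eq_true] at hj; exact hj.2,
      ind_support (F (g i)) ▸ b⟩
  obtain ⟨x, x1, x2, x3⟩ := a 0
  obtain ⟨y, y1, y2, y3⟩ := a 1
  have c := allSub_spec _ _ _ _ (allSub_spec _ _ _ _ h1_ok x x1 x2) y y1 y2
  simp only [Nat.zero_or, bor_iff, H13.anyL_iff, band_iff, Nat.beq_eq] at c
  have ρ : (fun i => (M24.subtype.comp π) (g i)) = fun i => (gT S24 Ts i).1 := funext fun i => congrArg Subtype.val (hg i)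
  obtain ⟨u, hu, c⟩ | ⟨w, hw, rfl, rfl⟩ := c
  · have d := (by decide +kernel : ∀ u ∈ rls, (∀ i ∈ u, i = 0 ∨ i = 1) ∧ Nat.beq (tw 5 24 Ts u) (H13.idv 5 24) = true) u hu
    refine absurd (dW_eq inT _ u ▸ ρ ▸ S.rel (fun i hi => ⟨m i, ?_⟩) (evalW_ker inT hg d.2)) (not_lam c)
    rcases d.1 i hi with rfl | rfl
    exacts [x3, y3]
  obtain ⟨c, d⟩ := (band_iff _ _).1 (H13.allL_iff.1 wit_ok w hw)
  have k : ∀ i x c, F (g i) + ind (toSet x) ∈ Λ → lamOk (x ^^^ (w.2.2.1 ^^^ pm (nd (H13.idv 5 24) Ts i) w.2.2.1)) c = true →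
      g i ∈ (S.add (ind (toSet w.2.2.1))).sub := fun i x c h e => ⟨m i, by
    have := add_mem h (lam_of e)
    rw [toSet_xor, toSet_xor, ind_symmDiff, ind_symmDiff, ← el24_smul (in_nd inT i), add_assoc, ← add_assoc (ind _), f2, zero_add] at this
    beta_reduce
    rwa [congrFun ρ i, act_ind]⟩
  refine (S.add (ind (toSet w.2.2.1))).compl ?_
  have : S24.cl Ts ≤ (S.add (ind (toSet w.2.2.1))).sub.map π := cl_le' (List.forall_mem_cons.2 ⟨⟨_, k 0 _ _ x3 c, hg 0⟩,
    List.forall_mem_cons.2 ⟨⟨_, k 1 _ _ y3 d, hg 1⟩, by simp⟩⟩)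
  refine (Subgroup.comap_mono (cl_T.ge.trans this)).trans ((Subgroup.comap_map_eq _ _).le.trans (sup_le le_rfl fun n hn => ?_))
  exact ⟨S.le hn, (S.add _).mem hn⟩

end Md

/-- Extensions of the Mathieu group M₂₃ by its code module split. Let E be a finite group with a normal subgroup N, an isomorphism φ from E/N onto M₂₃ = `Spor.M23` (the stabiliser of the extra point `none` in M₂₄ acting on the 24 points `GolayPt`), and an injective additive homomorphism ψ from N onto the set of words of the binary Golay code `golayCode` that vanish at `none` (an 11-dimensional space over the field with two elements), such that conjugation by g ∈ E on N corresponds under ψ to the coordinate permutation w ↦ w ∘ σ⁻¹, σ the permutation φ(gN). Then N has a complement in E: some subgroup H meets N trivially and generates E together with N. (Equivalently, the second cohomology group of M₂₃ with coefficients in this module vanishes.) -/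
theorem result
    {E : Type*} [Group E] [Finite E] (N : Subgroup E) [hN : N.Normal]
    (φ : E ⧸ N ≃* ↥Cfsg.Spor.M23)
    (ψ : Additive ↥N →+ (Cfsg.GolayPt → ZMod 2)) (hinj : Function.Injective ψ)
    (hrange : ∀ w : Cfsg.GolayPt → ZMod 2, w ∈ Set.range ψ ↔ (w ∈ Cfsg.golayCode ∧ w none = 0))
    (hψ : ∀ (g : E) (n : ↥N),
      ψ (Additive.ofMul ⟨g * n * g⁻¹, hN.conj_mem n n.2 g⟩)
        = ψ (Additive.ofMul n) ∘ ⇑(((φ (QuotientGroup.mk g) : ↥Cfsg.Spor.M23) : Equiv.Perm Cfsg.GolayPt)⁻¹)) :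
    ∃ H : Subgroup E, H ⊓ N = ⊥ ∧ H ⊔ N = ⊤ := by
  classical
  let π : E →* M24 := (Subgroup.inclusion (inf_le_left : Spor.M23 ≤ M24)).comp (φ.toMonoidHom.comp (QuotientGroup.mk' N))
  have k : π.ker = N := (MonoidHom.ker_comp_of_injective _ _ (Subgroup.inclusion_injective _)).trans
    ((MonoidHom.ker_comp_of_injective _ φ.toMonoidHom φ.injective).trans (QuotientGroup.ker_mk' N))
  have M : Md π fun n => if h : n ∈ N then support₂ (ψ (Additive.ofMul ⟨n, h⟩)) else ∅ := by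
    refine ⟨le_antisymm ?_ fun g hg => ?_, ?_, ?_, ?_, ?_, ?_⟩
    · rintro _ ⟨a, rfl⟩
      exact ⟨by simpa using pt_23 ▸ (φ a).2.2, by simp⟩
    · obtain ⟨a, e⟩ := φ.surjective ⟨g, g.2, hg.1 23 (by simp)⟩
      obtain ⟨a, rfl⟩ := QuotientGroup.mk_surjective a
      exact ⟨a, Subtype.ext (congrArg Subtype.val e :)⟩
    all_goals rw [k]
    · intro a ha b hb
      refine ind_inj ?_
      rw [dif_pos (mul_mem ha hb), dif_pos ha, dif_pos hb, ind_symmDiff, ind_support, ind_support, ind_support, ← map_add]; rfl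
    · intro g n hn
      refine ind_inj ?_
      rw [dif_pos (hN.conj_mem n hn g), dif_pos hn, ind_support, hψ g ⟨n, hn⟩]
      exact (congrArg (act _) (ind_support _).symm).trans (act_ind _ _)
    · intro a ha b hb h
      rw [dif_pos ha, dif_pos hb] at h
      have := congrArg ind h
      rw [ind_support, ind_support] at this
      exact congrArg Subtype.val (hinj this)
    · intro n hn
      rw [dif_pos hn, support_mem_Code, mem_support₂, ((hrange _).1 ⟨_, rfl⟩).2]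
      exact ⟨((hrange _).1 ⟨_, rfl⟩).1, by simp⟩
    · intro s a b
      obtain ⟨n, e⟩ := (hrange (ind s)).2 ⟨mem_Code_iff_ind.1 a, by simp [ind, b]⟩
      exact ⟨n.toMul, n.toMul.2, by rw [dif_pos n.toMul.2]; exact (congrArg _ e).trans (support_ind s)⟩
  obtain ⟨A, a, b, c⟩ := M.compl
  have : IsMulCommutative π.ker := ⟨⟨fun x y => Subtype.ext (M.inj _ (x * y).2 _ (y * x).2 (by
    rw [Subgroup.coe_mul, Subgroup.coe_mul, M.mul _ x.2 _ y.2, M.mul _ y.2 _ x.2, symmDiff_comm]))⟩⟩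
  have p : IsPGroup 2 π.ker := fun x => ⟨1, Subtype.ext (M.inj _ (x ^ _).2 _ (one_mem _) (by
    rw [pow_one, sq, Subgroup.coe_mul, M.mul _ x.2 _ x.2, symmDiff_self]; exact M.one.symm))⟩
  obtain ⟨j, hj⟩ := IsPGroup.iff_card.1 p
  obtain ⟨H, h⟩ := S0051.result π.ker _ (Subgroup.ker_le_comap _ _) (by
    rw [hj, Subgroup.index_comap, M.rng, relIndex_odd (D := stS [23] [0x800c75] []) (K := stS [23] [] []) (fun g h => ⟨h.1, by simp⟩) card_h (b := 253) (stS_pt 23 ▸ card_stab_pt _)]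
    exact Nat.Coprime.pow_left _ (by norm_num)) A a b c
  exact ⟨H, k ▸ h.symm.disjoint.eq_bot, k ▸ h.symm.sup_eq_top⟩

end Cfsg.Agent.S2649
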