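import Mathlib
import Cfsg.Statements.S2650
import Cfsg.Agent.H14.Coc

set_option autoImplicit false
open Cfsg

namespace Cfsg.Agent.S2650

open H14 H14.Sh PK PK.TS RK Finset
open scoped Pointwise symmDiff

def TH : ℕ := nat_lit 0xdc95d3a02548496b93cd770883c2ea3e444e22427464c0bf47b683d10cd230bb5d58e0dfcdbef9cf0372102ccedcbaef202bf9af8d6c6be035f44ec6585113a26aaf5be70cddc23a2d040c5e093947cb4d026d4120b04aaf4c1f00683f4125ca2edce5ae0fd1fa3f4e42eff2e446a5cb2ba963273f9870d5600b92730a450c9c253fffa15df61d29bbf2af097095e445199350468267d95212903d3314cca31c24490cd8296995138478482801bd4d3f3360a41571cea33e48cc35ebf7256d6c826c6e9a5542070f38a2c37562d761ab5d93d130ebf81d691f202048000de9dee43f01b81e24202265374d040c611d320280bd73574d120c5143150700d35200efd41bf57eaa33c2e0e216d14a43ff19e51fbf0e7357714c0c50253a0778217335b10207611b31077883abfd20226c0abf7d0dddd02f2f145e626798f31fb7c441315fa5526751d2b8a798af2e5052ae6888054338c088b92a8fbaacd9b7f64a4cf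fffc3c9bd0a41e4e59a14d868b914a9ce105650e888ce68b50329ce487195709ca076fef819ce81503260cf24a4ca8417a3a6de200a6dfc6c5ba47cc802922aaf820411980a0bf6bd6914a86c9550380c445981b60c6f5f254606921c53e6f92012310411a4540bf7db4614d06eea6ea7a277c804912f574c82b0344244a8a1bd09f7df5e69015e66c006830d9f4b806148650ecbcec2868a678063842a85caf6c94692bf17e2fc37c905a61bdfe5251a4a6ede3381181e60e871bc4d2605678d50aff5fec96ed5b90085c141010140d1815bc0fdf5099123863487e535e3030b3abd6cec7129bc6d402520990023c6b0e28088109935ebf651c99100905982993a8cd38df13275c892a7a416e839136778176855376441841daf73de6c42b2a7805ff78bf1797f42abfc06662c5f37de7fbbd4979924f8fe699b2103fc4cc8015fc5d6aa4a63a88d440c9b00983fe73be159b3901a8a4a8333e07230e0a0cd001bd4f43b5677dc99631f36ce866c2733324ca841f80fab66c630819c35a6006670f705780820413685405e395c9e31e0f1b122647476f0d62754833b014cea81e227ce084763b748e91f5f86a7cd800424b9601483c84fe8845567031cf2a51062abd891dfe41c19db38a0f08f198b30aff794f2b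150ae2760178b0acc5543bff25edf71b711230881331b0568c1befd705d682bef780a2d96919a50af7498212d01ecc4175900f730f665dd1ccbaac46a4164a53f3265946074732f21faf9926ef68526b78ed252428c6c8906ba4125701e03faf4054d06b96518d9098f31ec8ab6d3207e3c91130452cf881fbe8eef8c8293b8534d481f924a17e4830002164a8e2e6cf6e46b2494ccd61945310cdf798395117453468801924f8f839093080acf4961928ef727689f81a9b440c99f0c63da99830c0280cab2fa837ac8d7595f7aa0a8779aac5bbb3ca6ec9ade57f04696bce53bf58ec4daf1adb5abffdfda61bdd9963e58cb1d9b81dd32df879298053820d832ced26f879068031424382080083cffb00ac6740b19dd7114b1548480bd11840079891838f7ff89151c0694b97485474e0a47f4ecf9eb51c500ffcb558ac472691dde6294310b0641db124080b663078b4e0187eaecfc73c6889834afff486b30068ce2c082bfccdc4ac25da81ddf69953307c4c5398831064d975962bfbcacfd8832224e92bb12e7b55d9b8833429025fe7279e9f0c71b22043e0ed2300a0036115394a86c88116052445855a3898ffb5f69434024e41a06bc49e59023223e444ec665b30c1d8183b817809ab6c1443ab5f81f03b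2bb5b07cfe6ca51c11aef192cd9afb62893b5f10f659a33dc862b98017cbe46b0f91479149a0bab183e4538ba53773c67973c4c11421449cff4f4325ce564d8c8ad2cac3e445cd2105c9163366544efb4483324c2ee3f55db7c4e694b1064e52f45b69117f346c22022371990e4090b9603521100c59bfb428d3afded91766235c962998414beecc9de53f534ffe63de1700d39212c492fef0c12ebf794f29b7fb4def381b9df7def971466be7335b14d8e911b3103800d60d5014d8c611d1d07604b849a009ff949712802e477356c020621b30864eee1b1613501140c906531c760b264d7714c05610331c60038790743780c86f6f7fde305d010cfb314090d2264f8397b16275c46859589f2ae49908998bdb84a145508513972064174ce02146d8c654ae29d75e9fa1f79525424b631949ce694946109dc71520891704d0316c9701228e29211a864495949b8881f1a83b1324d8d8d391c7f291cafe730bf9ca9d4b948ab8b789f13adfc159b1c7d6dc11d402079c9f5ee2a588dbb446b394365611ab70ebf7191a20857088a6ee1075a5650d8eb1d63374168371cd0cc98eb2f2a18adad2c9be885337066c2c95db9cdafd8afa5aa8fd08ddc117b9d8c80a2867c4c0e1444b044f0e3bd6db37a8e0d7f14140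a1a2a5ece3a407831a470767935b5010cc0610a0020e2ae2d9a12ec4c28aff5fed284bb40fbfe08a90743cceacd10dbb216d95913a2f86c5150db805ff6b5d6b97f8b68353b2a48441bafb73e41bdfc0a3e25af6ff9bedb3be4d71304893b9b64e8e971810820d0bcdbee52cd0926ae6f0022a0682007c6c820823902d0b14ccda2f14ad8939998f97598bd06067c68091940d03fd73dce9c4b4cc803af9bd45a14476c15b01b0a4694bad10c1ce44003738e71e9f2c3e0d30206739101a820848be0eb8632c382811421064be0c742caff2987fcce54c7786cd49cc2809070054c4883b94d87489d40423145af767f76648b60bd31893051918f49034d34e4329b1d72fcda60827185123002c58885968c8737615d31d0b0a0e9a38903448aa28230ce5f6e7fb3e44e2764b2c49fb39ad9a402b3d6783f6fab39e1bc2b1b0fcd68d540a1be787791480fc8eaa919287f18775030ff9a737210063c192ff801e028b7e6c65aa099932bd7165aea254c6481948a0bd7f9a297e6e213bf2b7135d0439943144e095abefb07b2101d9120320737997515d81c9093084546b961928a0f8086930452c6b939b54f97c042181d03a3f359c1c22240e46cefc470c858a22bc78090f1f4554d8939b68a77ac90f3381ac6880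1bd4a6f20ade712addf0df83af9bdb3713e27b1fd655f04fdd589fafcd7ddbf8bcbeee3b2d61483d42bc3b41439d835a0d6c81561a59e1840d430e760d7f16682c11d3205d01d931a00eafc28092805b4d6afff5056e95aff5a0a956015bb90fcb37773d318933671d5b3024d445f9c72d6367d47a9734c02be78cd658eafdf3676ae4eafd639dbc2eac41d218bccd6a1940a04a46df4452c995a13c7d8c85160ddd251102204460cc095fa828fb85d5386b73240297e9a3ee110b3022484d6151bb8a033261ffd58c3e01f497aca3100921466c09b35aeea2e2f73044a6c61e176751962099111304000ad1930f0440236095355d0d75aeb030824d41c2979b16c8813900c46a80b874d175a82415266448e866e7314ccbe2470f896b82a910f534c02a06849cff5ca159ce5843e2534f45ab73a6753dc48cb281d63273e4270d2088e8581f407806bcec281dac2c09adf50a5e9b7b52c0bbaea1d43b53baa27ebe6b2bae68f59c43aecc60f5901ec82e17a3ac4dfea4033445a38a5ba909ef266c9214251fc5fe9ccf78f114b1064ab0f9218408966055110002c4192ffa7d23681d3ffe75a83d93eedb41c8daaf3e2c595b93efbb42cd38df662ff1e7bce97f6c24767e8056cc2a2fb8bd4aae059ec6de0ffb6d13ccd2f19de5fbf0c07ab1e933a21a025a1a0cc733605020760c13100104cd542f7c5d45bc052e9f50c11c9ee94b111a026644050ffd6e1634d1e79f19fdf5c72d4c9140c90811600080ff606fd6802fda6981262b5cdd20fc41818331220009acdb0cf8a13290d1920006cbfed0c002d0800000000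

/-- the cocycle of the Parker loop -/
def th (c d : Finset GolayPt) : ZMod 2 := sm (ind (toSet (H13.get 11 TH (enc c &&& 0x7ff)))) d

def thN (m d : ℕ) : ℕ := pc (Nat.land d (H13.get 11 TH (Nat.land m 0x7ff)))

theorem th_eq (c d : Finset GolayPt) : th c d = thN (enc c) (enc d) := by
  rw [th, ← toSet_enc d, sm_toSet _ (enc_lt _), toSet_enc]; rfl

def be (g : Spor.M23) (c d : Finset GolayPt) : ZMod 2 := th c d + th (g⁻¹ • c) (g⁻¹ • d)

theorem ssd (g : Spor.M23) (c d : Finset GolayPt) : g • (c ∆ d) = (g • c) ∆ (g • d) := smul_symmDiff' g.1 c d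

theorem be_add (g : Spor.M23) (c d e : Finset GolayPt) : be g c (d ∆ e) = be g c d + be g c e := by
  simp only [be, th, ssd, sm_symmDiff]; ring

/-- the standard automorphisms -/
def EE : Subgroup (SD (rho C0)) where
  carrier := {a | ∀ c d e : C0, e.1 = c.1 ∆ d.1 → a.f e = a.f c + a.f d + be a.g c d}
  one_mem' c d e _ := show (0 : ZMod 2) = 0 + 0 + (th c d + th ((1 : Spor.M23)⁻¹ • c) ((1 : Spor.M23)⁻¹ • d)) by simp [z2]
  mul_mem' {a b} ha hb c d e h := by
    have h1 := ha c d e h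
    have h2 := hb (a.g⁻¹ • c) (a.g⁻¹ • d) (a.g⁻¹ • e) (by simp [h, ssd])
    change a.f e + b.f (a.g⁻¹ • e) = a.f c + b.f (a.g⁻¹ • c) + (a.f d + b.f (a.g⁻¹ • d)) + be (a.g * b.g) c d
    simp only [be, SubMulAction.val_smul, mul_inv_rev, mul_smul] at h1 h2 ⊢
    linear_combination h1 + h2 + z2 (th (a.g⁻¹ • c) (a.g⁻¹ • d))
  inv_mem' {a} ha c d e h := by
    have h1 := ha (a.g • c) (a.g • d) (a.g • e) (by simp [h, ssd])
    change a.f (a.g⁻¹⁻¹ • e) = a.f (a.g⁻¹⁻¹ • c) + a.f (a.g⁻¹⁻¹ • d) + be a.g⁻¹ c d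
    simp only [be, SubMulAction.val_smul, inv_inv, inv_smul_smul] at h1 ⊢
    linear_combination h1

def tfN (T m : ℕ) : ℕ := Nat.land (Nat.shiftRight T (Nat.land m 0x7ff)) 1

def tf (T : ℕ) (c : C0) : ZMod 2 := tfN T (enc c)

def ev (n : ℕ) : Bool := Nat.beq (Nat.mod n 2) 0

theorem ev_spec {n : ℕ} (h : ev n = true) : (n : ZMod 2) = 0 :=
  (ZMod.natCast_eq_zero_iff _ _).2 (Nat.dvd_of_mod_eq_zero (Nat.eq_of_beq_eq_true h))

noncomputable def pOk (FT m m' b b' : ℕ) : Bool := H13.force (Nat.add (thN m b) (thN m' b')) fun x =>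
  band (ev (Nat.add (Nat.add (tfN FT (Nat.xor m b)) (Nat.add (tfN FT m) (tfN FT b))) x)) (ev (Nat.add x (Nat.add (thN b m) (thN b' m'))))

theorem pOk_spec {FT m m' b b' : ℕ} (h : pOk FT m m' b b' = true) :
    (tfN FT (m ^^^ b) : ZMod 2) + (tfN FT m + tfN FT b + (thN m b + thN m' b')) = 0 ∧
      (thN m b + thN m' b' : ZMod 2) + (thN b m + thN b' m') = 0 := by
  rw [pOk, H13.force_eq, band_iff] at h
  have a := ev_spec h.1
  have b := ev_spec h.2
  simp only [Nat.add_eq, Nat.cast_add] at a b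
  exact ⟨(add_assoc _ _ _).symm.trans a, b⟩

noncomputable def qOk (U FT V m : ℕ) : Bool := H13.force (pm U m) fun m' =>
  allLt 11 fun j => H13.force (bs j) fun b => H13.force (tbl 24 0x1000000 V j) fun b' => pOk FT m m' b b'

theorem qOk_spec {U FT V m j : ℕ} (h : qOk U FT V m = true) (hj : j < 11) : pOk FT m (pm U m) (bs j) (tbl 24 0x1000000 V j) = true := by
  rw [qOk, H13.force_eq, allLt_iff] at h
  have := h j hj
  rwa [H13.force_eq, H13.force_eq] at this

noncomputable def gOk (T FT V : ℕ) : Bool := H13.force (ti 5 24 T) fun U => H13.force FT fun FT =>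
  band (band (ev (tfN FT 0)) (allLt 11 fun j => Nat.beq (pm U (bs j)) (tbl 24 0x1000000 V j))) (allC0 (qOk U FT V))

theorem z2' {a b : ZMod 2} (h : a + b = 0) : a = b := by rw [← add_zero a, ← z2 b, ← add_assoc, h, zero_add]

theorem mem_EE {T FT V : ℕ} (hT : S23.In ⊤ T) (h : gOk T FT V = true) : (⟨tf FT, S23.el T⟩ : SD (rho C0)) ∈ EE := by
  rw [gOk, H13.force_eq, H13.force_eq, band_iff, band_iff, allLt_iff] at h
  obtain ⟨⟨h0, h1⟩, h⟩ := h
  intro c d e he
  change (tfN FT (enc e) : ZMod 2) = tfN FT (enc c) + tfN FT (enc d) + be (S23.el T) c d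
  rw [he]
  refine (C0_ind (P := fun d => d ∈ C0 ∧ (∀ c ∈ C0, ∀ e ∈ C0, be (S23.el T) (c ∆ e) d = be (S23.el T) c d + be (S23.el T) e d) ∧
    ∀ c ∈ C0, (tfN FT (enc (c ∆ d)) : ZMod 2) = tfN FT (enc c) + tfN FT (enc d) + be (S23.el T) c d) ?_ (fun j hj => ?_) ?_ d d.2).2.2 c c.2
  · have : enc ∅ = 0 := by rw [← toSet_zero, enc_toSet (by norm_num)]
    refine ⟨⟨Code_empty, by simp⟩, by simp [be, th, sm], fun c _ => ?_⟩
    rw [this, ev_spec h0, show c ∆ ∅ = c from symmDiff_bot c]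
    simp [be, th, sm]
  · have k : ∀ c ∈ C0, (tfN FT (enc (c ∆ toSet (bs j))) : ZMod 2) = tfN FT (enc c) + tfN FT (enc (toSet (bs j))) + be (S23.el T) c (toSet (bs j)) ∧
        be (S23.el T) c (toSet (bs j)) = be (S23.el T) (toSet (bs j)) c := fun c hc => by
      have := pOk_spec (qOk_spec (allC0_spec h hc) hj)
      rw [← Nat.eq_of_beq_eq_true (h1 j hj)] at this
      simp only [be, th_eq, enc_symmDiff, enc_inv hT, enc_toSet (mem_C0 (bs_mem j hj)).2]
      exact ⟨z2' this.1, z2' this.2⟩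
    exact ⟨(mem_C0 (bs_mem j hj)).1, fun c hc e he => by
      rw [(k _ (C0_symmDiff hc he)).2, (k _ hc).2, (k _ he).2, be_add], fun c hc => (k c hc).1⟩
  · rintro s t ⟨a, b, c⟩ ⟨d, e, f⟩
    refine ⟨C0_symmDiff a d, fun x hx y hy => by simp only [be_add, b x hx y hy, e x hx y hy]; ring, fun x hx => ?_⟩
    rw [← symmDiff_assoc, f _ (C0_symmDiff hx a), c x hx, f _ a, e x hx s a, be_add]
    ring

def Fs : List ℕ := [nat_lit 0xaa5aa555aa5aa55555a5a555aa5a5aaa55a55aaaaa5aa555aa5a5aaaaa5a5aaaaa5aa555aa5aa55555a5a555aa5a5aaa55a55aaaaa5aa555aa5a5aaaaa5a5aaa00f00fff00f00fffff0f0fff00f0f000ff0ff00000f00fff00f0f00000f0f00000f00fff00f00fffff0f0fff00f0f000ff0ff00000f00fff00f0f00000f0f00055a55aaa55a55aaa55a5a555aa5a5aaaaa5aa55555a55aaaaa5a5aaaaa5a5aaa55a55aaa55a55aaa55a5a555aa5a5aaaaa5aa55555a55aaaaa5a5aaaaa5a5aaaff0ff000ff0ff000ff0f0fff00f0f00000f00fffff0ff00000f0f00000f0f000ff0ff000ff0ff000ff0f0fff00f0f00000f00fffff0ff00000f0f00000f0f000,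 nat_lit 0x21de21de21de21de7b7b7b7b7b7b7b7b12ed12eded12ed1248484848b7b7b7b7edededed1212121248b748b7b748b748dededededededede7b847b847b847b841d1d1d1de2e2e2e2b847b84747b847b82e2e2e2e2e2e2e2e8b748b748b748b742ed12ed12ed12ed174747474747474741de21de2e21de21d47474747b8b8b8b8d12ed12e2ed12ed1747474748b8b8b8be21de21de21de21d47474747474747471d1d1d1d1d1d1d1d47b847b847b847b82e2e2e2ed1d1d1d1748b748b8b748b74ededededededededb748b748b748b748dededede21212121847b847b7b847b84de21de2121de21de7b7b7b7b84848484ed12ed12ed12ed124848484848484848]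

theorem lift (i : ℕ) (hi : i < 2) : (⟨tf (nd 0 Fs i), gT S23 [t23, t5] i⟩ : SD (rho C0)) ∈ EE := by
  obtain rfl | rfl : i = 0 ∨ i = 1 := by omega
  · exact mem_EE (V := nat_lit 0x293e003da1001ed0800f684007b4202ae4103c4c083718041b8c0224f801527c00) (in_nd inG 0) (by decide +kernel)
  · exact mem_EE (V := nat_lit 0x66489032c94019c0583c4c083008dc2a40e81ed08016a81804cac83e00522c8099) (in_nd inG 1) (by decide +kernel)

def pE : EE →* Spor.M23 := (SD.pr _).comp EE.subtype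

theorem pE_surj : Function.Surjective pE := MonoidHom.range_eq_top.1 (top_le_iff.1 (cl23.ge.trans (cl_le'
  (List.forall_mem_cons.2 ⟨⟨⟨_, lift 0 (by norm_num)⟩, rfl⟩, List.forall_mem_cons.2 ⟨⟨⟨_, lift 1 (by norm_num)⟩, rfl⟩, by simp⟩⟩))))

theorem be_one (c d : Finset GolayPt) : be 1 c d = 0 := by simp [be, z2]

def θ : (GolayPt → ZMod 2) →+ Additive pE.ker :=
  AddMonoidHom.mk' (fun w => Additive.ofMul ⟨⟨⟨lam C0 w, 1⟩, fun c d e h => by
    rw [be_one, add_zero]; exact (congrArg (sm w) h).trans (sm_symmDiff _ _ _)⟩, rfl⟩)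
    fun v w => Subtype.ext (Subtype.ext (SD.ext (show lam C0 (v + w) = lam C0 v + act (rho C0 1) (lam C0 w) by rw [map_one, act_one, map_add]) (mul_one _).symm))

theorem θ_surj : Function.Surjective θ := fun n => by
  have e : n.toMul.1.1.g = 1 := n.toMul.2
  obtain ⟨w, h⟩ := ex_lam (f := n.toMul.1.1.f) fun c d e' h => by rw [n.toMul.1.2 c d e' h, e, be_one, add_zero]
  exact ⟨w, Subtype.ext (Subtype.ext (SD.ext h e.symm))⟩

noncomputable def wS (u : List ℕ) : ℕ → ℕ := List.rec (fun _ => 0) (fun a _ ih m =>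
  H13.force (pm (ti 5 24 (nd (H13.idv 5 24) [t23, t5] a)) m) fun m' => Nat.add (tfN (nd 0 Fs a) m) (ih m')) u

noncomputable def wM (i : ℕ) (u : List ℕ) : ℕ → ℕ := List.rec (fun _ => 0) (fun a _ ih m =>
  H13.force (pm (ti 5 24 (nd (H13.idv 5 24) [t23, t5] a)) m) fun m' => Nat.xor (bif' (Nat.beq a i) m 0) (ih m')) u

theorem wS_cons (a : ℕ) (u : List ℕ) (m : ℕ) :
    wS (a :: u) m = tfN (nd 0 Fs a) m + wS u (pm (ti 5 24 (nd (H13.idv 5 24) [t23, t5] a)) m) := H13.force_eq _ _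

theorem wM_cons (i a : ℕ) (u : List ℕ) (m : ℕ) :
    wM i (a :: u) m = bif' (Nat.beq a i) m 0 ^^^ wM i u (pm (ti 5 24 (nd (H13.idv 5 24) [t23, t5] a)) m) := H13.force_eq _ _

theorem walk {h : ℕ → EE} (hg : ∀ i, pE (h i) = gT S23 [t23, t5] i) {w : ℕ → GolayPt → ZMod 2}
    (hw : ∀ i < 2, (h i).1.f = tf (nd 0 Fs i) + lam C0 (w i)) (u : List ℕ) (hu : ∀ i ∈ u, i < 2) (c : C0) :
    (H13.evalW h u).1.f c = wS u (enc c) + (sm (w 0) (toSet (wM 0 u (enc c))) + sm (w 1) (toSet (wM 1 u (enc c)))) := by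
  induction u generalizing c with
  | nil => exact (by simp [toSet_zero, sm] : (0 : ZMod 2) = (0 : ℕ) + (sm (w 0) (toSet 0) + sm (w 1) (toSet 0)))
  | cons a u ih =>
    obtain ⟨b, d⟩ := List.forall_mem_cons.1 hu
    have e : enc ((pE (h a))⁻¹ • c : C0) = pm (ti 5 24 (nd (H13.idv 5 24) [t23, t5] a)) (enc c) := by
      rw [hg]; exact enc_inv (in_nd inG a) c
    rw [wS_cons, wM_cons, wM_cons]
    change (h a).1.f c + (H13.evalW h u).1.f ((pE (h a))⁻¹ • c) = _
    rw [ih d, e, hw a b, toSet_xor, toSet_xor, sm_symmDiff, sm_symmDiff, Nat.cast_add, Pi.add_apply, tf]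
    obtain rfl | rfl : a = 0 ∨ a = 1 := by omega
    · change _ + sm _ _ + _ = _ + (sm _ (toSet (enc _)) + _ + (sm _ (toSet 0) + _))
      rw [toSet_enc, toSet_zero, show sm (w 1) ∅ = 0 from rfl]; ring
    · change _ + sm _ _ + _ = _ + (sm _ (toSet 0) + _ + (sm _ (toSet (enc _)) + _))
      rw [toSet_enc, toSet_zero, show sm (w 0) ∅ = 0 from rfl]; ring

theorem nonsplit (H : Subgroup EE) (h1 : H ⊓ pE.ker = ⊥) : H ⊔ pE.ker ≠ ⊤ := fun h2 => by
  have a : ∀ i, ∃ x ∈ H, pE x = gT S23 [t23, t5] i := fun i => by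
    obtain ⟨x, e⟩ := pE_surj (gT S23 [t23, t5] i)
    obtain ⟨y, hy, n, hn, rfl⟩ := Subgroup.mem_sup_of_normal_right.1 (h2.ge (Subgroup.mem_top x))
    exact ⟨y, hy, by rwa [map_mul, hn, mul_one] at e⟩
  choose h hh hg using a
  have b : ∀ i < 2, ∃ w, (h i).1.f = tf (nd 0 Fs i) + lam C0 w := fun i hi => by
    obtain ⟨w, e⟩ := θ_surj (Additive.ofMul ⟨h i * (⟨_, lift i hi⟩ : EE)⁻¹, by rw [MonoidHom.mem_ker, map_mul, map_inv, hg]; exact mul_inv_cancel _⟩)
    have e : (θ w).toMul.1 * ⟨_, lift i hi⟩ = h i := by rw [e]; exact inv_mul_cancel_right _ _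
    refine ⟨w, ?_⟩
    rw [← e, add_comm]
    exact (show lam C0 w + act (rho C0 1) _ = _ by rw [map_one, act_one])
  choose! w hw using b
  have q : ∀ u x, ((∀ i ∈ u, i < 2) ∧ isC0 x = true ∧ Nat.beq (tw 5 24 [t23, t5] u) (H13.idv 5 24) = true) → ∀ {s A B : ℕ},
      (s : ZMod 2) + (sm (w 0) (toSet A) + sm (w 1) (toSet B)) = 0 →
      ((s + wS u x : ℕ) : ZMod 2) + (sm (w 0) (toSet (A ^^^ wM 0 u x)) + sm (w 1) (toSet (B ^^^ wM 1 u x))) = 0 := fun u x k s A B e => by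
    have := walk hg hw u k.1 ⟨_, (mem_C0 k.2.1).1⟩
    rw [Subgroup.mem_bot.1 (h1.le ⟨H13.evalW_mem fun i _ => hh i, evalW_ker inG hg k.2.2⟩), enc_toSet (mem_C0 k.2.1).2] at this
    change (0 : ZMod 2) = _ at this
    rw [toSet_xor, toSet_xor, sm_symmDiff, sm_symmDiff, Nat.cast_add]
    linear_combination e - this
  have q0 : ((0 : ℕ) : ZMod 2) + (sm (w 0) (toSet 0) + sm (w 1) (toSet 0)) = 0 := by simp [toSet_zero, sm]
  have z : ∀ {s A B : ℕ}, (s : ZMod 2) + (sm (w 0) (toSet A) + sm (w 1) (toSet B)) = 0 → ¬ (ev (s + 1) = true ∧ A = 0 ∧ B = 0) := by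
    rintro s _ _ e ⟨f, rfl, rfl⟩
    have := ev_spec f
    rw [← add_zero (s : ZMod 2), ← q0, Nat.cast_zero, zero_add, ← add_assoc] at e
    simp only [toSet_zero, sm, sum_empty, add_zero] at e
    rw [Nat.cast_add, e] at this
    exact absurd this (by decide)
  exact z (q [1, 1, 1, 1, 1] 0x24f801 (by decide +kernel) (q [0, 0, 0, 1, 1, 0, 0, 0, 1, 1, 0, 0, 0, 1, 1, 0, 0, 0, 1, 1, 0, 0, 0, 1, 1, 0, 0, 0, 1, 1] 0x24f801 (by decide +kernel) (q [0, 0, 1, 1, 1, 0, 0, 1, 1, 1, 0, 0, 1, 1, 1, 0, 0, 1, 1, 1, 0, 0, 1, 1, 1, 0, 0, 1, 1, 1, 0, 0, 1, 1, 1] 0x3da100 (by decide +kernel) (q [0, 1, 1, 1, 0, 1, 1, 1, 0, 1, 1, 1, 0, 1, 1, 1, 0, 1, 1, 1, 0, 1, 1, 1, 0, 1, 1, 1] 0x6d0803 (by decide +kernel) (q [0, 1, 1, 0, 1, 1, 0, 1, 1, 0, 1, 1, 0, 1, 1] 0x6d0803 (by decide +kernel) q0))))) (by decide +kernel)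

/-- A non-split extension of the Mathieu group M₂₃ by its cocode module exists. There is a finite group E with a normal subgroup N, an isomorphism φ from E/N onto M₂₃ = `Spor.M23` (the stabiliser of the extra point `none` in M₂₄ acting on the 24 points `GolayPt`), and a surjective additive homomorphism θ from the binary words on `GolayPt` onto N whose kernel consists of the words of the Golay code `golayCode` and their translates by the unit vector at `none` (so N is elementary abelian of order 2¹¹), such that θ carries the coordinate permutation w ↦ w ∘ σ⁻¹, σ = φ(gN), to conjugation by g on N — and such that N has no complement in E. -/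
theorem result :
    ∃ (E : Type) (_ : Group E) (_ : Finite E) (N : Subgroup E) (_ : N.Normal)
      (φ : E ⧸ N ≃* ↥Cfsg.Spor.M23) (θ : (Cfsg.GolayPt → ZMod 2) →+ Additive ↥N),
      Function.Surjective θ ∧
      (∀ w : Cfsg.GolayPt → ZMod 2, θ w = 0 ↔ (w ∈ Cfsg.golayCode ∨ w + Pi.single none 1 ∈ Cfsg.golayCode)) ∧
      (∀ (g : E) (w : Cfsg.GolayPt → ZMod 2),
        ((θ (w ∘ ⇑(((φ (QuotientGroup.mk g) : ↥Cfsg.Spor.M23) : Equiv.Perm Cfsg.GolayPt)⁻¹))).toMul : E)
          = g * ((θ w).toMul : E) * g⁻¹) ∧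
      ∀ H : Subgroup E, H ⊓ N = ⊥ → H ⊔ N ≠ ⊤ := by
  refine ⟨EE, inferInstance, inferInstance, pE.ker, inferInstance, QuotientGroup.quotientKerEquivOfSurjective _ pE_surj, θ, θ_surj,
    fun w => ?_, fun g w => Subtype.ext (SD.ext ?_ ?_), nonsplit⟩
  · rw [ker_iff]
    exact ⟨fun h c hc => congrFun (congrArg (fun n => n.toMul.1.1.f) h) ⟨c, hc⟩,
      fun h => Subtype.ext (Subtype.ext (SD.ext (funext fun c => h c c.2) rfl))⟩
  · change lam C0 (act g.1.g.1 w) = g.1.f + act (rho C0 g.1.g) (lam C0 w) + act (rho C0 (g.1.g * 1)) (act (rho C0 g.1.g⁻¹) g.1.f)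
    rw [← act_mul, ← map_mul, mul_one, mul_inv_cancel, map_one, act_one, act_lam, add_right_comm, f2, zero_add]
  · change 1 = g.1.g * 1 * g.1.g⁻¹
    simp

end Cfsg.Agent.S2650
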