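import Mathlib
import Cfsg.Statements.S2652
import Cfsg.Agent.H13.J23

set_option autoImplicit false
open Cfsg

namespace Cfsg.Agent.S2652

/-- Let T be a Sylow 2-subgroup of the Fischer group Fi₂₃ (the finitely presented group `Spor.Fi23`; T has order 2¹⁸). Then every elementary abelian subgroup of Fi₂₃ contained in T and normal in T has order at most 2¹¹, and there is exactly one such subgroup of order 2¹¹. -/
theorem result
    (T : Sylow 2 Cfsg.Spor.Fi23) :
    (∀ A : Subgroup Cfsg.Spor.Fi23, A ≤ T → (A.subgroupOf T).Normal → Cfsg.IsElementaryAbelian 2 A →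
        Nat.card A ≤ 2 ^ 11) ∧
    ∃! A : Subgroup Cfsg.Spor.Fi23, A ≤ T ∧ (A.subgroupOf T).Normal ∧ Cfsg.IsElementaryAbelian 2 A ∧
        Nat.card A = 2 ^ 11 := by
  obtain ⟨A, B⟩ := H13.J23.bse H13.M23.mo T
  refine ⟨fun E a _ c => B.cd ▸ (le_total _ _).elim id fun q => B.ja.2.2 E a c q ▸ le_rfl, A,
    ⟨B.ja.1, (Subgroup.normal_subgroupOf_iff_le_normalizer B.ja.1).2 B.ja.nm, B.ja.2.1, B.cd⟩, fun E q => ?_⟩
  exact B.ja.2.2 E q.1 q.2.2.1 (B.cd.trans q.2.2.2.symm).le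

end Cfsg.Agent.S2652
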