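import Cfsg.Statements.S2660
import Cfsg.Agent.H11.AltSec
-- import your own Cfsg.Agent.* helpers here

set_option autoImplicit false
open scoped MatrixGroups
open Cfsg

namespace Cfsg.Agent.S2660
open H11 Cfsg.Lie

/-- orbit labels -/
def I (v : Fin 4 → ZMod 5) : ℕ := lk 0x1060706010103040403060604080407090704040609090603060e100e060a060f0f0606060408040f0e0f08080f10100f0407101310070b091010090b0b070f0707090704040f10100f04060e100e060b091010091111090e090b110b0606060909060301060706010a060f0f060b0b070f070b110b06060a0b0b0a01060b110b060c060d0d0606060408040d0b0d08080d11110d0404070907040602070702060604080404020405050807070805080f0e0f080d070e0e070b0b070f070d0b0d0808080707080504070907040d070e0e071111090e0911121107070d11110d04060b110b0606020707020b0b070f0711121107070b12120b0207111211070e091111090e0e070d0707090704040d11110d04080d0b0d080f070b0b070e0e070d070f0e0f0808080707080505040204050804060604070702060207090704040807070805080d0b0d0808040606040d0d060c060b110b06060d11110d0407111211070f070b0b0707070206020b110b06060b12120b02060b110b060e091111091010090b090e100e0606060909060304070907040f070b0b071010090b0910131007070f10100f04080f0e0f0808040606040f0f060a060e100e06060f10100f0404070907040804060604040403010306070601010609090603060b110b060f070b0b070f0f060a0606070601010a0b0b0a0101060706010c060d0d060e0e070d070e100e06060c0e0e0c01060e100e0606020707020e0e070d0710131007070e13130e0207101310070d070e0e0707070206020e100e06060e13130e02060e100e060d070e0e070d0d060c0606070601010c0e0e0c0101060706010602070702070702060206070601010102020100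 8 255 ((v 0).val + 5 * (v 1).val + 25 * (v 2).val + 125 * (v 3).val)

theorem inv : ∀ a b c d : ZMod 5, I ![b - a, b, c, d] = I ![a, b, c, d] ∧ I ![a, a + c + d - b, c, d] = I ![a, b, c, d] ∧
    I ![a, b, b - c, d] = I ![a, b, c, d] ∧ I ![a, b, c, b - d] = I ![a, b, c, d] := by decide +kernel

theorem eta (v : Fin 4 → ZMod 5) : ![v 0, v 1, v 2, v 3] = v := funext fun k => by fin_cases k <;> rfl

theorem inv' (i : Fin 4) (v : Fin 4 → ZMod 5) :
    I (fun k => v k - if i = k then ∑ j : Fin 4, v j * (chevD4.cartan j (chevD4.simple i) : ZMod 5) else 0) = I v := by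
  have := inv (v 0) (v 1) (v 2) (v 3)
  rw [eta] at this
  simp only [cartanD4]
  fin_cases i
  · refine Eq.trans (congrArg I (funext fun k => ?_)) this.1; fin_cases k <;> simp [Fin.sum_univ_four]; ring
  · refine Eq.trans (congrArg I (funext fun k => ?_)) this.2.1; fin_cases k <;> simp [Fin.sum_univ_four]; ring
  · refine Eq.trans (congrArg I (funext fun k => ?_)) this.2.2.1; fin_cases k <;> simp [Fin.sum_univ_four]; ring
  · refine Eq.trans (congrArg I (funext fun k => ?_)) this.2.2.2; fin_cases k <;> simp [Fin.sum_univ_four]; ring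

theorem fin : ∀ e a b c d : ZMod 5, e ≠ 0 → I ![2 * a, 2 * b, 2 * c, 2 * d] = I ![a, b, c, d] →
    I ![d * e, b * e, a * e, c * e] = I ![a, b, c, d] → ![a, b, c, d] = 0 := by decide +kernel

theorem fin' {q : ℕ} (hq : (q : ZMod 5) ≠ 0) (v : Fin 4 → ZMod 5) (h1 : I (((2 : ℕ) : ZMod 5) • v) = I v)
    (h2 : I (Matrix.vecMul v ((Matrix.of fun i j : Fin 4 => if (![2, 1, 3, 0] : Fin 4 → Fin 4) i = j then (q : ℤ) else 0).map (↑))) = I v) : v = 0 := by
  refine eta v ▸ fin q _ _ _ _ hq (by
      rw [eta, ← h1]; refine congrArg I (funext fun k => ?_); fin_cases k <;> simp) (by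
      rw [eta, ← h2]; refine congrArg I (funext fun k => ?_)
      fin_cases k <;> simp [Matrix.vecMul, dotProduct, Fin.sum_univ_four])

/-- the frame -/
def β (i : Node chevD4) : Root chevD4 := (![18, 13, 12, 23] : Fin 4 → Fin 24) i

/-- auxiliary roots -/
def γ (i : Node chevD4) : Root chevD4 := (![19, 16, 15, 14] : Fin 4 → Fin 24) i

/-- inverse matrix -/
def X : Matrix (Node chevD4) (Node chevD4) ℤ := lmat 4 [[2, 0, 0, 0], [-1, -1, -1, 1], [0, 2, 0, 0], [0, 0, 2, 0]]

theorem even : ∀ ψ ∈ ([([1, 0, 1, 0].getD · 0), ([1, 0, 0, 1].getD · 0), ([0, 0, 1, 1].getD · 0)] : List (Node chevD4 → ℤ)),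
    ∀ r : Root chevD4, fv ψ r % 2 = 0 % 2 := by decide +kernel

theorem det_ne : (Matrix.of fun i j => cor (β i) j).det ≠ 0 := by
  have : (Matrix.of fun i j => cor (β i) j) * X = (2 : ℤ) • (1 : Matrix (Node chevD4) (Node chevD4) ℤ) := by decide +kernel
  intro h
  have := congrArg Matrix.det this
  rw [Matrix.det_mul, h, zero_mul, Matrix.det_smul] at this
  simp only [Matrix.det_one, mul_one] at this
  exact pow_ne_zero _ two_ne_zero this.symm

/-- Alternating sections of the triality-twisted groups ³D₄. Let `q = p^a` be a prime power and `K` a field with `q³` elements, and let `G` be the twisted group ³D₄(q) realised over `K`. If some subgroup of `G` has a quotient isomorphic to the alternating group of degree `r`, then `r` is at most 6, or 7 in characteristic 5. (Only an upper bound is asserted.) -/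
theorem result {K : Type*} [Field K] [Fintype K] (p a : ℕ) [Fact p.Prime] [CharP K p]
    (ha : 1 ≤ a) (hK : Fintype.card K = (p ^ a) ^ 3) (r : ℕ) (H : Subgroup ↥(Cfsg.Lie.twistedD4 K (p ^ a))) (N : Subgroup ↥H) [N.Normal]
    (h : Nonempty (↥H ⧸ N ≃* ↥(alternatingGroup (Fin r)))) :
    r ≤ 6 + (if p = 5 then 1 else 0) := by
  obtain ⟨e⟩ := h
  have he := e.surjective.comp (QuotientGroup.mk'_surjective N)
  obtain ⟨Ω, _, _, _, _, φ, σ, j, T, hj, hr, hθ⟩ := exists_twD4 ((Fact.out : p.Prime).isPrimePow.pow (by omega)) hK p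
  by_contra! h
  split_ifs at h with hp
  · subst hp
    have h2 : (2 : Ω) ≠ 0 := Ring.two_ne_zero (by rw [ringChar.eq Ω 5]; decide)
    have hZ (g) (hg : j g ∈ Subgroup.center _) : g = 1 := Subgroup.inclusion_injective _ (fieldHom_injective φ (by
      rw [map_one, map_one]; refine (hθ g).symm.trans ?_
      rw [← MonoidHom.mem_ker, StSys.θG_ker, ← StSys.center_eq_ker (sgSys_grp _ _)]; exact hg))
    refine no_A8 (K := Ω) (ι := Node chevD4) h2 (fun z hz => ?_) h (π := e.toMonoidHom.comp (QuotientGroup.mk' N)) he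
    obtain ⟨ψ, hψ, x, e⟩ := T.exists_inv hj hr 5 h2 [([1, 0, 0, 0].getD · 0), ([1, 0, 1, 0].getD · 0), ([1, 0, 0, 1].getD · 0),
      ([0, 0, 1, 1].getD · 0)] (lk 0x3040400020300040203000401020000 8 255) (by decide +kernel) hz
    obtain rfl | hψ := List.mem_cons.1 hψ
    · exact cov_of_frm hMul_sg (sgSys_grp _ _) T.inj h2 (β := β) (s := γ)
        (by decide +kernel) det_ne (sub_of_frm _ (sgSys_grp _ _) T.inj h2 det_ne (by decide +kernel)) hj hZ e
    · have h3 : StSys.torS hMul_sg (sgn Ω ψ) ∈ Subgroup.center _ := (StSys.center_eq_map _ (sgSys_grp _ _)).ge ⟨_, mem_ker_cartan.2 fun r => by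
        rw [chiOf_sgn, (neg_one_zpow_eq h2 (b := 0)).2 (even ψ hψ r), zpow_zero], rfl⟩
      have := (Subgroup.normal_of_characteristic _).conj_mem _ h3 x
      rw [← e] at this
      simp [hZ z (by simpa [mul_assoc] using this)] at hz
  · obtain ⟨⟨y, h1, h2⟩, -⟩ := of_A7 h (π := e.toMonoidHom.comp (QuotientGroup.mk' N)) he
    have : Fact (Nat.Prime 5) := ⟨by norm_num⟩
    obtain ⟨v, h3, ⟨w, h4⟩, w', h5⟩ := T.exists_vec hj hr p hp h1 h2
    have h6 := weyl_inv (D := chevD4) (I := I) inv'
    exact h3 (fin' (fun h => hp ((Nat.prime_dvd_prime_iff_eq this.out Fact.out).1 (this.out.dvd_of_dvd_pow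
      ((ZMod.natCast_eq_zero_iff ..).1 h))).symm) v (h5 ▸ h6 ..) ((h6 w _).symm.trans (congrArg I h4)))

end Cfsg.Agent.S2660
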