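import Mathlib
import Cfsg.Statements.S2799
import Cfsg.Agent.H17.FF2

set_option autoImplicit false
open Cfsg

namespace Cfsg.Agent.S2799

/-- Let S be a Sylow p-subgroup of the finite group G, J(S) the subgroup generated by the abelian subgroups of S of largest order, and x an element of S lying in the centre of N_G(J(S)). Assume that p is odd, or that x is a p-th power of an element of Z(S), or that the symmetric group of degree 4 is not involved in G. Then x is weakly closed in S with respect to G: every G-conjugate of x that lies in S equals x. -/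
theorem result {G : Type*} [Group G] [Finite G] {p : ℕ} [Fact p.Prime] (S : Sylow p G) (x : G) (hxS : x ∈ (S : Subgroup G)) (hxZ : x ∈ (Subgroup.center ↥(Subgroup.normalizer ((Cfsg.thompsonSubgroupAOf (S : Subgroup G)) : Set G))).map (Subgroup.normalizer ((Cfsg.thompsonSubgroupAOf (S : Subgroup G)) : Set G)).subtype) (h : p ≠ 2 ∨ (∃ z ∈ (S : Subgroup G) ⊓ Subgroup.centralizer ((S : Subgroup G) : Set G), z ^ p = x) ∨ ¬ Cfsg.Involves (Equiv.Perm (Fin 4)) G) : ∀ g : G, g * x * g⁻¹ ∈ (S : Subgroup G) → g * x * g⁻¹ = x := by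
  rw [H26.map_subtype_center, H17.thompsonAOf_eq] at hxZ
  have hN := (inf_le_right (a := (⊤ : Subgroup G))).trans (H26.mem_centralizer_iff_le.1 hxZ.2)
  have hW := H17.isConj_thompson (p := p) (G := G)
  intro g hg
  refine H17.WC.elt ?_ (Subgroup.mem_top g) hg
  by_cases hp : p = 2
  swap
  · exact H17.wc_elt_of_quad hp hW.1 (fun P _ => hW.2 P)
      (fun H T hT hn => H17.exists_quad_of_not_le_normalizer_thompson hT hn) (H26.isSyl_top S) hxS hN
  rcases h with h | ⟨z, hz, rfl⟩ | h
  · exact absurd hp h
  · exact H17.wc_pow hW.1 (fun P _ => hW.2 P)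
      (fun H T hT hn => H17.exists_quad_of_not_le_normalizer_thompson hT hn) (H26.isSyl_top S)
      (Set.singleton_subset_iff.2 (Subgroup.subset_closure ⟨z, hz, rfl⟩))
      (by rw [H17.normalizer_singleton]; exact hN)
  · subst hp
    exact H17.wc_thompson_s4 (fun h' => h (H17.sec_iff_involves.1 h')) (H26.isSyl_top S) hxS hN

end Cfsg.Agent.S2799
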