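import Mathlib
import Cfsg.Statements.S2803
import Cfsg.Agent.H26.YL

set_option autoImplicit false
open Cfsg

namespace Cfsg.Agent.S2803
open H26

/-- Let L be a finite group and p a prime with C_L(O_p(L)) ≤ O_p(L), T a Sylow p-subgroup, and Y the largest p-reduced normal subgroup of L. Put T_L = C_T(Y) and L_T = N_L(T_L). Then L = L_T · C_L(Y) (elementwise), T_L = O_p(L_T), and Y = Ω₁(Z(T_L)). -/
theorem result {L : Type*} [Group L] [Finite L] {p : ℕ} [Fact p.Prime] (hchar : Subgroup.centralizer (Cfsg.pCore p L : Set L) ≤ Cfsg.pCore p L) (T : Sylow p L) (Y : Subgroup L) (hY : (Cfsg.IsPReducedNormal p Y ∧ ∀ V : Subgroup L, Cfsg.IsPReducedNormal p V → V ≤ Y)) (TL : Subgroup L) (hTL : TL = (T : Subgroup L) ⊓ Subgroup.centralizer (Y : Set L)) : (∀ g : L, ∃ a ∈ Subgroup.normalizer (TL : Set L), ∃ c ∈ Subgroup.centralizer (Y : Set L), g = a * c) ∧ (Cfsg.pCore p ↥(Subgroup.normalizer (TL : Set L))).map (Subgroup.normalizer (TL : Set L)).subtype = TL ∧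 Y = Cfsg.omegaOne p (TL ⊓ Subgroup.centralizer (TL : Set L)) := by
  have hYe := eq_Y_top hY
  have hR := isPReducedNormal_iff.mp hY.1
  have hC : (⊤ : Subgroup L) ≤ Subgroup.normalizer (Subgroup.centralizer (Y : Set L) : Set L) :=
    le_normalizer_centralizer hR.norm
  have hS : IsSyl p TL (Subgroup.centralizer (Y : Set L)) := hTL ▸ (isSyl_top T).inf_of_le le_top hC
  refine ⟨fun g => ?_, ?_, ?_⟩
  · exact hS.frattini' hC (Subgroup.mem_top g)
  · change pCoreOf p _ = TL
    have h1 : TL ≤ pCoreOf p (Subgroup.normalizer (TL : Set L)) :=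
      le_pCoreOf Subgroup.le_normalizer le_rfl hS.pg
    refine hS.max _ (isPGroup_pCoreOf _) h1 (RedMod.pCoreOf_le ?_)
    refine hR.red.of_sup_eq hC ?_
    rw [top_sup_eq, sup_comm, ← hS.frattini_sup le_top hC, top_inf_eq]
  · rw [hYe]
    exact Y_eq_omegaZ (isCharP_top_iff.mp hchar) (isSyl_top T) (hYe ▸ hTL)

end Cfsg.Agent.S2803
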