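import Mathlib
import Cfsg.Statements.S2804
import Cfsg.Agent.H26.YL

set_option autoImplicit false
open Cfsg

namespace Cfsg.Agent.S2804
open H26

/-- Let L be a finite group and p a prime with C_L(O_p(L)) ≤ O_p(L), V a p-reduced normal subgroup of L and K a subnormal subgroup of L. Then [V, O^p(K)] is contained in K and is a p-reduced normal subgroup of K, where O^p(K) is the subgroup of K generated by its elements of order prime to p. -/
theorem result {L : Type*} [Group L] [Finite L] {p : ℕ} [Fact p.Prime] (hchar : Subgroup.centralizer (Cfsg.pCore p L : Set L) ≤ Cfsg.pCore p L) (V : Subgroup L) (hV : Cfsg.IsPReducedNormal p V) (K : Subgroup L) (hK : K.IsSubnormal) : ⁅V, (Cfsg.pResidual p ↥K).map K.subtype⁆ ≤ K ∧ Cfsg.IsPReducedNormal p ((⁅V, (Cfsg.pResidual p ↥K).map K.subtype⁆).subgroupOf K) := by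
  have hV' := isPReducedNormal_iff.mp hV
  have hK' := subN_top_iff.mpr hK
  have h1 := hV'.commutator_le_inf hK'
  refine ⟨h1.trans inf_le_right, (isPReducedNormal_subgroupOf_iff (h1.trans inf_le_right)).mpr ?_⟩
  exact hV'.of_subN hK' le_rfl h1
    (le_normalizer_commutator (le_top.trans hV'.norm) (le_normalizer_pResidualOf K))

end Cfsg.Agent.S2804
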