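import Mathlib
import Cfsg.Statements.S2805
import Cfsg.Agent.H26.YL

set_option autoImplicit false
open Cfsg

namespace Cfsg.Agent.S2805
open H26

theorem step {H : Type*} [Group H] [Finite H] {p : ℕ} [Fact p.Prime] {K L T : Subgroup H}
    (hK : IsCharP p K) (hT : IsSyl p T K) (hL : L ≤ K) (hn : K ≤ Subgroup.normalizer (L : Set H)) :
    L ⊓ Subgroup.centralizer (omegaOne p (T ⊓ Subgroup.centralizer (T : Set H)) : Set H) =
    L ⊓ Subgroup.centralizer (omegaOne p ((T ⊓ L) ⊓
      Subgroup.centralizer ((T ⊓ L : Subgroup H) : Set H)) : Set H) := by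
  have hT0 := hT.inf_of_le hL hn
  apply le_antisymm
  · set C := L ⊓ Subgroup.centralizer (omegaOne p (T ⊓ Subgroup.centralizer (T : Set H)) : Set H)
      with hC
    have hLc := hK.of_normal hL hn
    have hTC : T ⊓ L ≤ C := le_inf inf_le_right (inf_le_left.trans (le_centralizer_omegaZ T))
    set V := omegaOne p (pCoreOf p L ⊓ Subgroup.centralizer (pCoreOf p L : Set H)) with hV
    have hKV : K ≤ Subgroup.normalizer (V : Set H) :=
      le_normalizer_omegaZ (le_normalizer_pCoreOf' hn)
    have h1 := inf_centralizer_le_of_fixed (V := V) (C := C) (T₀ := T ⊓ L) (T := T)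
      (omegaZ_elemAb _).1 (isPGroup_omegaZ _) (inf_le_left.trans (hL.trans hKV)) hTC
      (hT0.mono hTC inf_le_left).not_dvd hT.pg (hT.le.trans hKV)
      (le_normalizer_inf (hT.le.trans hn)
        (le_normalizer_centralizer (le_normalizer_omegaZ Subgroup.le_normalizer)))
      (le_normalizer_inf Subgroup.le_normalizer (hT.le.trans hn)) (by
        refine le_trans ?_ (Subgroup.le_centralizer_iff.mp (inf_le_right : C ≤ _))
        intro v hv
        exact mem_omegaZ.mpr ⟨((omegaZ_le _).trans (hT0.pCoreOf_le.trans inf_le_left)) hv.1.1, hv.2,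
          (omegaZ_elemAb _).2 v hv.1.1⟩)
    refine le_inf inf_le_left (Subgroup.le_centralizer_iff.mp (le_trans ?_ h1))
    exact le_inf (hLc.omegaZ_le_omegaZ hT0) (omegaZ_le_centralizer _)
  · set Z := omegaOne p ((T ⊓ L) ⊓ Subgroup.centralizer ((T ⊓ L : Subgroup H) : Set H)) with hZ
    set C := L ⊓ Subgroup.centralizer (Z : Set H) with hC
    have hTC : T ⊓ L ≤ C := le_inf inf_le_right (le_centralizer_omegaZ _)
    set V := omegaOne p (pCoreOf p K ⊓ Subgroup.centralizer (pCoreOf p K : Set H)) with hV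
    have hKV : K ≤ Subgroup.normalizer (V : Set H) := le_normalizer_omegaZ (le_normalizer_pCoreOf K)
    have hCV : C ≤ Subgroup.normalizer (V : Set H) := inf_le_left.trans (hL.trans hKV)
    have hVK : V ≤ T := (omegaZ_le _).trans hT.pCoreOf_le
    have h1 := (hT0.mono hTC inf_le_left).inf_centralizer_le (V := V) (omegaZ_elemAb _).1
      (isPGroup_omegaZ _) hCV
    refine le_inf inf_le_left (Subgroup.le_centralizer_iff.mp fun z hz => ?_)
    have hz1 : z ∈ V := hK.omegaZ_le_omegaZ hT hz
    have hz2 : z ∈ Subgroup.centralizer ((T ⊓ L : Subgroup H) : Set H) :=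
      centralizer_anti inf_le_left (omegaZ_le_centralizer _ hz)
    have h2 := h1 ⟨hz1, hz2⟩
    rw [mem_sup_of_le_normalizer (inf_le_left.trans (Subgroup.normalizer_commutator_ge_left _ _))]
      at h2
    obtain ⟨a, ha, w, hw, rfl⟩ := h2
    have hwV : w ∈ V := commutator_le_of_le_normalizer ((pResidualOf_le C).trans hCV) hw
    have hwL : w ∈ L := (Subgroup.commutator_mono le_rfl ((pResidualOf_le C).trans inf_le_left)).trans
      (commutator_le_of_le_normalizer' (hVK.trans (hT.le.trans hn))) hw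
    have hwZ : w ∈ Z := mem_omegaZ.mpr ⟨⟨hVK hwV, hwL⟩,
      (Subgroup.mul_mem_cancel_left _ (centralizer_anti hTC ha.2)).mp hz2, (omegaZ_elemAb _).2 w hwV⟩
    exact Subgroup.mul_mem _ ha.2 (Subgroup.le_centralizer_iff.mp (inf_le_right : C ≤ _) hwZ)

/-- Kieler's Lemma: let H be a finite group of characteristic p (C_H(O_p(H)) ≤ O_p(H)), T a Sylow p-subgroup of H and L a subnormal subgroup of H. Then C_L(Ω₁(Z(T))) = C_L(Ω₁(Z(T ∩ L))), Ω₁(Z(·)) denoting the elements of order dividing p in the centre. -/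
theorem result {H : Type*} [Group H] [Finite H] {p : ℕ} [Fact p.Prime] (hH : Subgroup.centralizer (Cfsg.pCore p H : Set H) ≤ Cfsg.pCore p H) (T : Sylow p H) (L : Subgroup H) (hL : L.IsSubnormal) : L ⊓ Subgroup.centralizer ((Cfsg.omegaOne p ((T : Subgroup H) ⊓ Subgroup.centralizer ((T : Subgroup H) : Set H))) : Set H) = L ⊓ Subgroup.centralizer ((Cfsg.omegaOne p (((T : Subgroup H) ⊓ L) ⊓ Subgroup.centralizer ((((T : Subgroup H) ⊓ L) : Subgroup H) : Set H))) : Set H) := by
  have hc := isCharP_top_iff.mp hH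
  have hL' := subN_top_iff.mpr hL
  clear hL
  induction hL' with
  | refl => simp
  | step K K' hle hn hK ih =>
    have := step (hK.isCharP hc) (hK.isSyl_inf (isSyl_top T)) hle hn
    rw [inf_assoc (T : Subgroup H) K' K, inf_eq_right.mpr hle] at this
    rw [← this]
    have h3 := congrArg (fun X => K ⊓ X) ih
    simpa only [← inf_assoc, inf_eq_left.mpr hle] using h3

end Cfsg.Agent.S2805
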