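import Mathlib
import Cfsg.Statements.S2806
import Cfsg.Agent.H26.FComm
import Cfsg.Agent.H26.Parab
import Cfsg.Agent.S2805

set_option autoImplicit false
open Cfsg

namespace Cfsg.Agent.S2806
open H26

theorem kieler {H : Type*} [Group H] [Finite H] {p : ℕ} [Fact p.Prime] {T L : Subgroup H} (hH : LocC p (⊤ : Subgroup H))
    (hT : IsSyl p T ⊤) (hL : SubN ⊤ L) (h : T ⊓ L ≠ ⊥) :
    L ⊓ Subgroup.centralizer (omegaOne p (T ⊓ Subgroup.centralizer (T : Set H)) : Set H) =
    L ⊓ Subgroup.centralizer (omegaOne p ((T ⊓ L) ⊓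
      Subgroup.centralizer ((T ⊓ L : Subgroup H) : Set H)) : Set H) := by
  induction hL with
  | refl => simp
  | step K K' hle hn hK ih =>
    have h3 := congrArg (fun X => K ⊓ X) (ih (ne_bot_of_le_ne_bot h (inf_le_inf_left _ hle)))
    simp only [← inf_assoc, inf_eq_left.mpr hle] at h3
    rw [h3]
    have h1 := hK.isSyl_inf hT
    have h4 : T ⊓ K = (T ⊓ K') ⊓ K := by rw [inf_assoc, inf_eq_right.mpr hle]
    rw [h4] at h ⊢
    generalize T ⊓ K' = S at h h1
    have key : ∀ R : Subgroup H, R ≤ S → R ≠ ⊥ → S ≤ Subgroup.normalizer (R : Set H) →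
        (K ⊓ Subgroup.normalizer (R : Set H)) ⊓
          Subgroup.centralizer (omegaOne p (S ⊓ Subgroup.centralizer (S : Set H)) : Set H) =
        (K ⊓ Subgroup.normalizer (R : Set H)) ⊓ Subgroup.centralizer (omegaOne p ((S ⊓ K) ⊓
          Subgroup.centralizer ((S ⊓ K : Subgroup H) : Set H)) : Set H) := fun R a b c => by
      have := S2805.step ((hK.inf _).isCharP (hH R le_top (h1.pg.to_le a) b)) (h1.mono (le_inf h1.le c) inf_le_left)
        (inf_le_inf_right _ hle) (le_normalizer_inf (inf_le_left.trans hn) (inf_le_right.trans Subgroup.le_normalizer))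
      rwa [← inf_assoc S, inf_right_comm S, inf_eq_left.mpr c] at this
    have h5 := le_normalizer_inf (Subgroup.le_normalizer (H := S)) (h1.le.trans hn)
    apply le_antisymm
    · have := key _ (inf_le_left.trans inf_le_left) (inf_omegaZ_ne_bot h1.pg inf_le_left h5 h)
        (le_normalizer_inf h5 (le_normalizer_omegaZ Subgroup.le_normalizer))
      exact le_inf inf_le_left ((le_inf (inf_le_inf_left _ ((centralizer_anti inf_le_right).trans
        (centralizer_le_normalizer _))) inf_le_right).trans (this.le.trans inf_le_right))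
    · have := key _ ((omegaZ_le _).trans inf_le_left) (omegaZ_ne_bot h1.pg.to_inf_left h) (le_normalizer_omegaZ h5)
      exact le_inf inf_le_left ((le_inf (inf_le_inf_left _ (centralizer_le_normalizer _)) inf_le_right).trans
        (this.ge.trans inf_le_right))

/-- Let H be a finite group of local characteristic p, T a Sylow p-subgroup, and L₁, L₂ subnormal subgroups of H generating the subgroup L. Then the point stabilizer of L with respect to T ∩ L is generated by the point stabilizers of L₁ and L₂ with respect to T ∩ L₁ and T ∩ L₂ (point stabilizer of X w.r.t. R: the subgroup generated by the p-elements of X centralizing Ω₁(Z(R))). -/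
theorem result {H : Type*} [Group H] [Finite H] {p : ℕ} [Fact p.Prime] (hH : Cfsg.IsOfLocalCharacteristic p H) (T : Sylow p H) (L₁ L₂ : Subgroup H) (h₁ : L₁.IsSubnormal) (h₂ : L₂.IsSubnormal) : Cfsg.pointStabilizer p (L₁ ⊔ L₂) ((T : Subgroup H) ⊓ (L₁ ⊔ L₂)) = Cfsg.pointStabilizer p L₁ ((T : Subgroup H) ⊓ L₁) ⊔ Cfsg.pointStabilizer p L₂ ((T : Subgroup H) ⊓ L₂) := by
  rw [locC_top_iff] at hH
  have hT := isSyl_top T
  set C := Subgroup.centralizer (omegaOne p ((T : Subgroup H) ⊓ Subgroup.centralizer ((T : Subgroup H) : Set H)) : Set H)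
  have h1 : ∀ L, SubN ⊤ L → pointStabilizer p L ((T : Subgroup H) ⊓ L) = pElementClosure p (L ⊓ C) := fun L a => by
    by_cases b : (T : Subgroup H) ⊓ L = ⊥
    · have c : pElementClosure p L ≤ ⊥ := (a.isSyl_inf hT).pElementClosure_le b.le Subgroup.le_normalizer_of_normal
      exact (le_bot_iff.mp ((pElementClosure_mono inf_le_left).trans c)).trans
        (le_bot_iff.mp ((pElementClosure_mono inf_le_left).trans c)).symm
    · rw [kieler hH.2 hT a b]; rfl
  replace h₁ := subN_top_iff.mpr h₁
  replace h₂ := subN_top_iff.mpr h₂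
  rw [h1 _ h₁, h1 _ h₂, h1 _ (h₁.sup h₂)]
  refine le_antisymm ?_ (sup_le (pElementClosure_mono (inf_le_inf_right _ le_sup_left))
    (pElementClosure_mono (inf_le_inf_right _ le_sup_right)))
  have h2 : ∀ L, SubN ⊤ L → L ≤ L₁ ⊔ L₂ → SubN ((L₁ ⊔ L₂) ⊓ C) (pElementClosure p (L ⊓ C)) := fun L a b =>
    ((a.of_le b le_top).inf C).trans (.of_normal (pElementClosure_le _) (le_normalizer_pElementClosure _))
  have h3 := (h2 _ h₁ le_sup_left).sup (h2 _ h₂ le_sup_right)
  have h4 : (T : Subgroup H) ≤ C := le_centralizer_omegaZ _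
  have h5 : IsSyl p ((T : Subgroup H) ⊓ (L₁ ⊔ L₂)) ((L₁ ⊔ L₂) ⊓ C) :=
    ((h₁.sup h₂).isSyl_inf hT).mono (le_inf inf_le_right (inf_le_left.trans h4)) inf_le_left
  have h6 : (T : Subgroup H) ⊓ (L₁ ⊔ L₂) ≤ pElementClosure p (L₁ ⊓ C) ⊔ pElementClosure p (L₂ ⊓ C) := by
    rw [wielandt_syl hT h₁ h₂]
    exact sup_le_sup (le_pElementClosure (le_inf inf_le_right (inf_le_left.trans h4)) hT.pg.to_inf_left)
      (le_pElementClosure (le_inf inf_le_right (inf_le_left.trans h4)) hT.pg.to_inf_left)
  generalize pElementClosure p (L₁ ⊓ C) ⊔ pElementClosure p (L₂ ⊓ C) = K at h3 h6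
  induction h3 with
  | refl => exact pElementClosure_le _
  | step K K' hle hn hK ih =>
    have a := ih (h6.trans hle)
    exact (pElementClosure_le_iff.mpr fun x hx b => mem_pElementClosure (a (mem_pElementClosure hx b)) b).trans
      ((h5.mono (h6.trans hle) hK.le).pElementClosure_le h6 hn)

end Cfsg.Agent.S2806
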