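import Mathlib
import Cfsg.Statements.S2810
import Cfsg.Agent.H26.SubN

set_option autoImplicit false
open Cfsg

namespace Cfsg.Agent.S2810
open H26

/-- Let H be a finite group of characteristic p and L a subgroup of H centralizing every factor of some H-invariant chain 1 = A₀ ≤ A₁ ≤ … ≤ Aₙ = O_p(H) of normal subgroups (that is, [A_{i+1}, L] ≤ Aᵢ for each i). Then L ≤ O_p(H). -/
theorem result {H : Type*} [Group H] [Finite H] {p : ℕ} [Fact p.Prime] (hchar : Subgroup.centralizer (Cfsg.pCore p H : Set H) ≤ Cfsg.pCore p H) (L : Subgroup H) (n : ℕ) (A : Fin (n + 1) → Subgroup H) (h0 : A 0 = ⊥) (hn : A (Fin.last n) = Cfsg.pCore p H) (hmono : Monotone A) (hnorm : ∀ i, (A i).Normal) (hcent : ∀ i : Fin n, ⁅A i.succ, L⁆ ≤ A i.castSucc) : L ≤ Cfsg.pCore p H := by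
  set N := Subgroup.normalClosure (L : Set H) with hN
  have h1 : ∀ i : Fin n, ⁅A i.succ, N⁆ ≤ A i.castSucc := by
    intro i
    have := hnorm i.succ
    have := hnorm i.castSucc
    rw [hN, ← ncl_top]
    refine commutator_iSup_le' (fun _ => Subgroup.le_normalizer_of_normal) fun g => ?_
    have h2 := cj_mono (g : H) (hcent i)
    rwa [cj_commutator, cj_eq_of_normal, cj_eq_of_normal _ (A i.castSucc)] at h2
  have h2 : ∀ i : Fin (n + 1), pResidualOf p N ≤ Subgroup.centralizer (A i : Set H) := by
    intro i
    induction i using Fin.induction with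
    | zero => rw [h0]; intro x _; simp [Subgroup.mem_centralizer_iff]
    | succ i ih =>
      have := hnorm i.succ
      rw [pResidualOf_le_iff]
      intro x hx hc
      refine mem_centralizer_of_two_step (U := A i.castSucc)
        (isPGroup_pCore.to_le (hn ▸ hmono (Fin.le_last _))) hc (fun v hv => h1 i ?_)
        (ih (mem_pResidualOf hx hc))
      rw [Subgroup.commutator_comm]
      exact Subgroup.commutator_mem_commutator hx hv
  have h3 := h2 (Fin.last n)
  rw [hn] at h3
  exact Subgroup.le_normalClosure.trans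
    (le_pCore (isPGroup_of_pResidualOf_le isPGroup_pCore (h3.trans hchar)))

end Cfsg.Agent.S2810
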