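import Mathlib
import Cfsg.Statements.S2813
import Cfsg.Agent.H26.SubN

set_option autoImplicit false
open Cfsg

namespace Cfsg.Agent.S2813
open H26
open scoped commutatorElement

/-- Let K be a subgroup of the finite group H with O_p(K) = 1 and Y a p-subgroup of N_H(K) with [K, Y, Y] = 1. Then [K, Y] = 1. -/
theorem result {H : Type*} [Group H] [Finite H] {p : ℕ} [Fact p.Prime] (K : Subgroup H) (hO : Cfsg.pCore p ↥K = ⊥) (Y : Subgroup H) (hY : IsPGroup p ↥Y) (hYK : Y ≤ Subgroup.normalizer (K : Set H)) (hq : ⁅⁅K, Y⁆, Y⁆ = ⊥) : ⁅K, Y⁆ = ⊥ := by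
  have hO' : pCoreOf p K = ⊥ := pCoreOf_eq_bot_iff.mpr hO
  have hUK : ⁅K, Y⁆ ≤ K := commutator_le_of_le_normalizer hYK
  have hKU : K ≤ Subgroup.normalizer ((⁅K, Y⁆ : Subgroup H) : Set H) :=
    Subgroup.normalizer_commutator_ge_left _ _
  have h1 : ⁅K, Y⁆ ≤ Subgroup.centralizer ((⁅K, Y⁆ : Subgroup H) : Set H) := by
    rw [← Subgroup.commutator_eq_bot_iff_le_centralizer]
    apply Subgroup.commutator_commutator_eq_bot_of_rotate
    · rw [Subgroup.commutator_comm Y, hq, Subgroup.commutator_bot_left]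
    · rw [← le_bot_iff, ← hq]
      exact Subgroup.commutator_mono (commutator_le_of_le_normalizer hKU) le_rfl
  have h2 : ∀ u ∈ ⁅K, Y⁆, (orderOf u).Coprime p := by
    refine fun u hu => coprime_orderOf_of_not_dvd (fun hd => ?_) hu
    obtain ⟨T, hT⟩ := exists_isSyl p ⁅K, Y⁆
    have h3 : T ≤ pCoreOf p ⁅K, Y⁆ :=
      le_pCoreOf hT.le (h1.trans ((centralizer_anti hT.le).trans (centralizer_le_normalizer T))) hT.pg
    exact hT.ne_bot hd (le_bot_iff.mp (h3.trans ((pCoreOf_le_of_normal hUK hKU).trans hO'.le)))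
  rw [Subgroup.commutator_comm, ← le_bot_iff, Subgroup.commutator_le]
  intro y hy k hk
  have h3 : ⁅y, k⁆ ∈ ⁅K, Y⁆ := by
    rw [Subgroup.commutator_comm]; exact Subgroup.commutator_mem_commutator hy hk
  refine commutator_mem_of_coprime (Subgroup.le_normalizer_of_normal (Subgroup.mem_top y))
    (fun m => ?_) (coprime_orderOf_of_mem_pGroup hY hy (h2 _ h3)).symm
  rw [← hq, Subgroup.commutator_comm]
  exact Subgroup.commutator_mem_commutator hy (pow_mem h3 m)

end Cfsg.Agent.S2813
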