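import Mathlib
import Cfsg.Statements.S2814
import Cfsg.Agent.H26.Misc

set_option autoImplicit false
open Cfsg

namespace Cfsg.Agent.S2814
open H26

/-- Let A be a subgroup of the finite group H and K the subnormal closure of A (intersection of the subnormal subgroups containing A). Then K is the normal closure of A inside K and N_H(A) ≤ N_H(K); K = A·O^p(K), O^p(K) being generated by the elements of K of order prime to p; and if A is a p-group, O^p(K) = [O^p(K), A]. -/
theorem result {H : Type*} [Group H] [Finite H] {p : ℕ} [Fact p.Prime] (A : Subgroup H) (K : Subgroup H) (hK : K = Cfsg.subnormalClosure A) : (Subgroup.normalClosure ((A.subgroupOf K : Subgroup ↥K) : Set ↥K)).map K.subtype = K ∧ Subgroup.normalizer (A : Set H) ≤ Subgroup.normalizer (K : Set H) ∧ A ⊔ (Cfsg.pResidual p ↥K).map K.subtype = K ∧ (IsPGroup p ↥A → ⁅(Cfsg.pResidual p ↥K).map K.subtype, A⁆ = (Cfsg.pResidual p ↥K).map K.subtype) := by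
  have h0 : ∀ L, A ≤ L → SubN ⊤ L → K ≤ L := fun L a b => hK ▸ sInf_le ⟨a, subN_top_iff.mp b⟩
  have h1 : A ≤ K := hK ▸ le_sInf fun _ h => h.1
  have h2 : SubN ⊤ K := by
    obtain ⟨L, ⟨a, b⟩, c⟩ := exists_minimal_of_wellFoundedLT (fun L : Subgroup H => A ≤ L ∧ SubN ⊤ L)
      ⟨⊤, le_top, .refl⟩
    rwa [le_antisymm (h0 L a b) (hK ▸ le_sInf fun M d => (c ⟨le_inf a d.1, b.inf_subN (subN_top_iff.mpr d.2)⟩
      inf_le_left).trans inf_le_right)]
  have h3 : A ⊔ pResidualOf p K = K := le_antisymm (sup_le h1 (pResidualOf_le K)) (h0 _ le_sup_left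
    (h2.trans (subN_of_pResidualOf_le le_sup_right (sup_le h1 (pResidualOf_le K)))))
  refine ⟨?_, fun g hg => mem_normalizer_of_cj_le (cj_le_iff_le_cj.mpr (h0 _ ?_ ?_)), h3, fun h => ?_⟩
  · rw [ncl_eq_map h1]
    exact le_antisymm (ncl_le_of_le h1) (h0 _ (le_ncl A K)
      (h2.trans (.of_normal (ncl_le_of_le h1) (le_normalizer_ncl A K))))
  · rw [← cj_le_iff_le_cj, cj_eq_iff.mpr hg]; exact h1
  · exact h2.cj_of_mem (Subgroup.le_normalizer (Subgroup.mem_top _))
  · change ⁅pResidualOf p K, A⁆ = pResidualOf p K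
    have h4 := h1.trans (le_normalizer_pResidualOf (p := p) K)
    refine le_antisymm (commutator_le_of_le_normalizer h4) (le_of_le_pGroup_sup h
      (Subgroup.normalizer_commutator_ge_right _ _) ((pResidualOf_le K).trans (h0 _ le_sup_left (h2.trans ?_))))
    rw [Subgroup.commutator_comm, ← ncl_eq_sup_commutator]
    refine .of_normal (ncl_le_iff.mpr fun g hg => cj_le_of_le_of_mem h1 (pResidualOf_le K hg))
      (h3.ge.trans (sup_le ((le_ncl _ _).trans Subgroup.le_normalizer) (le_normalizer_ncl _ _)))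

end Cfsg.Agent.S2814
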