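import Mathlib
import Cfsg.Statements.S2815
import Cfsg.Agent.H26.FComm

set_option autoImplicit false
open Cfsg

namespace Cfsg.Agent.S2815
open H26

/-- Let H be a finite group and p a prime dividing its order with O_p(H) = 1, and suppose K = O^p(H) (generated by the elements of order prime to p) is quasisimple. Then K = F*(H); for every nontrivial p-subgroup Y of H, K = [K, Y] and K lies in the subgroup generated by the K-conjugates of Y; every normal subgroup of H not containing K has order prime to p; and H is p-irreducible. -/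
theorem result {H : Type*} [Group H] [Finite H] {p : ℕ} [Fact p.Prime] (hp : p ∣ Nat.card H) (hO : Cfsg.pCore p H = ⊥) (hq : Cfsg.IsQuasisimple ↥(Cfsg.pResidual p H)) : Cfsg.pResidual p H = Cfsg.generalizedFittingSubgroup H ∧ (∀ Y : Subgroup H, IsPGroup p ↥Y → Y ≠ ⊥ → ⁅Cfsg.pResidual p H, Y⁆ = Cfsg.pResidual p H ∧ Cfsg.pResidual p H ≤ ⨆ k : ↥(Cfsg.pResidual p H), Y.map (MulAut.conj (k : H)).toMonoidHom) ∧ (∀ C : Subgroup H, C.Normal → ¬ Cfsg.pResidual p H ≤ C → (Nat.card ↥C).Coprime p) ∧ Cfsg.IsPIrreducible p H := by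
  have := pResidual_normal (p := p) (G := H)
  have hK : IsComponent (pResidual p H) := ⟨this.isSubnormal, hq⟩
  have h1 : pResidual p H = generalizedFittingSubgroup H := by
    refine le_antisymm ((H22.le_layer hK).trans H22.layer_le_fstar) (pResidualOf_top (p := p) (G := H) ▸ sup_le
      ((pResidualOf_eq_of_perfect H22.layer_perfect).ge.trans (pResidualOf_mono le_top))
      ((pResidualOf_eq_self_of_not_dvd (not_dvd_fitting hO)).ge.trans (pResidualOf_mono le_top)))
  have h2 : ∀ C : Subgroup H, C.Normal → ¬ pResidual p H ≤ C → ¬ p ∣ Nat.card C := fun C a b c =>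
    not_dvd_fitting hO (c.trans (Subgroup.card_dvd_of_le (le_trans (h1 ▸ commutator_eq_bot_iff'.mp
      ((H22.comp_le_or_comm_of_subnormal hK a.isSubnormal).resolve_left b)) H22.centralizer_fstar_le_fitting)))
  refine ⟨h1, fun Y a b => ?_, fun C a b => ((Nat.Prime.coprime_iff_not_dvd Fact.out).mpr (h2 C a b)).symm,
    isPIrreducible_top_iff.mpr ⟨fun a => ?_, fun N _ a b => pResidualOf_top (p := p) (G := H) ▸ by_contra fun c =>
      b fun Q d e => (eq_bot_of_isPGroup_of_not_dvd e d (h2 N (normal_of_top_le a) c)).le.trans bot_le⟩⟩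
  · have c := (H22.comp_le_comm_or hK Y).resolve_right fun c => b (eq_bot_of_le_centralizer_fstar hO a
      (h1 ▸ Subgroup.commutator_eq_bot_iff_le_centralizer.mp c))
    exact ⟨le_antisymm (Subgroup.commutator_le_left _ _) (Subgroup.commutator_comm Y _ ▸ c),
      c.trans (commutator_le_ncl _ _)⟩
  · exact a.isSyl.ne_bot (by rwa [Subgroup.card_top]) (pCoreOf_top.trans hO)

end Cfsg.Agent.S2815
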