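import Mathlib
import Cfsg.Statements.S2816
import Cfsg.Agent.H26.FComm

set_option autoImplicit false
open Cfsg

namespace Cfsg.Agent.S2816
open H26

/-- Let H be a finite group and p a prime with O_p(H) = 1, and Y a p-subgroup of H. Then for every subnormal subgroup K of H containing Y, [F*(H), Y] = [F*(K), Y] = [F*(K), Y, Y]; and if Y₀ ≤ Y with [F*(H), Y, Y₀] = 1 then Y₀ = 1 (in particular [F*(H), Y] = 1 forces Y = 1). -/
theorem result {H : Type*} [Group H] [Finite H] {p : ℕ} [Fact p.Prime] (hO : Cfsg.pCore p H = ⊥) (Y : Subgroup H) (hY : IsPGroup p ↥Y) : (∀ K : Subgroup H, K.IsSubnormal → Y ≤ K → ⁅Cfsg.generalizedFittingSubgroup H, Y⁆ = ⁅(Cfsg.generalizedFittingSubgroup ↥K).map K.subtype, Y⁆ ∧ ⁅(Cfsg.generalizedFittingSubgroup ↥K).map K.subtype, Y⁆ = ⁅⁅(Cfsg.generalizedFittingSubgroup ↥K).map K.subtype, Y⁆, Y⁆) ∧ (∀ Y₀ : Subgroup H, Y₀ ≤ Y → ⁅⁅Cfsg.generalizedFittingSubgroup H, Y⁆, Y₀⁆ = ⊥ → Y₀ =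 ⊥) := by
  have := H22.fstar_normal (G := H)
  have h0 : pCoreOf p (generalizedFittingSubgroup H) = ⊥ := le_bot_iff.mp (hO ▸ pCoreOf_le_pCore _)
  have h1 := fun (Y : Subgroup H) (hY : IsPGroup p Y) =>
    fstar_comm_comm fstarOf_fstar h0 hY Subgroup.le_normalizer_of_normal
  refine ⟨fun K a b => ?_, fun Y₀ a b => eq_bot_of_le_centralizer_fstar hO (hY.to_le a)
    (commutator_eq_bot_iff'.mp ?_)⟩
  · have h2 : ⁅generalizedFittingSubgroup H, Y⁆ ≤ H22.fstarOf K := H22.fstar_inf_eq_of_subnormal a ▸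
      le_inf (Subgroup.commutator_le_left _ _) (le_of_comm_eq_of_subN (subN_top_iff.mpr a) le_top b (h1 Y hY))
    have h3 : ⁅generalizedFittingSubgroup H, Y⁆ = ⁅H22.fstarOf K, Y⁆ :=
      le_antisymm ((h1 Y hY).ge.trans (Subgroup.commutator_mono h2 le_rfl))
        (Subgroup.commutator_mono (H22.fstarOf_le_fstar_of_subnormal a) le_rfl)
    exact ⟨h3, by rw [← h3, h1 Y hY]⟩
  · rw [← h1 Y₀ (hY.to_le a), ← le_bot_iff, ← b]
    exact Subgroup.commutator_mono (Subgroup.commutator_mono le_rfl a) le_rfl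

end Cfsg.Agent.S2816
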