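import Mathlib
import Cfsg.Statements.S2817
import Cfsg.Agent.H26.FComm
import Cfsg.Agent.H04.Frattini

set_option autoImplicit false
open Cfsg

namespace Cfsg.Agent.S2817
open H26

/-- Let H be a finite group and p a prime with O_p(H) = 1, Q a p-subgroup of H, L = [F*(H), Q], and F the largest normal subgroup of F*(H) centralized by Q (a normal subgroup of F*(H) centralized by Q and containing every such). Then F = C_{F*(H)}(LQ); L = [L, Q]; L ∩ F ≤ Φ(L); every p-subgroup B of N_H(Q) with [L, B] ≤ F satisfies [L, B] = 1; and C_H(FL) has order prime to p. -/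
theorem result {H : Type*} [Group H] [Finite H] {p : ℕ} [Fact p.Prime] (hO : Cfsg.pCore p H = ⊥) (Q : Subgroup H) (hQ : IsPGroup p ↥Q) (L : Subgroup H) (hL : L = ⁅Cfsg.generalizedFittingSubgroup H, Q⁆) (F : Subgroup H) (hF : F ≤ Cfsg.generalizedFittingSubgroup H ∧ Cfsg.generalizedFittingSubgroup H ≤ Subgroup.normalizer (F : Set H) ∧ Q ≤ Subgroup.centralizer (F : Set H) ∧ ∀ N : Subgroup H, N ≤ Cfsg.generalizedFittingSubgroup H → Cfsg.generalizedFittingSubgroup H ≤ Subgroup.normalizer (N : Set H) → Q ≤ Subgroup.centralizer (N : Set H) → N ≤ F) : F = Cfsg.generalizedFittingSubgroup H ⊓ Subgroup.centralizer ((L ⊔ Q : Subgroup H) : Set H) ∧ ⁅L, Q⁆ = L ∧ L ⊓ F ≤ (frattini ↥L).map L.subtype ∧ (∀ B : Subgroup H, IsPGroup p ↥B → B ≤ Subgroup.normalizer (Q : Set H) → ⁅L, B⁆ ≤ F → ⁅L, B⁆ = ⊥) ∧ (Nat.card ↥(Subgroup.centralizer ((F ⊔ L : Subgroup H) : Set H))).Coprime p := by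
  have := H22.fstar_normal (G := H)
  obtain ⟨f1, f2, f3, f4⟩ := hF
  set A := generalizedFittingSubgroup H
  have hA : SubN ⊤ A := .of_normal le_top Subgroup.le_normalizer_of_normal
  have h0 : ∀ W, W ≤ A → A ≤ Subgroup.normalizer (W : Set H) → H22.fstarOf W = W ∧ pCoreOf p W = ⊥ :=
    fun W a b => ⟨fstarOf_eq_self_of_subN (hA.trans (.of_normal a b)) (a.trans H22.fstarOf_top.ge), le_bot_iff.mp
      ((hA.trans (.of_normal a b)).pCoreOf_le.trans (pCoreOf_top.trans hO).le)⟩
  have h1 := h0 A le_rfl Subgroup.le_normalizer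
  have l1 : L ≤ A := hL ▸ Subgroup.commutator_le_left _ _
  have l2 : A ≤ Subgroup.normalizer (L : Set H) := hL ▸ Subgroup.normalizer_commutator_ge_left _ _
  have l3 : Subgroup.normalizer (Q : Set H) ≤ Subgroup.normalizer (L : Set H) :=
    hL ▸ le_normalizer_commutator Subgroup.le_normalizer_of_normal le_rfl
  have h2 := h0 L l1 l2
  have h3 : F = A ⊓ Subgroup.centralizer ((L ⊔ Q : Subgroup H) : Set H) := by
    have e : L ⊔ Q = ncl Q A := by rw [ncl_eq_sup_commutator, sup_comm, hL, Subgroup.commutator_comm]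
    refine le_antisymm (le_inf f1 ?_) (f4 _ inf_le_left (le_normalizer_inf Subgroup.le_normalizer
      (le_normalizer_centralizer (e ▸ le_normalizer_ncl _ _))) (Subgroup.le_centralizer_iff.mp
        (inf_le_right.trans (centralizer_anti le_sup_right))))
    exact e ▸ le_centralizer_ncl (Subgroup.le_centralizer_iff.mp f3) f2
  have h4 : ⁅L, Q⁆ = L := hL ▸ fstar_comm_comm h1.1 h1.2 hQ Subgroup.le_normalizer_of_normal
  have h5 : L ⊓ F ≤ (frattini L).map L.subtype := by
    refine le_trans ?_ (Subgroup.map_mono (H02.commutator_inf_center_le_frattini L))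
    rw [Subgroup.map_inf _ _ _ L.subtype_injective, map_subtype_center, Subgroup.map_subtype_commutator]
    refine le_inf (le_trans (inf_le_inf_left _ (Subgroup.le_centralizer_iff.mp f3))
      (inf_centralizer_le_commutator hQ (Subgroup.le_normalizer.trans l3) h4 (not_dvd_fittingOf h2.2)
        (H02.fittingOf_le L) (h2.1.ge.trans ((H22.fstarOf_eq L).le.trans (sup_le_sup_right ?_ _)))))
      (inf_le_inf_left _ (h3.le.trans (inf_le_right.trans (centralizer_anti le_sup_left))))
    exact (H22.layerOf_perfect L).ge.trans (Subgroup.commutator_mono (H22.layerOf_le L) (H22.layerOf_le L))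
  refine ⟨h3, h4, h5, fun B a b c => ?_, ((Nat.Prime.coprime_iff_not_dvd Fact.out).mpr fun a => ?_).symm⟩
  · rw [Subgroup.commutator_eq_bot_iff_le_centralizer]
    refine (H04.eq_of_le_sup_frattini inf_le_left ((fstar_comm_sup h2.1 h2.2 a (b.trans l3)).ge.trans
      (sup_le (le_trans ?_ le_sup_right) le_sup_left))).ge.trans inf_le_right
    exact (le_inf (commutator_le_of_le_normalizer (b.trans l3)) c).trans h5
  · obtain ⟨B, hB⟩ := exists_isSyl p (Subgroup.centralizer ((F ⊔ L : Subgroup H) : Set H))
    refine hB.ne_bot a (eq_bot_of_le_centralizer_fstar hO hB.pg (commutator_eq_bot_iff'.mp ?_))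
    have b := le_normalizer_centralizer (le_normalizer_sup f2 l2)
    have c := h0 _ inf_le_left (le_normalizer_inf Subgroup.le_normalizer b)
    have d := fstar_comm_sup c.1 c.2 hQ (le_normalizer_inf Subgroup.le_normalizer_of_normal
      (le_normalizer_centralizer (le_normalizer_sup (f3.trans (centralizer_le_normalizer F))
        (Subgroup.le_normalizer.trans l3))))
    have e : ⁅A, B⁆ ≤ F ⊔ L := by
      refine (le_inf (Subgroup.commutator_le_left _ _) ((Subgroup.commutator_mono le_rfl hB.le).trans
        (commutator_le_of_le_normalizer' b))).trans (d.ge.trans (sup_le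
          (((Subgroup.commutator_mono inf_le_left le_rfl).trans hL.ge).trans le_sup_right)
          (le_trans ?_ le_sup_left)))
      rw [h3, centralizer_sup L Q]
      exact le_inf (inf_le_left.trans inf_le_left) (inf_le_inf_right _
        (inf_le_right.trans (centralizer_anti le_sup_right)))
    rw [← fstar_comm_comm h1.1 h1.2 hB.pg Subgroup.le_normalizer_of_normal, commutator_eq_bot_iff']
    exact hB.le.trans (centralizer_anti e)

end Cfsg.Agent.S2817
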