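import Mathlib
import Cfsg.Statements.S2818
import Cfsg.Agent.H26.SubN
import Cfsg.Agent.H04.Frattini

set_option autoImplicit false
open Cfsg

namespace Cfsg.Agent.S2818
open H26
open scoped commutatorElement

/-- Let P be a finite p-subgroup of a group G and H a subgroup of N_G(P) with [P, H] ≤ Ω₁(Z(P)) (the elements of order dividing p in the centre of P). Then H centralizes the Frattini subgroup of P. -/
theorem result {G : Type*} [Group G] [Finite G] {p : ℕ} [Fact p.Prime] (P : Subgroup G) (hP : IsPGroup p ↥P) (H : Subgroup G) (hH : H ≤ Subgroup.normalizer (P : Set G)) (h : ⁅P, H⁆ ≤ Cfsg.omegaOne p (P ⊓ Subgroup.centralizer (P : Set G))) : ⁅(frattini ↥P).map P.subtype, H⁆ = ⊥ := by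
  rw [Subgroup.commutator_eq_bot_iff_le_centralizer]
  have key : ∀ g ∈ H, ∀ x ∈ P, ∃ z, z ∈ P ∧ z ∈ Subgroup.centralizer (P : Set G) ∧ z ^ p = 1 ∧
      g * x * g⁻¹ = x * z := by
    intro g hg x hx
    obtain ⟨a, b, c⟩ := mem_omegaZ.mp (h (Subgroup.commutator_mem_commutator (inv_mem hx) hg))
    exact ⟨_, a, b, c, by rw [commutatorElement_def]; group⟩
  refine (H04.map_subtype_frattini_le_iff hP).mpr ⟨fun x hx y hy g hg => ?_, fun x hx g hg => ?_⟩
  · obtain ⟨z, hz, hz2, -, h1⟩ := key g hg x hx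
    obtain ⟨w, hw, hw2, -, h2⟩ := key g hg y hy
    rw [← mul_inv_eq_iff_eq_mul]
    have h3 : g * ⁅x, y⁆ * g⁻¹ = ⁅g * x * g⁻¹, g * y * g⁻¹⁆ := conjugate_commutatorElement _ _ _
    rw [h3, h1, h2, commutatorElement_def, commutatorElement_def]
    have a1 := hz2 _ (mul_mem hy hw)
    have a2 := hw2 _ (inv_mem hx)
    calc x * z * (y * w) * (x * z)⁻¹ * (y * w)⁻¹ = x * (z * (y * w)) * z⁻¹ * x⁻¹ * (y * w)⁻¹ := by group
      _ = x * y * (w * x⁻¹) * w⁻¹ * y⁻¹ := by rw [← a1]; group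
      _ = x * y * x⁻¹ * y⁻¹ := by rw [← a2]; group
  · obtain ⟨z, hz, hz2, hz3, h1⟩ := key g hg x hx
    rw [← mul_inv_eq_iff_eq_mul, ← conj_pow, h1, Commute.mul_pow (hz2 x hx), hz3, mul_one]

end Cfsg.Agent.S2818
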