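import Mathlib
import Cfsg.Statements.S2819
import Cfsg.Agent.H26.Misc
import Cfsg.Agent.H04.Frattini

set_option autoImplicit false
open Cfsg

namespace Cfsg.Agent.S2819
open H26

/-- Let P be a finite p-subgroup of a group G, H a subgroup of N_G(P), and Y a subgroup of H centralizing the derived subgroup P' such that [P, Y] is elementary abelian. Then O^p(⟨Y^H⟩), the subgroup of the normal closure of Y in H generated by its elements of order prime to p, centralizes the Frattini subgroup of P. -/
theorem result {G : Type*} [Group G] [Finite G] {p : ℕ} [Fact p.Prime] (P : Subgroup G) (hP : IsPGroup p ↥P) (H : Subgroup G) (hH : H ≤ Subgroup.normalizer (P : Set G)) (Y : Subgroup G) (hYH : Y ≤ H) (hYc : Y ≤ Subgroup.centralizer ((⁅P, P⁆ : Subgroup G) : Set G)) (hel : Cfsg.IsElementaryAbelian p ⁅P, Y⁆) (NY : Subgroup G) (hNY : NY = (Subgroup.normalClosure ((Y.subgroupOf H : Subgroup ↥H) : Set ↥H)).map H.subtype) : (Cfsg.pResidual p ↥NY).map NY.subtype ≤ Subgroup.centralizer (((frattini ↥P).map P.subtype : Subgroup G)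 : Set G) := by
  rw [ncl_eq_map hYH] at hNY
  have h1 : H ≤ Subgroup.normalizer ((⁅P, P⁆ : Subgroup G) : Set G) := le_normalizer_commutator hH hH
  have h2 : ⁅Y, (frattini P).map P.subtype⁆ ≤ ⁅P, P⁆ := by
    have a : P ≤ Subgroup.normalizer ((⁅P, P⁆ : Subgroup G) : Set G) := Subgroup.normalizer_commutator_ge_left _ _
    rw [Subgroup.commutator_comm]
    refine (le_commKer_iff.mp ((H04.map_subtype_frattini_le_iff hP).mpr ⟨fun x hx y hy => ?_, fun x hx =>
      ⟨a (pow_mem hx p), fun y hy => ?_⟩⟩)).2
    · exact le_commKer_iff.mpr ⟨Subgroup.le_normalizer, commutator_le_of_le_normalizer (hYH.trans h1)⟩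
        (Subgroup.commutator_mem_commutator hx hy)
    · have b := (Subgroup.mem_normalizer_iff.mp (hH (hYH hy)) x⁻¹).mp (inv_mem hx)
      have c : (⟨x, hx⟩ * ⟨_, b⟩ : P) ^ p = 1 := Subtype.ext (hel.2 _ (by
        simpa only [commutatorElement_def, mul_assoc, Subgroup.coe_mul] using Subgroup.commutator_mem_commutator hx hy))
      have d : (⟨x, hx⟩ : P) ^ p * (⟨_, b⟩ : P) ^ p ∈ commutator P := by
        rw [← Abelianization.ker_of, MonoidHom.mem_ker, map_mul, map_pow, map_pow, ← mul_pow, ← map_mul, ← map_pow, c,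
          map_one]
      have e := Subgroup.mem_map_of_mem P.subtype d
      rw [Subgroup.map_subtype_commutator] at e
      convert e using 1
      simp only [commutatorElement_def, Subgroup.subtype_apply, Subgroup.coe_mul, Subgroup.coe_pow, conj_pow, inv_pow]
      group
  have h3 : ⁅NY, (frattini P).map P.subtype⁆ ≤ ⁅P, P⁆ := hNY ▸ commutator_ncl_le
    (hH.trans (H02.normalizer_le_normalizer_map_subtype _)) h1 (hYH.trans h1) h2
  exact pResidualOf_le_iff.mpr fun x hx hc => mem_centralizer_of_two_step
    (hP.to_le (Subgroup.commutator_le_self P)) hc (fun v hv => h3 (Subgroup.commutator_mem_commutator hx hv))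
    (ncl_le_centralizer hYc h1 (hNY ▸ hx))

end Cfsg.Agent.S2819
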