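import Mathlib
import Cfsg.Statements.S2823
import Cfsg.Agent.H26.YL

set_option autoImplicit false
open Cfsg

namespace Cfsg.Agent.S2823
open H26

/-- Let H be a finite group, p a prime, T a Sylow p-subgroup and L a subgroup of characteristic p containing T; let Z_L be the subgroup generated by the Ω₁(Z(S)) over the Sylow p-subgroups S of L and O^p(L) the subgroup generated by the elements of L of order prime to p. Then Z_L = Ω₁(Z(L))·[Z_L, O^p(L)] and [Z_L, L] = [Z_L, O^p(L)]. -/
theorem result {H : Type*} [Group H] [Finite H] {p : ℕ} [Fact p.Prime] (T : Sylow p H) (L : Subgroup H) (hTL : (T : Subgroup H) ≤ L) (hL : Subgroup.centralizer (Cfsg.pCore p ↥L : Set ↥L) ≤ Cfsg.pCore p ↥L) : Cfsg.sylowCenterClosure p L = (Cfsg.omegaOne p (L ⊓ Subgroup.centralizer ((L : Subgroup H) : Set H))) ⊔ ⁅Cfsg.sylowCenterClosure p L, (Cfsg.pResidual p ↥L).map L.subtype⁆ ∧ ⁅Cfsg.sylowCenterClosure p L, L⁆ = ⁅Cfsg.sylowCenterClosure p L, (Cfsg.pResidual p ↥L).map L.subtype⁆ := by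
  have hc := isCharP_iff.mp hL
  have hT := isSyl_of_le T hTL
  have hZ := pRed_sylowCenterClosure hc
  change _ = _ ⊔ ⁅_, pResidualOf p L⁆ ∧ _ = ⁅_, pResidualOf p L⁆
  have hW : L ≤ Subgroup.normalizer ((⁅sylowCenterClosure p L, pResidualOf p L⁆ : Subgroup H) : Set H) :=
    le_normalizer_commutator hZ.norm (le_normalizer_pResidualOf L)
  have h1 : sylowCenterClosure p L = omegaOne p (L ⊓ Subgroup.centralizer (L : Set H)) ⊔
      ⁅sylowCenterClosure p L, pResidualOf p L⁆ := by
    apply le_antisymm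
    · refine hT.sylowCenterClosure_le (le_normalizer_sup (le_normalizer_omegaZ Subgroup.le_normalizer) hW) ?_
      refine (le_inf hT.omegaZ_le_sylowCenterClosure (omegaZ_le_centralizer _)).trans
        ((hT.inf_centralizer_le hZ.elem.1 hZ.isPGroup hZ.norm).trans (sup_le_sup_right ?_ _))
      exact fun v hv => mem_omegaZ.mpr ⟨hZ.le hv.1, hv.2, hZ.elem.2 v hv.1⟩
    · refine sup_le (le_trans ?_ hT.omegaZ_le_sylowCenterClosure)
        (commutator_le_of_le_normalizer ((pResidualOf_le L).trans hZ.norm))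
      refine H17.omegaOne_mono (le_inf ?_ (inf_le_right.trans (centralizer_anti hTL)))
      exact (hc.centralizer_le (pCoreOf_le L)).trans hT.pCoreOf_le
  refine ⟨h1, le_antisymm ?_ (Subgroup.commutator_mono le_rfl (pResidualOf_le L))⟩
  conv_lhs => rw [h1]
  refine commutator_sup_le ((omegaZ_le L).trans hW) Subgroup.le_normalizer ?_
    (commutator_le_of_le_normalizer hW)
  rw [Subgroup.commutator_eq_bot_iff_le_centralizer.mpr (omegaZ_le_centralizer L)]
  exact bot_le

end Cfsg.Agent.S2823
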