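import Mathlib
import Cfsg.Statements.S2824
import Cfsg.Agent.H26.YL

set_option autoImplicit false
open Cfsg

namespace Cfsg.Agent.S2824
open H26

/-- Let H be a finite group, p a prime, T a Sylow p-subgroup, L and M subgroups of characteristic p containing T, Y_L the largest p-reduced normal subgroup of L and T₀ = C_T(Y_L). If M·C_H(Y_L) = L·C_H(Y_L), then L* := N_M(T₀) has Y_{L*} = Y_L and L·C_H(Y_L) = L*·C_H(Y_L). -/
theorem result {H : Type*} [Group H] [Finite H] {p : ℕ} [Fact p.Prime] (T : Sylow p H) (L M : Subgroup H) (hTL : (T : Subgroup H) ≤ L) (hTM : (T : Subgroup H) ≤ M) (hL : Subgroup.centralizer (Cfsg.pCore p ↥L : Set ↥L) ≤ Cfsg.pCore p ↥L) (hM : Subgroup.centralizer (Cfsg.pCore p ↥M : Set ↥M) ≤ Cfsg.pCore p ↥M) (T₀ : Subgroup H) (hT₀ : T₀ = (T : Subgroup H) ⊓ Subgroup.centralizer (((Cfsg.largestPReducedOf p L) : Subgroup H) : Set H)) (hfac : M ⊔ Subgroup.centralizer (((Cfsg.largestPReducedOf p L) : Subgroup H) : Set H) = L ⊔ Subgroup.centralizer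 (((Cfsg.largestPReducedOf p L) : Subgroup H) : Set H)) (Ls : Subgroup H) (hLs : Ls = M ⊓ Subgroup.normalizer ((T₀ : Subgroup H) : Set H)) : (Cfsg.largestPReducedOf p Ls) = (Cfsg.largestPReducedOf p L) ∧ L ⊔ Subgroup.centralizer (((Cfsg.largestPReducedOf p L) : Subgroup H) : Set H) = Ls ⊔ Subgroup.centralizer (((Cfsg.largestPReducedOf p L) : Subgroup H) : Set H) := by
  have hc := isCharP_iff.mp hL
  have hT := isSyl_of_le T hTL
  have hTM' := isSyl_of_le T hTM
  have hY := pRed_Y (p := p) L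
  set Y := largestPReducedOf p L with hYd
  set C := Subgroup.centralizer (Y : Set H) with hC
  have hMY : M ≤ Subgroup.normalizer (Y : Set H) :=
    (le_sup_left.trans hfac.le).trans (sup_le hY.norm (centralizer_le_normalizer Y))
  have hMC : M ≤ Subgroup.normalizer ((M ⊓ C : Subgroup H) : Set H) :=
    le_normalizer_inf Subgroup.le_normalizer (le_normalizer_centralizer hMY)
  have hS : IsSyl p T₀ (M ⊓ C) := hT₀ ▸ hTM'.inf_of_le_normalizer (le_normalizer_centralizer hMY)
  have h1 := hS.frattini_sup inf_le_left hMC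
  rw [← hLs] at h1
  have h2 : L ⊔ C = Ls ⊔ C := by
    rw [← hfac]
    refine le_antisymm (sup_le (h1.ge.trans (sup_le (inf_le_right.trans le_sup_right) le_sup_left))
      le_sup_right) (sup_le_sup_right (hLs ▸ inf_le_left) _)
  have hTLs : (T : Subgroup H) ≤ Ls := hLs ▸ le_inf hTM (hT₀ ▸ le_normalizer_inf
    Subgroup.le_normalizer (le_normalizer_centralizer (hTL.trans hY.norm)))
  have h3 : Y ≤ largestPReducedOf p Ls :=
    (hY.of_sup_eq (hY.le_pCoreOf.trans (hT.pCoreOf_le.trans hTLs)) h2.symm).le_Y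
  have hYs := pRed_Y (p := p) Ls
  refine ⟨le_antisymm ?_ h3, h2⟩
  rw [hYd, Y_eq_omegaZ hc hT hT₀]
  refine le_omegaZ ?_ (le_trans ?_ hYs.pCoreOf_le) hYs.elem.2
  · rw [hT₀]
    exact le_inf (hYs.le_pCoreOf.trans (isSyl_of_le T hTLs).pCoreOf_le)
      (hYs.le_centralizer.trans (centralizer_anti h3))
  · exact le_pCoreOf ((hT₀ ▸ inf_le_left : T₀ ≤ T).trans hTLs) (hLs ▸ inf_le_right) hS.pg

end Cfsg.Agent.S2824
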