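import Mathlib
import Cfsg.Statements.S2825
import Cfsg.Agent.H26.YL

set_option autoImplicit false
open Cfsg

namespace Cfsg.Agent.S2825
open H26

/-- Let L be a subnormal subgroup of the finite group H, p a prime, Y_H and Y_L the largest p-reduced normal subgroups. Then Y_H ∩ L = Y_H ∩ Y_L and this subgroup is a p-reduced normal subgroup of L; C_L(Y_L) = C_L(Y_H) = C_L(Y_H ∩ L); and if O^p(H) ≤ L, then [Y_L, L] = 1 if and only if [Y_H, H] = 1. -/
theorem result {H : Type*} [Group H] [Finite H] {p : ℕ} [Fact p.Prime] (L : Subgroup H) (hL : L.IsSubnormal) : Cfsg.largestPReduced p H ⊓ L = Cfsg.largestPReduced p H ⊓ (Cfsg.largestPReducedOf p L) ∧ Cfsg.IsPReducedNormal p ((Cfsg.largestPReduced p H ⊓ L).subgroupOf L) ∧ L ⊓ Subgroup.centralizer ((Cfsg.largestPReducedOf p L : Subgroup H) : Set H) = L ⊓ Subgroup.centralizer (Cfsg.largestPReduced p H : Set H) ∧ L ⊓ Subgroup.centralizer (Cfsg.largestPReduced p H : Set H) = L ⊓ Subgroup.centralizer ((Cfsg.largestPReduced p H ⊓ L : Subgroup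 H) : Set H) ∧ (Cfsg.pResidual p H ≤ L → (⁅(Cfsg.largestPReducedOf p L), L⁆ = ⊥ ↔ ⁅Cfsg.largestPReduced p H, (⊤ : Subgroup H)⁆ = ⊥)) := by
  rw [← Y_top, ← pResidualOf_top]
  have hL' := subN_top_iff.mpr hL
  have hY := pRed_Y (p := p) (⊤ : Subgroup H)
  have h1 := hY.inf_subN hL'
  have h2 : L ⊓ Subgroup.centralizer ((largestPReducedOf p ⊤ ⊓ L : Subgroup H) : Set H) ≤
      Subgroup.centralizer (largestPReducedOf p (⊤ : Subgroup H) : Set H) := by
    have h3 : SubN ⊤ (L ⊓ Subgroup.centralizer ((largestPReducedOf p ⊤ ⊓ L : Subgroup H) : Set H)) :=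
      hL'.trans (.of_normal inf_le_left
        (le_normalizer_inf Subgroup.le_normalizer (le_normalizer_centralizer h1.norm)))
    refine hY.subN_le' h3 ((pResidualOf_le _).trans (inf_le_right.trans (centralizer_anti ?_)))
    exact (hY.commutator_le_inf h3).trans (inf_le_inf_left _ inf_le_left)
  have h4 : L ⊓ Subgroup.centralizer (largestPReducedOf p L : Set H) =
      L ⊓ Subgroup.centralizer (largestPReducedOf p (⊤ : Subgroup H) : Set H) :=
    le_antisymm (le_inf inf_le_left ((inf_le_inf_left _ (centralizer_anti h1.le_Y)).trans h2))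
      (le_inf inf_le_left (centralizer_Y_le_of_subN hL'))
  refine ⟨le_antisymm (le_inf inf_le_left h1.le_Y) (inf_le_inf_left _ (Y_le L)),
    (isPReducedNormal_subgroupOf_iff inf_le_right).mpr h1, h4,
    le_antisymm (inf_le_inf_left _ (centralizer_anti inf_le_left)) (le_inf inf_le_left h2),
    fun hr => ?_⟩
  rw [commutator_eq_bot_iff', commutator_eq_bot_iff', ← inf_eq_left, h4, inf_eq_left]
  exact ⟨fun h => hY.red ⊤ le_rfl Subgroup.le_normalizer (hr.trans h), fun h => le_top.trans h⟩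

end Cfsg.Agent.S2825
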