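import Mathlib
import Cfsg.Statements.S2826
import Cfsg.Agent.H26.YL

set_option autoImplicit false
open Cfsg

namespace Cfsg.Agent.S2826
open H26

/-- Let H be a finite group of characteristic p, T a Sylow p-subgroup, and V a normal elementary abelian p-subgroup of H containing Ω₁(Z(T)). Then C_H(Ω₁(Z(T))) = C_H([V, O^p(H)] ∩ Ω₁(Z(T))), O^p(H) being generated by the elements of order prime to p. -/
theorem result {H : Type*} [Group H] [Finite H] {p : ℕ} [Fact p.Prime] (hH : Subgroup.centralizer (Cfsg.pCore p H : Set H) ≤ Cfsg.pCore p H) (T : Sylow p H) (V : Subgroup H) [V.Normal] (hV : Cfsg.IsElementaryAbelian p V) (hZV : (Cfsg.omegaOne p ((T : Subgroup H) ⊓ Subgroup.centralizer (((T : Subgroup H) : Subgroup H) : Set H))) ≤ V) : Subgroup.centralizer ((Cfsg.omegaOne p ((T : Subgroup H) ⊓ Subgroup.centralizer (((T : Subgroup H) : Subgroup H) : Set H))) : Set H) = Subgroup.centralizer (((⁅V, Cfsg.pResidual p H⁆ ⊓ (Cfsg.omegaOne p ((T : Subgroup H) ⊓ Subgroup.centralizer (((T : Subgroup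 H) : Subgroup H) : Set H)))) : Subgroup H) : Set H) := by
  refine le_antisymm (centralizer_anti inf_le_right) ?_
  have hVp := H17.elemAb_isPGroup hV
  have h1 := (isSyl_top T).inf_centralizer_le hV.1 hVp Subgroup.le_normalizer_of_normal
  rw [pResidualOf_top] at h1
  rw [← Subgroup.le_centralizer_iff]
  intro z hz
  have h2 := h1 ⟨hZV hz, omegaZ_le_centralizer _ hz⟩
  rw [mem_sup_of_le_normalizer (inf_le_left.trans (Subgroup.normalizer_commutator_ge_left _ _))]
    at h2
  obtain ⟨a, ha, w, hw, rfl⟩ := h2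
  have haZ : a ∈ omegaOne p ((T : Subgroup H) ⊓ Subgroup.centralizer ((T : Subgroup H) : Set H)) :=
    mem_omegaZ.mpr ⟨hVp.le_sylow_of_normal T ha.1, centralizer_anti le_top ha.2, hV.2 a ha.1⟩
  exact Subgroup.mul_mem _ (centralizer_anti le_top ha.2)
    (le_centralizer_centralizer _ ⟨hw, (Subgroup.mul_mem_cancel_left _ haZ).mp hz⟩)

end Cfsg.Agent.S2826
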