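import Mathlib
import Cfsg.Statements.S2828
import Cfsg.Agent.H26.PIrr

set_option autoImplicit false
open Cfsg

namespace Cfsg.Agent.S2828
open H26

/-- Let H be a finite group, p a prime and D a normal p-subgroup of H. Then H is p-irreducible if and only if H/D is p-irreducible, and H is strongly p-irreducible if and only if H/D is strongly p-irreducible. -/
theorem result {H : Type*} [Group H] [Finite H] {p : ℕ} [Fact p.Prime] (D : Subgroup H) [D.Normal] (hD : IsPGroup p ↥D) : (Cfsg.IsPIrreducible p H ↔ Cfsg.IsPIrreducible p (H ⧸ D)) ∧ (Cfsg.IsStronglyPIrreducible p H ↔ Cfsg.IsStronglyPIrreducible p (H ⧸ D)) := by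
  have hs := QuotientGroup.mk'_surjective D
  have hk : ∀ N : Subgroup H, IsPGroup p (N ⊓ (QuotientGroup.mk' D).ker : Subgroup H) := fun N => by
    rw [QuotientGroup.ker_mk']; exact hD.to_inf_right
  have h1 : ∀ N : Subgroup H, PClosed p (N.map (QuotientGroup.mk' D)) ↔ PClosed p N := fun N =>
    ⟨PClosed.of_map _ (hk N), PClosed.map _⟩
  have h2 := Subgroup.map_top_of_surjective _ hs
  have h3 : ∀ N : Subgroup H, N.Normal → (pResidualOf p (⊤ : Subgroup (H ⧸ D)) ≤
      N.map (QuotientGroup.mk' D) ↔ pResidualOf p ⊤ ≤ N) := by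
    intro N hN
    rw [← h2, ← map_pResidualOf]
    refine ⟨fun h => ?_, Subgroup.map_mono⟩
    rw [Subgroup.map_le_iff_le_comap, Subgroup.comap_map_eq, QuotientGroup.ker_mk', sup_comm] at h
    have h4 := pResidualOf_mono (p := p) h
    rw [pResidualOf_idem, pResidualOf_sup_eq hD Subgroup.le_normalizer_of_normal] at h4
    exact h4.trans (pResidualOf_le N)
  have h4 : ∀ N : Subgroup H, (⁅N.map (QuotientGroup.mk' D), (⊤ : Subgroup (H ⧸ D))⁆ ≤ pCoreOf p ⊤ ↔
      ⁅N, (⊤ : Subgroup H)⁆ ≤ pCoreOf p ⊤) := by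
    intro N
    rw [← h2, ← Subgroup.map_commutator, pCoreOf_map_of_ker _ (hk _), Subgroup.map_le_iff_le_comap,
      Subgroup.comap_map_eq, QuotientGroup.ker_mk', sup_eq_left.mpr
        (le_pCoreOf le_top Subgroup.le_normalizer_of_normal hD)]
  rw [isPIrreducible_top_iff, isPIrreducible_top_iff, isStronglyPIrreducible_top_iff,
    isStronglyPIrreducible_top_iff]
  have h5 : PClosed p (⊤ : Subgroup H) ↔ PClosed p (⊤ : Subgroup (H ⧸ D)) := by rw [← h2, h1]
  refine ⟨and_congr h5.not ⟨fun h N _ a b => ?_, fun h N _ a b => ?_⟩,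
    and_congr h5.not ⟨fun h N _ a b => ?_, fun h N _ a b => ?_⟩⟩
  · have := normal_of_top_le a
    rw [← Subgroup.map_comap_eq_self_of_surjective hs N] at b ⊢
    exact (h3 _ inferInstance).mpr (h _ le_top Subgroup.le_normalizer_of_normal (by rwa [← h1]))
  · have := normal_of_top_le a
    have := this.map _ hs
    exact (h3 N ‹_›).mp (h _ le_top Subgroup.le_normalizer_of_normal (by rwa [h1]))
  · have := normal_of_top_le a
    rw [← Subgroup.map_comap_eq_self_of_surjective hs N] at b ⊢
    exact (h3 _ inferInstance).mpr (h _ le_top Subgroup.le_normalizer_of_normal (by rwa [← h4]))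
  · have := normal_of_top_le a
    have := this.map _ hs
    exact (h3 N ‹_›).mp (h _ le_top Subgroup.le_normalizer_of_normal (by rwa [h4]))

end Cfsg.Agent.S2828
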