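import Mathlib
import Cfsg.Statements.S2830
import Cfsg.Agent.H26.PIrr

set_option autoImplicit false
open Cfsg

namespace Cfsg.Agent.S2830
open H26

/-- Let H act by conjugation on the elementary abelian p-subgroup V of a finite group G (H ≤ N(V)), with H p-irreducible and O^p(H) not centralizing V. Then C_H(V) is p-closed and C_T(V) ≤ O_p(H) for every p-subgroup T of H. If in addition O_p(H) centralizes V, then C_T(V) = T ∩ O_p(H) for every p-subgroup T of H, and V is p-reduced for H: O_p(H/C_H(V)) = 1. -/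
theorem result {G : Type*} [Group G] [Finite G] {p : ℕ} [Fact p.Prime] (V H : Subgroup G) (hV : Cfsg.IsElementaryAbelian p V) (hHV : H ≤ Subgroup.normalizer (V : Set G)) (hH : Cfsg.IsPIrreducible p ↥H) (hnc : ¬ (Cfsg.pResidual p ↥H).map H.subtype ≤ Subgroup.centralizer (V : Set G)) [hn : ((Subgroup.centralizer (V : Set G)).subgroupOf H).Normal] : Cfsg.IsPClosed p ↥(H ⊓ Subgroup.centralizer (V : Set G)) ∧ (∀ T : Subgroup G, T ≤ H → IsPGroup p ↥T → T ⊓ Subgroup.centralizer (V : Set G) ≤ Cfsg.pCoreOf p H) ∧ (Cfsg.pCoreOf p H ≤ Subgroup.centralizer (V : Set G) → (∀ T : Subgroup G, T ≤ H → IsPGroup p ↥T → T ⊓ Subgroup.centralizer (V : Set G) = T ⊓ Cfsg.pCoreOf p H) ∧ Cfsg.pCore p (↥H ⧸ (Subgroup.centralizer (V : Set G)).subgroupOf H) = ⊥) := by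
  have h := isPIrreducible_iff.mp hH
  change ¬ pResidualOf p H ≤ _ at hnc
  have hC := le_normalizer_inf Subgroup.le_normalizer (le_normalizer_centralizer hHV)
  have h1 : PClosed p (H ⊓ Subgroup.centralizer (V : Set G)) := by
    by_contra h1
    exact hnc ((h.2 _ inf_le_left hC h1).trans inf_le_right)
  have h2 : ∀ T : Subgroup G, T ≤ H → IsPGroup p T →
      T ⊓ Subgroup.centralizer (V : Set G) ≤ pCoreOf p H := fun T a b =>
    (h1 _ (inf_le_inf_right _ a) b.to_inf_left).trans (pCoreOf_le_of_normal inf_le_left hC)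
  refine ⟨isPClosed_iff.mpr h1, h2, fun h3 => ⟨fun T a b =>
    le_antisymm (le_inf inf_le_left (h2 T a b)) (inf_le_inf_left _ h3), ?_⟩⟩
  refine redMod_iff_quotient.mpr fun D a b c => ?_
  by_cases h4 : PClosed p D
  · rw [← h4.isSyl.pResidualOf_sup]
    exact sup_le c ((pCoreOf_le_of_normal a b).trans h3)
  · have h5 := pResidualOf_mono (p := p) (h.2 D a b h4)
    rw [pResidualOf_idem] at h5
    exact absurd (h5.trans c) hnc

end Cfsg.Agent.S2830
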