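import Mathlib
import Cfsg.Statements.S2832
import Cfsg.Agent.H26.PIrr

set_option autoImplicit false
open Cfsg

namespace Cfsg.Agent.S2832
open H26

/-- Let H be a finite group with Sylow p-subgroup T such that H is T-minimal (generated by the conjugates of T, with T in exactly one maximal subgroup), and let N be a normal subgroup of H. Then either H/N is a p-group or H/N is minimal over the image of T in the same sense. -/
theorem result {H : Type*} [Group H] [Finite H] {p : ℕ} [Fact p.Prime] (T : Sylow p H) (hmin : Cfsg.IsMinimalOver (T : Subgroup H)) (N : Subgroup H) [N.Normal] : IsPGroup p (H ⧸ N) ∨ Cfsg.IsMinimalOver ((T : Subgroup H).map (QuotientGroup.mk' N)) := by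
  obtain ⟨h1, M, hM⟩ := isMinimalOver_top_iff.mp hmin
  have hs := QuotientGroup.mk'_surjective N
  have h2 := Subgroup.map_top_of_surjective _ hs
  by_cases h : (T : Subgroup H) ⊔ N = ⊤
  · left
    have h3 := T.isPGroup'.map (QuotientGroup.mk' N)
    have h4 : (T : Subgroup H).map (QuotientGroup.mk' N) = ⊤ := by
      rw [← h2, ← h, Subgroup.map_sup, (Subgroup.map_eq_bot_iff N).mpr (QuotientGroup.ker_mk' N).ge,
        sup_bot_eq]
    rw [h4] at h3
    exact h3.of_equiv Subgroup.topEquiv
  · right
    have h3 : N ≤ M := le_sup_right.trans (hM.max _ le_sup_left (lt_top_iff_ne_top.mpr h))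
    rw [isMinimalOver_top_iff, ← h2, ← map_ncl, h1]
    refine ⟨rfl, M.map (QuotientGroup.mk' N), Subgroup.map_mono hM.le, ?_, fun X a b => ?_⟩
    · refine lt_of_le_not_ge (Subgroup.map_mono le_top) fun h4 => hM.lt.not_ge ?_
      rwa [Subgroup.map_le_iff_le_comap, Subgroup.comap_map_eq, QuotientGroup.ker_mk',
        sup_eq_left.mpr h3] at h4
    · rw [← Subgroup.map_comap_eq_self_of_surjective hs X]
      refine Subgroup.map_mono (hM.max _ (Subgroup.map_le_iff_le_comap.mp a) ?_)
      exact lt_of_le_not_ge le_top fun h4 => b.not_ge (Subgroup.map_le_iff_le_comap.mpr h4)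

end Cfsg.Agent.S2832
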