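import Mathlib
import Cfsg.Statements.S2833
import Cfsg.Agent.H26.PIrr

set_option autoImplicit false
open Cfsg

namespace Cfsg.Agent.S2833
open H26

theorem key {G : Type*} [Group G] {V A B X : Subgroup G} (hA : A ≤ Subgroup.normalizer (B : Set G))
    (h1 : A ≤ Subgroup.centralizer (X : Set G)) (h2 : B ⊓ Subgroup.centralizer (X : Set G) ≤ A) :
    (A ⊔ B) ⊓ Subgroup.centralizer (X : Set G) = A := by
  rw [inf_comm, inf_sup_eq_of_le_normalizer hA h1, inf_comm, sup_eq_left.mpr h2]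

/-- Let V be a subgroup of a finite group G normalized by the subgroup L, let X ≤ L and g ∈ L with [V, X, X] = 1 and L generated by X and gXg⁻¹. Put W = [V, L]. Then W = [V, X]·[V, gXg⁻¹], C_W(X) = [V, X], and C_W(L) = [V, X] ∩ [V, gXg⁻¹]. -/
theorem result {G : Type*} [Group G] [Finite G] (V L : Subgroup G) (hLV : L ≤ Subgroup.normalizer (V : Set G)) (X : Subgroup G) (hX : X ≤ L) (g : G) (hg : g ∈ L) (hq : ⁅⁅V, X⁆, X⁆ = ⊥) (hgen : X ⊔ X.map (MulAut.conj g).toMonoidHom = L) (W : Subgroup G) (hW : W = ⁅V, L⁆) : ⁅V, X⁆ ⊔ ⁅V, X.map (MulAut.conj g).toMonoidHom⁆ = W ∧ W ⊓ Subgroup.centralizer (X : Set G) = ⁅V, X⁆ ∧ W ⊓ Subgroup.centralizer (L : Set G) = ⁅V, X⁆ ⊓ ⁅V, X.map (MulAut.conj g).toMonoidHom⁆ := by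
  have hX' : cj(g, X) ≤ L := cj_le_of_le_of_mem hX hg
  have hgV : cj(g, V) = V := cj_eq_iff.mpr (hLV hg)
  have hB : cj(g, ⁅V, X⁆) = ⁅V, cj(g, X)⁆ := by rw [cj_commutator, hgV]
  have a1 : ⁅V, X⁆ ≤ V := commutator_le_of_le_normalizer (hX.trans hLV)
  have a2 : ⁅V, cj(g, X)⁆ ≤ V := commutator_le_of_le_normalizer (hX'.trans hLV)
  have c1 : ⁅V, X⁆ ≤ Subgroup.centralizer (X : Set G) :=
    Subgroup.commutator_eq_bot_iff_le_centralizer.mp hq
  have c2 : ⁅V, cj(g, X)⁆ ≤ Subgroup.centralizer ((cj(g, X) : Subgroup G) : Set G) := by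
    rw [← hB, ← cj_centralizer]; exact cj_mono g c1
  have h1 : ⁅V, X⁆ ⊔ ⁅V, cj(g, X)⁆ = W := by
    rw [hW]
    refine le_antisymm (sup_le (Subgroup.commutator_mono le_rfl hX)
      (Subgroup.commutator_mono le_rfl hX')) ?_
    rw [← hgen]
    refine commutator_sup_le' (le_normalizer_of_commutator_le ?_) (le_normalizer_of_commutator_le ?_)
      le_sup_left le_sup_right
    · exact (Subgroup.commutator_mono (sup_le a1 a2) le_rfl).trans le_sup_left
    · exact (Subgroup.commutator_mono (sup_le a1 a2) le_rfl).trans le_sup_right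
  have hL : Subgroup.centralizer (L : Set G) = Subgroup.centralizer (X : Set G) ⊓
      Subgroup.centralizer ((cj(g, X) : Subgroup G) : Set G) := by rw [← hgen, centralizer_sup]
  have hgc : ∀ U : Subgroup G, U ≤ Subgroup.centralizer (L : Set G) → cj(g, U) = U := fun U hU =>
    cj_eq_iff.mpr (centralizer_le_normalizer U (Subgroup.le_centralizer_iff.mp hU hg))
  have h2 : W ⊓ Subgroup.centralizer (X : Set G) = ⁅V, X⁆ := by
    rw [← h1]
    refine key (V := V) (a1.trans (Subgroup.normalizer_commutator_ge_left _ _)) c1 ?_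
    have := hgc (⁅V, cj(g, X)⁆ ⊓ Subgroup.centralizer (X : Set G))
      (hL ▸ le_inf inf_le_right (inf_le_left.trans c2))
    rw [← cj_le_cj_iff (g := g), this, hB]
    exact inf_le_left
  have h3 : W ⊓ Subgroup.centralizer ((cj(g, X) : Subgroup G) : Set G) = ⁅V, cj(g, X)⁆ := by
    rw [← h1, sup_comm]
    refine key (V := V) (a2.trans (Subgroup.normalizer_commutator_ge_left _ _)) c2 ?_
    have := hgc (⁅V, X⁆ ⊓ Subgroup.centralizer ((cj(g, X) : Subgroup G) : Set G))
      (hL ▸ le_inf (inf_le_left.trans c1) inf_le_right)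
    rw [← this, ← hB]
    exact cj_mono g inf_le_left
  refine ⟨h1, h2, ?_⟩
  rw [hL, inf_inf_distrib_left, h2, h3]

end Cfsg.Agent.S2833
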