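import Mathlib
import Cfsg.Statements.S2834
import Cfsg.Agent.H26.PIrr

set_option autoImplicit false
open Cfsg

namespace Cfsg.Agent.S2834
open H26

theorem umax_of_syl {H : Type*} [Group H] [Finite H] {p : ℕ} [Fact p.Prime] {T M T₁ : Subgroup H}
    (hT : IsSyl p T ⊤) (hM : UMax T ⊤ M) (a : H) (h : IsSyl p T₁ cj(a, M)) :
    IsSyl p T₁ ⊤ ∧ UMax T₁ ⊤ cj(a, M) := by
  have h1 := hT.cj_of_mem (Subgroup.mem_top a)
  obtain ⟨m, hm, rfl⟩ := (h1.mono (cj_mono a hM.le) le_top).exists_cj_eq h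
  refine ⟨h1.cj_of_mem (Subgroup.mem_top m), ?_⟩
  have h2 := (hM.cj a).cj m
  rwa [cj_top, cj_top, cj_eq_self_of_mem hm] at h2

theorem main {H : Type*} [Group H] [Finite H] {p : ℕ} [Fact p.Prime] {T M A : Subgroup H}
    (hT : IsSyl p T ⊤) (hn : ncl T ⊤ = ⊤) (hM : UMax T ⊤ M) (hAT : A ≤ T) (hA : ¬ A ≤ pCore p H) :
    ∃ (D : Subgroup H) (a : H), pCore p H ≤ D ∧ IsPGroup p D ∧ A ≤ Subgroup.normalizer (D : Set H) ∧
      (∀ b, A ⊔ D ≤ cj(b, M) → cj(b, M) = cj(a, M)) ∧ ¬ Subgroup.normalizer (D : Set H) ≤ cj(a, M) := by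
  set O := pCore p H with hO
  obtain ⟨S₀, ⟨h1, h2, a, b, hab, ha, hb⟩, hmax⟩ := exists_maximal_of_wellFoundedGT
    (fun S₀ : Set (Subgroup H) => (∀ B ∈ S₀, ∃ h, B = cj(h, A)) ∧ IsPGroup p (sSup S₀ ⊔ O : Subgroup H) ∧
      ∃ a b, cj(a, M) ≠ cj(b, M) ∧ sSup S₀ ⊔ O ≤ cj(a, M) ∧ sSup S₀ ⊔ O ≤ cj(b, M)) (by
    refine ⟨∅, by simp, by rw [sSup_empty, bot_sup_eq]; exact isPGroup_pCore, ?_⟩
    obtain ⟨g, -, hg⟩ := SetLike.not_le_iff_exists.mp hM.lt.not_ge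
    have h3 : ∀ a : H, sSup ∅ ⊔ O ≤ cj(a, M) := fun a => by
      rw [sSup_empty, bot_sup_eq, ← cj_eq_of_normal a O]
      exact cj_mono a (pCoreOf_top.ge.trans (hT.pCoreOf_le.trans hM.le))
    refine ⟨g, 1, fun h => hg ?_, h3 _, h3 _⟩
    rw [cj_one] at h
    exact hM.normalizer_le hn hM.le le_rfl ⟨Subgroup.mem_top g, cj_eq_iff.mp h⟩)
  set D := sSup S₀ ⊔ O with hD
  have step : ∀ a b : H, cj(a, M) ≠ cj(b, M) → D ≤ cj(a, M) → D ≤ cj(b, M) →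
      ∃ h, cj(h, A) ≤ Subgroup.normalizer (D : Set H) ∧ cj(h, A) ≤ cj(a, M) ∧
        ∀ c, cj(h, A) ⊔ D ≤ cj(c, M) → cj(c, M) = cj(a, M) := by
    intro a b hab ha hb
    obtain ⟨T₁, hT₁, hDT₁⟩ := exists_isSyl_ge h2 ha
    obtain ⟨T₂, hT₂, hDT₂⟩ := exists_isSyl_ge h2 hb
    obtain ⟨a1, a2⟩ := umax_of_syl hT hM a hT₁
    obtain ⟨b1, b2⟩ := umax_of_syl hT hM b hT₂
    set S : Set (Subgroup H) := {B | (∃ h, B = cj(h, A)) ∧ B ≤ T₁} with hS
    have hconj : ∀ U ∈ S, ∀ g ∈ T₁, cj(g, U) ∈ S := by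
      rintro _ ⟨⟨h, rfl⟩, hU⟩ g hg
      exact ⟨⟨g * h, cj_cj _ _ _⟩, cj_le_of_le_of_mem hU hg⟩
    have hsub : S₀ ⊂ S := by
      refine ⟨fun B hB => ⟨h1 B hB, (le_sSup hB).trans (le_sup_left.trans hDT₁)⟩, fun hle => hab ?_⟩
      have hW : sSup S ≤ T₂ := (sSup_le_sSup hle).trans (le_sup_left.trans hDT₂)
      obtain ⟨g, -, rfl⟩ := a1.exists_cj_eq b1
      have hg : g⁻¹ ∈ Subgroup.normalizer ((sSup S : Subgroup H) : Set H) := by
        refine mem_normalizer_of_cj_le ?_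
        rw [cj_le_iff_le_cj, sSup_le_iff]
        rintro _ ⟨⟨h, rfl⟩, hU⟩
        rw [← cj_le_iff_le_cj]
        refine le_sSup ⟨⟨g⁻¹ * h, cj_cj _ _ _⟩, ?_⟩
        rw [cj_le_iff_le_cj, inv_inv]
        exact (le_sSup (show cj(h, A) ∈ S from ⟨⟨h, rfl⟩, hU⟩)).trans hW
      have hT₁W : T₁ ≤ Subgroup.normalizer ((sSup S : Subgroup H) : Set H) := fun t ht =>
        mem_normalizer_of_cj_le (by
          rw [cj_le_iff_le_cj, sSup_le_iff]
          intro U hU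
          rw [← cj_le_iff_le_cj]
          exact le_sSup (hconj U hU t ht))
      have hN : Subgroup.normalizer ((sSup S : Subgroup H) : Set H) ≤ cj(a, M) := by
        refine a2.le_of_not_le hT₁W le_top fun h3 => hA ?_
        have := normal_of_top_le h3
        obtain ⟨k, -, hk⟩ := a1.exists_cj_le (hT.pg.to_le hAT) le_top
        have h4 : sSup S ≤ O := le_pCore (a1.pg.to_le (sSup_le fun U hU => hU.2))
        rw [← cj_le_cj_iff (g := k), cj_eq_of_normal k O]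
        exact (le_sSup (show cj(k, A) ∈ S from ⟨⟨k, rfl⟩, hk⟩)).trans h4
      have h3 : cj(g, T₁) ≤ cj(a, M) :=
        (cj_le_of_le_of_mem hT₁W ((Subgroup.inv_mem_iff _).mp hg)).trans hN
      exact (a2.isCoatom.le_iff.mp (b2.max _ h3 a2.lt)).resolve_left b2.lt.ne |>.symm
    obtain ⟨_, ⟨⟨h, rfl⟩, hX⟩, hX0, hXn⟩ := H16.exists_le_normalizer_sSup_in T₁ S S₀ (fun U hU => hU.2)
      (fun U hU => (subN_of_isPGroup a1.pg hU.2).isSubnormal) hconj hsub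
    refine ⟨h, le_normalizer_sup hXn Subgroup.le_normalizer_of_normal, hX.trans hT₁.le, fun c hc => ?_⟩
    by_contra hne
    refine hX0 (hmax (y := insert cj(h, A) S₀) ⟨?_, ?_, c, a, hne, ?_, ?_⟩ (Set.subset_insert _ _)
      (Set.mem_insert _ _))
    · rintro B (rfl | hB)
      · exact ⟨h, rfl⟩
      · exact h1 B hB
    · rw [sSup_insert, sup_assoc]; exact a1.pg.to_le (sup_le hX hDT₁)
    · rwa [sSup_insert, sup_assoc]
    · rw [sSup_insert, sup_assoc]; exact sup_le (hX.trans hT₁.le) ha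
  obtain ⟨h, c1, c2, c3⟩ := step a b hab ha hb
  obtain ⟨k, d1, d2, d3⟩ := step b a hab.symm hb ha
  refine ⟨cj(h⁻¹, D), h⁻¹ * a, ?_, isPGroup_cj h2 _, ?_, fun c hc => ?_, fun h3 => ?_⟩
  · rw [← cj_eq_of_normal h⁻¹ O]; exact cj_mono _ le_sup_right
  · rw [← cj_normalizer, ← cj_le_iff_le_cj]; exact c1
  · rw [← cj_cj, ← c3 (h * c), cj_cj, inv_mul_cancel_left]
    rw [← cj_cj, ← cj_cj_inv h D, ← cj_sup]
    exact cj_mono h hc
  · rw [← cj_normalizer, ← cj_cj, cj_le_cj_iff] at h3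
    exact hab (d3 a (sup_le (d1.trans h3) ha))

/-- The L-Lemma: let H be a finite group with Sylow p-subgroup T such that H is T-minimal (generated by the conjugates of T, T in exactly one maximal subgroup M), and let A ≤ T with A not contained in O_p(H). Then there is a subgroup L of H containing A·O_p(H) such that (a) A·O_p(L) lies in exactly one maximal subgroup L₀ of L, and L₀ = L ∩ gMg⁻¹ for some g ∈ H; (b) L = ⟨A, xAx⁻¹⟩·O_p(L) for every x ∈ L outside L₀. -/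
theorem result {H : Type*} [Group H] [Finite H] {p : ℕ} [Fact p.Prime] (T : Sylow p H) (hmin : Cfsg.IsMinimalOver (T : Subgroup H)) (M : Subgroup H) (hM : IsCoatom M ∧ (T : Subgroup H) ≤ M) (A : Subgroup H) (hAT : A ≤ (T : Subgroup H)) (hA : ¬ A ≤ Cfsg.pCore p H) : ∃ L : Subgroup H, A ⊔ Cfsg.pCore p H ≤ L ∧ ∃ L₀ : Subgroup H, A ⊔ (Cfsg.pCoreOf p L) ≤ L₀ ∧ L₀ < L ∧ (∀ X : Subgroup H, A ⊔ (Cfsg.pCoreOf p L) ≤ X → X < L → X ≤ L₀) ∧ (∃ g : H, L₀ = L ⊓ ((M : Subgroup H).map (MulAut.conj (g : H)).toMonoidHom)) ∧ ∀ x ∈ L, x ∉ L₀ → (A ⊔ ((A : Subgroup H).map (MulAut.conj (x : H)).toMonoidHom)) ⊔ (Cfsg.pCoreOf p L) = L := by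
  obtain ⟨h1, -⟩ := isMinimalOver_top_iff.mp hmin
  have hM' := uMax_of_existsUnique hmin.2 hM.1 hM.2
  have hT := isSyl_top T
  obtain ⟨D, a, d1, d2, d3, d4, d5⟩ := main hT h1 hM' hAT hA
  obtain ⟨L, ⟨l1, l2, l3⟩, hL⟩ := exists_minimal_of_wellFoundedLT
    (fun L : Subgroup H => A ⊔ D ≤ L ∧ L ≤ Subgroup.normalizer (D : Set H) ∧ ¬ L ≤ cj(a, M))
    ⟨_, sup_le d3 Subgroup.le_normalizer, le_rfl, d5⟩
  have hDO : D ≤ pCoreOf p L := le_pCoreOf (le_sup_right.trans l1) l2 d2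
  have hAL : A ≤ L := le_sup_left.trans l1
  have hX : ∀ X : Subgroup H, A ⊔ pCoreOf p L ≤ X → X < L → X ≤ L ⊓ cj(a, M) := fun X x1 x2 =>
    le_inf x2.le (by_contra fun x3 =>
      x2.not_ge (hL ⟨(sup_le_sup_left hDO A).trans x1, x2.le.trans l2, x3⟩ x2.le))
  refine ⟨L, (sup_le_sup_left d1 A).trans l1, L ⊓ cj(a, M), ?_, inf_lt_left.mpr l3, hX, ⟨a, rfl⟩,
    fun x hx hx2 => ?_⟩
  · refine le_inf (sup_le hAL (pCoreOf_le L)) ?_
    obtain ⟨g, -, hg⟩ := hT.exists_le_cj (isPGroup_sup (hT.pg.to_le hAT) (isPGroup_pCoreOf L)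
      (hAL.trans (le_normalizer_pCoreOf L))) le_top
    have h2 := hg.trans (cj_mono g hM.2)
    rwa [d4 g ((sup_le_sup_left hDO A).trans h2)] at h2
  · have h2 : A ⊔ cj(x, A) ⊔ pCoreOf p L ≤ L :=
      sup_le (sup_le hAL (cj_le_of_le_of_mem hAL hx)) (pCoreOf_le L)
    by_contra h3
    have h4 := (hX _ (sup_le_sup_right le_sup_left _) (lt_of_le_of_ne h2 h3)).trans inf_le_right
    have h5 : cj(x, A ⊔ D) ≤ cj(a, M) := by
      rw [cj_sup, cj_eq_iff.mpr (l2 hx)]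
      exact (sup_le_sup le_sup_right hDO).trans h4
    rw [cj_le_iff_le_cj, cj_cj] at h5
    have h6 := d4 _ h5
    rw [← cj_cj, cj_eq_iff] at h6
    have h7 := hM'.cj a
    have h8 := congrArg (fun X => cj(a, X)) h1
    simp only [cj_ncl, cj_top] at h7 h8
    exact hx2 ⟨hx, (Subgroup.inv_mem_iff _).mp
      (h7.normalizer_le h8 h7.le le_rfl ⟨Subgroup.mem_top _, h6⟩)⟩

end Cfsg.Agent.S2834
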