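import Mathlib
import Cfsg.Statements.S2836
import Cfsg.Agent.H26.PIrr
import Cfsg.Agent.H02.Frattini

set_option autoImplicit false
open Cfsg

namespace Cfsg.Agent.S2836
open H26

/-- Let L be a finite group, L₀ a maximal subgroup, T a Sylow p-subgroup of L₀, Y ≤ T, and suppose L is Y-minimal. Let D be the intersection of the conjugates of L₀ (the core of L₀). Then D contains O_p(L) and D/O_p(L) is the Frattini subgroup of L/O_p(L), so D is p-closed; and every normal subgroup N of L contained in L₀ is p-closed with N/O_p(N) a nilpotent group of order prime to p. -/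
theorem result {L : Type*} [Group L] [Finite L] {p : ℕ} [Fact p.Prime] (L₀ : Subgroup L) (hL₀ : IsCoatom L₀) (T : Sylow p ↥L₀) (Y : Subgroup L) (hYT : Y ≤ (T : Subgroup ↥L₀).map L₀.subtype) (hmin : Cfsg.IsMinimalOver Y) : (Cfsg.pCore p L ≤ L₀.normalCore ∧ (L₀.normalCore).map (QuotientGroup.mk' (Cfsg.pCore p L)) = frattini (L ⧸ Cfsg.pCore p L) ∧ Cfsg.IsPClosed p ↥(L₀.normalCore)) ∧ ∀ (N : Subgroup L) [N.Normal], N ≤ L₀ → Cfsg.IsPClosed p ↥N ∧ Group.IsNilpotent (↥N ⧸ Cfsg.pCore p ↥N) ∧ (Nat.card (↥N ⧸ Cfsg.pCore p ↥N)).Coprime p := by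
  have hT := isSyl_map_subtype T
  obtain ⟨h1, -⟩ := isMinimalOver_top_iff.mp hmin
  have hM := uMax_of_existsUnique hmin.2 hL₀ (hYT.trans hT.le)
  have hT' := hM.isSyl h1 hT hYT
  have hs := QuotientGroup.mk'_surjective (pCore p L)
  have hO : pCore p L ≤ L₀.normalCore :=
    Subgroup.normal_le_normalCore.mpr (pCoreOf_top.ge.trans (hT'.pCoreOf_le.trans hT.le))
  have hc : ∀ N : Subgroup L, N.Normal → N ≤ L₀ → PClosed p N := fun N _ hN =>
    hM.pClosed hT' hYT hN Subgroup.le_normalizer_of_normal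
  have hF : (L₀.normalCore).map (QuotientGroup.mk' (pCore p L)) = frattini (L ⧸ pCore p L) := by
    apply le_antisymm
    · rw [H02.le_frattini_iff]
      intro M' hM'
      rw [Subgroup.map_le_iff_le_comap]
      have h2 := Subgroup.isCoatom_comap_of_surjective hs hM'
      set M := M'.comap (QuotientGroup.mk' (pCore p L))
      have h3 : pCore p L ≤ M := QuotientGroup.le_comap_mk' _ _
      by_contra h4
      have h5 : M ⊔ L₀.normalCore = ⊤ := h2.2 _ (left_lt_sup.mpr h4)
      obtain ⟨S, hS⟩ := exists_isSyl p M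
      have h6 := isSyl_of_sup_eq Subgroup.le_normalizer_of_normal
        (hc _ inferInstance L₀.normalCore_le).isSyl ((pCoreOf_le_pCore _).trans h3) hS
      rw [h5] at h6
      obtain ⟨g, -, hg⟩ := h6.exists_cj_eq hT'
      have h7 : cj(g, M) ≤ L₀ := hM.max _ (hYT.trans (hg ▸ cj_mono g hS.le))
        (lt_top_iff_ne_top.mpr (by rw [Ne, cj_eq_top_iff]; exact h2.1))
      rw [cj_le_iff_le_cj] at h7
      have h8 := (h2.le_iff.mp h7).resolve_left (by rw [cj_eq_top_iff]; exact hL₀.1)
      refine h4 (h8 ▸ ?_)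
      rw [← cj_eq_of_normal g⁻¹ L₀.normalCore]
      exact cj_mono _ L₀.normalCore_le
    · rw [← Subgroup.map_comap_eq_self_of_surjective hs (frattini _)]
      refine Subgroup.map_mono (Subgroup.normal_le_normalCore.mpr ?_)
      have h2 := Subgroup.comap_mono (f := QuotientGroup.mk' (pCore p L))
        (frattini_le_coatom (H02.isCoatom_map_mk' hL₀ (hO.trans L₀.normalCore_le)))
      rwa [Subgroup.comap_map_eq, QuotientGroup.ker_mk',
        sup_eq_left.mpr (hO.trans L₀.normalCore_le)] at h2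
  refine ⟨⟨hO, hF, isPClosed_iff.mpr (hc _ inferInstance L₀.normalCore_le)⟩, fun N hN hNL =>
    ⟨isPClosed_iff.mpr (hc N hN hNL), ?_, ?_⟩⟩
  · let f : N →* L ⧸ pCore p L := (QuotientGroup.mk' (pCore p L)).comp N.subtype
    have hk : pCore p N = f.ker := by
      ext x
      rw [MonoidHom.mem_ker, ← mem_pCoreOf_iff, pCoreOf_eq_inf_of_normal le_top
        Subgroup.le_normalizer_of_normal, pCoreOf_top]
      simp [f]
    have h2 : f.range ≤ frattini (L ⧸ pCore p L) := by
      rw [← hF, MonoidHom.range_comp, Subgroup.range_subtype]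
      exact Subgroup.map_mono (Subgroup.normal_le_normalCore.mpr hNL)
    have h3 : Group.IsNilpotent (frattini (L ⧸ pCore p L)) := frattini_nilpotent
    have h4 := H01.isNilpotent_of_le h2
    exact (Group.isNilpotent_congr ((QuotientGroup.quotientMulEquivOfEq hk).trans
      (QuotientGroup.quotientKerEquivRange f))).mpr h4
  · have h2 := (hc N hN hNL).isSyl.not_dvd
    rw [Subgroup.relIndex, pCoreOf_subgroupOf] at h2
    exact ((Nat.Prime.coprime_iff_not_dvd Fact.out).mpr h2).symm

end Cfsg.Agent.S2836
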