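import Mathlib
import Cfsg.Statements.S2837
import Cfsg.Agent.H26.PIrr
import Cfsg.Agent.H04.Frattini

set_option autoImplicit false
open Cfsg

namespace Cfsg.Agent.S2837
open H26

/-- Let L be a finite group of characteristic p, L₀ a maximal subgroup, Y an elementary abelian p-subgroup of L₀ with L Y-minimal and O_p(L) ≤ N_L(Y). Put A = the normal closure of O_p(L) ∩ Y in L. Then for every g ∈ L outside L₀: Φ(A) = A' = [A ∩ Y, A] = [A ∩ Y, A ∩ gYg⁻¹] ≤ C_Y(L), and Y ∩ gYg⁻¹ = (A ∩ Y) ∩ (A ∩ gYg⁻¹) = C_Y(L) = C_A(L). -/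
theorem result {L : Type*} [Group L] [Finite L] {p : ℕ} [Fact p.Prime] (hchar : Subgroup.centralizer (Cfsg.pCore p L : Set L) ≤ Cfsg.pCore p L) (L₀ : Subgroup L) (hL₀ : IsCoatom L₀) (Y : Subgroup L) (hYL₀ : Y ≤ L₀) (hYel : Cfsg.IsElementaryAbelian p Y) (hmin : Cfsg.IsMinimalOver Y) (hOY : Cfsg.pCore p L ≤ Subgroup.normalizer (Y : Set L)) (A : Subgroup L) (hA : A = Subgroup.normalClosure (((Cfsg.pCore p L ⊓ Y : Subgroup L)) : Set L)) (g : L) (hg : g ∉ L₀) : (frattini ↥A).map A.subtype = ⁅A, A⁆ ∧ ⁅A, A⁆ = ⁅A ⊓ Y, A⁆ ∧ ⁅A ⊓ Y, A⁆ = ⁅A ⊓ Y, A ⊓ Y.map (MulAut.conj g).toMonoidHom⁆ ∧ ⁅A ⊓ Y, A⁆ ≤ Y ⊓ Subgroup.center L ∧ Y ⊓ Y.map (MulAut.conj g).toMonoidHom = Y ⊓ Subgroup.center L ∧ (A ⊓ Y) ⊓ (A ⊓ Y.map (MulAut.conj g).toMonoidHom) = Y ⊓ Subgroup.center L ∧ A ⊓ Subgroup.center L = Y ⊓ Subgroup.center L := by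
  obtain ⟨h1, -⟩ := isMinimalOver_top_iff.mp hmin
  have hM := uMax_of_existsUnique hmin.2 hL₀ hYL₀
  have hgen := hM.sup_cj h1 (Subgroup.mem_top g) hg
  have hY := isMulCommutative_iff_le.mp hYel.1
  have hY' : cj(g, Y) ≤ Subgroup.centralizer ((cj(g, Y) : Subgroup L) : Set L) := by
    rw [← cj_centralizer]; exact cj_mono g hY
  have hZ : Subgroup.center L = Subgroup.centralizer (Y : Set L) ⊓
      Subgroup.centralizer ((cj(g, Y) : Subgroup L) : Set L) := by
    rw [← centralizer_sup, hgen, Subgroup.coe_top, Subgroup.centralizer_univ]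
  have hZg : ∀ U : Subgroup L, U ≤ Subgroup.center L → cj(g, U) = U := fun U hU =>
    cj_eq_iff.mpr (centralizer_le_normalizer U fun x hx => (Subgroup.mem_center_iff.mp (hU hx) g).symm)
  have e1 : Y ⊓ cj(g, Y) = Y ⊓ Subgroup.center L := by
    refine le_antisymm (le_inf inf_le_left (hZ ▸ inf_le_inf hY hY')) (le_inf inf_le_left ?_)
    rw [← hZg _ (inf_le_right : Y ⊓ Subgroup.center L ≤ _)]
    exact cj_mono g inf_le_left
  set O := pCore p L with hO
  have hOg : cj(g, O) = O := cj_eq_of_normal g O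
  have hOY' : O ≤ Subgroup.normalizer ((cj(g, Y) : Subgroup L) : Set L) := by
    rw [← cj_normalizer, ← hOg]; exact cj_mono g hOY
  have n1 : O ≤ Subgroup.normalizer ((O ⊓ Y : Subgroup L) : Set L) :=
    le_normalizer_inf Subgroup.le_normalizer hOY
  have n2 : O ≤ Subgroup.normalizer ((O ⊓ cj(g, Y) : Subgroup L) : Set L) :=
    le_normalizer_inf Subgroup.le_normalizer hOY'
  have hAO : A ≤ O := hA ▸ Subgroup.normalClosure_le_normal inf_le_left
  have hA2 : A = (O ⊓ Y) ⊔ (O ⊓ cj(g, Y)) := by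
    rw [hA, ← ncl_top]
    apply le_antisymm
    · refine ncl_le le_sup_left (hgen ▸ sup_le ?_ ?_)
      · refine le_normalizer_of_commutator_le ((Subgroup.commutator_mono
          (sup_le inf_le_left inf_le_left) le_rfl).trans (le_trans (le_inf ?_ ?_) le_sup_left))
        · exact commutator_le_of_le_normalizer Subgroup.le_normalizer_of_normal
        · exact commutator_le_of_le_normalizer' hOY
      · refine le_normalizer_of_commutator_le ((Subgroup.commutator_mono
          (sup_le inf_le_left inf_le_left) le_rfl).trans (le_trans (le_inf ?_ ?_) le_sup_right))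
        · exact commutator_le_of_le_normalizer Subgroup.le_normalizer_of_normal
        · exact commutator_le_of_le_normalizer' hOY'
    · refine sup_le (le_ncl _ _) ?_
      rw [← hOg, ← cj_inf, hOg]
      exact cj_le_ncl (Subgroup.mem_top g)
  have a1 : A ⊓ Y = O ⊓ Y :=
    le_antisymm (inf_le_inf_right _ hAO) (le_inf (hA2 ▸ le_sup_left) inf_le_right)
  have a2 : A ⊓ cj(g, Y) = O ⊓ cj(g, Y) :=
    le_antisymm (inf_le_inf_right _ hAO) (le_inf (hA2 ▸ le_sup_right) inf_le_right)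
  have hZO : Subgroup.center L ≤ O := (Subgroup.center_le_centralizer _).trans hchar
  set W := ⁅O ⊓ Y, O ⊓ cj(g, Y)⁆ with hW
  have hW1 : W ≤ Y ⊓ Subgroup.center L := by
    rw [← e1]
    exact le_inf ((Subgroup.commutator_comm _ _).le.trans ((Subgroup.commutator_mono inf_le_left
      inf_le_right).trans (commutator_le_of_le_normalizer' hOY)))
      ((Subgroup.commutator_mono inf_le_left inf_le_right).trans (commutator_le_of_le_normalizer' hOY'))
  have hWn : ∀ X : Subgroup L, X ≤ Subgroup.normalizer (W : Set L) := fun X x _ =>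
    centralizer_le_normalizer W fun w hw => (Subgroup.mem_center_iff.mp (hW1 hw).2 x).symm
  have b1 : ⁅O ⊓ Y, O ⊓ Y⁆ ≤ W := by
    rw [Subgroup.commutator_eq_bot_iff_le_centralizer.mpr
      (inf_le_right.trans (hY.trans (centralizer_anti inf_le_right)))]
    exact bot_le
  have b2 : ⁅O ⊓ cj(g, Y), O ⊓ cj(g, Y)⁆ ≤ W := by
    rw [Subgroup.commutator_eq_bot_iff_le_centralizer.mpr
      (inf_le_right.trans (hY'.trans (centralizer_anti inf_le_right)))]
    exact bot_le
  have b3 : ⁅A, A⁆ ≤ W := by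
    rw [hA2]
    exact commutator_sup_le (hWn _) (hWn _) (commutator_sup_le' (hWn _) (hWn _) b1 le_rfl)
      (commutator_sup_le' (hWn _) (hWn _) (Subgroup.commutator_comm _ _).le b2)
  have b4 : W ≤ ⁅A ⊓ Y, A⁆ := a1 ▸ Subgroup.commutator_mono le_rfl (hA2 ▸ le_sup_right)
  have b5 : ⁅A ⊓ Y, A⁆ ≤ ⁅A, A⁆ := Subgroup.commutator_mono inf_le_left le_rfl
  have hAp : IsPGroup p A := isPGroup_pCore.to_le hAO
  refine ⟨le_antisymm ?_ (H04.commutator_le_map_frattini hAp), le_antisymm (b3.trans b4) b5,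
    ?_, (b5.trans b3).trans hW1, e1, ?_, le_antisymm ?_ ?_⟩
  · refine le_trans ?_ (b4.trans b5)
    refine (H04.map_subtype_frattini_le_iff hAp).mpr ⟨fun x hx y hy =>
      b3 (Subgroup.commutator_mem_commutator hx hy), fun x hx => ?_⟩
    have : W.Normal := normal_of_top_le (hWn ⊤)
    rw [hA2, mem_sup_of_le_normalizer (inf_le_left.trans n2)] at hx
    obtain ⟨a, ha, b, hb, rfl⟩ := hx
    rw [← QuotientGroup.eq_one_iff, QuotientGroup.mk_pow, QuotientGroup.mk_mul, Commute.mul_pow,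
      ← QuotientGroup.mk_pow, ← QuotientGroup.mk_pow, hYel.2 a ha.2,
      (H17.elemAb_map hYel _).2 b hb.2, QuotientGroup.mk_one, mul_one]
    rw [← commutatorElement_eq_one_iff_commute]
    exact (QuotientGroup.eq_one_iff _).mpr (Subgroup.commutator_mem_commutator ha hb)
  · rw [a2]
    exact le_antisymm (a1 ▸ b5.trans b3) (a1 ▸ b4)
  · rw [← inf_inf_distrib_left, e1]
    refine inf_eq_right.mpr (le_trans ?_ (hA2 ▸ le_sup_left))
    exact le_inf (inf_le_right.trans hZO) inf_le_left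
  · refine le_inf (le_trans (inf_le_inf_left A (hZ.le.trans inf_le_left)) ?_) inf_le_right
    rw [hA2, inf_comm, inf_sup_eq_of_le_normalizer (inf_le_left.trans n2) (inf_le_right.trans hY)]
    refine sup_le inf_le_right ?_
    have h2 : Subgroup.centralizer (Y : Set L) ⊓ (O ⊓ cj(g, Y)) ≤ Subgroup.center L :=
      hZ ▸ inf_le_inf_left _ (inf_le_right.trans hY')
    rw [← cj_le_cj_iff (g := g), hZg _ h2]
    exact inf_le_right.trans inf_le_right
  · exact le_inf ((le_inf (inf_le_right.trans hZO) inf_le_left).trans (hA2 ▸ le_sup_left)) inf_le_right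

end Cfsg.Agent.S2837
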