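import Mathlib
import Cfsg.Statements.S2840
import Cfsg.Agent.H26.WC

set_option autoImplicit false
open Cfsg

namespace Cfsg.Agent.S2840
open H26

/-- Let Q be a nontrivial p-subgroup of the finite group H that is a weakly closed subgroup and K a subgroup containing Q; let K° be the weak closure of Q in K (generated by the H-conjugates of Q inside K). Then K° is generated by the K-conjugates of Q, and K° is the subnormal closure of Q in K. -/
theorem result {H : Type*} [Group H] [Finite H] {p : ℕ} [Fact p.Prime] (Q : Subgroup H) (hQp : IsPGroup p ↥Q) (hQ1 : Q ≠ ⊥) (hwc : Cfsg.IsWeaklyClosedSubgroup p Q) (K : Subgroup H) (hQK : Q ≤ K) (Kc : Subgroup H) (hKc : Kc = Cfsg.weakClosure Q K) : Kc = ⨆ k : ↥K, ((Q : Subgroup H).map (MulAut.conj ((k : H) : H)).toMonoidHom) ∧ Kc = (Cfsg.subnormalClosure (Q.subgroupOf K)).map K.subtype := by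
  rw [isWeaklyClosedSubgroup_iff] at hwc
  rw [hKc, hwc.weakClosure_eq hQK]
  refine ⟨rfl, ?_⟩
  rw [← Subgroup.map_subgroupOf_eq_of_le (ncl_le_of_le hQK)]
  congr 1
  refine le_antisymm (le_sInf fun D hD => ?_) (sInf_le ⟨Subgroup.subgroupOf_mono K (le_ncl Q K),
    (SubN.of_normal (ncl_le_of_le hQK) (le_normalizer_ncl Q K)).isSubnormal⟩)
  rw [← map_subtype_subgroupOf D]
  refine Subgroup.subgroupOf_mono K ((hwc.mono hQK le_top).ncl_le_of_subN (subN_map_subtype hD.2) ?_)
  rw [← Subgroup.map_subgroupOf_eq_of_le hQK]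
  exact Subgroup.map_mono hD.1

end Cfsg.Agent.S2840
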