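import Mathlib
import Cfsg.Statements.S2841
import Cfsg.Agent.H26.WC

set_option autoImplicit false
open Cfsg

namespace Cfsg.Agent.S2841
open H26

theorem ncl_sup_eq {G : Type*} [Group G] {A W : Subgroup G}
    (h : A ≤ Subgroup.normalizer (W : Set G)) : ncl A (A ⊔ W) = ncl A W := by
  refine le_antisymm (ncl_le_iff.mpr fun g hg => ?_) (ncl_mono le_rfl le_sup_right)
  obtain ⟨w, hw, a, ha, rfl⟩ := (mem_sup_of_le_normalizer' h).mp (sup_comm A W ▸ hg)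
  rw [← cj_cj, cj_eq_self_of_mem ha]
  exact cj_le_ncl hw

/-- Let Q be a nontrivial p-subgroup of the finite group H that is a weakly closed subgroup and N a normal subgroup of H. Then N = N_N(Q)·[N, Q] and [N, Q] = (Q ∩ [N, Q])·[N, Q, Q]. -/
theorem result {H : Type*} [Group H] [Finite H] {p : ℕ} [Fact p.Prime] (Q : Subgroup H) (hQp : IsPGroup p ↥Q) (hQ1 : Q ≠ ⊥) (hwc : Cfsg.IsWeaklyClosedSubgroup p Q) (N' : Subgroup H) [N'.Normal] : (∀ n : H, n ∈ N' → ∃ a ∈ N' ⊓ Subgroup.normalizer ((Q : Subgroup H) : Set H), ∃ b ∈ ⁅N', Q⁆, n = a * b) ∧ (∀ c : H, c ∈ ⁅N', Q⁆ → ∃ a ∈ Q ⊓ ⁅N', Q⁆, ∃ b ∈ ⁅⁅N', Q⁆, Q⁆, c = a * b) := by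
  rw [isWeaklyClosedSubgroup_iff] at hwc
  have h1 : Q ≤ Subgroup.normalizer ((⁅N', Q⁆ : Subgroup H) : Set H) :=
    Subgroup.normalizer_commutator_ge_right _ _
  have h2 : ⁅N', Q⁆ ≤ N' := Subgroup.commutator_le_left _ _
  have h3 : ncl Q N' = Q ⊔ ⁅N', Q⁆ := by rw [ncl_eq_sup_commutator, Subgroup.commutator_comm]
  refine ⟨fun n hn => ?_, fun c hc => ?_⟩
  · obtain ⟨k, hk, m, hm, h4⟩ := hwc.frattini (le_ncl Q N') le_top trivial (cj_le_ncl (inv_mem hn))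
    rw [h3, sup_comm] at hk
    obtain ⟨b, hb, q, hq, rfl⟩ := (mem_sup_of_le_normalizer' h1).mp hk
    have h5 : n = (q * m)⁻¹ * b⁻¹ := by rw [← inv_inv n, h4]; group
    refine ⟨(q * m)⁻¹, ⟨?_, Subgroup.inv_mem _ (Subgroup.mul_mem _ (Subgroup.le_normalizer hq) hm)⟩, b⁻¹, inv_mem hb, h5⟩
    exact (N'.mul_mem_cancel_right (inv_mem (h2 hb))).mp (h5 ▸ hn)
  · have h4 := (hwc.mono (le_sup_left : Q ≤ Q ⊔ N') le_top).ncl_ncl
    rw [ncl_sup_eq Subgroup.le_normalizer_of_normal, h3, ncl_sup_eq h1, ncl_eq_sup_commutator,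
      Subgroup.commutator_comm] at h4
    obtain ⟨q, hq, b, hb, rfl⟩ := (mem_sup_of_le_normalizer
      (Subgroup.normalizer_commutator_ge_right _ _)).mp (h4.ge (Subgroup.mem_sup_right hc))
    exact ⟨q, ⟨hq, (Subgroup.mul_mem_cancel_right _ (commutator_le_of_le_normalizer h1 hb)).mp hc⟩,
      b, hb, rfl⟩

end Cfsg.Agent.S2841
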