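import Mathlib
import Cfsg.Statements.S2842
import Cfsg.Agent.H26.WC

set_option autoImplicit false
open Cfsg

namespace Cfsg.Agent.S2842
open H26

/-- Let Q be a nontrivial p-subgroup of the finite group H that is a weakly closed subgroup with C_H(Q) ≤ Q, and Q ≤ L ≤ H. Suppose H has characteristic p, or more generally that C_H(y) has characteristic p for some nonidentity y ∈ C_{O_p(L)}(Q). Then [Q, C_H(O_p(L))] ≤ Q ∩ O_p(L), C_H(O_p(L)) is a p-group, and L has characteristic p. -/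
theorem result {H : Type*} [Group H] [Finite H] {p : ℕ} [Fact p.Prime] (Q : Subgroup H) (hQp : IsPGroup p ↥Q) (hQ1 : Q ≠ ⊥) (hwc : Cfsg.IsWeaklyClosedSubgroup p Q) (hCQ : Subgroup.centralizer ((Q : Subgroup H) : Set H) ≤ Q) (L : Subgroup H) (hQL : Q ≤ L) (hyp : Subgroup.centralizer (Cfsg.pCore p H : Set H) ≤ Cfsg.pCore p H ∨ ∃ y : H, y ≠ 1 ∧ y ∈ (Cfsg.pCoreOf p L) ⊓ Subgroup.centralizer ((Q : Subgroup H) : Set H) ∧ Subgroup.centralizer (Cfsg.pCore p ↥(Subgroup.centralizer ({y} : Set H)) : Set ↥(Subgroup.centralizer ({y} : Set H))) ≤ Cfsg.pCore p ↥(Subgroup.centralizer ({y} : Set H))) : ⁅Q, Subgroup.centralizer (((Cfsg.pCoreOf p L) : Subgroup H) : Set H)⁆ ≤ Q ⊓ (Cfsg.pCoreOf p L) ∧ IsPGroup p ↥(Subgroup.centralizer (((Cfsg.pCoreOf p L) : Subgroup H) : Set H)) ∧ Subgroup.centralizer (Cfsg.pCore p ↥L : Set ↥L) ≤ Cfsg.pCore p ↥L := by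
  rw [isWeaklyClosedSubgroup_iff] at hwc
  have hC : ⊤ ⊓ Subgroup.centralizer (Q : Set H) ≤ Q := inf_le_right.trans hCQ
  have key : ⊤ ⊓ Subgroup.centralizer (Cfsg.pCoreOf p L : Set H) ≤ Subgroup.normalizer (Q : Set H) := by
    rcases hyp with h | ⟨y, -, hy, h⟩
    · rw [isCharP_top_iff] at h
      exact hwc.charP_aux hQL le_top (isPGroup_pCoreOf ⊤) le_top
        (le_top.trans (le_normalizer_pCoreOf ⊤)) (le_top.trans (le_normalizer_pCoreOf ⊤))
        fun _ _ hc h3 => h.eq_one trivial hc h3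
    · rw [isCharP_iff] at h
      set D := ⊤ ⊓ Subgroup.centralizer (Cfsg.pCoreOf p L : Set H) with hD
      have hLD : L ≤ Subgroup.normalizer (D : Set H) := le_normalizer_inf
        Subgroup.le_normalizer_of_normal (le_normalizer_centralizer (le_normalizer_pCoreOf L))
      have h1 : Q ⊔ D ≤ Subgroup.centralizer ({y} : Set H) := sup_le
        (fun x hx => Subgroup.mem_centralizer_singleton_iff.mpr (hy.2 x hx))
        fun x hx => Subgroup.mem_centralizer_singleton_iff.mpr (hx.2 y hy.1).symm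
      have h2 := (hwc.mono (le_sup_left.trans h1) le_top).isCharP h le_sup_left h1
        (inf_le_right.trans hCQ)
      have h3 : IsCharP p D := h2.of_normal le_sup_right (sup_le (hQL.trans hLD) Subgroup.le_normalizer)
      exact hwc.charP_aux hQL le_top (isPGroup_pCoreOf D) le_top (le_normalizer_pCoreOf' hLD)
        (le_normalizer_pCoreOf D) fun _ hx hc h4 => h3.eq_one hx hc h4
  have := charP_of_le_normalizer hQp hQL le_top hC key
  rw [top_inf_eq] at this
  exact ⟨this.1, this.2.1, isCharP_iff.mpr this.2.2⟩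

end Cfsg.Agent.S2842
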