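import Mathlib
import Cfsg.Statements.S2845
import Cfsg.Agent.H26.WC

set_option autoImplicit false
open Cfsg

namespace Cfsg.Agent.S2845
open H26

/-- Let Q be a nontrivial large p-subgroup of the finite group H. Then for every subgroup L ≥ Q with O_p(L) ≠ 1, C_H(O_p(L)) is a p-group and L has characteristic p, and either the weak closure L° of Q in L equals Q or C_H(L°) = 1; for every subgroup R of H containing a Sylow p-subgroup of H with O_p(R) ≠ 1, C_H(O_p(R)) ≤ O_p(R); and H has parabolic characteristic p. -/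
theorem result {H : Type*} [Group H] [Finite H] {p : ℕ} [Fact p.Prime] (Q : Subgroup H) (hQp : IsPGroup p ↥Q) (hQ1 : Q ≠ ⊥) (hL : Cfsg.IsLarge Q) : (∀ L : Subgroup H, Q ≤ L → Cfsg.pCore p ↥L ≠ ⊥ → IsPGroup p ↥(Subgroup.centralizer (((Cfsg.pCoreOf p L) : Subgroup H) : Set H)) ∧ Subgroup.centralizer (Cfsg.pCore p ↥L : Set ↥L) ≤ Cfsg.pCore p ↥L ∧ (Cfsg.weakClosure Q L = Q ∨ Subgroup.centralizer (((Cfsg.weakClosure Q L) : Subgroup H) : Set H) = ⊥)) ∧ (∀ R : Subgroup H, Cfsg.IsParabolic p R → Cfsg.pCore p ↥R ≠ ⊥ → Subgroup.centralizer (((Cfsg.pCoreOf p R) : Subgroup H) : Set H) ≤ (Cfsg.pCoreOf p R)) ∧ Cfsg.IsOfParabolicCharacteristic p H := by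
  have hwc := large_wc hL hQp hQ1
  have h1 : ∀ R : Subgroup H, Cfsg.IsParabolic p R → Cfsg.pCore p ↥R ≠ ⊥ →
      Subgroup.centralizer (Cfsg.pCoreOf p R : Set H) ≤ Cfsg.pCoreOf p R := fun R ⟨T, hT⟩ h =>
    large_centralizer_le_of_parabolic hL hQp (isSyl_top T) hT (mt pCoreOf_eq_bot_iff.mp h)
  refine ⟨fun L hQL h => ?_, h1, fun R hR hR1 h => isCharP_iff.mpr (inf_le_right.trans (h1 _ h ?_))⟩
  · obtain ⟨h2, h3⟩ := large_charP hL hQp hQL (mt pCoreOf_eq_bot_iff.mp h)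
    refine ⟨h2, isCharP_iff.mpr h3, ?_⟩
    rw [hwc.weakClosure_eq hQL, or_iff_not_imp_right]
    exact fun h4 => ncl_eq_self ((le_normalizer_centralizer (le_normalizer_ncl Q L)).trans
      (hL.2 _ (centralizer_anti (le_ncl Q L)) h4))
  · exact fun h2 => hR1 (le_bot_iff.mp ((le_pCoreOf Subgroup.le_normalizer le_rfl hR).trans
      (pCoreOf_eq_bot_iff.mpr h2).le))

end Cfsg.Agent.S2845
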