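import Mathlib
import Cfsg.Statements.S2846
import Cfsg.Agent.H26.FrakM

set_option autoImplicit false
open Cfsg

namespace Cfsg.Agent.S2846
open H26

/-- Let Q be a nontrivial large p-subgroup of the finite group H, S a Sylow p-subgroup containing Q, and L a subgroup containing S with O_p(L) ≠ 1 and C_H(O_p(L)) ≤ O_p(L). Then there are a subgroup M containing S having the basic property (M ∈ 𝔐_H, writing Y_X for the largest p-reduced normal subgroup of X and 𝓛_H for the set of subgroups X with O_p(X) ≠ 1 and C_H(O_p(X)) ≤ O_p(X): M ∈ 𝓛_H, M·C_H(Y_M) is the only maximal member of 𝓛_H containing M and its largest p-reduced normal subgroup is again Y_M, C_M(Y_M) is p-closed, and the image of C_M(Y_M) in M/O_p(M) lies in the Frattini subgroup of M/O_p(M)) and a subgroup L* with S ≤ L* ≤ M, O_p(L*) ≠ 1, C_H(O_p(L*)) ≤ O_p(L*), such that L·C_H(Y_L) = L*·C_H(Y_L), the weak closures of Q in L and in L* agree and lie in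 that of M, and Y_L = Y_{L*} ≤ Y_M. If moreover Q is not normal in L, then Q is normal in neither L* nor M. -/
theorem result {H : Type*} [Group H] [Finite H] {p : ℕ} [Fact p.Prime] (Q : Subgroup H) (hQp : IsPGroup p ↥Q) (hQ1 : Q ≠ ⊥) (hLg : Cfsg.IsLarge Q) (S : Sylow p H) (hQS : Q ≤ (S : Subgroup H)) (L : Subgroup H) (hSL : (S : Subgroup H) ≤ L) (hL : L ∈ Cfsg.charPSubgroups p H) : ∃ M Ls : Subgroup H, (S : Subgroup H) ≤ M ∧ Cfsg.IsInFrakM p M ∧ (S : Subgroup H) ≤ Ls ∧ Ls ≤ M ∧ Ls ∈ Cfsg.charPSubgroups p H ∧ L ⊔ Subgroup.centralizer (((Cfsg.largestPReducedOf p L) : Subgroup H) : Set H) = Ls ⊔ Subgroup.centralizer (((Cfsg.largestPReducedOf p L) : Subgroup H) : Set H) ∧ Cfsg.weakClosure Q L = Cfsg.weakClosure Q Ls ∧ Cfsg.weakClosure Q Ls ≤ Cfsg.weakClosure Q M ∧ (Cfsg.largestPReducedOf p L) = (Cfsg.largestPReducedOf p Ls) ∧ (Cfsg.largestPReducedOf p Ls) ≤ (Cfsg.largestPReducedOf p M) ∧ (¬ L ≤ Subgroup.normalizer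 ((Q : Subgroup H) : Set H) → ¬ Ls ≤ Subgroup.normalizer ((Q : Subgroup H) : Set H) ∧ ¬ M ≤ Subgroup.normalizer ((Q : Subgroup H) : Set H)) := by
  have hT := isSyl_top S
  have hP := pc_of_large hLg hQp hT
  have hwc := large_wc hLg hQp hQ1
  obtain ⟨M, h1, h2, h3⟩ := exists_frakM hT hP hSL (mem_charP_iff.mp hL).1
  obtain ⟨a1, a2, a3⟩ := normalizer_T0 hT hSL (le_inf h1 (hSL.trans le_sup_left))
    (isCharP_of_mem hL) h3.sup_eq
  have hY := (isCharP_of_mem hL).Y_ne_bot (mem_charP_iff.mp hL).1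
  set Ls := M ⊓ (L ⊔ YC p L) ⊓ Subgroup.normalizer (((S : Subgroup H) ⊓ YC p L : Subgroup H) : Set H)
  have a4 : Ls ≤ M := inf_le_left.trans inf_le_left
  have a5 : ncl Q L = ncl Q Ls := by
    rw [← large_ncl_sup_centralizer hLg hQp (pRed_Y (p := p) L).isPGroup hY (hQS.trans hSL)
      (le_normalizer_Y L), ← a2, large_ncl_sup_centralizer hLg hQp (pRed_Y (p := p) L).isPGroup hY
      (hQS.trans a3) (a1 ▸ le_normalizer_Y Ls)]
  have a6 : ¬ L ≤ Subgroup.normalizer (Q : Set H) → ¬ Ls ≤ Subgroup.normalizer (Q : Set H) :=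
    fun h4 h5 => h4 (ncl_eq_self h5 ▸ a5 ▸ le_normalizer_ncl Q L)
  refine ⟨M, Ls, h1, h2, a3, a4, hP.mem a3 fun h4 => ?_, a2.symm, ?_, ?_, a1.symm,
    a1 ▸ h3.Y_le hT hSL h1 (isCharP_of_mem h2.1), fun h4 => ⟨a6 h4, fun h5 => a6 h4 (a4.trans h5)⟩⟩
  · exact hY (le_bot_iff.mp (a1.ge.trans ((Y_le_pCoreOf _).trans h4.le)))
  · rw [hwc.weakClosure_eq (hQS.trans hSL), hwc.weakClosure_eq (hQS.trans a3), a5]
  · rw [hwc.weakClosure_eq (hQS.trans h1), hwc.weakClosure_eq (hQS.trans a3)]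
    exact ncl_mono le_rfl a4

end Cfsg.Agent.S2846
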