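import Mathlib
import Cfsg.Statements.S2847
import Cfsg.Agent.H26.FrakM

set_option autoImplicit false
open Cfsg

namespace Cfsg.Agent.S2847
open H26

/-- Let H be a finite group of parabolic characteristic p, T a Sylow p-subgroup and L a subgroup containing T with O_p(L) ≠ 1 and C_H(O_p(L)) ≤ O_p(L). Then there are M ≥ T with the basic property (M ∈ 𝔐_H) and L* with T ≤ L* ≤ M, O_p(L*) ≠ 1, C_H(O_p(L*)) ≤ O_p(L*), such that Y_L = Y_{L*} ≤ Y_M and L·C_H(Y_L) = L*·C_H(Y_L), Y denoting largest p-reduced normal subgroups. -/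
theorem result {H : Type*} [Group H] [Finite H] {p : ℕ} [Fact p.Prime] (hH : Cfsg.IsOfParabolicCharacteristic p H) (T : Sylow p H) (L : Subgroup H) (hTL : (T : Subgroup H) ≤ L) (hL : L ∈ Cfsg.charPSubgroups p H) : ∃ M Ls : Subgroup H, (T : Subgroup H) ≤ M ∧ Cfsg.IsInFrakM p M ∧ (T : Subgroup H) ≤ Ls ∧ Ls ≤ M ∧ Ls ∈ Cfsg.charPSubgroups p H ∧ (Cfsg.largestPReducedOf p L) = (Cfsg.largestPReducedOf p Ls) ∧ (Cfsg.largestPReducedOf p L) ≤ (Cfsg.largestPReducedOf p M) ∧ L ⊔ Subgroup.centralizer (((Cfsg.largestPReducedOf p L) : Subgroup H) : Set H) = Ls ⊔ Subgroup.centralizer (((Cfsg.largestPReducedOf p L) : Subgroup H) : Set H) := by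
  have hP := pc_of_parabolic hH T
  have hT := isSyl_top T
  obtain ⟨M, h1, h2, h3⟩ := exists_frakM hT hP hTL (mem_charP_iff.mp hL).1
  obtain ⟨a1, a2, a3⟩ := normalizer_T0 hT hTL (le_inf h1 (hTL.trans le_sup_left))
    (isCharP_of_mem hL) h3.sup_eq
  refine ⟨M, _, h1, h2, a3, inf_le_left.trans inf_le_left, hP.mem a3 fun h4 => ?_, a1.symm,
    h3.Y_le hT hTL h1 (isCharP_of_mem h2.1), a2.symm⟩
  exact (isCharP_of_mem hL).Y_ne_bot (mem_charP_iff.mp hL).1
    (le_bot_iff.mp (a1.ge.trans ((Y_le_pCoreOf _).trans h4.le)))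

end Cfsg.Agent.S2847
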