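import Mathlib
import Cfsg.Statements.S2850
import Cfsg.Agent.H26.FrakM

set_option autoImplicit false
open Cfsg

namespace Cfsg.Agent.S2850
open H26

/-- Standing hypotheses: G a finite group, S a Sylow p-subgroup, Q a nontrivial large p-subgroup of G contained in S (C_G(Q) ≤ Q and N_G(U) ≤ N_G(Q) for all nontrivial U ≤ C_G(Q)), and M a subgroup containing S with the basic property (M ∈ 𝔐_G(S)); Y_M denotes the largest p-reduced normal subgroup of M and M† = M·C_G(Y_M). Suppose Y_M is asymmetric in G. Then N_G(L) ≤ N_G(O_p(M)) ≤ M† for every p-subgroup L containing O_p(M); O_p(M) is a weakly closed subgroup of G; for every subgroup L containing O_p(M), L ∩ M† contains a Sylow p-subgroup of L; and two elements of Y_M conjugate in G are conjugate in M. -/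
theorem result {G : Type*} [Group G] [Finite G] {p : ℕ} [Fact p.Prime] (S : Sylow p G) (Q : Subgroup G) (hQp : IsPGroup p ↥Q) (hQ1 : Q ≠ ⊥) (hQS : Q ≤ (S : Subgroup G)) (hQ : Cfsg.IsLarge Q) (M : Subgroup G) (hSM : (S : Subgroup G) ≤ M) (hM : Cfsg.IsInFrakM p M) (hasym : ¬ Cfsg.IsSymmetricIn (Cfsg.largestPReducedOf p M)) : (∀ L : Subgroup G, IsPGroup p ↥L → (Cfsg.pCoreOf p M) ≤ L → Subgroup.normalizer ((L : Subgroup G) : Set G) ≤ Subgroup.normalizer (((Cfsg.pCoreOf p M) : Subgroup G) : Set G) ∧ Subgroup.normalizer (((Cfsg.pCoreOf p M) : Subgroup G) : Set G) ≤ (M ⊔ Subgroup.centralizer (((Cfsg.largestPReducedOf p M) : Subgroup G) : Set G))) ∧ Cfsg.IsWeaklyClosedSubgroup p (Cfsg.pCoreOf p M) ∧ (∀ L : Subgroup G, (Cfsg.pCoreOf p M) ≤ L → Cfsg.IsParabolic p ((L ⊓ (M ⊔ Subgroup.centralizer (((Cfsg.largestPReducedOf p M) : Subgroup G) : Set G))).subgroupOf L)) ∧ (∀ x ∈ (Cfsg.largestPReducedOf p M), ∀ g : G, g * x * g⁻¹ ∈ (Cfsg.largestPReducedOf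 p M) → ∃ m ∈ M, m * x * m⁻¹ = g * x * g⁻¹) := by
  have h := fm_of_large S hQ hQp hSM hM
  refine ⟨fun L h1 h2 => ⟨h.normalizer_le_of_asym hasym h1 h2, h.normalizer_O_le⟩,
    isWeaklyClosedSubgroup_iff.mpr (h.wc hasym), fun L h1 => ?_, fun x hx g hg => ?_⟩
  · obtain ⟨T, hT, -, h2⟩ := h.exists_isSyl hasym h1
    obtain ⟨P, hP⟩ := hT.exists_sylow
    exact ⟨P, hP.1 ▸ Subgroup.subgroupOf_mono L (le_inf hT.le (h2.trans h.normalizer_O_le))⟩
  · have h1 : ∀ y ∈ largestPReducedOf p M, pCoreOf p M ≤ Subgroup.centralizer {y} := fun y hy =>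
      h.isSyl.le.trans (Subgroup.centralizer_le (Set.singleton_subset_iff.mpr hy))
    obtain ⟨k, hk, n, hn, rfl⟩ := (h.wc hasym).frattini (h1 _ hg) le_top (Subgroup.mem_top g)
      (by rw [← cj_centralizer_singleton]; exact cj_mono g (h1 x hx))
    obtain ⟨m, hm, c, hc, rfl⟩ := (mem_sup_of_le_normalizer
      (le_normalizer_centralizer (le_normalizer_Y M))).mp (h.normalizer_O_le hn)
    refine ⟨m, hm, ?_⟩
    rw [Subgroup.mem_centralizer_singleton_iff] at hk
    have h2 : c * x * c⁻¹ = x := by rw [← hc x hx]; group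
    calc m * x * m⁻¹ = k⁻¹ * ((k * (m * c) * x * (k * (m * c))⁻¹) * k) := by
          conv_lhs => rw [← h2]
          group
      _ = _ := by rw [← hk]; group

end Cfsg.Agent.S2850
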