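import Mathlib
import Cfsg.Statements.S2851
import Cfsg.Agent.H26.FrakM
import Cfsg.Agent.H22.FStar

set_option autoImplicit false
open Cfsg

namespace Cfsg.Agent.S2851
open H26

theorem key {D : Type*} [Group D] [Finite D] {p : ℕ} [Fact p.Prime] (h : pCore p D = ⊥)
    {K : Subgroup D} (hK : generalizedFittingSubgroup D ≤ K) : pCoreOf p K = ⊥ := by
  have := H22.fstar_normal (G := D)
  have h1 : generalizedFittingSubgroup D ⊓ pCoreOf p K = ⊥ :=
    le_bot_iff.mp ((inf_pCoreOf_le hK).trans ((pCoreOf_le_pCore _).trans h.le))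
  have h2 : pCoreOf p K ≤ Subgroup.centralizer (generalizedFittingSubgroup D : Set D) := by
    rw [← commutator_eq_bot_iff', ← le_bot_iff, ← h1]
    exact le_inf (Subgroup.commutator_le_left _ _)
      (commutator_le_of_le_normalizer' (hK.trans (le_normalizer_pCoreOf K)))
  exact (inf_eq_right.mpr (h2.trans H22.centralizer_fstar_le)).symm.trans h1

/-- Standing hypotheses: G a finite group, S a Sylow p-subgroup, Q a nontrivial large p-subgroup of G contained in S, M a subgroup containing S with the basic property (M ∈ 𝔐_G(S)); Y_M the largest p-reduced normal subgroup of M and M† = M·C_G(Y_M). Let F be the preimage in M† of the generalized Fitting subgroup of M†/C_{M†}(Y_M). If Y_M is asymmetric in G and H is a subgroup of characteristic p containing F, then Y_M ≤ Y_H. -/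
theorem result {G : Type*} [Group G] [Finite G] {p : ℕ} [Fact p.Prime] (S : Sylow p G) (Q : Subgroup G) (hQp : IsPGroup p ↥Q) (hQ1 : Q ≠ ⊥) (hQS : Q ≤ (S : Subgroup G)) (hQ : Cfsg.IsLarge Q) (M : Subgroup G) (hSM : (S : Subgroup G) ≤ M) (hM : Cfsg.IsInFrakM p M) (hasym : ¬ Cfsg.IsSymmetricIn (Cfsg.largestPReducedOf p M)) [hn : ((Subgroup.centralizer (((Cfsg.largestPReducedOf p M) : Subgroup G) : Set G)).subgroupOf (M ⊔ Subgroup.centralizer (((Cfsg.largestPReducedOf p M) : Subgroup G) : Set G))).Normal] (F : Subgroup G) (hF : F = ((Cfsg.generalizedFittingSubgroup (↥(M ⊔ Subgroup.centralizer (((Cfsg.largestPReducedOf p M) : Subgroup G) : Set G)) ⧸ (Subgroup.centralizer (((Cfsg.largestPReducedOf p M) : Subgroup G) : Set G)).subgroupOf (M ⊔ Subgroup.centralizer (((Cfsg.largestPReducedOf p M) : Subgroup G) : Set G)))).comap (QuotientGroup.mk' ((Subgroup.centralizer (((Cfsg.largestPReducedOf p M) : Subgroup G) : Set G)).subgroupOf (M ⊔ Subgroup.centralizer (((Cfsg.largestPReducedOf p M) : Subgroup G) : Set G))))).map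 ((M ⊔ Subgroup.centralizer (((Cfsg.largestPReducedOf p M) : Subgroup G) : Set G))).subtype) (H : Subgroup G) (hFH : F ≤ H) (hH : Subgroup.centralizer (Cfsg.pCore p ↥H : Set ↥H) ≤ Cfsg.pCore p ↥H) : (Cfsg.largestPReducedOf p M) ≤ Cfsg.largestPReducedOf p H := by
  have h := fm_of_large S hQ hQp hSM hM
  set D := M ⊔ Subgroup.centralizer (largestPReducedOf p M : Set G) with hD
  set C := Subgroup.centralizer (largestPReducedOf p M : Set G) with hC
  have hY := pRed_Y (p := p) M
  have h1 : C ≤ F := by
    rw [hF, ← Subgroup.map_subgroupOf_eq_of_le (le_sup_right : C ≤ D)]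
    refine Subgroup.map_mono ?_
    conv_lhs => rw [← QuotientGroup.ker_mk' (C.subgroupOf D)]
    exact Subgroup.ker_le_comap _ _
  have h2 : RedMod p C D := (redMod_sup_iff (le_normalizer_centralizer hY.norm)).mpr hY.red
  have h3 := key (redMod_iff_quotient.mpr h2) (K := ((H ⊓ D).subgroupOf D).map (QuotientGroup.mk' _))
    (by
      rw [← Subgroup.map_comap_eq_self_of_surjective (QuotientGroup.mk'_surjective _)
        (generalizedFittingSubgroup _)]
      refine Subgroup.map_mono ?_
      refine Subgroup.map_le_iff_le_comap.mp ?_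
      rw [← hF]
      exact le_inf hFH (hF ▸ Subgroup.map_subtype_le _))
  rw [pCoreOf_map_eq_bot_iff] at h3
  have h4 : PRed p (largestPReducedOf p M) (H ⊓ D) := by
    refine ⟨le_inf (hY.le_centralizer.trans (h1.trans hFH)) (hY.le.trans le_sup_left),
      inf_le_right.trans (FM.dag_le M), hY.elem, fun E e1 e2 e3 => ?_⟩
    have e4 := e1.trans inf_le_right
    have := h3 (E.subgroupOf D) (Subgroup.subgroupOf_mono D e1) (by
      rw [← Subgroup.subgroupOf_normalizer_eq e4]; exact Subgroup.subgroupOf_mono D e2) (by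
      rw [QuotientGroup.ker_mk', pResidualOf_subgroupOf_of_le e4]; exact Subgroup.subgroupOf_mono D e3)
    rw [QuotientGroup.ker_mk'] at this
    exact fun x hx => this (show (⟨x, e4 hx⟩ : D) ∈ E.subgroupOf D from hx)
  obtain ⟨T, hT, -, h5⟩ := h.exists_isSyl hasym (h.isSyl.le.trans (h1.trans hFH))
  exact h4.le_Y.trans (Y_mono (isCharP_iff.mp hH) hT (le_inf hT.le (h5.trans h.normalizer_O_le))
    inf_le_left)

end Cfsg.Agent.S2851
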