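import Mathlib
import Cfsg.Statements.S2854
import Cfsg.Agent.H26.FrakM

set_option autoImplicit false
open Cfsg

namespace Cfsg.Agent.S2854
open H26

/-- Standing hypotheses: G a finite group, S a Sylow p-subgroup, Q a nontrivial large p-subgroup of G contained in S, M a subgroup containing S with the basic property (M ∈ 𝔐_G(S)); Y_M the largest p-reduced normal subgroup of M and M† = M·C_G(Y_M). Suppose Y_M is asymmetric in G, H ∈ ℌ_G(O_p(M)), and H ≤ N_G(gQg⁻¹) for some g ∈ G. Then gQg⁻¹ ≤ O_p(H·gQg⁻¹) ≤ N_G(O_p(M)) ≤ N_G(Y_M) = M†; H is normal in H·gQg⁻¹ with O^p(H) = O^p(H·gQg⁻¹); and H·gQg⁻¹ is p-irreducible. -/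
theorem result {G : Type*} [Group G] [Finite G] {p : ℕ} [Fact p.Prime] (S : Sylow p G) (Q : Subgroup G) (hQp : IsPGroup p ↥Q) (hQ1 : Q ≠ ⊥) (hQS : Q ≤ (S : Subgroup G)) (hQ : Cfsg.IsLarge Q) (M : Subgroup G) (hSM : (S : Subgroup G) ≤ M) (hM : Cfsg.IsInFrakM p M) (hasym : ¬ Cfsg.IsSymmetricIn (Cfsg.largestPReducedOf p M)) (H : Subgroup G) (hH : Cfsg.IsInFrakH p M H) (g : G) (hHQ : H ≤ Subgroup.normalizer ((((Q : Subgroup G).map (MulAut.conj (g : G)).toMonoidHom) : Subgroup G) : Set G)) : ((Q : Subgroup G).map (MulAut.conj (g : G)).toMonoidHom) ≤ Cfsg.pCoreOf p (H ⊔ ((Q : Subgroup G).map (MulAut.conj (g : G)).toMonoidHom)) ∧ Cfsg.pCoreOf p (H ⊔ ((Q : Subgroup G).map (MulAut.conj (g : G)).toMonoidHom)) ≤ Subgroup.normalizer (((Cfsg.pCoreOf p M) : Subgroup G) : Set G) ∧ Subgroup.normalizer (((Cfsg.pCoreOf p M) : Subgroup G) : Set G) ≤ Subgroup.normalizer (((Cfsg.largestPReducedOf p M) : Subgroup G) : Set G) ∧ Subgroup.normalizer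 (((Cfsg.largestPReducedOf p M) : Subgroup G) : Set G) = (M ⊔ Subgroup.centralizer (((Cfsg.largestPReducedOf p M) : Subgroup G) : Set G)) ∧ (H.subgroupOf (H ⊔ ((Q : Subgroup G).map (MulAut.conj (g : G)).toMonoidHom))).Normal ∧ (Cfsg.pResidual p ↥H).map H.subtype = (Cfsg.pResidual p ↥(H ⊔ ((Q : Subgroup G).map (MulAut.conj (g : G)).toMonoidHom))).map (H ⊔ ((Q : Subgroup G).map (MulAut.conj (g : G)).toMonoidHom)).subtype ∧ Cfsg.IsPIrreducible p ↥(H ⊔ ((Q : Subgroup G).map (MulAut.conj (g : G)).toMonoidHom)) := by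
  have h := fm_of_large S hQ hQp hSM hM
  have hQ' := isPGroup_cj hQp g
  set Q₁ := cj(g, Q)
  have h1 : Q₁ ≤ pCoreOf p (H ⊔ Q₁) :=
    le_pCoreOf le_sup_right (sup_le hHQ Subgroup.le_normalizer) hQ'
  have h2 := ((h.wc hasym).le_normalizer' (isPGroup_pCoreOf (H ⊔ Q₁))
    ((hH.2.1.trans le_sup_left).trans (le_normalizer_pCoreOf _)) le_top)
  have h3 : ncl (largestPReducedOf p M) (H ⊔ Q₁) = ncl (largestPReducedOf p M) H := by
    refine le_antisymm (ncl_le_iff.mpr fun x hx => ?_) (ncl_mono le_rfl le_sup_left)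
    obtain ⟨a, ha, b, hb, rfl⟩ := (mem_sup_of_le_normalizer hHQ).mp hx
    rw [← cj_cj, cj_eq_iff.mpr (h.normalizer_O_le_Y (h2 (h1 hb)))]
    exact cj_le_ncl ha
  have h4 : Q₁ ≤ Subgroup.normalizer (pResidualOf p H : Set G) := by
    have h5 := le_normalizer_pResidualOf' (p := p)
      (le_sup_right.trans (le_normalizer_ncl (largestPReducedOf p M) (H ⊔ Q₁)))
    rwa [h3, h.ncl_Y hasym hH, sup_comm, pResidualOf_sup_eq (pRed_Y M).isPGroup
      (((Y_le_pCoreOf M).trans hH.2.1).trans (le_normalizer_pResidualOf H)), pResidualOf_idem] at h5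
  have h5 : Q₁ ≤ Subgroup.normalizer (H : Set G) := by
    have := le_normalizer_sup h4 (h1.trans h2)
    rwa [h.pResidualOf_sup hasym hH] at this
  refine ⟨h1, h2, h.normalizer_O_le_Y, h.normalizer_Y,
    (Subgroup.normal_subgroupOf_iff_le_normalizer le_sup_left).mpr (sup_le Subgroup.le_normalizer h5),
    ?_, isPIrreducible_iff.mpr ((FM.pIrr hH).sup hQ' hHQ)⟩
  have := pResidualOf_sup_eq hQ' h5
  rw [sup_comm] at this
  exact this.symm

end Cfsg.Agent.S2854
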