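import Mathlib
import Cfsg.Statements.S2855
import Cfsg.Agent.H26.PIrr

set_option autoImplicit false
open Cfsg

namespace Cfsg.Agent.S2855
open H26

open scoped commutatorElement

theorem le_of_forall {H : Type*} [Group H] [Finite H] {p : ℕ} [Fact p.Prime] {𝒦 : Set (Subgroup H)}
    (hres : pResidualOf p ⊤ ≤ sSup 𝒦)
    (hnorm : ∀ E ∈ 𝒦, sSup 𝒦 ≤ Subgroup.normalizer (E : Set H)) {N : Subgroup H} [N.Normal]
    (h : ∀ E ∈ 𝒦, pResidualOf p E ≤ N) : pResidualOf p ⊤ ≤ N := by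
  rw [← pResidualOf_eq_of_le_of_le hres le_top, ← QuotientGroup.ker_mk' N, ← isPGroup_map_iff]
  refine (isPGroup_pCoreOf (p := p) ((sSup 𝒦).map (QuotientGroup.mk' N))).to_le ?_
  rw [Subgroup.map_le_iff_le_comap, sSup_le_iff]
  intro E hE
  rw [← Subgroup.map_le_iff_le_comap]
  exact le_pCoreOf (Subgroup.map_mono (le_sSup hE)) (le_normalizer_map _ (hnorm E hE))
    ((isPGroup_map_iff _).mpr (by rw [QuotientGroup.ker_mk']; exact h E hE))

theorem comm_eq_bot {H : Type*} [Group H] [Finite H] {p : ℕ} [Fact p.Prime] {E N : Subgroup H}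
    (hO : pCoreOf p E = ⊥) (hE : PIrr p E) (h1 : ⁅N, E⁆ ≤ E) (h2 : ⁅⁅N, E⁆, E⁆ = ⊥) : ⁅N, E⁆ = ⊥ := by
  have h3 : ⁅⁅E, E⁆, N⁆ = ⊥ := Subgroup.commutator_commutator_eq_bot_of_rotate
    (by rwa [Subgroup.commutator_comm E]) h2
  have h4 := hE.pResidualOf_le_commutator.trans (Subgroup.commutator_eq_bot_iff_le_centralizer.mp h3)
  have h5 := Subgroup.commutator_eq_bot_iff_le_centralizer.mp h2
  rw [Subgroup.commutator_comm] at h1 h5 ⊢
  rw [← le_bot_iff, Subgroup.commutator_le]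
  intro f hf n hn
  have h6 := Subgroup.commutator_mem_commutator hf hn
  have h7 : ∀ k : ℕ, ⁅f ^ k, n⁆ = ⁅f, n⁆ ^ k := by
    intro k
    induction k with
    | zero => simp
    | succ k ih =>
      rw [pow_succ', commutatorElement_mul_left_eq_conj_mul, ih,
        Subgroup.pow_mem _ (h5 h6) k f hf, mul_inv_cancel_right, pow_succ]
  obtain ⟨k, hk⟩ := exists_pow_mem_pResidualOf (p := p) hf
  rw [← hO]
  refine le_pCoreOf (Subgroup.zpowers_le.mpr (h1 h6)) ?_ (isPGroup_zpowers ⟨k, ?_⟩)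
    (Subgroup.mem_zpowers _)
  · exact (Subgroup.le_centralizer_iff.mp (Subgroup.zpowers_le.mpr (h5 h6))).trans
      (centralizer_le_normalizer _)
  · rw [← h7, commutatorElement_eq_one_iff_mul_comm]
    exact (h4 hk n hn).symm

theorem partB {H : Type*} [Group H] [Finite H] {p : ℕ} [Fact p.Prime] {𝒦 : Set (Subgroup H)}
    (hO : pCore p H = ⊥) (hne : 𝒦.Nonempty) (hinv : ∀ h : H, ∀ E ∈ 𝒦, cj(h, E) ∈ 𝒦)
    (htr : ∀ E ∈ 𝒦, ∀ K ∈ 𝒦, ∃ h : H, K = cj(h, E)) (hres : pResidualOf p ⊤ ≤ sSup 𝒦)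
    (hnorm : ∀ E ∈ 𝒦, sSup 𝒦 ≤ Subgroup.normalizer (E : Set H)) (hS : ∀ E ∈ 𝒦, SPIrr p E) :
    PIrr p (⊤ : Subgroup H) ∧ ∀ E ∈ 𝒦, ∀ K ∈ 𝒦, pResidualOf p E = pResidualOf p K ∨ ⁅E, K⁆ = ⊥ := by
  have hR : (sSup 𝒦).Normal := normal_of_top_le fun g _ => mem_normalizer_of_cj_le (by
    rw [cj_le_iff_le_cj, sSup_le_iff]
    intro E hE
    rw [← cj_le_iff_le_cj]
    exact le_sSup (hinv g E hE))
  have hOE : ∀ E ∈ 𝒦, pCoreOf p E = ⊥ := fun E hE => le_bot_iff.mp
    (((pCoreOf_le_of_normal (le_sSup hE) (hnorm E hE)).trans (pCoreOf_le_pCore _)).trans hO.le)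
  have key : ∀ E ∈ 𝒦, ∀ N : Subgroup H, N ≤ sSup 𝒦 → sSup 𝒦 ≤ Subgroup.normalizer (N : Set H) →
      pResidualOf p E ≤ N ∨ ⁅N, E⁆ = ⊥ := by
    intro E hE N h1 h2
    have h3 : ⁅N, E⁆ ≤ N ⊓ E := le_inf (commutator_le_of_le_normalizer ((le_sSup hE).trans h2))
      (commutator_le_of_le_normalizer' (h1.trans (hnorm E hE)))
    by_cases h4 : ⁅N ⊓ E, E⁆ ≤ pCoreOf p E
    · right
      refine comm_eq_bot (hOE E hE) (hS E hE).pIrr (h3.trans inf_le_right) ?_
      rw [← le_bot_iff, ← hOE E hE]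
      exact (Subgroup.commutator_mono h3 le_rfl).trans h4
    · exact Or.inl (((hS E hE).2 _ inf_le_right (le_normalizer_inf ((le_sSup hE).trans h2)
        Subgroup.le_normalizer) h4).trans inf_le_left)
  refine ⟨⟨fun h => ?_, fun N _ hN hc => ?_⟩, fun E hE K hK => ?_⟩
  · obtain ⟨E, hE⟩ := hne
    exact (hS E hE).1 (h.mono le_top)
  · have := normal_of_top_le hN
    by_cases h1 : ∃ E ∈ 𝒦, pResidualOf p E ≤ N
    · obtain ⟨E, hE, h1⟩ := h1
      refine le_of_forall hres hnorm fun K hK => ?_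
      obtain ⟨h, rfl⟩ := htr E hE K hK
      rw [← cj_pResidualOf]
      exact cj_le_of_le_of_mem_normalizer h1 (hN (Subgroup.mem_top h))
    · exfalso
      have h2 : pResidualOf p ⊤ ≤ Subgroup.centralizer (N : Set H) := by
        refine le_of_forall hres hnorm fun E hE => ?_
        have h3 := (key E hE (N ⊓ sSup 𝒦) inf_le_right Subgroup.le_normalizer_of_normal).resolve_left
          fun h => h1 ⟨E, hE, h.trans inf_le_left⟩
        have h4 : ∀ X : Subgroup H, X ≤ E → ⁅N, X⁆ ≤ N ⊓ sSup 𝒦 := fun X hX =>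
          le_inf (commutator_le_of_le_normalizer Subgroup.le_normalizer_of_normal)
            ((Subgroup.commutator_mono le_rfl (hX.trans (le_sSup hE))).trans
              (commutator_le_of_le_normalizer' Subgroup.le_normalizer_of_normal))
        have h5 : ⁅⁅pResidualOf p E, E⁆, N⁆ = ⊥ := by
          apply Subgroup.commutator_commutator_eq_bot_of_rotate
          · rw [← le_bot_iff, ← h3, Subgroup.commutator_comm E]
            exact Subgroup.commutator_mono (h4 E le_rfl) (pResidualOf_le E)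
          · rw [← le_bot_iff, ← h3]
            exact Subgroup.commutator_mono (h4 _ (pResidualOf_le E)) le_rfl
        obtain ⟨T, hT⟩ := exists_isSyl p E
        rw [← (hS E hE).pIrr.commutator_eq hT le_rfl Subgroup.le_normalizer
          ((hS E hE).pIrr.not_le_pCoreOf hT)]
        exact (Subgroup.commutator_mono le_rfl hT.le).trans
          (Subgroup.commutator_eq_bot_iff_le_centralizer.mp h5)
      obtain ⟨S, hS'⟩ := exists_isSyl p N
      refine hc (pClosed_of_normal hS' (hS'.pResidualOf_sup.ge.trans (sup_le ?_ Subgroup.le_normalizer)))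
      exact ((pResidualOf_mono le_top).trans h2).trans
        ((centralizer_anti hS'.le).trans (centralizer_le_normalizer S))
  · rcases key K hK E (le_sSup hE) (hnorm E hE) with h | h
    · left
      have h2 := pResidualOf_mono (p := p) h
      rw [pResidualOf_idem] at h2
      obtain ⟨g, rfl⟩ := htr E hE K hK
      exact (Subgroup.eq_of_le_of_card_ge h2 (by rw [← cj_pResidualOf, card_cj])).symm
    · exact Or.inr h

/-- Let H be a finite group, p a prime, and 𝒦 a nonempty set of subgroups of H permuted transitively by conjugation, with R the subgroup generated by the members of 𝒦. Suppose O^p(H) ≤ R, each E ∈ 𝒦 has E·O_p(H) normal in R·O_p(H), and each E ∈ 𝒦 is p-minimal (generated by the conjugates of a Sylow p-subgroup T_E of E, with T_E in exactly one maximal subgroup of E). Then H is p-minimal in the same sense. If instead each E ∈ 𝒦 is strongly p-irreducible, then H is p-irreducible and, for E, K ∈ 𝒦, either O^p(E·O_p(H)) = O^p(K·O_p(H))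 or [E, K] ≤ O_p(H). -/
theorem result {H : Type*} [Group H] [Finite H] {p : ℕ} [Fact p.Prime] (𝒦 : Set (Subgroup H)) (hne : 𝒦.Nonempty) (hinv : ∀ h : H, ∀ E ∈ 𝒦, E.map (MulAut.conj h).toMonoidHom ∈ 𝒦) (htr : ∀ E ∈ 𝒦, ∀ K ∈ 𝒦, ∃ h : H, K = E.map (MulAut.conj h).toMonoidHom) (hres : Cfsg.pResidual p H ≤ sSup 𝒦) (hnorm : ∀ E ∈ 𝒦, sSup 𝒦 ⊔ Cfsg.pCore p H ≤ Subgroup.normalizer ((E ⊔ Cfsg.pCore p H : Subgroup H) : Set H)) : ((∀ E ∈ 𝒦, ∀ T : Sylow p ↥E, Cfsg.IsMinimalOver (T : Subgroup ↥E)) → ∀ T : Sylow p H, Cfsg.IsMinimalOver (T : Subgroup H)) ∧ ((∀ E ∈ 𝒦, Cfsg.IsStronglyPIrreducible p ↥E) → Cfsg.IsPIrreducible p H ∧ ∀ E ∈ 𝒦, ∀ K ∈ 𝒦, (Cfsg.pResidual p ↥(E ⊔ Cfsg.pCore p H)).map (E ⊔ Cfsg.pCore p H).subtype = (Cfsg.pResidual p ↥(K ⊔ Cfsg.pCore p H)).map (K ⊔ Cfsg.pCore p H).subtype ∨ ⁅E, K⁆ ≤ Cfsg.pCore p H) := by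
  set Q := pCore p H with hQ
  set R := sSup 𝒦 with hR
  have hRn : R.Normal := normal_of_top_le fun g _ => mem_normalizer_of_cj_le (by
    rw [cj_le_iff_le_cj, sSup_le_iff]
    intro E hE
    rw [← cj_le_iff_le_cj]
    exact le_sSup (hinv g E hE))
  rw [← pResidualOf_top] at hres
  refine ⟨fun hmin T => ?_, fun hS => ?_⟩
  · have hT := isSyl_top T
    have hQT : Q ≤ T := pCore_le_sylow T
    have hRT : R ⊔ (T : Subgroup H) = ⊤ :=
      eq_top_iff.mpr (hT.pResidualOf_sup.ge.trans (sup_le_sup_right hres _))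
    have hF : ∀ E ∈ 𝒦, ncl ((T : Subgroup H) ⊓ (E ⊔ Q)) (E ⊔ Q) = E ⊔ Q ∧
        ∃ M, UMax ((T : Subgroup H) ⊓ (E ⊔ Q)) (E ⊔ Q) M := by
      intro E hE
      obtain ⟨S⟩ := (inferInstance : Nonempty (Sylow p E))
      obtain ⟨h1, M, hM⟩ := isMinimalOver_map_iff.mp (hmin E hE S)
      have hS := isSyl_map_subtype S
      have h2 := hM.sup (Q := Q) Subgroup.le_normalizer_of_normal
        (((inf_pCore_le E).trans hS.pCoreOf_le).trans hM.le)
      have h3 : SubN ⊤ (E ⊔ Q) := (SubN.of_normal (H := R ⊔ Q) le_top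
        Subgroup.le_normalizer_of_normal).trans
        (.of_normal (sup_le_sup_right (le_sSup hE) _) (hnorm E hE))
      obtain ⟨h4, g, -, h5⟩ := h2.exists_of_isSyl (le_antisymm (ncl_le_of_le (h2.le.trans h2.lt.le))
        (sup_le (h1.ge.trans (ncl_mono le_sup_left le_sup_left)) (le_sup_right.trans (le_ncl _ _))))
        (isPGroup_sup hS.pg isPGroup_pCore Subgroup.le_normalizer_of_normal) (h3.isSyl_inf hT)
      exact ⟨h4, _, h5⟩
    choose! μ hμ using fun E hE => (hF E hE).2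
    have hcj : ∀ (h : H) (E : Subgroup H), cj(h, E ⊔ Q) = cj(h, E) ⊔ Q := fun h E => by
      rw [cj_sup, cj_eq_of_normal h Q]
    let M : Subgroup H :=
      { carrier := {h | ∀ E ∈ 𝒦, cj(h, μ E) = μ cj(h, E)}
        one_mem' := fun E _ => by rw [cj_one, cj_one]
        mul_mem' := fun {a b} ha hb E hE => by
          rw [← cj_cj, hb E hE, ha _ (hinv b E hE), cj_cj]
        inv_mem' := fun {a} ha E hE => by
          have := ha _ (hinv a⁻¹ E hE)
          rw [cj_cj_inv] at this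
          rw [← this, cj_inv_cj] }
    have hμ' : ∀ E ∈ 𝒦, ∀ K ∈ 𝒦, E ⊔ Q = K ⊔ Q → μ E = μ K := fun E hE K hK h =>
      (hμ E hE).unique (h ▸ hμ K hK)
    have hTM : (T : Subgroup H) ≤ M := fun t ht E hE => by
      have h1 := (hμ E hE).cj t
      rw [cj_inf, cj_eq_self_of_mem ht, hcj] at h1
      exact h1.unique (hμ _ (hinv t E hE))
    rw [isMinimalOver_top_iff]
    refine ⟨eq_top_iff.mpr (hRT.ge.trans (sup_le (sSup_le fun E hE => ?_) (le_ncl _ _))), M, hTM,
      lt_top_iff_ne_top.mpr fun h => ?_, fun X x1 x2 => ?_⟩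
    · exact (le_sup_left.trans (hF E hE).1.ge).trans (ncl_mono inf_le_left le_top)
    · obtain ⟨E, hE⟩ := hne
      refine (hμ E hE).lt.not_ge (le_trans (le_inf le_rfl fun x hx => ?_)
        ((hμ E hE).normalizer_le (hF E hE).1 (hμ E hE).le le_rfl))
      have h1 : x ∈ M := h ▸ Subgroup.mem_top x
      rw [← cj_eq_iff, h1 E hE]
      exact hμ' _ (hinv x E hE) E hE (by rw [← hcj, cj_eq_self_of_mem hx])
    · have h1 := inf_sup_eq_of_le_normalizer (N := R) Subgroup.le_normalizer_of_normal x1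
      rw [sup_comm (T : Subgroup H), hRT, inf_top_eq] at h1
      rw [h1]
      refine sup_le hTM fun x hx E hE => ?_
      have h2 : cj(x, E ⊔ Q) = E ⊔ Q := cj_eq_iff.mpr (hnorm E hE (Subgroup.mem_sup_left hx.2))
      rw [hμ' _ (hinv x E hE) E hE (by rw [← hcj, h2])]
      have h3 : UMax (X ⊓ (E ⊔ Q)) (E ⊔ Q) (μ E) := by
        refine (hμ E hE).mono (inf_le_inf_right _ x1) ((hμ E hE).le_of_not_le
          (inf_le_inf_right _ x1) inf_le_right fun h4 => x2.not_ge ?_)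
        refine hRT.ge.trans (sup_le (sSup_le fun K hK => ?_) x1)
        obtain ⟨g, rfl⟩ := htr E hE K hK
        have hg : g ∈ (T : Subgroup H) ⊔ R := by rw [sup_comm, hRT]; exact Subgroup.mem_top g
        obtain ⟨t, ht, r, hr, rfl⟩ :=
          (mem_sup_of_le_normalizer Subgroup.le_normalizer_of_normal).mp hg
        refine (cj_mono _ (le_sup_left : E ≤ E ⊔ Q)).trans ?_
        rw [← cj_cj, cj_eq_iff.mpr (hnorm E hE (Subgroup.mem_sup_left hr))]
        exact cj_le_of_le_of_mem (h4.trans inf_le_left) (x1 ht)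
      have h4 := h3.cj x
      rw [cj_inf, h2, cj_eq_self_of_mem hx.1] at h4
      exact h4.unique h3
  · let f := QuotientGroup.mk' Q
    have hs : Function.Surjective f := QuotientGroup.mk'_surjective Q
    have hk : ∀ N : Subgroup H, IsPGroup p (N ⊓ f.ker : Subgroup H) := fun N => by
      rw [QuotientGroup.ker_mk']; exact isPGroup_pCore.to_inf_right
    have hfQ : ∀ E : Subgroup H, (E ⊔ Q).map f = E.map f := fun E => by
      rw [Subgroup.map_sup, (Subgroup.map_eq_bot_iff Q).mpr (QuotientGroup.ker_mk' Q).ge, sup_bot_eq]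
    have hsup : sSup (Subgroup.map f '' 𝒦) = R.map f := by
      rw [hR, (Subgroup.gc_map_comap f).l_sSup, sSup_image]
    have htop := Subgroup.map_top_of_surjective f hs
    obtain ⟨h1, h2⟩ := partB (p := p) (𝒦 := Subgroup.map f '' 𝒦) pCore_quotient_pCore (hne.image _)
      (by
        rintro h _ ⟨E, hE, rfl⟩
        obtain ⟨h, rfl⟩ := hs h
        exact ⟨_, hinv h E hE, map_cj f h E⟩)
      (by
        rintro _ ⟨E, hE, rfl⟩ _ ⟨K, hK, rfl⟩
        obtain ⟨h, rfl⟩ := htr E hE K hK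
        exact ⟨f h, map_cj f h E⟩)
      (by rw [hsup, ← htop, ← map_pResidualOf]; exact Subgroup.map_mono hres)
      (by
        rintro _ ⟨E, hE, rfl⟩
        rw [hsup, ← hfQ E]
        exact le_normalizer_map f (le_sup_left.trans (hnorm E hE)))
      (by
        rintro _ ⟨E, hE, rfl⟩
        exact (sPIrr_map_iff f (hk E)).mpr (isStronglyPIrreducible_iff.mp (hS E hE)))
    refine ⟨isPIrreducible_top_iff.mpr ((pIrr_map_iff f (hk ⊤)).mp (htop ▸ h1)), fun E hE K hK => ?_⟩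
    have key : ∀ E K : Subgroup H, pResidualOf p (E.map f) = pResidualOf p (K.map f) →
        pResidualOf p (E ⊔ Q) ≤ pResidualOf p (K ⊔ Q) := by
      intro E K h
      rw [← hfQ E, ← hfQ K, ← map_pResidualOf, ← map_pResidualOf] at h
      have h3 := Subgroup.map_le_iff_le_comap.mp h.le
      rw [Subgroup.comap_map_eq, QuotientGroup.ker_mk'] at h3
      have h4 := pResidualOf_mono (p := p) h3
      rwa [pResidualOf_idem, sup_comm (pResidualOf p (K ⊔ Q)) Q, pResidualOf_sup_eq isPGroup_pCore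
        (le_sup_right.trans (le_normalizer_pResidualOf _)), pResidualOf_idem] at h4
    rcases h2 _ ⟨E, hE, rfl⟩ _ ⟨K, hK, rfl⟩ with h | h
    · exact Or.inl (le_antisymm (key E K h) (key K E h.symm))
    · right
      rwa [← Subgroup.map_commutator, Subgroup.map_eq_bot_iff, QuotientGroup.ker_mk'] at h

end Cfsg.Agent.S2855
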