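import Mathlib
import Cfsg.Statements.S2859
import Cfsg.Agent.H26.Misc

set_option autoImplicit false
open Cfsg

namespace Cfsg.Agent.S2859
open H26

theorem half {G : Type*} [Group G] [Finite G] {p : ℕ} [Fact p.Prime] {Q C H₁ H₂ K : Subgroup G}
    (hwc : WC p Q ⊤) (hC : C = ncl Q ⊤) (hn₁ : H₁ ≤ C ∧ C ≤ Subgroup.normalizer (H₁ : Set G))
    (hn₂ : H₂ ≤ C ∧ C ≤ Subgroup.normalizer (H₂ : Set G)) (hprod : H₁ ⊔ H₂ = C)
    (hcomm : ⁅H₁, H₂⁆ ≤ Subgroup.normalizer (Q : Set G)) (hK : K = pResidualOf p (ncl Q (H₁ ⊔ Q))) :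
    (⁅K, Q⁆ = K ∧ ⁅K, H₁⁆ = K ∧ K ≤ ⁅H₁, H₁⁆ ∧ C ≤ Subgroup.normalizer (K : Set G)) ∧
      ⁅K, H₂⁆ ≤ pCoreOf p C ∧ H₁ ≤ Subgroup.normalizer ((K ⊔ Q : Subgroup G) : Set G) := by
  have hQC : Q ≤ C := hC ▸ le_ncl Q ⊤
  have hw := hwc.mono (le_sup_right : Q ≤ H₁ ⊔ Q) le_top
  have a1 : ⁅K, Q⁆ = K := hK ▸ hw.commutator_eq
  have a2 : K ≤ H₁ := by
    rw [hK]
    exact le_of_le_pGroup_sup hwc.pg (hQC.trans hn₁.2)
      ((pResidualOf_le _).trans ((ncl_le_of_le le_sup_right).trans (sup_comm _ _).le))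
  have a3 : H₁ ≤ Subgroup.normalizer (K : Set G) :=
    hK ▸ le_normalizer_pResidualOf' (le_sup_left.trans (le_normalizer_ncl _ _))
  have hD : C ≤ Subgroup.normalizer ((⁅H₁, H₂⁆ : Subgroup G) : Set G) :=
    le_normalizer_commutator hn₁.2 hn₂.2
  have hD1 : ⁅H₁, H₂⁆ ≤ H₁ := commutator_le_of_le_normalizer (hn₂.1.trans hn₁.2)
  set E := pCoreOf p ⁅H₁, H₂⁆ with hE
  have hE1 : C ≤ Subgroup.normalizer (E : Set G) := le_normalizer_pCoreOf' hD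
  have hE2 : E ≤ H₁ := (pCoreOf_le _).trans hD1
  have hE3 : IsPGroup p E := isPGroup_pCoreOf _
  have b1 : ⁅⁅H₁, H₂⁆, C⁆ ≤ E := by
    have : ncl Q C = C := hC ▸ hwc.ncl_ncl
    rw [← this]
    refine commutator_ncl_le' hD hE1 (hQC.trans hE1) (le_trans (le_inf
      (commutator_le_of_le_normalizer' hcomm) (commutator_le_of_le_normalizer (hQC.trans hD))) ?_)
    exact le_pCoreOf inf_le_right (le_normalizer_inf hcomm Subgroup.le_normalizer) hwc.pg.to_inf_left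
  have key : ∀ X : Subgroup G, C ≤ Subgroup.normalizer (X : Set G) → K ≤ E ⊔ X → K ≤ X :=
    fun X h1 h2 => hK ▸ le_of_le_pGroup_sup hE3 ((hE2.trans hn₁.1).trans h1) (hK ▸ h2)
  have hH' : C ≤ Subgroup.normalizer ((⁅H₁, H₁⁆ : Subgroup G) : Set G) :=
    le_normalizer_commutator hn₁.2 hn₁.2
  have a4 : K ≤ ⁅H₁, H₁⁆ := by
    refine key _ hH' ?_
    have c1 : ⁅H₁, C⁆ ≤ ⁅H₁, H₁⁆ ⊔ ⁅H₁, H₂⁆ := by
      rw [← hprod]
      exact commutator_sup_le' (hn₁.1.trans (le_normalizer_sup hH' hD))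
        (hn₂.1.trans (le_normalizer_sup hH' hD)) le_sup_left le_sup_right
    rw [← a1, ← a1]
    refine (Subgroup.commutator_mono ((Subgroup.commutator_mono a2 hQC).trans c1) hQC).trans ?_
    have c2 := le_normalizer_sup hE1 hH'
    exact commutator_sup_le (((commutator_le_of_le_normalizer Subgroup.le_normalizer).trans
      hn₁.1).trans c2) ((hD1.trans hn₁.1).trans c2)
      ((commutator_le_of_le_normalizer hH').trans le_sup_right) (b1.trans le_sup_left)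
  have a5 : ⁅K, H₂⁆ ≤ E := by
    refine (Subgroup.commutator_mono a4 le_rfl).trans (three_subgroups (hn₁.1.trans hE1)
      (hn₁.1.trans hE1) (hn₂.1.trans hE1) ((Subgroup.commutator_mono le_rfl hn₁.1).trans b1) ?_)
    rw [Subgroup.commutator_comm H₂]
    exact (Subgroup.commutator_mono le_rfl hn₁.1).trans b1
  have a6 : C ≤ Subgroup.normalizer (K : Set G) := by
    refine hprod.ge.trans (sup_le a3 ?_)
    have c1 : H₂ ≤ Subgroup.normalizer ((E ⊔ K : Subgroup G) : Set G) := by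
      refine le_normalizer_of_commutator_le (commutator_sup_le
        (le_sup_left.trans Subgroup.le_normalizer) (le_sup_right.trans Subgroup.le_normalizer)
        ((commutator_le_of_le_normalizer (hn₂.1.trans hE1)).trans le_sup_left) (a5.trans le_sup_left))
    have c2 := le_normalizer_pResidualOf' (p := p) c1
    rwa [pResidualOf_sup_eq hE3 (hE2.trans a3), hK, pResidualOf_idem, ← hK] at c2
  refine ⟨⟨a1, le_antisymm (commutator_le_of_le_normalizer a3) (key _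
    (le_normalizer_commutator a6 hn₁.2) ?_), a4, a6⟩,
    a5.trans (le_pCoreOf (hE2.trans hn₁.1) hE1 hE3), ?_⟩
  · have c2 := le_normalizer_sup hE1 (le_normalizer_commutator a6 hn₁.2)
    refine a1.ge.trans ((Subgroup.commutator_mono le_rfl (hQC.trans hprod.ge)).trans ?_)
    exact commutator_sup_le' (hn₁.1.trans c2) (hn₂.1.trans c2) le_sup_right (a5.trans le_sup_left)
  · rw [hK, hw.pResidualOf_ncl_sup]
    exact le_sup_left.trans (le_normalizer_ncl _ _)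

/-- Let Q be a nontrivial p-subgroup of the finite group H that is a weakly closed subgroup, H° the weak closure of Q in H (generated by the conjugates of Q) and H_∘ = O^p(H°). Suppose H₁, H₂ are normal subgroups of H° with H° = H₁H₂ and [H₁, H₂] ≤ N_H(Q), and put Kᵢ = O^p of the weak closure of Q in HᵢQ. Then for i = 1, 2: Kᵢ = [Kᵢ, Q] = [Kᵢ, Hᵢ] ≤ Hᵢ′ and Kᵢ is normal in H°; H_∘ = K₁K₂; and [K₁, K₂] ≤ O_p(H°). -/
theorem result {G : Type*} [Group G] [Finite G] {p : ℕ} [Fact p.Prime] (Q : Subgroup G) (hQp : IsPGroup p ↥Q) (hQ1 : Q ≠ ⊥) (hwc : Cfsg.IsWeaklyClosedSubgroup p Q) (Hc : Subgroup G) (hHc : Hc = Cfsg.weakClosure Q ⊤) (H₁ H₂ : Subgroup G) (hn₁ : H₁ ≤ Hc ∧ Hc ≤ Subgroup.normalizer ((H₁ : Subgroup G) : Set G)) (hn₂ : H₂ ≤ Hc ∧ Hc ≤ Subgroup.normalizer ((H₂ : Subgroup G) : Set G)) (hprod : H₁ ⊔ H₂ = Hc) (hcomm : ⁅H₁, H₂⁆ ≤ Subgroup.normalizer ((Q : Subgroup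 G) : Set G)) (K₁ K₂ : Subgroup G) (hK₁ : K₁ = ((Cfsg.pResidual p ↥(Cfsg.weakClosure Q (H₁ ⊔ Q))).map ((Cfsg.weakClosure Q (H₁ ⊔ Q))).subtype)) (hK₂ : K₂ = ((Cfsg.pResidual p ↥(Cfsg.weakClosure Q (H₂ ⊔ Q))).map ((Cfsg.weakClosure Q (H₂ ⊔ Q))).subtype)) : (⁅K₁, Q⁆ = K₁ ∧ ⁅K₁, H₁⁆ = K₁ ∧ K₁ ≤ ⁅H₁, H₁⁆ ∧ Hc ≤ Subgroup.normalizer ((K₁ : Subgroup G) : Set G)) ∧ (⁅K₂, Q⁆ = K₂ ∧ ⁅K₂, H₂⁆ = K₂ ∧ K₂ ≤ ⁅H₂, H₂⁆ ∧ Hc ≤ Subgroup.normalizer ((K₂ : Subgroup G) : Set G)) ∧ K₁ ⊔ K₂ = ((Cfsg.pResidual p ↥Hc).map (Hc).subtype) ∧ ⁅K₁, K₂⁆ ≤ (Cfsg.pCoreOf p Hc) := by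
  rw [isWeaklyClosedSubgroup_iff] at hwc
  rw [hwc.weakClosure_eq le_top] at hHc
  rw [hwc.weakClosure_eq le_sup_right] at hK₁ hK₂
  obtain ⟨a1, a2, a3⟩ := half hwc hHc hn₁ hn₂ hprod hcomm hK₁
  obtain ⟨b1, b2, b3⟩ := half hwc hHc hn₂ hn₁ (sup_comm H₁ H₂ ▸ hprod)
    (Subgroup.commutator_comm H₁ H₂ ▸ hcomm) hK₂
  have hQC : Q ≤ Hc := hHc ▸ le_ncl Q ⊤
  have c1 : K₂ ≤ H₂ := b1.2.2.1.trans (commutator_le_of_le_normalizer Subgroup.le_normalizer)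
  refine ⟨a1, b1, le_antisymm (sup_le ?_ ?_) ?_, (Subgroup.commutator_mono le_rfl c1).trans a2⟩
  · exact hK₁ ▸ pResidualOf_mono ((ncl_le_of_le le_sup_right).trans (sup_le hn₁.1 hQC))
  · exact hK₂ ▸ pResidualOf_mono ((ncl_le_of_le le_sup_right).trans (sup_le hn₂.1 hQC))
  · refine le_of_le_pGroup_sup hQp (hQC.trans (le_normalizer_sup a1.2.2.2 b1.2.2.2))
      ((pResidualOf_le _).trans ?_)
    have : ncl Q Hc = Hc := hHc ▸ hwc.ncl_ncl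
    refine this.ge.trans (ncl_le le_sup_left (hprod.ge.trans (sup_le ?_ ?_)))
    · rw [← sup_assoc, sup_comm Q]
      exact le_normalizer_sup a3 (hn₁.1.trans b1.2.2.2)
    · rw [sup_comm Q, sup_assoc]
      exact le_normalizer_sup (hn₂.1.trans a1.2.2.2) b3

end Cfsg.Agent.S2859
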