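import Mathlib
import Cfsg.Statements.S2860
import Cfsg.Agent.H26.Misc
import Cfsg.Agent.H22.Components

set_option autoImplicit false
open Cfsg

namespace Cfsg.Agent.S2860
open H26

theorem key {X : Type*} [Group X] [Finite X] {p : ℕ} [Fact p.Prime] {Q C R : Subgroup X} [C.Normal]
    (hwc : WC p Q ⊤) (hc : ⁅ncl Q ⊤, C⁆ ≤ pCoreOf p (ncl Q ⊤)) (hQC : ¬ Q ≤ C)
    (hred : pCore p (X ⧸ C) = ⊥)
    (hqs : IsQuasisimple ((pResidual p X ⊔ C).map (QuotientGroup.mk' C)))
    (hR : R = pResidualOf p (ncl Q ⊤)) :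
    pResidual p X ⊔ C = R ⊔ C ∧ ⁅R, R⁆ = R ∧ IsQuasisimple (R.map (QuotientGroup.mk' C)) ∧
      ⁅R, C⁆ ≤ pCoreOf p R ∧ pCoreOf p R ≤ C ∧
      ∀ Y : Subgroup X, IsPGroup p Y → ¬ Y ≤ C → ⁅R, Y⁆ = R := by
  set f := QuotientGroup.mk' C with hf
  have hs := QuotientGroup.mk'_surjective C
  have hk : f.ker = C := QuotientGroup.ker_mk' C
  have h1 : (pResidual p X ⊔ C).map f = pResidual p (X ⧸ C) := by
    rw [Subgroup.map_sup, QuotientGroup.map_mk'_self, sup_bot_eq, ← pResidualOf_top, map_pResidualOf,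
      Subgroup.map_top_of_surjective _ hs, pResidualOf_top]
  rw [h1] at hqs
  obtain ⟨q1, -, q3⟩ := H22.isQuasisimple_subgroup_iff.mp hqs
  have hn := pResidual_normal (p := p) (G := X ⧸ C)
  have h2 : ∀ Y : Subgroup X, IsPGroup p Y → ¬ Y ≤ C →
      ⁅pResidual p (X ⧸ C), Y.map f⁆ = pResidual p (X ⧸ C) := fun Y a b => by
    refine (q3 _ (Subgroup.commutator_le_left _ _)
      (Subgroup.normalizer_commutator_ge_left _ _)).resolve_right fun c => b ?_
    have d := H22.comm_eq_bot_of_perfect (Y := Y.map f) q1 (by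
      rw [Subgroup.commutator_comm (Y.map f)]
      exact Subgroup.commutator_eq_bot_iff_le_centralizer.mpr c)
    rw [Subgroup.commutator_eq_bot_iff_le_centralizer] at d
    set A := Subgroup.centralizer (pResidual p (X ⧸ C) : Set (X ⧸ C))
    obtain ⟨T, hT, hYT⟩ := exists_isSyl_ge (a.map f) d
    have e : A ≤ Subgroup.normalizer (T : Set (X ⧸ C)) := hT.pResidualOf_sup.ge.trans (sup_le
      ((((pResidualOf_mono le_top).trans pResidualOf_top.le).trans
        (Subgroup.le_centralizer_iff.mp hT.le)).trans (centralizer_le_normalizer T))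
      Subgroup.le_normalizer)
    rw [← hk, ← Subgroup.map_eq_bot_iff, ← le_bot_iff, ← hred]
    exact hYT.trans ((le_pCoreOf hT.le e hT.pg).trans (pCoreOf_le_pCore A))
  have hN : (ncl Q ⊤).Normal := normal_of_top_le (le_normalizer_ncl _ _)
  have hRn : R.Normal := hR ▸ pResidualOf_normal _
  have h3 : R.map f = pResidual p (X ⧸ C) := by
    rw [hR, map_pResidualOf]
    refine le_antisymm ((pResidualOf_mono le_top).trans pResidualOf_top.le) ?_
    rw [← pResidualOf_top, ← pResidualOf_idem]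
    refine pResidualOf_mono ?_
    rw [pResidualOf_top, ← h2 Q hwc.pg hQC]
    have := hN.map f hs
    exact (Subgroup.commutator_mono le_rfl (Subgroup.map_mono (le_ncl Q ⊤))).trans
      (Subgroup.commutator_le_right _ _)
  have h4 : ∀ A B : Subgroup X, A.map f ≤ B.map f → A ≤ B ⊔ C := fun A B h => by
    rwa [Subgroup.map_le_iff_le_comap, Subgroup.comap_map_eq, hk] at h
  have h5 : ∀ B ≤ R, R.map f ≤ B.map f → R ≤ B ⊔ (R ⊓ C) := fun B a b => by
    rw [← inf_sup_eq_of_le_normalizer Subgroup.le_normalizer_of_normal a]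
    exact le_inf le_rfl (h4 _ _ b)
  have hRN : R ≤ ncl Q ⊤ := hR ▸ pResidualOf_le _
  have h6 : ⁅ncl Q ⊤, R ⊓ C⁆ ≤ pCoreOf p R := (le_inf ((Subgroup.commutator_mono le_rfl
    inf_le_left).trans (Subgroup.commutator_le_right _ _)) ((Subgroup.commutator_mono le_rfl
      inf_le_right).trans hc)).trans (inf_pCoreOf_le hRN)
  have hO := pCoreOf_normal (p := p) R
  have h7 : ∀ N : Subgroup X, R ≤ Subgroup.normalizer (N : Set X) → R ≤ pCoreOf p R ⊔ N → R ≤ N :=
    fun N a b => by
      have := le_of_le_pGroup_sup (p := p) (K := ncl Q ⊤) (isPGroup_pCoreOf R) ((pCoreOf_le R).trans a)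
        (by rwa [← hR])
      rwa [← hR] at this
  have h8 : ⁅R, R⁆ = R := by
    refine le_antisymm (Subgroup.commutator_le_left _ _) (h7 _ Subgroup.le_normalizer_of_normal ?_)
    have a : ⁅R, Q⁆ = R := hR ▸ hwc.commutator_eq
    have b := h5 ⁅R, R⁆ (Subgroup.commutator_le_left _ _) (by rw [Subgroup.map_commutator, h3, q1])
    refine a.ge.trans ((Subgroup.commutator_mono b le_rfl).trans (commutator_sup_le
      Subgroup.le_normalizer_of_normal Subgroup.le_normalizer_of_normal
      ((Subgroup.commutator_le_left _ _).trans le_sup_right) (le_trans ?_ le_sup_left)))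
    rw [Subgroup.commutator_comm]
    exact (Subgroup.commutator_mono (le_ncl Q ⊤) le_rfl).trans h6
  refine ⟨le_antisymm (h4 _ _ (by rw [h1, h3])) (sup_le_sup_right (hR ▸ (pResidualOf_mono
    le_top).trans pResidualOf_top.le) _), h8, h3 ▸ hqs, (le_inf (Subgroup.commutator_le_left _ _)
      ((Subgroup.commutator_mono hRN le_rfl).trans hc)).trans (inf_pCoreOf_le hRN), ?_,
    fun Y a b => le_antisymm (Subgroup.commutator_le_left _ _) ?_⟩
  · rw [← hk, ← Subgroup.map_eq_bot_iff, ← le_bot_iff, ← hred]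
    exact (Subgroup.map_mono (pCoreOf_le_pCore R)).trans (map_pCore_le hs)
  · have c : R ≤ Subgroup.normalizer ((⁅R, Y⁆ : Subgroup X) : Set X) :=
      Subgroup.normalizer_commutator_ge_left _ _
    have d := h5 ⁅R, Y⁆ (Subgroup.commutator_le_left _ _)
      (by rw [Subgroup.map_commutator, h3, h2 Y a b])
    have e := le_normalizer_sup (Subgroup.le_normalizer_of_normal (H := pCoreOf p R)) c
    refine h7 _ c (h8.ge.trans ((Subgroup.commutator_mono le_rfl d).trans (commutator_sup_le'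
      (le_sup_right.trans Subgroup.le_normalizer) (inf_le_left.trans e)
      ((commutator_le_of_le_normalizer' c).trans le_sup_right)
      (((Subgroup.commutator_mono hRN le_rfl).trans h6).trans le_sup_left))))

/-- Let Q be a nontrivial large p-subgroup of the finite group H, U a nontrivial elementary abelian p-subgroup of H, and Q ≤ E ≤ N_H(U) with Q not normal in E. Suppose O_p(E/C_E(U)) = 1 and O^p(E)·C_E(U)/C_E(U) is quasisimple. Let E° be the weak closure of Q in E (generated by the conjugates of Q inside E) and E_∘ = O^p(E°). Then O^p(E)·C_E(U) = E_∘·C_E(U); E_∘ is perfect and equals O^p(E_∘); E_∘/C_{E_∘}(U) and E_∘/O_p(E_∘) are quasisimple; and E_∘ = [E_∘, Y] for every p-subgroup Y of E not centralizing U. -/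
theorem result {G : Type*} [Group G] [Finite G] {p : ℕ} [Fact p.Prime] (Q : Subgroup G) (hQp : IsPGroup p ↥Q) (hQ1 : Q ≠ ⊥) (hQ : Cfsg.IsLarge Q) (U : Subgroup G) (hU : Cfsg.IsElementaryAbelian p U) (hU1 : U ≠ ⊥) (E : Subgroup G) (hQE : Q ≤ E) (hEU : E ≤ Subgroup.normalizer ((U : Subgroup G) : Set G)) (hQn : ¬ E ≤ Subgroup.normalizer ((Q : Subgroup G) : Set G)) [hn : ((Subgroup.centralizer ((U : Subgroup G) : Set G)).subgroupOf E).Normal] (hred : Cfsg.pCore p (↥E ⧸ (Subgroup.centralizer ((U : Subgroup G) : Set G)).subgroupOf E) = ⊥) (hqs : Cfsg.IsQuasisimple ↥(((Cfsg.pResidual p ↥E) ⊔ (Subgroup.centralizer ((U : Subgroup G) : Set G)).subgroupOf E).map (QuotientGroup.mk' ((Subgroup.centralizer ((U : Subgroup G) : Set G)).subgroupOf E)))) (Er : Subgroup G) (hEr : Er = ((Cfsg.pResidual p ↥(Cfsg.weakClosure Q E)).map ((Cfsg.weakClosure Q E)).subtype)) [hn2 : ((Subgroup.centralizer ((U : Subgroup G) : Set G)).subgroupOf Er).Normal] : ((Cfsg.pResidual p ↥E).map (E).subtype)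 ⊔ (E ⊓ Subgroup.centralizer ((U : Subgroup G) : Set G)) = Er ⊔ (E ⊓ Subgroup.centralizer ((U : Subgroup G) : Set G)) ∧ ⁅Er, Er⁆ = Er ∧ ((Cfsg.pResidual p ↥Er).map (Er).subtype) = Er ∧ Cfsg.IsQuasisimple (↥Er ⧸ (Subgroup.centralizer ((U : Subgroup G) : Set G)).subgroupOf Er) ∧ Cfsg.IsQuasisimple (↥Er ⧸ Cfsg.pCore p ↥Er) ∧ ∀ Y : Subgroup G, Y ≤ E → IsPGroup p ↥Y → ¬ Y ≤ Subgroup.centralizer ((U : Subgroup G) : Set G) → ⁅Er, Y⁆ = Er := by
  have hwc := large_wc hQ hQp hQ1
  rw [hwc.weakClosure_eq hQE] at hEr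
  have hUp := H17.elemAb_isPGroup hU
  set C := Subgroup.centralizer (U : Set G) with hC
  have hi := E.subtype_injective
  have a1 : (ncl (Q.subgroupOf E) ⊤).map E.subtype = ncl Q E := by
    rw [map_ncl, Subgroup.map_subgroupOf_eq_of_le hQE, map_subtype_top]
  have a2 : (pResidualOf p (ncl (Q.subgroupOf E) ⊤)).map E.subtype = Er := by
    rw [← pResidualOf_map_inj hi, a1, hEr]; rfl
  have hErE : Er ≤ E := a2 ▸ Subgroup.map_subtype_le _
  have a3 : pResidualOf p (ncl (Q.subgroupOf E) ⊤) = Er.subgroupOf E := by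
    rw [← a2, map_subtype_subgroupOf]
  have a4 : (C.subgroupOf E).map E.subtype = E ⊓ C := by
    rw [Subgroup.subgroupOf_map_subtype, inf_comm]
  obtain ⟨k1, k2, k3, k4, k5, k6⟩ := key ((wc_subgroupOf_iff hQE).mpr (hwc.mono hQE le_top)) (by
      rw [← Subgroup.map_le_map_iff_of_injective hi, Subgroup.map_commutator, ← pCoreOf_map_inj hi,
        a1, a4]
      exact (Subgroup.commutator_mono le_rfl inf_le_right).trans
        (large_commutator_ncl_le hQ hQp hUp hU1 hQE hEU))
    (fun h => hQn (hEU.trans (hQ.2 U (Subgroup.le_centralizer_iff.mp fun x hx =>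
      h (show (⟨x, hQE hx⟩ : E) ∈ Q.subgroupOf E from hx)) hU1))) hred hqs a3.symm
  have m := Subgroup.map_subgroupOf_eq_of_le hErE
  have b2 : ⁅Er, Er⁆ = Er := by
    have := congrArg (Subgroup.map E.subtype) k2
    rwa [Subgroup.map_commutator, m] at this
  have b4 : ⁅Er, E ⊓ C⁆ ≤ pCoreOf p Er := by
    have := Subgroup.map_mono (f := E.subtype) k4
    rwa [Subgroup.map_commutator, ← pCoreOf_map_inj hi, m, a4] at this
  have b5 : pCoreOf p Er ≤ C := by
    have := Subgroup.map_mono (f := E.subtype) k5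
    rw [← pCoreOf_map_inj hi, m, a4] at this
    exact this.trans inf_le_right
  have b3 : IsQuasisimple (Er ⧸ C.subgroupOf Er) := by
    let g : Er →* E ⧸ C.subgroupOf E := (QuotientGroup.mk' _).comp (Subgroup.inclusion hErE)
    have c1 : g.ker = C.subgroupOf Er := by
      ext x
      simp [g, Subgroup.mem_subgroupOf]
    have c2 : g.range = (Er.subgroupOf E).map (QuotientGroup.mk' _) := by
      rw [MonoidHom.range_comp, Subgroup.inclusion_range]
    exact H22.qs_of_equiv (c2 ▸ k3) ((QuotientGroup.quotientKerEquivRange g).symm.trans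
      (QuotientGroup.quotientMulEquivOfEq c1))
  refine ⟨?_, b2, hEr ▸ pResidualOf_idem _, b3, ?_, fun Y y1 y2 y3 => ?_⟩
  · have := congrArg (Subgroup.map E.subtype) k1
    rwa [Subgroup.map_sup, Subgroup.map_sup, m, a4] at this
  · have hP : Group.IsPerfect Er := Subgroup.isPerfect_iff.mpr b2
    have hP2 : Group.IsPerfect (Er ⧸ pCore p Er) :=
      Group.IsPerfect.ofSurjective (QuotientGroup.mk'_surjective _)
    have c1 : pCore p Er ≤ (C.subgroupOf Er).comap (MonoidHom.id Er) := fun x hx =>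
      b5 (mem_pCoreOf_iff.mpr hx)
    refine H22.qs_of_central_ext (QuotientGroup.map _ _ (MonoidHom.id Er) c1)
      (QuotientGroup.map_surjective_of_surjective _ _ _ (QuotientGroup.mk_surjective) c1) ?_ b3
    intro x hx
    obtain ⟨x, rfl⟩ := QuotientGroup.mk_surjective x
    rw [MonoidHom.mem_ker, QuotientGroup.map_mk, QuotientGroup.eq_one_iff] at hx
    refine Subgroup.mem_center_iff.mpr fun y => ?_
    obtain ⟨y, rfl⟩ := QuotientGroup.mk_surjective y
    rw [← QuotientGroup.mk_mul, ← QuotientGroup.mk_mul, QuotientGroup.eq, ← mem_pCoreOf_iff]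
    have := b4 (Subgroup.commutator_mem_commutator (inv_mem y.2) (inv_mem (⟨hErE x.2, hx⟩ :
      (x : G) ∈ E ⊓ C)))
    rw [← inv_mem_iff]
    convert this using 1
    simp [commutatorElement_def, mul_assoc]
  · have := congrArg (Subgroup.map E.subtype) (k6 (Y.subgroupOf E) y2.comap_subtype fun h =>
      y3 fun x hx => h (show (⟨x, y1 hx⟩ : E) ∈ Y.subgroupOf E from hx))
    rwa [Subgroup.map_commutator, m, Subgroup.map_subgroupOf_eq_of_le y1] at this

end Cfsg.Agent.S2860
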