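import Mathlib
import Cfsg.Statements.S2861
import Cfsg.Agent.H03.FrakL

set_option autoImplicit false
open Cfsg

namespace Cfsg.Agent.S2861

/-- Standing hypotheses: G a finite group, S a Sylow p-subgroup, Q a nontrivial large p-subgroup of G contained in S, M a subgroup containing S with the basic property (M ∈ 𝔐_G(S)); Y_M the largest p-reduced normal subgroup of M and M† = M·C_G(Y_M). Let L ∈ 𝔏_G(Y_M) (L ∈ 𝔏_G(Y_M): Y_M ≤ L; O_p(L) is the normal closure in L of Y_M ∩ O_p(L) and normalizes Y_M; L is Y_M-minimal of characteristic p with N_L(Y_M) its unique maximal subgroup over Y_M; and L/O_p(L) ≅ SL₂(q) with q = |Y_M : Y_M ∩ O_p(L)|, or p = 2 and L/O_p(L) is a Suzuki group Sz(q) or dihedral of order 2r, r an odd prime) and A = O_p(L). Then Y_M·A/A is the unique nontrivial elementary abelian normal p-subgroup of N_L(Y_M)/A. -/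
theorem result {G : Type*} [Group G] [Finite G] {p : ℕ} [Fact p.Prime] (S : Sylow p G) (Q : Subgroup G) (hQp : IsPGroup p ↥Q) (hQ1 : Q ≠ ⊥) (hQS : Q ≤ (S : Subgroup G)) (hQ : Cfsg.IsLarge Q) (M : Subgroup G) (hSM : (S : Subgroup G) ≤ M) (hM : Cfsg.IsInFrakM p M) (L : Subgroup G) (hL : Cfsg.IsInFrakL p M L) (NL : Subgroup G) (hNL : NL = L ⊓ Subgroup.normalizer (((Cfsg.largestPReducedOf p M) : Subgroup G) : Set G)) [hn : (((Cfsg.pCoreOf p L)).subgroupOf NL).Normal] : let Ybar : Subgroup (↥NL ⧸ ((Cfsg.pCoreOf p L)).subgroupOf NL) := (((Cfsg.largestPReducedOf p M)).subgroupOf NL).map (QuotientGroup.mk' (((Cfsg.pCoreOf p L)).subgroupOf NL)); Ybar ≠ ⊥ ∧ Ybar.Normal ∧ Cfsg.IsElementaryAbelian p Ybar ∧ ∀ (V : Subgroup (↥NL ⧸ ((Cfsg.pCoreOf p L)).subgroupOf NL)), V.Normal → Cfsg.IsElementaryAbelian p V → V ≠ ⊥ → V = Ybar := by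
  intro Ybar
  obtain ⟨hF, hG⟩ := H03.frakL hL
  have hYL := hL.1
  have hle : NL ≤ L := hNL ▸ inf_le_left
  have hY : largestPReducedOf p M ≤ NL := hNL ▸ le_inf hYL Subgroup.le_normalizer
  let f : NL →* L ⧸ pCore p L := (QuotientGroup.mk' _).comp (Subgroup.inclusion hle)
  have hk : ∀ x : NL, f x = 1 ↔ x ∈ (pCoreOf p L).subgroupOf NL := fun x =>
    (QuotientGroup.eq_one_iff _).trans (H26.mem_pCoreOf_iff (x := Subgroup.inclusion hle x)).symm
  let φ := QuotientGroup.lift ((pCoreOf p L).subgroupOf NL) f fun x hx => (hk x).2 hx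
  have hφ : Function.Injective φ := by
    rw [injective_iff_map_eq_one]
    intro q hq
    obtain ⟨x, rfl⟩ := QuotientGroup.mk_surjective q
    exact (QuotientGroup.eq_one_iff _).2 ((hk x).1 hq)
  have e1 : Ybar.map φ = ((largestPReducedOf p M).subgroupOf L).map (QuotientGroup.mk' (pCore p L)) := by
    apply le_antisymm
    · rintro _ ⟨_, ⟨x, hx, rfl⟩, rfl⟩
      exact ⟨Subgroup.inclusion hle x, hx, rfl⟩
    · rintro _ ⟨x, hx, rfl⟩
      exact ⟨_, ⟨⟨x, hY hx⟩, hx, rfl⟩, rfl⟩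
  have e2 : Subgroup.normalizer ((Ybar.map φ : Subgroup _) : Set (L ⧸ pCore p L)) = φ.range := by
    have e3 := hF.comap_norm
    rw [← Subgroup.subgroupOf_normalizer_eq hYL, ← e1] at e3
    apply le_antisymm
    · intro q hq
      obtain ⟨x, rfl⟩ := QuotientGroup.mk'_surjective _ q
      exact ⟨QuotientGroup.mk ⟨x, hNL ▸ ⟨x.2, e3.le hq⟩⟩, rfl⟩
    · rintro _ ⟨q, rfl⟩
      obtain ⟨x, rfl⟩ := QuotientGroup.mk_surjective q
      exact (e3.ge : _ ≤ _) (show Subgroup.inclusion hle x ∈ _ from (hNL.le x.2).2)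
  have hnn : ((largestPReducedOf p M).subgroupOf NL).Normal :=
    (Subgroup.normal_subgroupOf_iff_le_normalizer hY).2 (hNL ▸ inf_le_right)
  refine ⟨fun e => hF.not_le ?_, hnn.map _ (QuotientGroup.mk'_surjective _),
    H04.IsElementaryAbelian.map ((H26.elemAb_subgroupOf_iff hY).2 (H26.pRed_Y M).elem) _, fun V h1 h2 h3 => ?_⟩
  · rw [e, Subgroup.map_bot, eq_comm, Subgroup.map_eq_bot_iff, QuotientGroup.ker_mk'] at e1
    exact e1
  · refine Subgroup.map_injective hφ ?_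
    rw [← e1] at hG
    refine hG.uniq _ (fun e => h3 (Subgroup.map_injective hφ (by rw [e, Subgroup.map_bot])))
      (H04.IsElementaryAbelian.map h2 _) (by rw [e2]; exact Subgroup.map_le_range _ _) ?_
    rw [e2, MonoidHom.range_eq_map]
    exact BG.map_le_norm φ Subgroup.le_normalizer_of_normal

end Cfsg.Agent.S2861
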