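import Mathlib
import Cfsg.Statements.S2862
import Cfsg.Agent.H26.Misc
import Cfsg.Agent.S2833

set_option autoImplicit false
open Cfsg

namespace Cfsg.Agent.S2862
open H26

/-- Standing hypotheses: G a finite group, S a Sylow p-subgroup, Q a nontrivial large p-subgroup of G contained in S, M a subgroup containing S with the basic property (M ∈ 𝔐_G(S)); Y_M the largest p-reduced normal subgroup of M and M† = M·C_G(Y_M). Suppose Y_M is char-p-tall and asymmetric in G, H ∈ ℌ_G(O_p(M)), and L is minimal among the subgroups of H containing Y_M with Y_M ≰ O_p(L). Then H = ⟨L, O_p(M)⟩ = ⟨hY_Mh⁻¹, O_p(M)⟩ for every h ∈ L outside N_L(Y_M); L is Y_M-minimal and of characteristic p, with N_L(Y_M) the unique maximal subgroup of L containing Y_M; [V, O^p(L)] ≠ 1 for every noncentral chief factor V/W of H inside O_p(H) (that is, O^p(L) does not act trivially on V/W); and the normal closure of O_p(L) ∩ Y_M in L lies in O_p(H). -/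
theorem result {G : Type*} [Group G] [Finite G] {p : ℕ} [Fact p.Prime] (S : Sylow p G) (Q : Subgroup G) (hQp : IsPGroup p ↥Q) (hQ1 : Q ≠ ⊥) (hQS : Q ≤ (S : Subgroup G)) (hQ : Cfsg.IsLarge Q) (M : Subgroup G) (hSM : (S : Subgroup G) ≤ M) (hM : Cfsg.IsInFrakM p M) (htall : Cfsg.IsCharPTall p (Cfsg.largestPReducedOf p M)) (hasym : ¬ Cfsg.IsSymmetricIn (Cfsg.largestPReducedOf p M)) (H : Subgroup G) (hH : Cfsg.IsInFrakH p M H) (L : Subgroup G) (hLH : L ≤ H) (hYL : (Cfsg.largestPReducedOf p M) ≤ L) (hYO : ¬ (Cfsg.largestPReducedOf p M) ≤ (Cfsg.pCoreOf p L)) (hmin : ∀ L' : Subgroup G, L' ≤ L → (Cfsg.largestPReducedOf p M) ≤ L' → ¬ (Cfsg.largestPReducedOf p M) ≤ (Cfsg.pCoreOf p L') → L' = L) : (L ⊔ (Cfsg.pCoreOf p M) = H ∧ ∀ h ∈ L, h ∉ Subgroup.normalizer (((Cfsg.largestPReducedOf p M) : Subgroup G) : Set G) → (((Cfsg.largestPReducedOf p M) : Subgroup G).map (MulAut.conj (h : G)).toMonoidHom) ⊔ (Cfsg.pCoreOf p M) = H) ∧ (Cfsg.IsMinimalOver (((Cfsg.largestPReducedOf p M)).subgroupOf L) ∧ Subgroup.centralizer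 (Cfsg.pCore p ↥L : Set ↥L) ≤ Cfsg.pCore p ↥L ∧ L ⊓ Subgroup.normalizer (((Cfsg.largestPReducedOf p M) : Subgroup G) : Set G) < L ∧ ∀ X : Subgroup G, (Cfsg.largestPReducedOf p M) ≤ X → X < L → X ≤ L ⊓ Subgroup.normalizer (((Cfsg.largestPReducedOf p M) : Subgroup G) : Set G)) ∧ (∀ V W' : Subgroup G, V ≤ (Cfsg.pCoreOf p H) → H ≤ Subgroup.normalizer ((V : Subgroup G) : Set G) → H ≤ Subgroup.normalizer ((W' : Subgroup G) : Set G) → W' < V → (∀ Z' : Subgroup G, H ≤ Subgroup.normalizer ((Z' : Subgroup G) : Set G) → W' ≤ Z' → Z' ≤ V → Z' = W' ∨ Z' = V) → ¬ ⁅V, H⁆ ≤ W' → ¬ ⁅V, ((Cfsg.pResidual p ↥L).map (L).subtype)⁆ ≤ W') ∧ (Subgroup.normalClosure (((((Cfsg.pCoreOf p L) ⊓ (Cfsg.largestPReducedOf p M)).subgroupOf L : Subgroup ↥L)) : Set ↥L)).map L.subtype ≤ (Cfsg.pCoreOf p H) := by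
  have h := fm_of_large S hQ hQp hSM hM
  have hwc := h.wc hasym
  have hY := pRed_Y (p := p) M
  set Y := largestPReducedOf p M with hYd
  set O := pCoreOf p M with hO
  set E := pCoreOf p H with hE
  have hcH := isCharP_iff.mp hH.1
  have hHE : H ≤ Subgroup.normalizer (E : Set G) := le_normalizer_pCoreOf H
  have hEH : E ≤ H := pCoreOf_le H
  have hOH : O ≤ H := hH.2.1
  have hYO' : Y ≤ O := hY.le_pCoreOf
  have hOY : O ≤ Subgroup.centralizer (Y : Set G) := hY.pCoreOf_le
  have hEO := hwc.le_normalizer' (isPGroup_pCoreOf H) (hOH.trans hHE) le_top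
  have hEY : E ≤ Subgroup.normalizer (Y : Set G) := hEO.trans h.normalizer_O_le_Y
  have hX : ∀ X, Y ≤ X → X < L → Y ≤ pCoreOf p X := fun X a b =>
    by_contra fun c => b.ne (hmin X b.le a c)
  obtain ⟨L₀, hL₀⟩ := exists_uMax_of_zipper hYL (fun h1 => hYO (h1.le_pCoreOf hY.isPGroup))
    fun X a b => (SubN.of_normal (pCoreOf_le X) (le_normalizer_pCoreOf X)).trans
      (subN_of_isPGroup (isPGroup_pCoreOf X) (hX X a b))
  have hn : ncl Y L = L := by_contra fun h1 => hYO ((hX _ (le_ncl Y L)
    (lt_of_le_of_ne (ncl_le_of_le hYL) h1)).trans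
      (pCoreOf_le_of_normal (ncl_le_of_le hYL) (le_normalizer_ncl Y L)))
  have hLO : L ⊔ O = H := by_contra fun h1 => hYO ((le_inf hYL (hH.2.2.2 _ le_sup_right
    (lt_of_le_of_ne (sup_le hLH hOH) h1))).trans (inf_pCoreOf_le le_sup_left))
  have hR := FM.le_ncl_Y hH
  have hRE : ¬ pResidualOf p H ≤ Subgroup.centralizer (E : Set G) := fun h1 => hH.2.2.1 (by
    rw [pCoreOf_eq_self (isPGroup_of_pResidualOf_le (isPGroup_pCoreOf H)
      ((le_inf (pResidualOf_le H) h1).trans hcH))]
    exact hYO'.trans hOH)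
  obtain ⟨x, hx, hx'⟩ := SetLike.not_le_iff_exists.mp hL₀.lt.not_ge
  have hgen := hL₀.sup_cj hn hx hx'
  set A : Subgroup G := ⁅E, Y⁆ with hA
  have hAY : A ≤ Y := commutator_le_of_le_normalizer' hEY
  have hAE : A ≤ E := commutator_le_of_le_normalizer ((hYL.trans hLH).trans hHE)
  obtain ⟨u1, u2, -⟩ := S2833.result E L (hLH.trans hHE) Y hYL x hx
    (Subgroup.commutator_eq_bot_iff_le_centralizer.mpr (hAY.trans hY.le_centralizer)) hgen _ rfl
  have hcA : ∀ g ∈ L, cj(g, A) = ⁅E, cj(g, Y)⁆ := fun g hg => by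
    rw [cj_commutator, cj_eq_iff.mpr (hHE (hLH hg))]
  set F := E ⊓ Subgroup.centralizer (Y : Set G) with hF
  have hAF : A ≤ F := le_inf hAE (hAY.trans hY.le_centralizer)
  have hFO : F ≤ O := by
    rw [hO, ← h.inf_YC (isPGroup_sup (isPGroup_pCoreOf M) (isPGroup_pCoreOf H) (hOH.trans hHE))
      le_sup_left]
    exact inf_le_inf_right _ le_sup_right
  have hF2 : F = (E ⊓ Subgroup.centralizer (L : Set G)) ⊔ A := by
    refine le_antisymm ?_ (sup_le (inf_le_inf_left _ (centralizer_anti hYL)) hAF)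
    have c1 : L ≤ Subgroup.normalizer ((F ⊔ ⁅E, L⁆ : Subgroup G) : Set G) :=
      le_normalizer_of_commutator_le ((Subgroup.commutator_mono (sup_le inf_le_left
        (commutator_le_of_le_normalizer (hLH.trans hHE))) le_rfl).trans le_sup_right)
    have c2 : cj(x, F) ≤ F ⊔ cj(x, A) := by
      refine (cj_le_of_le_of_mem_normalizer le_sup_left (c1 hx)).trans ?_
      rw [← u1, hcA x hx]
      exact sup_le le_sup_left (sup_le_sup_right hAF _)
    have c3 := le_inf le_rfl c2
    rw [inf_sup_eq_of_le_normalizer' (inf_le_left.trans (by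
      rw [hcA x hx]; exact Subgroup.normalizer_commutator_ge_left _ _)) (cj_mono x hAF)] at c3
    rw [← cj_le_cj_iff (g := x), cj_sup]
    refine c3.trans (sup_le_sup_right ?_ _)
    have c4 : cj(x, E ⊓ Subgroup.centralizer (L : Set G)) = E ⊓ Subgroup.centralizer (L : Set G) :=
      cj_eq_iff.mpr (le_normalizer_inf (hLH.trans hHE)
        (le_normalizer_centralizer Subgroup.le_normalizer) hx)
    rw [c4, ← hgen, centralizer_sup, hF, cj_inf, cj_centralizer]
    exact le_inf (inf_le_right.trans inf_le_left)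
      (le_inf (inf_le_right.trans inf_le_right) (inf_le_left.trans inf_le_right))
  have hNA : L ⊓ Subgroup.normalizer (A : Set G) ≤ Subgroup.normalizer (Y : Set G) := by
    set N := L ⊓ Subgroup.normalizer (A : Set G) with hN
    have hOA : O ≤ Subgroup.centralizer (A : Set G) := hOY.trans (centralizer_anti hAY)
    have hPH : O ⊔ N ≤ H := sup_le hOH (inf_le_left.trans hLH)
    have hPA : O ⊔ N ≤ Subgroup.normalizer (A : Set G) :=
      sup_le (hOA.trans (centralizer_le_normalizer A)) inf_le_right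
    have hPE := hPH.trans hHE
    rcases FM.frakH_cases hH (inf_le_left.trans hLH : N ≤ H) with h1 | h1
    · rw [h1] at hPA
      refine absurd (Subgroup.le_centralizer_iff.mp ?_) hRE
      rw [← Subgroup.commutator_eq_bot_iff_le_centralizer, ← le_bot_iff,
        ← commutator_pResidualOf_idem (isPGroup_pCoreOf H) hHE]
      refine (Subgroup.commutator_mono ((Subgroup.commutator_mono le_rfl hR).trans
        (commutator_ncl_le' hHE hPA ((hYO'.trans hOH).trans hPA) le_rfl)) hR).trans ?_
      rw [le_bot_iff, commutator_eq_bot_iff']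
      exact ncl_le_centralizer (hYO'.trans hOA) hPA
    · set P := O ⊔ N with hP
      have d1 : pCoreOf p P ≤ Subgroup.normalizer (Y : Set G) := (hwc.le_normalizer'
        (isPGroup_pCoreOf P) (le_sup_left.trans (le_normalizer_pCoreOf P)) le_top).trans
          h.normalizer_O_le_Y
      have d2 : ncl Y P ≤ ncj Y (pCoreOf p P) :=
        ncl_le (le_ncj h1 d1) ((le_normalizer_pCoreOf P).trans (normalizer_le_normalizer_ncj _ _))
      set V := ncl Y P with hV
      have d3 : V ≤ Subgroup.centralizer (Y : Set G) :=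
        d2.trans ((ncj_le_centralizer hasym _).trans (centralizer_anti (le_ncj h1 d1)))
      have d4 : V ≤ P := ncl_le_of_le (hYO'.trans le_sup_left)
      have d5 : P ≤ Subgroup.normalizer (V : Set G) := le_normalizer_ncl _ _
      have hPF : P ≤ Subgroup.normalizer (F : Set G) := by
        refine sup_le (le_normalizer_inf (hOH.trans hHE) (le_normalizer_centralizer
          (hOY.trans (centralizer_le_normalizer Y)))) ?_
        rw [hF2]
        exact le_normalizer_sup (inf_le_left.trans (le_normalizer_inf (hLH.trans hHE)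
          (le_normalizer_centralizer Subgroup.le_normalizer))) inf_le_right
      have hw := hwc.mono (le_sup_left : O ≤ P) le_top
      set K := ncl O P with hK
      have e1 : K ≤ P := ncl_le_of_le le_sup_left
      have e2 : K ≤ Subgroup.centralizer (A : Set G) := ncl_le_centralizer hOA hPA
      have e3 : ⁅E, K⁆ ≤ F := commutator_ncl_le' hPE hPF (le_sup_left.trans hPF) (le_inf
        (commutator_le_of_le_normalizer (hOH.trans hHE))
        ((commutator_le_of_le_normalizer' hEO).trans hOY))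
      have e4 : ⁅E, V⁆ ≤ A := commutator_ncl_le' hPE hPA ((hYO'.trans le_sup_left).trans hPA) le_rfl
      have e5 : V ≤ Subgroup.centralizer (F : Set G) :=
        ncl_le_centralizer (Subgroup.le_centralizer_iff.mp inf_le_right) hPF
      have e6 : ⁅V, K⁆ ≤ F := by
        refine le_inf (le_trans (le_inf ((commutator_le_of_le_normalizer (e1.trans d5)).trans
          (d4.trans hPH)) ?_) hcH) ((commutator_le_of_le_normalizer (e1.trans d5)).trans d3)
        rw [← Subgroup.commutator_eq_bot_iff_le_centralizer]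
        refine Subgroup.commutator_commutator_eq_bot_of_rotate ?_ ?_
        · rw [Subgroup.commutator_comm K, ← le_bot_iff]
          exact (Subgroup.commutator_mono e3 le_rfl).trans (commutator_eq_bot_iff'.mpr e5).le
        · rw [← le_bot_iff]
          exact (Subgroup.commutator_mono e4 le_rfl).trans (commutator_eq_bot_iff'.mpr e2).le
      have e7 : ⁅F, pResidualOf p K⁆ ≤ A := by
        have f1 : ⁅F, N⁆ ≤ A := by
          rw [hF2]
          refine commutator_sup_le (inf_le_left.trans (Subgroup.normalizer_commutator_ge_left _ _))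
            Subgroup.le_normalizer ?_ (commutator_le_of_le_normalizer inf_le_right)
          exact (Subgroup.commutator_eq_bot_iff_le_centralizer.mpr
            (inf_le_right.trans (centralizer_anti inf_le_left))).le.trans bot_le
        refine (Subgroup.commutator_mono le_rfl ?_).trans
          (commutator_ncl_le' hPF hPA (le_sup_right.trans hPA) f1)
        exact le_of_le_pGroup_sup (isPGroup_pCoreOf M) (le_sup_left.trans (le_normalizer_ncl N P))
          ((pResidualOf_le K).trans (e1.trans (sup_le_sup_left (le_ncl N P) O)))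
      have e8 : pResidualOf p K ≤ Subgroup.centralizer (V : Set G) := by
        have f1 := commutator_pResidualOf_idem ((isPGroup_pCoreOf P).to_le (d2.trans (ncj_le _ _)))
          (e1.trans d5)
        rw [← commutator_eq_bot_iff', ← le_bot_iff, ← f1, ← f1]
        refine (Subgroup.commutator_mono ((Subgroup.commutator_mono ((Subgroup.commutator_mono le_rfl
          (pResidualOf_le K)).trans e6) le_rfl).trans e7) (pResidualOf_le K)).trans ?_
        exact (commutator_eq_bot_iff'.mpr e2).le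
      refine le_sup_right.trans ((hw.frattini_sup (le_ncl O P) e1 (le_normalizer_ncl O P)).ge.trans
        (sup_le (hw.pResidualOf_ncl_sup.ge.trans (sup_le ?_ ?_))
          (inf_le_right.trans h.normalizer_O_le_Y)))
      · exact (e8.trans (centralizer_anti (le_ncl Y P))).trans (centralizer_le_normalizer Y)
      · exact hOY.trans (centralizer_le_normalizer Y)
  have hwY : WC p Y L := by
    refine wc_of_mutual hYL hY.isPGroup fun g hg a b => cj_eq_iff.mpr (hNA ⟨hg, ?_⟩)
    refine mem_normalizer_of_cj_le (le_trans (le_inf ?_ ((cj_mono g hAY).trans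
      (asym_comm' hasym a b))) u2.le)
    rw [hcA g hg]
    exact Subgroup.commutator_mono le_rfl (cj_le_of_le_of_mem hYL hg)
  have hlt : L ⊓ Subgroup.normalizer (Y : Set G) < L :=
    inf_lt_left.mpr fun h1 => hYO (le_pCoreOf hYL h1 hY.isPGroup)
  have hmax : ∀ X, Y ≤ X → X < L → X ≤ L ⊓ Subgroup.normalizer (Y : Set G) := fun X a b =>
    le_inf b.le ((le_inf b.le (le_normalizer_pCoreOf X)).trans
      (hwY.normalizer_le (isPGroup_pCoreOf X) (hX X a b)))
  have hU : UMax Y L (L ⊓ Subgroup.normalizer (Y : Set G)) :=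
    ⟨le_inf hYL Subgroup.le_normalizer, hlt, hmax⟩
  have hgen2 : ∀ g ∈ L, g ∉ Subgroup.normalizer (Y : Set G) → cj(g, Y) ⊔ O = H := fun g a b => by
    rw [← hLO, ← hU.sup_cj hn a fun c => b c.2, sup_comm Y, sup_assoc, sup_eq_right.mpr hYO']
  refine ⟨⟨hLO, hgen2⟩, ⟨(isMinimalOver_iff hYL).mpr ⟨hn, _, hU⟩, isCharP_iff.mpr
    (hcH.of_le_normalizer hLH ?_), hlt, hmax⟩, fun V W v1 v2 v3 v4 v5 v6 v7 => ?_, ?_⟩
  · exact hn ▸ le_normalizer_of_commutator_le (commutator_ncl_le (hLH.trans hHE)
      (le_normalizer_ncl Y L) ((le_ncl Y L).trans Subgroup.le_normalizer)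
      ((commutator_le_of_le_normalizer hEY).trans (le_ncl Y L)))
  · have c1 : H ≤ Subgroup.normalizer ((H ⊓ commKer V W : Subgroup G) : Set G) :=
      le_normalizer_inf Subgroup.le_normalizer (le_normalizer_commKer v2 v3)
    have c2 : pResidualOf p L ≤ H ⊓ commKer V W := le_inf ((pResidualOf_le L).trans hLH)
      (le_commKer_iff.mpr ⟨((pResidualOf_le L).trans hLH).trans v3,
        Subgroup.commutator_comm V _ ▸ v7⟩)
    have c3 : H ≤ (H ⊓ commKer V W) ⊔ O := hLO.ge.trans (sup_le ((hwY.pResidualOf_sup hn).ge.trans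
      (sup_le_sup c2 hYO')) le_sup_right)
    have c4 : W ⊔ ⁅V, H⁆ = V := (v5 _ (le_normalizer_sup v3 (le_normalizer_commutator v2
      Subgroup.le_normalizer)) le_sup_left (sup_le v4.le
        (commutator_le_of_le_normalizer v2))).resolve_left fun c => v6 (le_sup_right.trans c.le)
    refine v4.not_ge (le_of_le_sup_commutator ((isPGroup_pCoreOf H).to_le v1) (isPGroup_pCoreOf M)
      (hOH.trans v2) (hOH.trans v3) ((v1.trans hEH).trans v3) (c4.ge.trans (sup_le le_sup_left ?_)))
    refine (Subgroup.commutator_mono le_rfl c3).trans (commutator_sup_le' ?_ (le_normalizer_sup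
      (hOH.trans v3) (Subgroup.normalizer_commutator_ge_right _ _)) ?_ le_sup_right)
    · refine le_normalizer_of_commutator_le (le_trans ?_ le_sup_left)
      rw [Subgroup.commutator_comm]
      exact (Subgroup.commutator_mono inf_le_right (sup_le v4.le (commutator_le_of_le_normalizer
        (hOH.trans v2)))).trans (le_commKer_iff.mp le_rfl).2
    · rw [Subgroup.commutator_comm]
      exact ((Subgroup.commutator_mono inf_le_right le_rfl).trans
        (le_commKer_iff.mp le_rfl).2).trans le_sup_left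
  · set Y₀ := pCoreOf p L ⊓ Y with hY₀
    have hY₀H : Y₀ ≤ H := inf_le_right.trans (hYL.trans hLH)
    rw [ncl_eq_map (inf_le_right.trans hYL)]
    refine ncl_le ((le_ncl Y₀ H).trans (le_pCoreOf (ncl_le_of_le hY₀H) (le_normalizer_ncl _ _)
      (isPGroup_of_pResidualOf_le (isPGroup_pCoreOf H) (le_trans (le_inf ((pResidualOf_le _).trans
        (ncl_le_of_le hY₀H)) ?_) hcH)))) (hLH.trans hHE)
    rw [← commutator_eq_bot_iff']
    by_contra c0
    set R := pResidualOf p (ncl Y₀ H) with hRd
    have hRH : R ≤ H := (pResidualOf_le _).trans (ncl_le_of_le hY₀H)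
    set V : Subgroup G := ⁅E, R⁆ with hV
    have v0 : ⁅V, R⁆ = V := commutator_pResidualOf_idem (isPGroup_pCoreOf H)
      ((ncl_le_of_le hY₀H).trans hHE)
    have v1 : V ≤ E := commutator_le_of_le_normalizer (hRH.trans hHE)
    have v2 : H ≤ Subgroup.normalizer (V : Set G) :=
      le_normalizer_commutator hHE (le_normalizer_pResidualOf' (le_normalizer_ncl _ _))
    obtain ⟨W, -, v4, v3, v5⟩ := exists_chief (H := H) (bot_lt_iff_ne_bot.mpr c0)
      Subgroup.le_normalizer_of_normal
    have hx2 : x ∉ Subgroup.normalizer (Y : Set G) := fun c => hx' (hL₀.max _ hU.le hlt ⟨hx, c⟩)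
    have hg := hgen2 x hx hx2
    have hxH : cj(x, Y) ≤ H := le_sup_left.trans hg.le
    have hVW := (v1.trans hEH).trans v3
    have hker : ∀ B : Subgroup G, B ≤ H → W ≤ V ⊓ commKer B W := fun B b =>
      le_inf v4.le (le_commKer_iff.mpr ⟨Subgroup.le_normalizer,
        commutator_le_of_le_normalizer (b.trans v3)⟩)
    have c1 : V ⊓ commKer H W = W := (v5 _ (le_normalizer_inf v2 (le_normalizer_commKer
      Subgroup.le_normalizer v3)) (hker H le_rfl) inf_le_left).resolve_right fun c => v4.not_ge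
        (v0.ge.trans ((Subgroup.commutator_mono le_rfl hRH).trans
          (le_commKer_iff.mp (c.ge.trans inf_le_right)).2))
    have c2 : ⁅V, Y⁆ ≤ Y := commutator_le_of_le_normalizer' (v1.trans hEY)
    have c3 : ⁅V, cj(x, Y)⁆ ≤ cj(x, Y) := by
      rw [← cj_eq_iff.mpr (v2 (hLH hx)), ← cj_commutator]; exact cj_mono x c2
    have c4 : ⁅V, cj(x, Y)⁆ ≤ V := commutator_le_of_le_normalizer (hxH.trans v2)
    have c5 : Y₀ ≤ Subgroup.normalizer ((cj(x, Y) : Subgroup G) : Set G) := by
      rw [← cj_normalizer]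
      refine inf_le_left.trans ((cj_eq_iff.mpr (le_normalizer_pCoreOf L hx)).ge.trans (cj_mono x ?_))
      exact hwY.le_normalizer' (isPGroup_pCoreOf L) (hYL.trans (le_normalizer_pCoreOf L)) (pCoreOf_le L)
    have c6 : ⁅⁅V, cj(x, Y)⁆, Y₀⁆ ≤ W := by
      have d1 : ⁅⁅V, cj(x, Y)⁆, Y₀⁆ ≤ ⁅V, cj(x, Y)⁆ :=
        commutator_le_of_le_normalizer (le_normalizer_commutator (hY₀H.trans v2) c5)
      refine le_trans (le_inf (d1.trans c4) (le_commKer_iff.mpr ⟨(d1.trans c4).trans hVW, ?_⟩)) c1.le
      refine (Subgroup.commutator_eq_bot_iff_le_centralizer.mpr ?_).le.trans bot_le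
      rw [← hg, centralizer_sup]
      refine le_inf ((d1.trans c3).trans ?_) (((Subgroup.commutator_mono c4 inf_le_right).trans
        c2).trans (Subgroup.le_centralizer_iff.mp hOY))
      rw [← cj_centralizer]; exact cj_mono x hY.le_centralizer
    have c7 : ⁅V, cj(x, Y)⁆ ≤ V ⊓ commKer Y₀ W := le_inf c4 (le_commKer_iff.mpr ⟨c4.trans hVW, c6⟩)
    rcases v5 (V ⊓ commKer Y₀ W) (hg.ge.trans (sup_le (le_normalizer_of_commutator_le
      ((Subgroup.commutator_mono inf_le_left le_rfl).trans c7)) (le_normalizer_inf (hOH.trans v2)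
        (le_normalizer_commKer ((hOY.trans (centralizer_anti inf_le_right)).trans
          (centralizer_le_normalizer _)) (hOH.trans v3))))) (hker Y₀ hY₀H) inf_le_left with c | c
    · refine v4.not_ge (v0.ge.trans ((Subgroup.commutator_mono le_rfl ?_).trans
        (commutator_ncl_le' v2 v3 (hxH.trans v3) (c7.trans c.le))))
      refine (pResidualOf_mono (ncl_le_of_le hY₀H)).trans (hR.trans (ncl_le ?_ (le_normalizer_ncl _ _)))
      have := cj_le_ncl (A := cj(x, Y)) (inv_mem (hLH hx))
      rwa [cj_inv_cj] at this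
    · exact v4.not_ge (v0.ge.trans ((Subgroup.commutator_mono le_rfl (pResidualOf_le _)).trans
        (commutator_ncl_le' v2 v3 (hY₀H.trans v3) (le_commKer_iff.mp (c.ge.trans inf_le_right)).2)))

end Cfsg.Agent.S2862
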