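import Mathlib
import Cfsg.Statements.S2864
import Cfsg.Agent.H26.Misc

set_option autoImplicit false
open Cfsg

namespace Cfsg.Agent.S2864
open H26

/-- Standing hypotheses: G a finite group, S a Sylow p-subgroup, Q a nontrivial large p-subgroup of G contained in S, M a subgroup containing S with the basic property (M ∈ 𝔐_G(S)); Y_M the largest p-reduced normal subgroup of M and M† = M·C_G(Y_M). Let I be a nontrivial normal p-subgroup of M and Y ≤ O_p(M†); let L be a subgroup of G containing Y and A a normal p-subgroup of L with I ≤ A ≤ M. If [Y, A] ≤ [I, A], then Y ≤ O_p(L). -/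
theorem result {G : Type*} [Group G] [Finite G] {p : ℕ} [Fact p.Prime] (S : Sylow p G) (Q : Subgroup G) (hQp : IsPGroup p ↥Q) (hQ1 : Q ≠ ⊥) (hQS : Q ≤ (S : Subgroup G)) (hQ : Cfsg.IsLarge Q) (M : Subgroup G) (hSM : (S : Subgroup G) ≤ M) (hM : Cfsg.IsInFrakM p M) (I : Subgroup G) (hI1 : I ≠ ⊥) (hIp : IsPGroup p ↥I) (hIM : I ≤ M ∧ M ≤ Subgroup.normalizer ((I : Subgroup G) : Set G)) (Y : Subgroup G) (hY : Y ≤ (Cfsg.pCoreOf p (M ⊔ Subgroup.centralizer (((Cfsg.largestPReducedOf p M) : Subgroup G) : Set G)))) (L : Subgroup G) (hYL : Y ≤ L) (A : Subgroup G) (hAp : IsPGroup p ↥A) (hAL : A ≤ L ∧ L ≤ Subgroup.normalizer ((A : Subgroup G) : Set G)) (hIA : I ≤ A) (hAM : A ≤ M) (hc : ⁅Y, A⁆ ≤ ⁅I, A⁆) : Y ≤ (Cfsg.pCoreOf p L) := by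
  have h := fm_of_large S hQ hQp hSM hM
  have h1 : ⁅A, ncl Y L⁆ ≤ ⁅A, A⁆ := by
    refine commutator_ncl_le' hAL.2 (le_normalizer_commutator hAL.2 hAL.2)
      (hYL.trans (le_normalizer_commutator hAL.2 hAL.2)) ?_
    rw [Subgroup.commutator_comm]
    exact hc.trans (Subgroup.commutator_mono hIA le_rfl)
  have h2 := ((pResidualOf_le_centralizer_of_commutator_le hAp h1).trans (centralizer_anti hIA)).trans
    ((centralizer_le_normalizer I).trans (h.normalizer_le_dag hIp hI1 hIM.2))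
  have h3 := (SubN.of_normal (ncl_le_of_le hYL) (le_normalizer_ncl Y L)).trans
    (subN_of_pResidualOf_le (p := p) (le_sup_left : _ ≤ pResidualOf p (ncl Y L) ⊔ Y)
      (sup_le (pResidualOf_le _) (le_ncl Y L)))
  exact (le_inf le_sup_right hY).trans
    ((inf_pCoreOf_le (sup_le h2 (hY.trans (pCoreOf_le _)))).trans h3.pCoreOf_le)

end Cfsg.Agent.S2864
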