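import Mathlib
import Cfsg.Statements.S2872
import Cfsg.Agent.H26.Omega
import Cfsg.Agent.H02.Frattini
import Cfsg.Agent.H04.Basic

set_option autoImplicit false
open Cfsg

namespace Cfsg.Agent.S2872
open H26

theorem key {G : Type*} [Group G] [Finite G] {S M : Subgroup G} (hS : IsPGroup 2 S) (hi : ¬ 2 ∣ S.index)
    (hM : M.relIndex S = 2) {z : G} (h1 : z ∈ S) (h2 : z ∉ M) (h3 : z ^ 2 = 1)
    (h4 : z ∈ Subgroup.centralizer (S : Set G))
    (h5 : ∀ g ∈ Subgroup.normalizer (S : Set G), g * z * g⁻¹ = z) : pResidual 2 G ≠ ⊤ := by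
  classical
  have hN : (M.subgroupOf S).Normal := Subgroup.normal_of_index_eq_two hM
  have hc : Nat.card (S ⧸ M.subgroupOf S) = 2 := hM
  have := isCyclic_of_prime_card hc
  let _ := IsCyclic.commGroup (α := S ⧸ M.subgroupOf S)
  let φ := QuotientGroup.mk' (M.subgroupOf S)
  have a1 : ∀ x : S, φ x = 1 ↔ (x : G) ∈ M := fun x => QuotientGroup.eq_one_iff x
  obtain ⟨a, a2, a3⟩ := (Nat.card_eq_two_iff' (1 : S ⧸ M.subgroupOf S)).mp hc
  have a4 : ∀ x : S ⧸ M.subgroupOf S, x ^ 2 = 1 := fun x => hc ▸ pow_card_eq_one'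
  let P : G → Prop := fun g => g⁻¹ * z * g ∈ S ∧ g⁻¹ * z * g ∉ M
  have b1 : ∀ g, ∀ s ∈ S, P g → P (g * s) := fun g s hs h => by
    refine ⟨by simpa only [mul_inv_rev, mul_assoc] using mul_mem (inv_mem hs) (mul_mem h.1 hs), fun b => h.2 ?_⟩
    have := hN.conj_mem ⟨_, mul_mem (inv_mem hs) (mul_mem h.1 hs)⟩
      (by simpa only [mul_inv_rev, mul_assoc, Subgroup.mem_subgroupOf] using b) ⟨s, hs⟩
    simpa [Subgroup.mem_subgroupOf, mul_assoc] using this
  have b2 : ∀ g : G, P (g : G ⧸ S).out ↔ P g := fun g => by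
    obtain ⟨s, hs⟩ := QuotientGroup.mk_out_eq_mul S g
    exact hs ▸ ⟨fun h => by simpa only [mul_inv_cancel_right] using b1 _ _ (inv_mem s.2) h, b1 g s s.2⟩
  have b3 : ∀ g, ∀ s ∈ S, P (s * g) ↔ P g := fun g s hs => by
    simp only [P, show (s * g)⁻¹ * z * (s * g) = g⁻¹ * z * g by
      rw [mul_assoc, ← mul_assoc z, ← h4 s hs]; group]
  let X : SubMulAction S (G ⧸ S) := ⟨{x | ¬ P x.out}, fun s x hx => by
    obtain ⟨g, rfl⟩ := QuotientGroup.mk_surjective x
    change ¬ P ((s * g : G) : G ⧸ S).out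
    rwa [b2, b3 g s s.2, ← b2]⟩
  have b4 : 2 ∣ Nat.card X := by_contra fun h => by
    obtain ⟨⟨x, hx⟩, h6⟩ := hS.nonempty_fixed_point_of_prime_not_dvd_card X h
    obtain ⟨g, rfl⟩ := QuotientGroup.mk_surjective x
    have h7 : g⁻¹ ∈ Subgroup.normalizer (S : Set G) := mem_normalizer_of_cj_le (cj_le_iff.mpr fun s hs => by
      have := QuotientGroup.eq.mp (congrArg Subtype.val (h6 ⟨s, hs⟩)).symm
      simpa [mul_assoc] using this)
    have := h5 _ h7
    rw [inv_inv] at this
    exact hx ((b2 g).mpr ⟨this.symm ▸ h1, this.symm ▸ h2⟩)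
  have b5 : Odd (Nat.card {x : G ⧸ S // P x.out}) := by
    have := Nat.card_congr (Equiv.sumCompl fun x : G ⧸ S => P x.out)
    rw [Nat.card_sum] at this
    rw [← Nat.not_even_iff_odd, even_iff_two_dvd]
    exact fun h => hi (by rw [Subgroup.index, ← this]; exact dvd_add h b4)
  intro h
  have c1 : MonoidHom.transfer φ z = 1 := pResidualOf_le_iff (H := ⊤) (N := (MonoidHom.transfer φ).ker) |>.mpr
    (fun x _ hx => eq_one_of_coprime (a4 _) (hx.coprime_dvd_left (orderOf_map_dvd _ x)))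
    ((pResidualOf_top.trans h).ge (Subgroup.mem_top z))
  have := Fintype.ofFinite (Quotient (MulAction.orbitRel (Subgroup.zpowers z) (G ⧸ S)))
  have c2 : ∀ x : G ⧸ S, x.out⁻¹ * z * x.out ∈ S → z • x = x := fun x hx => by
    rw [← x.out_eq', MulAction.Quotient.smul_coe, eq_comm, QuotientGroup.eq]
    simpa only [mul_assoc, smul_eq_mul] using hx
  rw [MonoidHom.transfer_eq_prod_quotient_orbitRel_zpowers_quot, Finset.prod_congr rfl
    (g := fun q => if P q.out.out then a else 1), Finset.prod_ite, Finset.prod_const_one, mul_one,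
    Finset.prod_const] at c1
  · have c3 : (Finset.univ.filter fun q : Quotient (MulAction.orbitRel (Subgroup.zpowers z) (G ⧸ S)) =>
        P q.out.out).card = Nat.card {x : G ⧸ S // P x.out} := by
      rw [← Fintype.card_subtype, ← Nat.card_eq_fintype_card]
      refine Nat.card_eq_of_bijective (fun q => ⟨q.1.out, q.2⟩) ⟨fun q q' e => Subtype.ext
        (Quotient.out_injective (congrArg Subtype.val e)), fun ⟨x, hx⟩ => ?_⟩
      obtain ⟨⟨_, k, rfl⟩, e⟩ := Quotient.mk_out (s := MulAction.orbitRel (Subgroup.zpowers z) (G ⧸ S)) x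
      have e' : (Quotient.mk (MulAction.orbitRel (Subgroup.zpowers z) (G ⧸ S)) x).out = x :=
        e.symm.trans (zpow_mem (show z ∈ MulAction.stabilizer G x from c2 x hx.1) k)
      exact ⟨⟨Quotient.mk _ x, e'.symm ▸ hx⟩, Subtype.ext e'⟩
    obtain ⟨k, hk⟩ := b5
    rw [c3, hk, pow_succ, pow_mul, a4, one_pow, one_mul] at c1
    exact a2 c1
  · intro q _
    have d : Function.minimalPeriod (z • ·) q.out ∣ 2 := MulAction.pow_smul_eq_iff_minimalPeriod_dvd.mp
      (by rw [h3, one_smul])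
    have d0 := QuotientGroup.out_conj_pow_minimalPeriod_mem S z q.out
    rcases (Nat.dvd_prime Nat.prime_two).mp d with d | d
    · simp only [d, pow_one] at d0 ⊢
      split_ifs with e
      · exact a3 _ fun f => e.2 ((a1 _).mp f)
      · exact (a1 _).mpr (by_contra fun f => e ⟨d0, f⟩)
    · rw [if_neg fun e => by
        rw [Function.minimalPeriod_eq_one_iff_isFixedPt.mpr (c2 _ e.1)] at d
        omega, a1]
      simp [d, h3]

/-- Let S be a Sylow 2-subgroup of the finite group G. Then G has a proper normal subgroup of 2-power index (O²(G) ≠ G), or Ω₁(Z(S)) is contained in the Frattini subgroup of S, or N_G(S) acts nontrivially on Ω₁(Z(S)) by conjugation. -/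
theorem result {G : Type*} [Group G] [Finite G] (S : Sylow 2 G) : Cfsg.pResidual 2 G ≠ ⊤ ∨ Cfsg.omegaOne 2 ((S : Subgroup G) ⊓ Subgroup.centralizer ((S : Subgroup G) : Set G)) ≤ (frattini ↥(S : Subgroup G)).map (S : Subgroup G).subtype ∨ ∃ g ∈ Subgroup.normalizer ((S : Subgroup G) : Set G), ∃ z ∈ Cfsg.omegaOne 2 ((S : Subgroup G) ⊓ Subgroup.centralizer ((S : Subgroup G) : Set G)), g * z * g⁻¹ ≠ z := by
  by_contra h
  simp only [not_or, not_exists, not_and, not_not] at h
  obtain ⟨a, b, c⟩ := h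
  have d := (omegaZ_le (p := 2) (S : Subgroup G))
  rw [← Subgroup.map_subgroupOf_eq_of_le d, Subgroup.map_subtype_le_map_subtype] at b
  obtain ⟨M, hM, e, -⟩ := H02.exists_coatom_sup_eq_top b
  obtain ⟨z, hz, f⟩ := SetLike.not_le_iff_exists.mp e
  exact key S.isPGroup' S.not_dvd_index (M := M.map (S : Subgroup G).subtype)
    (by rw [Subgroup.relIndex, map_subtype_subgroupOf]; exact H04.index_eq_of_isCoatom S.isPGroup' hM) z.2
    (fun k => f ((Subgroup.mem_map_iff_mem (S : Subgroup G).subtype_injective).mp k)) (mem_omegaZ.mp hz).2.2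
    (mem_omegaZ.mp hz).2.1 (fun g hg => c g hg z hz) a

end Cfsg.Agent.S2872
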