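import Mathlib
import Cfsg.Statements.S2873
import Cfsg.Agent.BG.Api4
import Cfsg.Agent.H02.PCore
import Cfsg.Agent.H03.PResidual
import Cfsg.Agent.H08.Dihedral

set_option autoImplicit false
open Cfsg

namespace Cfsg.Agent.S2873

open BG Subgroup

section
variable {G : Type*} [Group G] [Finite G] {r : ℕ} [hr : Fact r.Prime] {Q : Subgroup G} [Q.Normal]
  (π : G →* DihedralGroup r) (hπ : Function.Surjective π) (hker : π.ker = Q) (hQ : IsPGroup 2 Q)
  (h2 : r ≠ 2) (R : Sylow r G) (hC : Q ⊓ C_((R : Subgroup G)) = ⊥)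

include hπ hker hQ h2 in
theorem aux_cardR : Nat.card (R : Subgroup G) = r := by
  haveI : NeZero r := ⟨hr.out.ne_zero⟩
  have hd : (R : Subgroup G) ⊓ Q = ⊥ :=
    (disjoint_of_coprime_natCard (pg_coprime_ne hr.out Nat.prime_two R.isPGroup' hQ h2)).eq_bot
  have h1 : Nat.card (R : Subgroup G) ∣ 2 * r := by
    rw [← DihedralGroup.nat_card]
    refine card_dvd_of_injective (π.comp (R : Subgroup G).subtype) ?_
    rw [injective_iff_map_eq_one]
    intro x hx
    have : (x : G) ∈ (R : Subgroup G) ⊓ Q := ⟨x.2, hker ▸ hx⟩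
    rw [hd] at this
    exact Subtype.ext this
  have h3 : r ∣ Nat.card (R : Subgroup G) := by
    refine R.dvd_card_of_dvd_card ?_
    refine Dvd.dvd.trans ?_ (card_dvd_of_surjective π hπ)
    rw [DihedralGroup.nat_card]; exact Dvd.intro_left 2 rfl
  obtain ⟨k, hk⟩ := IsPGroup.iff_card.1 R.isPGroup'
  have hc : (Nat.card (R : Subgroup G)).Coprime 2 := by
    rw [hk]; exact Nat.Coprime.pow_left _ ((Nat.coprime_primes hr.out Nat.prime_two).2 h2)
  exact Nat.dvd_antisymm (hc.dvd_of_dvd_mul_left h1) h3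

include hπ hker hQ h2 hC in
theorem aux_rot {z : G} {i : ZMod r} (hi : i ≠ 0) (hz : π z = DihedralGroup.r i) :
    Q ⊓ C_[z] = ⊥ ∧ Odd (orderOf z) := by
  obtain ⟨u, s, hu, hs, ⟨k, hk⟩, hsc, hus⟩ := H03.exists_pPart_mul (p := r) z
  have hzr : π z ^ r = 1 := by rw [hz, DihedralGroup.r_pow]; simp
  have hπs : π s = 1 := by
    obtain ⟨n, rfl⟩ := hs
    have h1 : orderOf (π (z ^ n)) ∣ r := by
      apply orderOf_dvd_of_pow_eq_one
      rw [map_zpow, ← zpow_natCast, ← zpow_mul, mul_comm, zpow_mul, zpow_natCast, hzr, one_zpow]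
    exact orderOf_eq_one_iff.1 (Nat.eq_one_of_dvd_coprimes hsc (orderOf_map_dvd π _) h1)
  have hu1 : u ≠ 1 := by
    rintro rfl
    rw [hus, one_mul, hπs, DihedralGroup.one_def] at hz
    exact hi (DihedralGroup.r.inj hz).symm
  have hup : IsPGroup r (zpowers u) := IsPGroup.of_card (by rw [Nat.card_zpowers, hk])
  obtain ⟨S, hS⟩ := hup.exists_le_sylow
  obtain ⟨g, rfl⟩ := MulAction.exists_smul_eq G R S
  have hcard : Nat.card ((g • R : Sylow r G) : Subgroup G) = r := aux_cardR π hπ hker hQ h2 _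
  have hzp : zpowers u = ((g • R : Sylow r G) : Subgroup G) :=
    zpowers_eq_of_prime (by rw [hcard]; exact hr.out) (hS (mem_zpowers u)) hu1
  have hb : Q ⊓ C_[z] = ⊥ := by
    rw [eq_bot_iff]
    rintro q ⟨hq, hqz⟩
    have h1 : q ∈ C_(zpowers u) := by rw [cent_zpowers]; exact cent1_le_of_mem_zpowers hu hqz
    rw [hzp] at h1
    have h3 : g⁻¹ * q * g ∈ Q ⊓ C_((R : Subgroup G)) := by
      refine ⟨by simpa using Normal.conj_mem inferInstance q hq g⁻¹, fun x hx => ?_⟩
      have h4 := h1 (g * x * g⁻¹) (by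
        rw [Sylow.coe_subgroup_smul]
        exact ⟨x, hx, rfl⟩)
      calc x * (g⁻¹ * q * g) = g⁻¹ * (g * x * g⁻¹ * q) * g := by group
        _ = _ := by rw [h4]; group
    rw [hC, mem_bot] at h3
    rw [mem_bot]
    calc q = g * (g⁻¹ * q * g) * g⁻¹ := by group
      _ = 1 := by rw [h3]; group
  refine ⟨hb, ?_⟩
  have hs1 : s ∈ Q ⊓ C_[z] := ⟨hker ▸ hπs, zpowers_le_cent1 z hs⟩
  rw [hb, mem_bot] at hs1
  rw [hus, hs1, mul_one, hk]
  exact (hr.out.odd_of_ne_two h2).pow

include hker h2 in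
theorem aux_refl {a : G} (ha : orderOf a = 2) (haQ : a ∉ Q) : ∃ i, π a = DihedralGroup.sr i := by
  rcases h : π a with i | i
  · exfalso
    have h1 : π a ^ 2 = 1 := by rw [← map_pow, ← ha, pow_orderOf_eq_one, map_one]
    rw [h, DihedralGroup.r_pow, DihedralGroup.one_def] at h1
    have h3 := DihedralGroup.r.inj h1
    have h4 : ((2 : ℕ) : ZMod r) ≠ 0 := by
      rw [Ne, ZMod.natCast_eq_zero_iff]
      exact fun hd => h2 ((Nat.prime_dvd_prime_iff_eq hr.out Nat.prime_two).1 hd)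
    have h5 : i = 0 := (mul_eq_zero.1 h3).resolve_right h4
    apply haQ
    rw [← hker, MonoidHom.mem_ker, h, h5, DihedralGroup.one_def]
  · exact ⟨i, rfl⟩

end

theorem aux_orbit {G : Type*} [Group G] [Finite G] (Q : Subgroup G) (a : G) :
    Nat.card {y : G // ∃ q ∈ Q, q * a * q⁻¹ = y} * Nat.card ↥(Q ⊓ C_[a]) = Nat.card Q := by
  letI : MulAction Q G := MulAction.compHom G ((MulAut.conj : G →* MulAut G).comp Q.subtype)
  have h1 : MulAction.stabilizer Q a = (C_[a]).subgroupOf Q := by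
    ext q
    rw [MulAction.mem_stabilizer_iff, mem_subgroupOf, mem_cent1]
    exact mul_inv_eq_iff_eq_mul
  have h2 := MulAction.index_stabilizer Q a
  have h3 : (MulAction.orbit Q a).ncard = Nat.card {y : G // ∃ q ∈ Q, q * a * q⁻¹ = y} := by
    rw [← Nat.card_coe_set_eq]
    refine Nat.card_congr (Equiv.subtypeEquivRight fun y => ⟨?_, ?_⟩)
    · rintro ⟨q, rfl⟩; exact ⟨q, q.2, rfl⟩
    · rintro ⟨q, hq, rfl⟩; exact ⟨⟨q, hq⟩, rfl⟩
  rw [← h3, ← h2, h1, ← (C_[a]).subgroupOf Q |>.index_mul_card, ← inf_subgroupOf_left,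
    Nat.card_congr (subgroupOfEquivOfLe inf_le_left).toEquiv]

/-- Let G be a finite group and r an odd prime such that G ⧸ O₂(G) is dihedral of order 2r, and let R be a Sylow r-subgroup of G with C_{O₂(G)}(R) = 1. Then N_G(R) is dihedral of order 2r; for any involution a of N_G(R), every involution of G outside O₂(G) is conjugate to a; and |C_{O₂(G)}(a)|² = |O₂(G)|. -/
theorem result {G : Type*} [Group G] [Finite G] {r : ℕ} [Fact r.Prime] (hr : r ≠ 2) [hN : (Cfsg.pCore 2 G).Normal] (hquot : Nonempty (G ⧸ Cfsg.pCore 2 G ≃* DihedralGroup r)) (R : Sylow r G) (hC : Cfsg.pCore 2 G ⊓ Subgroup.centralizer ((R : Subgroup G) : Set G) = ⊥) : Nonempty (↥(Subgroup.normalizer ((R : Subgroup G) : Set G)) ≃* DihedralGroup r) ∧ ∀ a : G, a ∈ Subgroup.normalizer ((R : Subgroup G) : Set G) → orderOf a = 2 → (∀ b : G, orderOf b = 2 → b ∉ Cfsg.pCore 2 G → ∃ g : G, g * a * g⁻¹ = b) ∧ Nat.card ↥(Cfsg.pCore 2 G ⊓ Subgroup.centralizer ({a} : Set G)) ^ 2 = Nat.card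 ↥(Cfsg.pCore 2 G) := by
  obtain ⟨e⟩ := hquot
  set Q := Cfsg.pCore 2 G with hQdef
  let π : G →* DihedralGroup r := e.toMonoidHom.comp (QuotientGroup.mk' Q)
  have hπ : Function.Surjective π := e.surjective.comp (QuotientGroup.mk'_surjective Q)
  have hker : π.ker = Q := by
    ext x; simp [π, MonoidHom.mem_ker]
  have hQ : IsPGroup 2 Q := H02.pCore_isPGroup 2 G
  have hp : r.Prime := Fact.out
  haveI : NeZero r := ⟨hp.ne_zero⟩
  have hcR := aux_cardR π hπ hker hQ hr R
  have hd : (R : Subgroup G) ⊓ Q = ⊥ :=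
    (disjoint_of_coprime_natCard (pg_coprime_ne hp Nat.prime_two R.isPGroup' hQ hr)).eq_bot
  have hNQ : N_((R : Subgroup G)) ⊓ Q = ⊥ := by
    rw [eq_bot_iff, ← hC]
    rintro q ⟨hqN, hq⟩
    refine ⟨hq, fun x hx => ?_⟩
    have : x⁻¹ * (q * x * q⁻¹) ∈ (R : Subgroup G) ⊓ Q := by
      refine mem_inf.2 ⟨mul_mem (inv_mem hx) ((mem_normalizer_iff.1 hqN x).1 hx), ?_⟩
      have := Q.mul_mem (Normal.conj_mem inferInstance q hq x⁻¹) (Q.inv_mem hq)
      simpa [mul_assoc] using this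
    rw [hd, mem_bot] at this
    calc x * q = x * (x⁻¹ * (q * x * q⁻¹)) * q := by rw [this]; group
      _ = q * x := by group
  have hRrot : ∀ x ∈ (R : Subgroup G), ∃ i, π x = DihedralGroup.r i := by
    intro x hx
    rcases h : π x with i | i
    · exact ⟨i, rfl⟩
    · exfalso
      have h1 : orderOf (π x) ∣ r := (orderOf_map_dvd π x).trans (hcR ▸ orderOf_dvd_natCard _ hx)
      rw [h, DihedralGroup.orderOf_sr] at h1
      exact hr ((Nat.prime_dvd_prime_iff_eq Nat.prime_two hp).1 h1).symm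
  obtain ⟨⟨x, hxR⟩, hx1⟩ : ∃ x : (R : Subgroup G), x ≠ 1 := by
    haveI : Nontrivial (R : Subgroup G) := Finite.one_lt_card_iff_nontrivial.1 (by rw [hcR]; exact hp.one_lt)
    exact exists_ne 1
  obtain ⟨k, hk⟩ := hRrot x hxR
  have hk0 : k ≠ 0 := by
    rintro rfl
    have : x ∈ (R : Subgroup G) ⊓ Q := ⟨hxR, hker ▸ hk⟩
    rw [hd] at this
    exact hx1 (Subtype.ext this)
  have h2k : (2 : ZMod r) * k ≠ 0 := by
    refine mul_ne_zero ?_ hk0
    have : ((2 : ℕ) : ZMod r) ≠ 0 := by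
      rw [Ne, ZMod.natCast_eq_zero_iff]
      exact fun hd => hr ((Nat.prime_dvd_prime_iff_eq hp Nat.prime_two).1 hd)
    exact_mod_cast this
  refine ⟨?_, fun a haN ha => ?_⟩
  · refine ⟨MulEquiv.ofBijective (π.comp (N_((R : Subgroup G))).subtype) ⟨?_, ?_⟩⟩
    · rw [injective_iff_map_eq_one]
      intro y hy
      have : (y : G) ∈ N_((R : Subgroup G)) ⊓ Q := ⟨y.2, hker ▸ hy⟩
      rw [hNQ] at this
      exact Subtype.ext this
    · let Z : Subgroup (DihedralGroup r) := zpowers (DihedralGroup.r k)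
      have hZ : ∀ i, DihedralGroup.r i ∈ Z := fun i =>
        ⟨((i / k).val : ℕ), by simp [DihedralGroup.r_pow, mul_div_cancel₀, hk0]⟩
      haveI : Z.Normal := ⟨by
        rintro _ ⟨n, rfl⟩ g
        rcases g with j | j <;> simp [DihedralGroup.r_zpow, hZ]⟩
      have hle : (R : Subgroup G) ≤ Z.comap π := fun y hy => by
        obtain ⟨i, hi⟩ := hRrot y hy
        rw [mem_comap, hi]; exact hZ i
      have hfr := Sylow.normalizer_sup_eq_top' R hle
      intro d
      obtain ⟨g, rfl⟩ := hπ d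
      have : g ∈ N_((R : Subgroup G)) ⊔ Z.comap π := hfr ▸ mem_top g
      rw [← SetLike.mem_coe, mul_normal] at this
      obtain ⟨n, hn, m, ⟨j, hj⟩, rfl⟩ := this
      refine ⟨⟨n * x ^ j, mul_mem hn (le_normalizer (zpow_mem hxR j))⟩, ?_⟩
      simp only [MonoidHom.comp_apply, coe_subtype, map_mul, map_zpow, hk]
      exact congrArg _ hj
  have haQ : a ∉ Q := fun h => by
    have : a ∈ N_((R : Subgroup G)) ⊓ Q := ⟨haN, h⟩
    rw [hNQ, mem_bot] at this
    rw [this, orderOf_one] at ha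
    exact absurd ha (by norm_num)
  obtain ⟨i, hi⟩ := aux_refl π hker hr ha haQ
  have hsq : ∀ {b : G}, orderOf b = 2 → b * b = 1 := fun {b} hb => by rw [← sq, ← hb, pow_orderOf_eq_one]
  have hb' : π (x * a * x⁻¹) = DihedralGroup.sr (i - 2 * k) := by
    simp [hk, hi]; ring
  have hob : orderOf (x * a * x⁻¹) = 2 := by rw [← ha]; exact (MulAut.conj x).orderOf_eq a
  constructor
  · intro b hb hbQ
    obtain ⟨j, hj⟩ := aux_refl π hker hr hb hbQ
    by_cases hij : i = j
    · have hz : π (x * a * x⁻¹ * b) = DihedralGroup.r (2 * k) := by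
        rw [map_mul, hb', hj, ← hij]; simp
      obtain ⟨g, hg⟩ := isConj_iff.1 (H08.isConj_of_odd_orderOf_mul (hsq hob) (hsq hb)
        (aux_rot π hπ hker hQ hr R hC h2k hz).2)
      exact ⟨g * x, by rw [← hg]; group⟩
    · have hz : π (a * b) = DihedralGroup.r (j - i) := by rw [map_mul, hi, hj]; simp
      exact isConj_iff.1 (H08.isConj_of_odd_orderOf_mul (hsq ha) (hsq hb)
        (aux_rot π hπ hker hQ hr R hC (sub_ne_zero.2 (Ne.symm hij)) hz).2)
  · set b := x * a * x⁻¹ with hb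
    have hcb : Nat.card ↥(Q ⊓ C_[b]) = Nat.card ↥(Q ⊓ C_[a]) := by
      rw [hb, ← cj_cent1, ← card_cj x (Q ⊓ C_[a]), cj_inf, cj_of_mem_norm (X := Q) ((normalizer_eq_top Q).ge (mem_top x))]
    have hab : π (a * b) = DihedralGroup.r (-(2 * k)) := by rw [map_mul, hi, hb']; simp
    have hπq : ∀ q ∈ Q, π q = 1 := fun q hq => by rw [← hker] at hq; exact hq
    apply le_antisymm
    · have h1 : (Q ⊓ C_[a]) ⊓ (Q ⊓ C_[b]) = ⊥ := by
        rw [eq_bot_iff, ← (aux_rot π hπ hker hQ hr R hC (neg_ne_zero.2 h2k) hab).1]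
        rintro q ⟨⟨hq, h1⟩, -, h2⟩
        refine ⟨hq, ?_⟩
        rw [SetLike.mem_coe, mem_toSubmonoid, mem_cent1] at *
        rw [← mul_assoc q a b, h1, mul_assoc a q b, h2, mul_assoc a b q]
      let f : ↥(Q ⊓ C_[a]) × ↥(Q ⊓ C_[b]) → Q := fun c => ⟨c.1 * c.2, Q.mul_mem c.1.2.1 c.2.2.1⟩
      have hf : Function.Injective f := by
        rintro ⟨c, d⟩ ⟨c', d'⟩ h
        have h2 : (c : G) * d = c' * d' := congrArg Subtype.val h
        have h3 : (c' : G)⁻¹ * c = d' * (d : G)⁻¹ := by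
          rw [inv_mul_eq_iff_eq_mul, ← mul_assoc, ← h2]; group
        have h4 : (c' : G)⁻¹ * c ∈ (Q ⊓ C_[a]) ⊓ (Q ⊓ C_[b]) :=
          mem_inf.2 ⟨mul_mem (inv_mem c'.2) c.2, by rw [h3]; exact mul_mem d'.2 (inv_mem d.2)⟩
        rw [h1, mem_bot] at h4
        rw [h4] at h3
        exact Prod.ext (Subtype.ext (inv_mul_eq_one.1 h4).symm) (Subtype.ext (mul_inv_eq_one.1 h3.symm).symm)
      have := Nat.card_le_card_of_injective f hf
      rwa [Nat.card_prod, hcb, ← sq] at this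
    · have hmem : ∀ (c : {y : G // ∃ q ∈ Q, q * a * q⁻¹ = y}) (d : {y : G // ∃ q ∈ Q, q * b * q⁻¹ = y}),
          π (c * d) = DihedralGroup.r (-(2 * k)) := by
        rintro ⟨_, q, hq, rfl⟩ ⟨_, q', hq', rfl⟩
        rw [← hab]; simp [hπq q hq, hπq q' hq']
      let f : {y : G // ∃ q ∈ Q, q * a * q⁻¹ = y} × {y : G // ∃ q ∈ Q, q * b * q⁻¹ = y} → Q :=
        fun c => ⟨(a * b)⁻¹ * (c.1 * c.2), by
          apply hker.le
          rw [MonoidHom.mem_ker, map_mul, map_inv, hmem, hab, inv_mul_cancel]⟩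
      have hf : Function.Injective f := by
        rintro ⟨c, d⟩ ⟨c', d'⟩ h
        have h2 : (c : G) * d = c' * d' := mul_left_cancel (congrArg Subtype.val h)
        have h3 := (aux_rot π hπ hker hQ hr R hC (neg_ne_zero.2 h2k) (hmem c d)).1
        have hc2 : ∀ (c : {y : G // ∃ q ∈ Q, q * a * q⁻¹ = y}), (c : G)⁻¹ = c ∧ π c = π a := by
          rintro ⟨_, q, hq, rfl⟩
          refine ⟨?_, by simp [hπq q hq]⟩
          simp [mul_assoc, inv_eq_of_mul_eq_one_left (hsq ha)]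
        have hd2 : ∀ (c : {y : G // ∃ q ∈ Q, q * b * q⁻¹ = y}), (c : G)⁻¹ = c := by
          rintro ⟨_, q, hq, rfl⟩
          simp [mul_assoc, inv_eq_of_mul_eq_one_left (hsq hob)]
        have h5 : (d : G) * c = d' * c' := by
          have := congrArg (·⁻¹) h2
          simpa only [mul_inv_rev, (hc2 _).1, hd2] using this
        have h4 : (c : G) * c' ∈ Q ⊓ C_[(c : G) * d] := by
          refine ⟨?_, ?_⟩
          · apply hker.le
            show π _ = 1
            rw [map_mul, (hc2 c).2, (hc2 c').2, ← map_mul, hsq ha, map_one]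
          · rw [SetLike.mem_coe, mem_toSubmonoid, mem_cent1]
            calc (c : G) * c' * (c * d) = c * (c' * (c' * d')) := by rw [h2, mul_assoc]
              _ = c * ((c' : G)⁻¹ * (c' * d')) := by rw [(hc2 c').1]
              _ = c * (d' * c') * (c' : G)⁻¹ := by group
              _ = c * d * (c * c') := by rw [← h5, (hc2 c').1]; group
        rw [h3, mem_bot] at h4
        have h6 : (c : G) = c' := by rw [← (hc2 c').1]; exact eq_inv_of_mul_eq_one_left h4
        rw [h6] at h2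
        exact Prod.ext (Subtype.ext h6) (Subtype.ext (mul_left_cancel h2))
      have h1 := Nat.card_le_card_of_injective f hf
      rw [Nat.card_prod] at h1
      have h2 := aux_orbit Q a
      have h3 := aux_orbit Q b
      rw [hcb] at h3
      have h4 : 0 < Nat.card Q := Nat.card_pos
      set m := Nat.card ↥(Q ⊓ C_[a])
      refine Nat.le_of_mul_le_mul_left ?_ h4
      calc Nat.card Q * Nat.card Q = _ * _ * m ^ 2 := by
            conv_lhs => rw [← h2]
            conv_lhs => enter [2]; rw [h2, ← h3]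
            ring
        _ ≤ _ := Nat.mul_le_mul_right _ h1

end Cfsg.Agent.S2873
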