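import Mathlib
import Cfsg.Statements.S2874


set_option autoImplicit false
open Cfsg

namespace Cfsg.Agent.S2874

open Subgroup Matrix

theorem a4 : ∃ r t : alternatingGroup (Fin 4), r * r * r = 1 ∧ r ≠ 1 ∧ t * t = 1 ∧ t ≠ 1 ∧
    t * (r * t * r⁻¹) = r * (r * t * r⁻¹) * r⁻¹ ∧
    ∀ s, s = t ∨ s = r * t * r⁻¹ ∨ s = r * (r * t * r⁻¹) * r⁻¹ → ∀ x, ∃ i j : Fin 3,
      x = r ^ (i : ℕ) ∨ x = r ^ (i : ℕ) * s * r ^ (j : ℕ) := by
  refine ⟨⟨Equiv.swap 0 1 * Equiv.swap 1 2, Equiv.Perm.mem_alternatingGroup.2 (by decide)⟩,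
    ⟨Equiv.swap 0 1 * Equiv.swap 2 3, Equiv.Perm.mem_alternatingGroup.2 (by decide)⟩,
    by decide, by decide, by decide, by decide, by decide, ?_⟩
  rintro s (rfl | rfl | rfl) <;> decide +kernel

theorem unit_of (j : ℕ) (x : ZMod (2 ^ (j + 2)))
    (h : ZMod.castHom (dvd_pow_self 2 (Nat.succ_ne_zero (j + 1))) (ZMod 2) x = 1) : IsUnit x := by
  rw [← ZMod.natCast_zmod_val x] at h ⊢
  rw [ZMod.isUnit_iff_coprime]
  rw [map_natCast, ZMod.natCast_eq_one_iff_odd] at h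
  exact Nat.Coprime.pow_right _ (Nat.coprime_two_right.2 h)

theorem two_tors (j : ℕ) (x : ZMod (2 ^ (j + 2))) (h : 2 * x = 0) : x = 0 ∨ x = 2 ^ (j + 1) := by
  rw [← ZMod.natCast_zmod_val x] at h ⊢
  have h1 : 2 ^ (j + 2) ∣ 2 * x.val := by
    rw [← ZMod.natCast_eq_zero_iff]; push_cast; exact h
  have h2 := ZMod.val_lt x
  generalize x.val = n at h1 h2 ⊢
  rw [pow_succ' 2 (j + 1)] at h1
  obtain ⟨c, hc⟩ := Nat.dvd_of_mul_dvd_mul_left two_pos h1
  rw [hc, pow_succ 2 (j + 1)] at h2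
  have h3 : c < 2 := lt_of_mul_lt_mul_left h2 (Nat.zero_le _)
  rw [hc]
  interval_cases c <;> simp

theorem f2 : ∀ m : Matrix (Fin 2) (Fin 2) (ZMod 2), m * m * m = 1 →
    (m * m + m + 1).det = 1 ∨ ((m - 1).det = 1 ∧ m 1 0 = 1) := by
  intro m
  rw [Matrix.eta_fin_two m]
  generalize m 0 0 = a, m 0 1 = b, m 1 0 = c, m 1 1 = d
  revert a b c d
  simp only [Matrix.det_fin_two]
  decide

/-- The companion matrix of `x² + x + 1`. -/
def Cm (R : Type*) [CommRing R] : GL (Fin 2) R :=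
  ⟨!![0, -1; 1, -1], !![-1, 1; -1, 0], by ext i j; fin_cases i <;> fin_cases j <;> simp,
    by ext i j; fin_cases i <;> fin_cases j <;> simp⟩

theorem conjC (j : ℕ) (r : GL (Fin 2) (ZMod (2 ^ (j + 2)))) (h3 : r * r * r = 1) (h1 : r ≠ 1) :
    ∃ g : GL (Fin 2) (ZMod (2 ^ (j + 2))), g * r * g⁻¹ = Cm _ := by
  set φ := ZMod.castHom (dvd_pow_self 2 (Nat.succ_ne_zero (j + 1))) (ZMod 2) with hφ
  set m : Matrix (Fin 2) (Fin 2) (ZMod (2 ^ (j + 2))) := r.val with hm
  have h3' : m * m * m = 1 := congrArg Units.val h3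
  have e1 : (m * m + m + 1) * (m - 1) = 0 := by
    calc _ = m * m * m - 1 := by noncomm_ring
      _ = 0 := by rw [h3', sub_self]
  have e2 : (m - 1) * (m * m + m + 1) = 0 := by
    calc _ = m * m * m - 1 := by noncomm_ring
      _ = 0 := by rw [h3', sub_self]
  rcases f2 (φ.mapMatrix m) (by rw [← map_mul, ← map_mul, h3', map_one]) with h | ⟨h, h'⟩
  · exfalso
    have hu : IsUnit (m * m + m + 1) := by
      rw [Matrix.isUnit_iff_isUnit_det]
      apply unit_of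
      rw [RingHom.map_det, map_add, map_add, map_mul, map_one]; exact h
    exact h1 (Units.ext (sub_eq_zero.1 (hu.mul_right_eq_zero.1 e1)))
  · have hu : IsUnit (m - 1) := by
      rw [Matrix.isUnit_iff_isUnit_det]
      apply unit_of
      rw [RingHom.map_det, map_sub, map_one]; exact h
    have e3 := hu.mul_right_eq_zero.1 e2
    have hc : IsUnit (m 1 0) := unit_of j _ h'
    have hg : IsUnit (!![1, m 0 0; 0, m 1 0] : Matrix (Fin 2) (Fin 2) (ZMod (2 ^ (j + 2)))) := by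
      rw [Matrix.isUnit_iff_isUnit_det, Matrix.det_fin_two_of]; simpa using hc
    refine ⟨hg.unit⁻¹, ?_⟩
    rw [inv_inv, mul_assoc, inv_mul_eq_iff_eq_mul]
    apply Units.ext
    show m * !![1, m 0 0; 0, m 1 0] = !![1, m 0 0; 0, m 1 0] * !![0, -1; 1, -1]
    have a1 := congrFun (congrFun e3 0) 0
    have a2 := congrFun (congrFun e3 1) 0
    simp [Matrix.mul_apply, Fin.sum_univ_two] at a1 a2
    ext i j
    fin_cases i <;> fin_cases j <;> simp [Matrix.mul_apply, Fin.sum_univ_two]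
    · linear_combination a1
    · linear_combination a2

theorem invol (j : ℕ) (t : GL (Fin 2) (ZMod (2 ^ (j + 2)))) (h2 : t * t = 1) (h1 : t ≠ 1)
    (h : t * (Cm _ * t * (Cm _)⁻¹) = Cm _ * (Cm _ * t * (Cm _)⁻¹) * (Cm _)⁻¹) :
    ∃ s : GL (Fin 2) (ZMod (2 ^ (j + 2))), (s = t ∨ s = Cm _ * t * (Cm _)⁻¹ ∨
      s = Cm _ * (Cm _ * t * (Cm _)⁻¹) * (Cm _)⁻¹) ∧
      s.val = !![1, 2 ^ (j + 1); 2 ^ (j + 1), 1] := by
  have hd : t.val.det = 1 := by
    have := congrArg GeneralLinearGroup.det h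
    simp only [map_mul, map_inv, mul_inv_cancel_comm, mul_eq_right] at this
    exact congrArg Units.val this
  obtain ⟨p, q, r, s, ht⟩ : ∃ p q r s, t.val = !![p, q; r, s] := ⟨_, _, _, _, Matrix.eta_fin_two _⟩
  have v1 : ∀ (u : GL (Fin 2) (ZMod (2 ^ (j + 2)))) (p q r s), u.val = !![p, q; r, s] →
      (Cm _ * u * (Cm _)⁻¹).val = !![r + s, -r; r + s - p - q, p - r] := by
    intro u p q r s hu
    show !![0, -1; 1, -1] * u.val * !![-1, 1; -1, 0] = _
    rw [hu]
    ext i j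
    fin_cases i <;> fin_cases j <;> simp [Matrix.mul_apply, Fin.sum_univ_two] <;> ring
  have t1 := v1 t _ _ _ _ ht
  have t2 := v1 _ _ _ _ _ t1
  have h2' : t.val * t.val = 1 := congrArg Units.val h2
  have h' := congrArg Units.val h
  rw [Units.val_mul, t2, t1, ht] at h'
  rw [ht, Matrix.det_fin_two_of] at hd
  rw [ht] at h2'
  have a1 := congrFun (congrFun h2' 0) 0
  have a2 := congrFun (congrFun h2' 0) 1
  have a3 := congrFun (congrFun h2' 1) 0
  have a4 := congrFun (congrFun h2' 1) 1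
  have a5 := congrFun (congrFun h' 0) 0
  simp [Matrix.mul_apply, Fin.sum_univ_two] at a1 a2 a3 a4 a5
  have b1 : p = s := by linear_combination s * a1 - p * hd - r * a2
  subst b1
  have b2 : 2 * q = 0 := by linear_combination p * a2 - 2 * q * a1 + q * (a1 - hd)
  have b3 : 2 * r = 0 := by linear_combination p * a3 - 2 * r * a1 + r * (a1 - hd)
  obtain ⟨ε, hε⟩ : ∃ ε : ZMod (2 ^ (j + 2)), ε = 2 ^ (j + 1) := ⟨_, rfl⟩
  have e1 : 2 * ε = 0 := by
    rw [hε, ← pow_succ']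
    exact_mod_cast ZMod.natCast_self (2 ^ (j + 2))
  have e2 : ε * ε = 0 := by
    have : ε = 2 * 2 ^ j := hε.trans (pow_succ' 2 j)
    calc ε * ε = 2 ^ j * (2 * ε) := by nth_rewrite 1 [this]; ring
      _ = 0 := by rw [e1, mul_zero]
  have c2 := two_tors j q b2
  have c3 := two_tors j r b3
  have c4 := two_tors j (p * ε) (by linear_combination p * e1)
  rw [← hε] at c2 c3 c4 ⊢
  clear hε
  have hp : p * p = 1 := by
    rcases c2 with rfl | rfl <;> rcases c3 with rfl | rfl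
    · linear_combination a1
    · linear_combination a1
    · linear_combination a1
    · linear_combination a1 - e2
  have e3 : p * ε = ε := by
    rcases c4 with h4 | h4
    · linear_combination (1 - p) * h4 + ε * hp
    · exact h4
  rcases c2 with rfl | rfl <;> rcases c3 with rfl | rfl
  · exfalso
    apply h1
    apply Units.ext
    have : p = 1 := by linear_combination hp - a5
    rw [ht, this]
    exact (Matrix.one_fin_two).symm
  · refine ⟨_, Or.inr (Or.inl rfl), ?_⟩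
    have : p = 1 + r := by linear_combination hp - a5 + e3
    rw [t1, this]
    ext i j
    fin_cases i <;> fin_cases j <;> simp
    · linear_combination e1
    · linear_combination -e1
  · refine ⟨_, Or.inr (Or.inr rfl), ?_⟩
    have : p = 1 + q := by linear_combination hp - a5 - e2
    rw [t2, this]
    ext i j
    fin_cases i <;> fin_cases j <;> simp
    · linear_combination -e1
    · linear_combination e1
  · refine ⟨_, Or.inl rfl, ?_⟩
    have : p = 1 := by linear_combination hp - a5 + e3 + e1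
    rw [ht, this]

theorem std (j : ℕ) (H : Subgroup (GL (Fin 2) (ZMod (2 ^ (j + 2)))))
    (h : Nonempty (H ≃* alternatingGroup (Fin 4))) :
    ∃ g s : GL (Fin 2) (ZMod (2 ^ (j + 2))), s.val = !![1, 2 ^ (j + 1); 2 ^ (j + 1), 1] ∧
      H.map (MulAut.conj g).toMonoidHom = Subgroup.closure {Cm _, s} := by
  obtain ⟨e⟩ := h
  obtain ⟨r, t, a1, a2, a3, a4, a5, a6⟩ := a4
  let ι := H.subtype.comp e.symm.toMonoidHom
  have hι : Function.Injective ι := H.subtype_injective.comp e.symm.injective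
  obtain ⟨g, hg⟩ := conjC j (ι r) (by rw [← map_mul, ← map_mul, a1, map_one])
    (fun h => a2 (hι (by rw [h, map_one])))
  let κ := (MulAut.conj g).toMonoidHom.comp ι
  have hκ : Function.Injective κ := (MulAut.conj g).injective.comp hι
  have hr : κ r = Cm _ := hg
  obtain ⟨s, hs, hs'⟩ := invol j (κ t) (by rw [← map_mul, a3, map_one])
    (fun h => a4 (hκ (by rw [h, map_one]))) (by
      rw [← hr]; simp only [← map_inv, ← map_mul]; rw [a5])
  obtain ⟨s0, hs0, rfl⟩ : ∃ s0, (s0 = t ∨ s0 = r * t * r⁻¹ ∨ s0 = r * (r * t * r⁻¹) * r⁻¹) ∧ κ s0 = s := by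
    rcases hs with rfl | rfl | rfl
    · exact ⟨_, Or.inl rfl, rfl⟩
    · exact ⟨_, Or.inr (Or.inl rfl), by rw [← hr]; simp only [← map_inv, ← map_mul]⟩
    · exact ⟨_, Or.inr (Or.inr rfl), by rw [← hr]; simp only [← map_inv, ← map_mul]⟩
  refine ⟨g, κ s0, hs', le_antisymm ?_ ?_⟩
  · rintro _ ⟨x, hx, rfl⟩
    have e1 : (MulAut.conj g).toMonoidHom x = κ (e ⟨x, hx⟩) := by
      show _ = (MulAut.conj g).toMonoidHom ((e.symm (e ⟨x, hx⟩) : H) : GL (Fin 2) (ZMod (2 ^ (j + 2))))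
      rw [e.symm_apply_apply]
    have m1 : κ r ∈ Subgroup.closure {Cm _, κ s0} := Subgroup.subset_closure (Or.inl hr)
    have m2 : κ s0 ∈ Subgroup.closure {Cm _, κ s0} := Subgroup.subset_closure (Or.inr rfl)
    obtain ⟨a, b, h | h⟩ := a6 s0 hs0 (e ⟨x, hx⟩)
    · rw [e1, h, map_pow]; exact pow_mem m1 _
    · rw [e1, h, map_mul, map_mul, map_pow, map_pow]; exact mul_mem (mul_mem (pow_mem m1 _) m2) (pow_mem m1 _)
  · rw [Subgroup.closure_le]
    rintro x (rfl | rfl)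
    · exact ⟨ι r, (e.symm r).2, hg⟩
    · exact ⟨ι s0, (e.symm s0).2, rfl⟩

/-- For k ≥ 2, any two subgroups of GL₂(ℤ/2ᵏℤ) (the automorphism group of the homocyclic group ℤ/2ᵏ × ℤ/2ᵏ) that are isomorphic to the alternating group of degree 4 are conjugate. -/
theorem result (k : ℕ) (hk : 2 ≤ k) (H₁ H₂ : Subgroup (GL (Fin 2) (ZMod (2 ^ k)))) (h₁ : Nonempty (↥H₁ ≃* ↥(alternatingGroup (Fin 4)))) (h₂ : Nonempty (↥H₂ ≃* ↥(alternatingGroup (Fin 4)))) : ∃ g : GL (Fin 2) (ZMod (2 ^ k)), H₂ = H₁.map (MulAut.conj g).toMonoidHom := by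
  obtain ⟨j, rfl⟩ : ∃ j, k = j + 2 := ⟨k - 2, by omega⟩
  obtain ⟨g₁, s₁, a1, b1⟩ := std j H₁ h₁
  obtain ⟨g₂, s₂, a2, b2⟩ := std j H₂ h₂
  have e : s₁ = s₂ := Units.ext (a1.trans a2.symm)
  rw [e, ← b2] at b1
  refine ⟨g₂⁻¹ * g₁, ?_⟩
  have := congrArg (Subgroup.map (MulAut.conj g₂⁻¹).toMonoidHom) b1
  rw [Subgroup.map_map, Subgroup.map_map] at this
  have e1 : (MulAut.conj g₂⁻¹).toMonoidHom.comp (MulAut.conj g₂).toMonoidHom = MonoidHom.id _ := by
    ext1 x; simp [mul_assoc]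
  have e2 : (MulAut.conj g₂⁻¹).toMonoidHom.comp (MulAut.conj g₁).toMonoidHom =
      (MulAut.conj (g₂⁻¹ * g₁)).toMonoidHom := by
    ext1 x; simp [mul_assoc]
  rw [e1, e2, Subgroup.map_id] at this
  exact this.symm

end Cfsg.Agent.S2874
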