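import Mathlib
import Cfsg.Statements.S2879
import Cfsg.Agent.H03.NPC4
import Cfsg.Agent.H17.Constr
import Cfsg.Agent.H26.CharP
import Cfsg.Agent.H04.MaxClass

set_option autoImplicit false
open Cfsg

namespace Cfsg.Agent.S2879

open Subgroup

theorem dec : ∀ σ τ : Equiv.Perm (Fin 4), σ ^ 3 = 1 → σ ≠ 1 → τ ^ 3 = 1 →
    ∃ x : QuaternionGroup 2, ∃ i : Fin 3, ∀ y, H04.q8Act τ y = x * H04.q8Act (σ ^ (i : ℕ)) y * x⁻¹ := by
  decide +kernel

theorem dec2 : ∀ σ : Equiv.Perm (Fin 4), σ ^ 2 ≠ 1 → σ ^ 4 ≠ 1 → σ ^ 3 = 1 := by decide +kernel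

theorem card_sl : Nat.card (Matrix.SpecialLinearGroup (Fin 2) (ZMod 3)) = 24 := by
  rw [Nat.card_eq_fintype_card]; decide +kernel

/-- a subgroup of a `DSQ` group: cyclic, of the form `Z(T).2`, or `DSQ`. -/
theorem sub {T : Type*} [Group T] {m : ℕ} {a b : T} (h : H04.DSQ m a b) (Q : Subgroup T)
    (hZ : center T ≤ Q) : IsCyclic Q ∨ (center T).relIndex Q = 2 ∨ H04.IsDSQ Q := by
  have := h.finite
  by_cases hc : Q ≤ zpowers a
  · exact Or.inl (Subgroup.isCyclic_of_le hc)
  obtain ⟨x, hxQ, hx⟩ := SetLike.not_le_iff_exists.1 hc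
  have hi : (zpowers a).relIndex Q = 2 := by
    have := h.normal
    have h1 : (zpowers a).relIndex Q ∣ 2 := h.index ▸ relIndex_dvd_index_of_normal _ _
    rcases (Nat.dvd_prime Nat.prime_two).1 h1 with h2 | h2
    · exact absurd (relIndex_eq_one.1 h2) hc
    · exact h2
  by_cases hab : IsMulCommutative Q
  · refine Or.inr (Or.inl ?_)
    have h1 : center T ⊓ Q = zpowers a ⊓ Q := by
      refine le_antisymm (inf_le_inf_right _ ?_) fun y hy => ⟨?_, hy.2⟩
      · rw [h.center_eq]; exact zpowers_le.2 (pow_mem (mem_zpowers a) _)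
      · exact h.mem_center_of_commute hx hy.1 (congrArg Subtype.val (hab.is_comm.comm ⟨x, hxQ⟩ ⟨y, hy.2⟩))
    rw [← inf_relIndex_right, h1, inf_relIndex_right, hi]
  refine Or.inr (Or.inr ?_)
  have hcy : IsCyclic ((zpowers a).subgroupOf Q) := by
    have : IsCyclic (zpowers a ⊓ Q : Subgroup T) := Subgroup.isCyclic_of_le inf_le_left
    rw [← inf_subgroupOf_right]
    exact isCyclic_of_surjective _ (subgroupOfEquivOfLe (inf_le_right)).symm.surjective
  obtain ⟨c, hcc⟩ := (Subgroup.isCyclic_iff_exists_zpowers_eq_top _).1 hcy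
  have hQ2 : IsPGroup 2 Q := h.isPGroup.to_subgroup Q
  obtain ⟨k, hk⟩ := IsPGroup.iff_card.1 hQ2
  have hcard : orderOf c * 2 = 2 ^ k := by
    rw [← hk, ← Nat.card_zpowers, hcc, ← hi]; exact card_mul_index _
  have hk3 : 3 ≤ k := by
    by_contra h3
    refine hab ?_
    have h4 : k = 0 ∨ k = 1 ∨ k = 2 := by omega
    rcases h4 with rfl | rfl | rfl
    · simp at hcard
    · have := isCyclic_of_prime_card (p := 2) (α := Q) (by simpa using hk)
      infer_instance
    · exact ⟨⟨IsPGroup.commutative_of_card_eq_prime_sq (p := 2) hk⟩⟩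
  obtain ⟨n, rfl⟩ : ∃ n, k = n + 3 := ⟨k - 3, by omega⟩
  have ho : orderOf c = 2 ^ (n + 2) := by
    rw [pow_succ] at hcard; omega
  obtain ⟨d, hd | ⟨hn, hd1, -, hd3⟩⟩ := H04.dsq_or_modular hk ho hab
  · exact ⟨n, c, d, hd⟩
  · exfalso
    have hc2 : Commute d (c ^ 2) := by
      have : d * c ^ 2 * d⁻¹ = c ^ 2 := by
        rw [← conj_pow, hd3, ← pow_mul, add_mul, one_mul, pow_add, ← pow_succ, ← ho, pow_orderOf_eq_one,
          mul_one]
      exact mul_inv_eq_iff_eq_mul.1 this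
    have hda : (d : T) ∉ zpowers a := fun e => hd1 (hcc ▸ e)
    have hca : (c : T) ∈ zpowers a := by
      have : c ∈ (zpowers a).subgroupOf Q := hcc ▸ mem_zpowers c
      exact this
    have h5 := h.sq_eq_one_of_mem_center (h.mem_center_of_commute hda (pow_mem hca 2)
      (by simpa using hc2.map Q.subtype))
    have h6 : c ^ 4 = 1 := Subtype.ext (by simpa [← pow_mul] using h5)
    have h7 := Nat.le_of_dvd (by norm_num) (orderOf_dvd_of_pow_eq_one h6)
    rw [ho] at h7
    have : 2 ^ 3 ≤ 2 ^ (n + 2) := Nat.pow_le_pow_right (by norm_num) (by omega)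
    omega

/-- Let G be a finite solvable group with O(G) = 1 whose Sylow 2-subgroup T is dihedral of order at least 8 or semidihedral, with G ≠ T and Z(T) normal in G. Then G has a normal subgroup isomorphic to SL₂(3). -/
theorem result {G : Type*} [Group G] [Finite G] (hsol : IsSolvable G) (hO : Cfsg.oddCore G = ⊥) (T : Sylow 2 G) (hT : (∃ n : ℕ, 4 ≤ n ∧ Nonempty (↥(T : Subgroup G) ≃* DihedralGroup n)) ∨ Cfsg.IsQuasiDihedral ↥(T : Subgroup G)) (hne : (T : Subgroup G) ≠ ⊤) (hZ : ((T : Subgroup G) ⊓ Subgroup.centralizer ((T : Subgroup G) : Set G)).Normal) : ∃ U : Subgroup G, U.Normal ∧ Nonempty (↥U ≃* Matrix.SpecialLinearGroup (Fin 2) (ZMod 3)) := by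
  have hs : Group.IsSolvable G := hsol
  obtain ⟨Q, hQ⟩ : ∃ Q, Q = pCore 2 G := ⟨_, rfl⟩
  have hQn : Q.Normal := hQ ▸ inferInstance
  have hQ2 : IsPGroup 2 Q := hQ ▸ H02.pCore_isPGroup 2 G
  have hC : centralizer (Q : Set G) ≤ Q := hQ ▸ H17.centralizer_pCore_le_of_solvable hO
  have hQT : Q ≤ T := hQ2.le_sylow_of_normal T
  obtain ⟨m, a, b, hd⟩ : H04.IsDSQ (T : Subgroup G) := by
    rcases hT with ⟨n, hn, ⟨e⟩⟩ | h
    · refine H04.isDSQ_of_equiv_dihedral T.2 (fun hc => ?_) e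
      have h1 := hc.is_comm.comm (e.symm (.r 1)) (e.symm (.sr 0))
      rw [← map_mul, ← map_mul] at h1
      have h2 := e.symm.injective h1
      simp only [DihedralGroup.r_mul_sr, DihedralGroup.sr_mul_r, DihedralGroup.sr.injEq] at h2
      have h3 : ((2 : ℕ) : ZMod n) = 0 := by push_cast; linear_combination -h2
      have := Nat.le_of_dvd (by norm_num) ((ZMod.natCast_eq_zero_iff _ _).1 h3)
      omega
    · obtain ⟨m, a, b, -, h, -⟩ := H04.isDSQ_of_isQuasiDihedral h
      exact ⟨m, a, b, h⟩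
  obtain ⟨q, hq, hqd⟩ := Nat.exists_prime_and_dvd (n := (T : Subgroup G).index)
    (fun h => hne (index_eq_one.1 h))
  have hq2 : q ≠ 2 := fun h => T.not_dvd_index (h ▸ hqd)
  have := Fact.mk hq
  obtain ⟨g, hg⟩ := exists_prime_orderOf_dvd_card' (G := G) q (hqd.trans (index_dvd_card _))
  have hc : (orderOf g).Coprime 2 := hg ▸ (Nat.coprime_primes hq Nat.prime_two).2 hq2
  have hg1 : g ≠ 1 := fun h => by rw [h, orderOf_one] at hg; exact hq.one_lt.ne hg
  have hgQ : g ∉ Q := fun h => hg1 (congrArg Subtype.val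
    (H03.eq_one_of_isPGroup_of_coprime hQ2 (g := ⟨g, h⟩) (by rwa [orderOf_mk])))
  have hgC : g ∉ centralizer (Q : Set G) := fun h => hgQ (hC h)
  have hgN : g ∈ normalizer (Q : Set G) := by rw [normalizer_eq_top]; trivial
  obtain ⟨Z, hZ'⟩ : ∃ Z, Z = (T : Subgroup G) ⊓ centralizer ((T : Subgroup G) : Set G) := ⟨_, rfl⟩
  rw [← hZ'] at hZ
  have hZm : (center (T : Subgroup G)).map (T : Subgroup G).subtype = Z := by
    rw [H26.map_subtype_center, hZ']
  have hZc : Nat.card Z = 2 := by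
    rw [← hZm, card_map_of_injective (subtype_injective _), hd.card_center]
  have hZQ : Z ≤ Q := hQ ▸ H02.le_pCore (IsPGroup.of_card (n := 1) (by simpa using hZc))
  have eQ : Q.subgroupOf T ≃* Q := subgroupOfEquivOfLe hQT
  obtain ⟨e⟩ : Nonempty (Q ≃* QuaternionGroup 2) := by
    rcases sub hd (Q.subgroupOf T) (map_le_iff_le_comap.1 (hZm ▸ hZQ)) with h | h | h
    · exact absurd (H04.le_centralizer_of_isCyclic_of_coprime (isCyclic_of_surjective _ eQ.surjective) hQ2
        (zpowers_le.2 hgN) (by rwa [Nat.card_zpowers]) (mem_zpowers g)) hgC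
    · exfalso
      have hi : Z.relIndex Q = 2 := by
        rw [← h, ← hZm, ← relIndex_map_map_of_injective _ _ (subtype_injective (T : Subgroup G)),
          subgroupOf_map_subtype, inf_eq_left.2 hQT]
      have hZcyc : IsCyclic Z := isCyclic_of_prime_card (p := 2) hZc
      have hZ2 : IsPGroup 2 Z := hQ2.to_le hZQ
      refine hgC (H26.mem_centralizer_of_two_step hZ2 hc (fun v hv => ?_)
        (H04.le_centralizer_of_isCyclic_of_coprime hZcyc hZ2 (zpowers_le.2 (by rw [normalizer_eq_top]; trivial))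
          (by rwa [Nat.card_zpowers]) (mem_zpowers g)))
      have h1 := (mul_mem_iff_of_index_two (H := Z.subgroupOf Q) hi
        (a := ⟨g * v * g⁻¹, hQn.conj_mem v hv g⟩) (b := ⟨v⁻¹, inv_mem hv⟩)).2 (by
          simp only [mem_subgroupOf, inv_mem_iff]
          exact ⟨fun h => by simpa [mul_assoc] using hZ.conj_mem _ h g⁻¹, fun h => hZ.conj_mem _ h g⟩)
      exact h1
    · obtain ⟨m', a', b', h⟩ := h.of_equiv eQ
      refine h.isPGroup_mulAut_or.resolve_left fun h2 => hgC ?_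
      exact H17.mem_centralizer_of_conjAut_eq_one Q hgN (H03.eq_one_of_isPGroup_of_coprime h2
        (hc.coprime_dvd_left (H17.orderOf_conjAut_dvd Q hgN)))
  obtain ⟨ρ, hρ⟩ : ∃ ρ : G →* Equiv.Perm (Fin 4), ∀ (k : G) (d : Q),
      e (MulAut.conjNormal k d) = H04.q8Act (ρ k) (e d) := by
    refine ⟨((MulAut.congr e).trans H04.q8Aut.symm).toMonoidHom.comp (MulAut.conjNormal (H := Q)),
      fun k d => ?_⟩
    have h1 := MulEquiv.congr_fun (H04.q8Aut.apply_symm_apply (MulAut.congr e (MulAut.conjNormal k))) (e d)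
    rw [MulAut.congr_apply, MulEquiv.trans_apply, MulEquiv.trans_apply, e.symm_apply_apply] at h1
    exact h1.symm
  have hρ1 : ρ g ≠ 1 := fun h => hgC fun y hy => by
    have h1 := hρ g ⟨y, hy⟩
    rw [h, H04.q8Act_one] at h1
    have h2 := congrArg Subtype.val (e.injective h1)
    rw [MulAut.conjNormal_apply] at h2
    exact (mul_inv_eq_iff_eq_mul.1 h2).symm
  have ho : orderOf (ρ g) ∣ orderOf g := orderOf_map_dvd ρ g
  have h4 : ρ g ^ 4 ≠ 1 := fun h => hρ1 (H26.eq_one_of_coprime h ((hc.coprime_dvd_left ho).pow_right 2))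
  have h3 := dec2 (ρ g) (fun h => h4 (by
    rw [show ρ g ^ 4 = (ρ g ^ 2) ^ 2 from by rw [← pow_mul], h, one_pow])) h4
  have h33 : Fact (Nat.Prime 3) := ⟨by norm_num⟩
  have hq3 : q = 3 := by
    rw [orderOf_eq_prime h3 hρ1, hg] at ho
    exact ((Nat.prime_dvd_prime_iff_eq h33.out hq).1 ho).symm
  subst hq3
  have hcQ : Nat.card Q = 8 := by
    rw [Nat.card_congr e.toEquiv, Nat.card_eq_fintype_card, QuaternionGroup.card]
  have hcU : Nat.card (zpowers g ⊔ Q : Subgroup G) = 24 := by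
    rw [H02.card_sup_of_disjoint (zpowers_le.2 hgN), Nat.card_zpowers, hg, hcQ]
    refine (disjoint_iff.1 (Subgroup.disjoint_of_coprime_natCard ?_))
    rw [Nat.card_zpowers, hg, hcQ]; norm_num
  refine ⟨zpowers g ⊔ Q, ?_, ?_⟩
  · rw [← normalizer_eq_top_iff, eq_top_iff]
    intro k _
    have key : ∀ k : G, ∀ u ∈ zpowers g ⊔ Q, k * u * k⁻¹ ∈ zpowers g ⊔ Q := by
      intro k
      have h1 : (zpowers g ⊔ Q).map (MulAut.conj k).toMonoidHom ≤ zpowers g ⊔ Q := by
        rw [Subgroup.map_sup, MonoidHom.map_zpowers]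
        refine sup_le (zpowers_le.2 ?_) ?_
        · obtain ⟨x, i, hx⟩ := dec (ρ g) (ρ (k * g * k⁻¹)) h3 hρ1 (by
            rw [← map_pow, conj_pow, ← hg, pow_orderOf_eq_one, mul_one, mul_inv_cancel, map_one])
          have h2 : ((e.symm x : Q) * g ^ (i : ℕ))⁻¹ * (k * g * k⁻¹) ∈ centralizer (Q : Set G) := by
            intro y hy
            have h5 := hx (e ⟨y, hy⟩)
            rw [← hρ, ← map_pow, ← hρ] at h5
            have h6 := congrArg (fun t => (e.symm t : G)) h5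
            simp only [map_mul e.symm, map_inv e.symm, MulEquiv.symm_apply_apply, coe_mul, coe_inv,
              MulAut.conjNormal_apply] at h6
            calc y * (((e.symm x : Q) * g ^ (i : ℕ))⁻¹ * (k * g * k⁻¹))
                = ((e.symm x : Q) * g ^ (i : ℕ))⁻¹ * ((e.symm x : Q) * (g ^ (i : ℕ) * y * (g ^ (i : ℕ))⁻¹) *
                  ((e.symm x : Q) : G)⁻¹) * (k * g * k⁻¹) := by group
              _ = _ := by rw [← h6]; group
          have h7 := mul_mem (mul_mem (mem_sup_right (e.symm x).2 : _ ∈ zpowers g ⊔ Q)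
            (mem_sup_left (pow_mem (mem_zpowers g) (i : ℕ)))) (mem_sup_right (hC h2))
          rwa [mul_inv_cancel_left] at h7
        · rintro _ ⟨y, hy, rfl⟩
          exact mem_sup_right (hQn.conj_mem y hy k)
      exact fun u hu => h1 ⟨u, hu, rfl⟩
    exact mem_normalizer_iff.2 fun u => ⟨key k u, fun h => by simpa [mul_assoc] using key k⁻¹ _ h⟩
  · obtain ⟨K, φ, hφ⟩ := H03.sec_sl23_of_q8 (G := (zpowers g ⊔ Q : Subgroup G))
      (D := Q.subgroupOf _) ((subgroupOfEquivOfLe le_sup_right).trans e)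
      (g := ⟨g, mem_sup_left (mem_zpowers g)⟩) (by rw [normalizer_eq_top]; trivial)
      (by rwa [orderOf_mk]) (fun h => hgC fun y hy =>
        congrArg Subtype.val (h ⟨y, mem_sup_right hy⟩ hy))
    have h1 : 24 ≤ Nat.card K := card_sl ▸ Nat.card_le_card_of_surjective φ hφ
    have h2 : K = ⊤ := eq_top_of_le_card _ (by omega)
    subst h2
    exact ⟨topEquiv.symm.trans (MulEquiv.ofBijective φ ((Nat.bijective_iff_surjective_and_card φ).2
      ⟨hφ, by rw [card_top, hcU, card_sl]⟩))⟩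

end Cfsg.Agent.S2879
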