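import Mathlib
import Cfsg.Statements.S2880
import Cfsg.Agent.H04.Extraspecial

set_option autoImplicit false
open Cfsg

namespace Cfsg.Agent.S2880

/-- Let E be an extraspecial 2-group of order 2^(2m+1) of plus type, that is, containing an elementary abelian subgroup of order 2^(m+1) (equivalently, a central product of m dihedral groups of order 8). Then E has exactly 2^(2m) − 2^m elements of order 4. -/
theorem result {E : Type*} [Group E] [Finite E] (m : ℕ) (hm : 1 ≤ m) (hE : Cfsg.IsExtraspecial 2 E) (hcard : Nat.card E = 2 ^ (2 * m + 1)) (hplus : ∃ A : Subgroup E, Cfsg.IsElementaryAbelian 2 A ∧ Nat.card A = 2 ^ (m + 1)) : Nat.card {x : E // orderOf x = 4} = 2 ^ (2 * m) - 2 ^ m := by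
  obtain ⟨z, h, hc, -⟩ := H04.exists_aes_of_isExtraspecial hE
  have hc' : (⊤ : Subgroup E) ⊓ Subgroup.centralizer ((⊤ : Subgroup E) : Set E) ≤
      Subgroup.zpowers z := by rw [H04.inf_cent_top, hc]
  have hcard' : Nat.card (⊤ : Subgroup E) = 2 ^ (2 * m + 1) := by rw [Subgroup.card_top, hcard]
  have h1 : H04.sqCount (⊤ : Subgroup E) 1 = 2 ^ (2 * m) + 2 ^ m := by
    refine (h.sqCount_of_center hc' hcard').resolve_right fun h2 => ?_
    obtain ⟨A, hA, hAc⟩ := hplus
    have := h.card_le_of_minus hc' m hcard' h2 A le_top hA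
    rw [hAc, pow_succ] at this
    have : 0 < 2 ^ m := by positivity
    omega
  have h2 := h.sqCount_add
  rw [h1, hcard', H04.sqCount_top, pow_succ] at h2
  have h3 : Nat.card {x : E // orderOf x = 4} = Nat.card {x : E // x ^ 2 = z} := by
    refine Nat.card_congr (Equiv.subtypeEquivRight fun x => ⟨fun hx => ?_, fun hx => ?_⟩)
    · refine (h.eq_or (h.pow x trivial)).resolve_left fun e => ?_
      have := orderOf_dvd_of_pow_eq_one e
      rw [hx] at this
      omega
    · refine orderOf_eq_prime_pow (p := 2) (n := 1) ?_ ?_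
      · rw [pow_one, hx]; exact h.ne_one
      · rw [show 2 ^ (1 + 1) = 2 * 2 from rfl, pow_mul, hx, sq, h.mul_self]
  rw [h3]
  omega

end Cfsg.Agent.S2880
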