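import Mathlib
import Cfsg.Statements.S2881
import Cfsg.Agent.S2880

set_option autoImplicit false
open Cfsg

namespace Cfsg.Agent.S2881

/-- Let E be an extraspecial 2-group of order 2^(2m+1) of plus type (containing an elementary abelian subgroup of order 2^(m+1)), and let ω be an automorphism of E of order 5 whose fixed points are exactly the centre of E. Then m is divisible by 4. -/
theorem result {E : Type*} [Group E] [Finite E] (m : ℕ) (hm : 1 ≤ m) (hE : Cfsg.IsExtraspecial 2 E) (hcard : Nat.card E = 2 ^ (2 * m + 1)) (hplus : ∃ A : Subgroup E, Cfsg.IsElementaryAbelian 2 A ∧ Nat.card A = 2 ^ (m + 1)) (ω : E ≃* E) (hω : orderOf ω = 5) (hfix : ∀ x : E, ω x = x ↔ x ∈ Subgroup.center E) : 4 ∣ m := by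
  classical
  have h4 := Cfsg.Agent.S2880.result m hm hE hcard hplus
  haveI : Fact (Nat.Prime 5) := ⟨by norm_num⟩
  haveI := Fintype.ofFinite E
  let f : Function.End {x : E // orderOf x = 4} := fun x => ⟨ω x, by rw [MulEquiv.orderOf_eq, x.2]⟩
  have hf : ∀ (n : ℕ) (x : {x : E // orderOf x = 4}), ((f ^ n) x : E) = (ω ^ n) x := by
    intro n
    induction n with
    | zero => intro x; rfl
    | succ n ih => intro x; rw [pow_succ, pow_succ]; exact ih (f x)
  have h5 : f ^ 5 ^ 1 = 1 := by
    funext x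
    apply Subtype.ext
    rw [hf, pow_one, ← hω, pow_orderOf_eq_one]; rfl
  have h := Equiv.Perm.card_fixedPoints_modEq h5
  have h0 : IsEmpty (Function.fixedPoints f) := ⟨fun x => by
    have h1 : ω x.1.1 = x.1.1 := congrArg Subtype.val x.2
    have h2 := orderOf_dvd_natCard (⟨_, (hfix _).1 h1⟩ : Subgroup.center E)
    rw [hE.2, ← Subgroup.orderOf_coe] at h2
    have h3 := x.1.2
    simp only at h2
    rw [h3] at h2
    omega⟩
  rw [Fintype.card_eq_zero (α := Function.fixedPoints f), ← Nat.card_eq_fintype_card, h4,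
    two_mul, pow_add, ← Nat.mul_sub_one] at h
  have h6 : 5 ∣ 2 ^ m - 1 := by
    refine (Nat.Coprime.dvd_mul_left ?_).1 ((Nat.modEq_zero_iff_dvd).1 h)
    exact Nat.Coprime.pow_right _ (by norm_num)
  have h7 : 2 ^ m % 5 = 1 := by
    have : 0 < 2 ^ m := by positivity
    omega
  rw [← Nat.div_add_mod m 4, pow_add, pow_mul, Nat.mul_mod, Nat.pow_mod] at h7
  have h8 : m % 4 < 4 := Nat.mod_lt _ (by norm_num)
  rw [Nat.dvd_iff_mod_eq_zero]
  generalize m % 4 = r at h7 h8
  interval_cases r <;> simp_all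

end Cfsg.Agent.S2881
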