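import Mathlib
import Cfsg.Statements.S2882
import Cfsg.Agent.H14.Over

set_option autoImplicit false
open Cfsg

namespace Cfsg.Agent.S2882

open H14 PK PK.TS Finset MulAction
open scoped Pointwise

def rs : List ℕ := [nat_lit 0x2d5104bdcbb5e636824615221628e4, nat_lit 0x8362894df65bae1a8934218aa01c6c, nat_lit 0xb468fac1689ba42ba8cd3a4a361001, nat_lit 0x595f135ed49360470e69522a060447, nat_lit 0x5c5a894ecf83aa3ba934398a261020, nat_lit 0x6a5c8bceb07acaa30e51052c4104ec, nat_lit 0x95eb642e85725a3881f3240ca604e2, nat_lit 0xba24f742365a684981a5654c150867, nat_lit 0xbbcb55b633449c180d3651a8c38880, nat_lit 0x9150b85a8934664709af056e708d4c, nat_lit 0x7b4d15de0e2c924a82760a28c18947, nat_lit 0x41ab05be778d1a1480b653a471904c, nat_lit 0x441b175e72a1aa07b16555922184e4, nat_lit 0xb44ad85569321c0b928f14a675046c, nat_lit 0x822d72c5e93556a9828e0c9a723062, nat_lit 0x33ee5ab93495a208050d1cd623914c, nat_lit 0x4d665838d78d10169d6f65a4251003, nat_lit 0xaa0d0a3db78b922992d202ca71a981, nat_lit 0x84969899e574ec1a0eb71350061147,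 nat_lit 0x8362e495f65a2e2a86460526323147, nat_lit 0x42cc5aba707d120b2aed0c6472086c]

theorem rIn (i : Fin 21) : S24.In (Subgroup.centralizer {S24.el t2A}) (rs.getD i 0) :=
  have a : ∀ i : Fin 21, H13.band (ok24 (rs.getD i 0)) (siftC 5 24 c2ACh (rs.getD i 0)) = true := by decide +kernel
  In.of_siftC c2A_full.mem (in24 (H13.band_eq_true.1 (a i)).1) (H13.band_eq_true.1 (a i)).2

theorem zc : ∀ x ∈ S24.cl s2G, (∀ y ∈ S24.cl s2G, x * y = y * x) → x = 1 ∨ x = S24.el t2A :=
  s2_full.allT (p := fun T => H13.bor (H13.anyL (fun a => bn (Nat.beq (tm 5 24 T a) (tm 5 24 a T))) s2G)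
    (H13.bor (Nat.beq T (H13.idv 5 24)) (Nat.beq T t2A))) (fun x c h => by
      simp only [H13.bor_eq_true, H13.anyL_iff, bn_iff, Nat.beq_eq] at c
      rcases c with ⟨a, ha, c⟩ | c | c
      · rw [← (s2_in a ha).tb_el, ← tb_mul, ← tb_mul, h _ ((s2_in a ha).cl ha).el_mem] at c
        exact absurd rfl c
      · exact .inl (by rw [← el_idv (S := S24), ← c, el_tb])
      · exact .inr (by rw [← c, el_tb])) (by decide +kernel)

theorem zP : S24.el t2A ∈ S24.cl s2G := (In.of_siftC s2_full.mem in2A.sub (by decide +kernel)).el_mem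

theorem PC : S24.cl s2G ≤ Subgroup.centralizer {S24.el t2A} := cl_le fun t ht => (s2_in t ht).comm in2A.sub
  (H13.allL_iff.1 (by decide +kernel : H13.allL (fun t => Nat.beq (tm 5 24 t t2A) (tm 5 24 t2A t)) s2G = true) t ht)

theorem NP : Subgroup.normalizer (S24.cl s2G : Set M24) = S24.cl s2G := by
  have a : Subgroup.normalizer (S24.cl s2G : Set M24) ≤ Subgroup.centralizer {S24.el t2A} := fun n hn => by
    rcases zc _ ((Subgroup.mem_normalizer_iff.1 hn _).1 zP) fun y hy => by
      have := Subgroup.mem_centralizer_singleton_iff.1 (PC ((Subgroup.mem_normalizer_iff''.1 hn _).1 hy))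
      calc _ = n * (S24.el t2A * (n⁻¹ * y * n)) * n⁻¹ := by group
        _ = _ := by rw [← this]; group
      with c | c
    · have := in2A.sub.order (p := 2) (by norm_num) (by decide +kernel)
      rw [conj_eq_one_iff.1 c] at this
      simp at this
    · exact Subgroup.mem_centralizer_singleton_iff.2 (mul_inv_eq_iff_eq_mul.1 c)
  have b := cosets_le a (fun i : Fin 21 => S24.el (rs.getD i 0)) (fun i => (rIn i).el_mem) fun i j h => by
    refine ((by decide +kernel : ∀ i j : Fin 21, i = j ∨ H13.anyL (fun a => bn (siftC 5 24 s2Ch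
      (cjT 5 24 (tm 5 24 (ti 5 24 (rs.getD i 0)) (rs.getD j 0)) a))) s2G = true) i j).resolve_right fun c => ?_
    obtain ⟨a, ha, c⟩ := H13.anyL_iff.1 c
    refine s2_full.not_mem (((rIn i).top.inv.mul (rIn j).top).cj (s2_in a ha)) c ?_
    rw [((rIn i).top.inv.mul (rIn j).top).el_cjT (s2_in a ha), (rIn i).inv.el_tm (rIn j), (rIn i).el_ti]
    exact (Subgroup.mem_normalizer_iff.1 h _).1 ((s2_in a ha).cl ha).el_mem
  rw [c2A_full.card, show chN c2ACh = 21504 by decide +kernel] at b
  refine (Subgroup.eq_of_le_of_card_ge Subgroup.le_normalizer ?_).symm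
  rw [s2_full.card, show chN s2Ch = 1024 by decide +kernel]
  omega

/-- In the Mathieu group of degree 24 (realised as the automorphism group of the extended binary Golay code) every Sylow 2-subgroup is self-normalizing. -/
theorem result (S : Sylow 2 ↥Cfsg.M24) : Subgroup.normalizer ((S : Subgroup ↥Cfsg.M24) : Set ↥Cfsg.M24) = (S : Subgroup ↥Cfsg.M24) := by
  obtain ⟨g, e⟩ := sylow_eq_cj (k := 10) (m := 239085) Nat.prime_two (s2_full.card.trans (by decide +kernel)) card_M24
    (by norm_num) S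
  rw [e, ← cj_normalizer, NP]

end Cfsg.Agent.S2882
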