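import Mathlib
import Cfsg.Statements.S2934
import Cfsg.Agent.H17.AutGen
import Cfsg.Agent.H03.NPC4
import Cfsg.Agent.H04.Extraspecial
import Cfsg.Agent.H04.Amb
import Cfsg.Agent.H02.Suz6
import Cfsg.Agent.H01.KS122a
import Cfsg.Agent.H08.BaerSuzuki
import Cfsg.Agent.H26.Omega
import Cfsg.Agent.H26.CharP

set_option autoImplicit false
open Cfsg

namespace Cfsg.Agent.S2934

open Subgroup H26
open scoped commutatorElement

theorem q8_not_comm {D : Type*} [Group D] (e : D ≃* QuaternionGroup 2) : ¬ IsMulCommutative D := fun h => by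
  have h1 := h.is_comm.comm (e.symm (.a 1)) (e.symm (.xa 0))
  rw [← map_mul, ← map_mul] at h1
  exact absurd (e.symm.injective h1) (by decide)

theorem q8_card {D : Type*} [Group D] (e : D ≃* QuaternionGroup 2) : Nat.card D = 8 := by
  rw [Nat.card_congr e.toEquiv, Nat.card_eq_fintype_card, QuaternionGroup.card]

theorem q8_aut {D : Type*} [Group D] (e : D ≃* QuaternionGroup 2) : Nat.card (MulAut D) = 24 := by
  rw [Nat.card_congr ((MulAut.congr e).trans H04.q8Aut.symm).toEquiv, Nat.card_perm]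
  simp [Nat.factorial]

theorem mem_three {G : Type*} [Group G] {x y : G} (hx : orderOf x = 3) (hy : y ∈ zpowers x) :
    y = 1 ∨ y = x ∨ y = x⁻¹ := by
  obtain ⟨k, rfl⟩ := hy
  have h3 : x ^ (3 : ℤ) = 1 := by exact_mod_cast hx ▸ pow_orderOf_eq_one x
  have : k % 3 = 0 ∨ k % 3 = 1 ∨ k % 3 = 2 := by omega
  simp only
  rw [zpow_eq_zpow_emod k h3]
  rcases this with h | h | h <;> rw [h]
  · simp
  · simp
  · refine .inr (.inr (eq_inv_of_mul_eq_one_left ?_))
    rw [← zpow_add_one]; exact h3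

theorem amb {G : Type*} [Group G] [Finite G] {W E : Subgroup G} (hW : IsPGroup 2 W) {p : ℕ} [hp : Fact p.Prime]
    (hp2 : p ≠ 2) (hE : IsPGroup p E) (hab : IsMulCommutative E) (hnc : ¬ IsCyclic E)
    (hn : E ≤ normalizer (W : Set G)) (hf : E ⊓ centralizer (W : Set G) = ⊥)
    (hfix : ∀ e ∈ E, e ≠ 1 → ∀ x ∈ W, ∀ y ∈ W, orderOf x = 2 → orderOf y = 2 → x * e = e * x → y * e = e * y →
      x = y) :
    Nat.card E = 9 ∧ IsExtraspecial 2 W ∧ (Nat.card W = 2 ^ 5 ∨ Nat.card W = 2 ^ 7 ∨ Nat.card W = 2 ^ 9) ∧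
      W ⊓ centralizer (E : Set G) = W ⊓ centralizer (W : Set G) := by
  have hEc : ∀ e ∈ E, E ≤ centralizer {e} := fun e he g hg =>
    mem_centralizer_singleton_iff.2 (congrArg Subtype.val (hab.is_comm.comm ⟨g, hg⟩ ⟨e, he⟩))
  have hcop : ∀ Y ≤ W, (Nat.card E).Coprime (Nat.card Y) := fun Y hY => by
    obtain ⟨k, hk⟩ := IsPGroup.iff_card.1 hE
    obtain ⟨l, hl⟩ := IsPGroup.iff_card.1 (hW.to_le hY)
    rw [hk, hl]
    exact (((Nat.coprime_primes hp.out Nat.prime_two).2 hp2).pow_left k).pow_right l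
  have hnq : ∀ Y : Subgroup G, E ≤ normalizer (Y : Set G) → ∀ e ∈ E,
      E ≤ normalizer ((Y ⊓ centralizer {e} : Subgroup G) : Set G) := fun Y hY e he =>
    le_normalizer_inf hY ((hEc e he).trans le_normalizer)
  have hq : ∀ Y ≤ W, E ≤ normalizer (Y : Set G) → ∀ e ∈ E, e ≠ 1 → ∀ g ∈ E,
      g ∉ centralizer ((Y ⊓ centralizer {e} : Subgroup G) : Set G) →
      Nonempty ((Y ⊓ centralizer {e} : Subgroup G) ≃* QuaternionGroup 2) := fun Y hY hYn e he h1 g hg hgc => by
    obtain ⟨k, hk⟩ := hE ⟨g, hg⟩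
    refine H03.q8_of_odd_acts (hW.to_le (inf_le_left.trans hY)) (fun x hx y hy hx2 hy2 => ?_)
      (hnq Y hYn e he hg) ((((Nat.coprime_primes hp.out Nat.prime_two).2 hp2).pow_left k).coprime_dvd_left
        (orderOf_dvd_of_pow_eq_one (congrArg Subtype.val hk))) hgc
    by_cases hy1 : y = 1
    · exact hy1 ▸ one_mem _
    · rw [hfix e he h1 y (hY hy.1) x (hY hx.1) (orderOf_eq_prime hy2 hy1) hx2
        (mem_centralizer_singleton_iff.1 hy.2) (mem_centralizer_singleton_iff.1 hx.2)]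
      exact mem_zpowers x
  have hex : ∀ g ∈ E, g ≠ 1 → ∃ e ∈ E, e ≠ 1 ∧ g ∉ centralizer ((W ⊓ centralizer {e} : Subgroup G) : Set G) := by
    intro g hg h1
    by_contra h
    push Not at h
    refine h1 (mem_bot.1 (hf ▸ mem_inf.2 ⟨hg, H01.le_centralizer_of_forall_centralizer (X := zpowers g) hnc hn
      (hcop W le_rfl) (fun a ha ha1 => le_centralizer_iff.1 (zpowers_le.2 (h a ha ha1))) (mem_zpowers g)⟩))
  have hsame : ∀ e ∈ E, e ≠ 1 → ∀ g ∈ E, g ∉ centralizer ((W ⊓ centralizer {e} : Subgroup G) : Set G) →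
      ∀ y ∈ E, y ≠ 1 → y ∈ centralizer ((W ⊓ centralizer {e} : Subgroup G) : Set G) →
      W ⊓ centralizer {e} = W ⊓ centralizer {y} := fun e he h1 g hg hgc y hy hy1 hyc => by
    have h2 : W ⊓ centralizer {e} ≤ W ⊓ centralizer {y} := le_inf inf_le_left (mem_centralizer_iff_le.1 hyc)
    obtain ⟨e₁⟩ := hq W le_rfl hn e he h1 g hg hgc
    obtain ⟨e₂⟩ := hq W le_rfl hn y hy hy1 g hg fun h => hgc (centralizer_anti h2 h)
    exact eq_of_le_of_card_ge h2 (by rw [q8_card e₁, q8_card e₂])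
  have hidx : ∀ e ∈ E, e ≠ 1 → ∀ g ∈ E, g ∉ centralizer ((W ⊓ centralizer {e} : Subgroup G) : Set G) →
      p = 3 ∧ (centralizer ((W ⊓ centralizer {e} : Subgroup G) : Set G)).relIndex E = 3 := by
    intro e he h1 g hg hgc
    obtain ⟨e₁⟩ := hq W le_rfl hn e he h1 g hg hgc
    have h2 := H01.relIndex_cent_dvd (hnq W hn e he)
    rw [q8_aut e₁] at h2
    obtain ⟨k, hk⟩ := hE.index ((centralizer ((W ⊓ centralizer {e} : Subgroup G) : Set G)).subgroupOf E)
    change relIndex _ _ = _ at hk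
    rw [hk] at h2 ⊢
    have h3 : k ≠ 0 := fun h => hgc (relIndex_eq_one.1 (by simpa [h] using hk) hg)
    have h4 : p = 3 := by
      have h5 : p ∣ 2 ^ 3 * 3 := (dvd_pow_self p h3).trans h2
      rcases (Nat.Prime.dvd_mul hp.out).1 h5 with h | h
      · exact absurd ((Nat.prime_dvd_prime_iff_eq hp.out Nat.prime_two).1 (hp.out.dvd_of_dvd_pow h)) hp2
      · exact (Nat.prime_dvd_prime_iff_eq hp.out Nat.prime_three).1 h
    subst h4
    have h5 : k ≤ 1 := by
      by_contra h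
      have := (pow_dvd_pow 3 (show 2 ≤ k by omega)).trans h2
      omega
    rw [show k = 1 by omega]; simp
  obtain ⟨g, hg, hg1⟩ := (bot_or_exists_ne_one E).resolve_left fun e => hnc (e ▸ inferInstance)
  obtain ⟨a, ha, ha1, hga⟩ := hex g hg hg1
  obtain ⟨b, hb, hb1, hab'⟩ := hex a ha ha1
  obtain ⟨rfl, hia⟩ := hidx a ha ha1 g hg hga
  obtain ⟨-, hib⟩ := hidx b hb hb1 a ha hab'
  have hself : ∀ e : G, e ∈ centralizer ((W ⊓ centralizer {e} : Subgroup G) : Set G) := fun e =>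
    mem_centralizer_iff_le.2 inf_le_right
  have hBB : centralizer ((W ⊓ centralizer {b} : Subgroup G) : Set G) ⊓
      (E ⊓ centralizer ((W ⊓ centralizer {a} : Subgroup G) : Set G)) = ⊥ := by
    rw [eq_bot_iff]
    intro y hy
    by_contra h1
    refine hab' ?_
    rw [hsame b hb hb1 a ha hab' y hy.2.1 h1 hy.1, ← hsame a ha ha1 g hg hga y hy.2.1 h1 hy.2.2]
    exact hself a
  have hE9 : Nat.card E = 9 := by
    have h1 := relIndex_le_of_le_right (H := centralizer ((W ⊓ centralizer {b} : Subgroup G) : Set G))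
      (inf_le_left : E ⊓ centralizer ((W ⊓ centralizer {a} : Subgroup G) : Set G) ≤ E) (by omega)
    rw [hib, ← inf_relIndex_right, hBB, relIndex_bot_left] at h1
    have h2 := card_mul_index ((centralizer ((W ⊓ centralizer {a} : Subgroup G) : Set G)).subgroupOf E)
    change _ * relIndex _ _ = _ at h2
    rw [hia, ← inf_subgroupOf_left, card_subgroupOf inf_le_left] at h2
    have h3 := Nat.le_of_dvd Nat.card_pos (dvd_card_of_isPGroup hE.to_inf_left (fun e => ha1 (mem_bot.1 (e ▸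
      (mem_inf.2 ⟨ha, hself a⟩ : a ∈ E ⊓ centralizer ((W ⊓ centralizer {a} : Subgroup G) : Set G))))) le_rfl)
    omega
  have h3 : ∀ e ∈ E, e ^ 3 = 1 := fun e he => by
    have h1 : orderOf e ∣ 3 ^ 2 := by have := E.orderOf_dvd_natCard he; rwa [hE9] at this
    obtain ⟨i, hi, h2⟩ := (Nat.dvd_prime_pow Nat.prime_three).1 h1
    refine orderOf_dvd_iff_pow_eq_one.1 (h2 ▸ (pow_dvd_pow 3 (show i ≤ 1 from ?_)).trans (by simp))
    by_contra h4
    refine hnc (isCyclic_of_orderOf_eq_card (⟨e, he⟩ : E) ?_)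
    rw [orderOf_mk, h2, hE9, show i = 2 by omega]; norm_num
  obtain ⟨ea⟩ := hq W le_rfl hn a ha ha1 g hg hga
  have hD : Nat.card (W ⊓ centralizer (E : Set G) : Subgroup G) ≤ 2 := by
    have h1 := H02.Suz.card_modEq_fix hp.out (h3 g hg) (T := (W ⊓ centralizer {a} : Subgroup G))
      (fun y hy => (mem_normalizer_iff.1 (hnq W hn a ha hg) y).1 hy)
    have h2 : Nat.card {y | y ∈ ((W ⊓ centralizer {a} : Subgroup G) : Set G) ∧ y * g = g * y} =
        Nat.card (W ⊓ centralizer {a} ⊓ centralizer {g} : Subgroup G) :=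
      Nat.card_congr (Equiv.subtypeEquivRight fun y => by
        rw [mem_inf, mem_centralizer_singleton_iff]; rfl)
    rw [h2, SetLike.coe_sort_coe, q8_card ea] at h1
    have h4 : Nat.card (W ⊓ centralizer {a} ⊓ centralizer {g} : Subgroup G) ∣ 2 ^ 3 :=
      (card_dvd_of_le inf_le_left).trans (by rw [q8_card ea]; norm_num)
    have h5 : Nat.card (W ⊓ centralizer {a} ⊓ centralizer {g} : Subgroup G) ≠ 8 := fun e =>
      hga (mem_centralizer_iff_le.2 (inf_eq_left.1 (eq_of_le_of_card_ge inf_le_left (by rw [e, q8_card ea]))))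
    refine (card_le_of_le (K := W ⊓ centralizer {a} ⊓ centralizer {g})
      (H := W ⊓ centralizer (E : Set G)) fun y hy => ⟨⟨hy.1, mem_centralizer_singleton_iff.2 (hy.2 a ha).symm⟩,
        mem_centralizer_singleton_iff.2 (hy.2 g hg).symm⟩).trans ?_
    obtain ⟨i, hi, e⟩ := (Nat.dvd_prime_pow Nat.prime_two).1 h4
    rw [e] at h1 h5 ⊢
    interval_cases i <;> simp_all [Nat.ModEq]
  have hY : ∀ Y ≤ W, E ≤ normalizer (Y : Set G) → IsMulCommutative Y → Y ≤ W ⊓ centralizer (E : Set G) :=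
    fun Y hY hYn hc => le_inf hY (H01.le_of_centralizer_le_of_not_isCyclic hnc hYn (hcop Y hY)
      fun e he h1 => le_centralizer_iff.1 fun g hg => by
        by_contra h
        obtain ⟨e₁⟩ := hq Y hY hYn e he h1 g hg h
        exact q8_not_comm e₁ (H04.isMulCommutative_of_le hc inf_le_left))
  have hW1 : W ≠ ⊥ := fun e => hga (by simp [e])
  have hZD := hY _ inf_le_left (le_normalizer_inf hn (le_normalizer_centralizer hn)) (center_comm W)
  obtain ⟨z, hz, hz2⟩ := exists_mem_orderOf_eq (p := 2)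
    (dvd_card_of_isPGroup hW.to_inf_left (center_ne_bot hW hW1) le_rfl)
  have hzD : zpowers z = W ⊓ centralizer (E : Set G) :=
    eq_of_le_of_card_ge (zpowers_le.2 (hZD hz)) (by rwa [Nat.card_zpowers, hz2])
  have hZ : W ⊓ centralizer (W : Set G) = zpowers z := le_antisymm (hzD ▸ hZD) (zpowers_le.2 hz)
  have hsq : ∀ x ∈ W, x ^ 2 ∈ zpowers z := by
    obtain ⟨Φ, hΦ⟩ : ∃ Φ : Subgroup G, Φ = closure {y | ∃ x ∈ W, y = x ^ 2} := ⟨_, rfl⟩
    have hΦW : Φ ≤ W := hΦ ▸ (closure_le _).2 (by rintro _ ⟨x, hx, rfl⟩; exact pow_mem hx 2)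
    have hΦn : normalizer (W : Set G) ≤ normalizer (Φ : Set G) := fun k hk => by
      rw [hΦ]
      refine H08.le_normalizer_closure_of_forall (Set.toFinite _) ?_
      rintro _ ⟨x, hx, rfl⟩
      exact ⟨_, (mem_normalizer_iff.1 hk x).1 hx, conj_pow.symm⟩
    suffices h : Φ ≤ zpowers z from fun x hx => h (hΦ ▸ subset_closure ⟨x, hx, rfl⟩)
    by_contra h
    obtain ⟨u, hu, hu1, -, hu2⟩ := H04.exists_central_step' hW hΦW
      (hZ ▸ le_normalizer_inf le_normalizer (le_normalizer_centralizer le_normalizer))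
      (le_normalizer.trans hΦn) h
    refine hu1 (hzD ▸ hY _ (inf_le_left.trans hΦW) (le_normalizer_inf (hn.trans hΦn)
      (le_normalizer_centralizer (hn.trans hΦn))) (center_comm Φ) ⟨hu, ?_⟩)
    refine mem_centralizer_iff_le.2 (hΦ ▸ (closure_le _).2 ?_)
    rintro _ ⟨x, hx, rfl⟩
    have h1 := hu2 x hx
    have h2 : ⁅u, x⁆ * ⁅u, x⁆ = 1 := by
      obtain ⟨k, hk⟩ := h1
      rw [← hk, ← sq, ← zpow_natCast, ← zpow_mul, mul_comm, zpow_mul, zpow_natCast, ← hz2, pow_orderOf_eq_one,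
        one_zpow]
    have h4 := (hZ.ge h1).2 x hx
    refine mem_centralizer_singleton_iff.2 (commutatorElement_eq_one_iff_mul_comm.1 ?_).symm
    rw [show ⁅u, x ^ 2⁆ = ⁅u, x⁆ * (x * ⁅u, x⁆ * x⁻¹) by rw [sq]; group, h4, mul_inv_cancel_right, h2]
  have h : H04.AES 2 W z := ⟨hz2, hz.1, hz.2, fun x hx y hy => by
    rw [show ⁅x, y⁆ = x ^ 2 * (x⁻¹ * y) ^ 2 * (y⁻¹) ^ 2 by simp only [sq]; group]
    exact mul_mem (mul_mem (hsq _ hx) (hsq _ (mul_mem (inv_mem hx) hy))) (hsq _ (inv_mem hy)), hsq⟩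
  have hext := H04.isExtraspecial_of_aes h hZ.le fun hc => q8_not_comm ea
    (H04.isMulCommutative_of_le hc inf_le_left)
  refine ⟨hE9, hext, ?_, hzD.symm.trans hZ.symm⟩
  obtain ⟨n, hn1, hn2⟩ := H04.exists_card_of_isExtraspecial hext
  have hle : ∀ e ∈ E, zpowers z ≤ W ⊓ centralizer {e} := fun e he =>
    hzD.le.trans (inf_le_inf_left W fun y hy => mem_centralizer_singleton_iff.2 (hy e he).symm)
  have h8 : ∀ e ∈ E, e ≠ 1 → Nat.card (W ⊓ centralizer {e} : Subgroup G) ≤ 8 := fun e he h1 => by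
    by_cases h2 : E ≤ centralizer ((W ⊓ centralizer {e} : Subgroup G) : Set G)
    · exact ((card_le_of_le (le_inf inf_le_left (le_centralizer_iff.1 h2))).trans hD).trans (by norm_num)
    · obtain ⟨k, hk, hk1⟩ := SetLike.not_le_iff_exists.1 h2
      obtain ⟨e₁⟩ := hq W le_rfl hn e he h1 k hk hk1
      exact (q8_card e₁).le
  have hstep : ∀ K ≤ W, z ∈ K → ∀ e ∈ E, e ≠ 1 →
      Nat.card (K ⊔ (W ⊓ centralizer {e}) : Subgroup G) ≤ 4 * Nat.card K := fun K hK hzK e he h1 => by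
    have h2 := H02.card_sup_mul_card_inf (hK.trans (h.le_norm (D := W ⊓ centralizer {e}) inf_le_left
      (hle e he (mem_zpowers z))))
    have h4 := card_le_of_le (le_inf (zpowers_le.2 hzK) (hle e he))
    rw [Nat.card_zpowers, hz2] at h4
    have h5 := h8 e he h1
    nlinarith
  have hba : b ∉ zpowers a := fun e => hb1 (mem_bot.1 (hBB ▸ mem_inf.2 ⟨hself b, hb,
    zpowers_le.2 (hself a) e⟩))
  have hbn : b ∈ normalizer (zpowers a : Set G) := H26.centralizer_le_normalizer _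
    (by rw [centralizer_zpowers]; exact hEc a ha hb)
  have hEab : zpowers a ⊔ zpowers b = E := eq_of_le_of_card_ge (sup_le (zpowers_le.2 ha) (zpowers_le.2 hb)) (by
    rw [H04.card_sup_zpowers (p := 3) _ hbn hba (h3 b hb ▸ one_mem _), Nat.card_zpowers,
      orderOf_eq_prime (h3 a ha) ha1, hE9])
  have hcab : Commute a b := mem_centralizer_singleton_iff.1 (hEc b hb ha)
  have hab1 : a * b ≠ 1 := fun e => hba (eq_inv_of_mul_eq_one_right e ▸ inv_mem (mem_zpowers a))
  have hab2 : a⁻¹ * b ≠ 1 := fun e => hba (inv_mul_eq_one.1 e ▸ mem_zpowers a)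
  have hub : Nat.card W ≤ 2 ^ 9 := by
    have k1 := hstep _ inf_le_left (hle a ha (mem_zpowers z)) b hb hb1
    have k2 := hstep _ (sup_le inf_le_left inf_le_left) (mem_sup_left (hle a ha (mem_zpowers z)) :
      z ∈ W ⊓ centralizer {a} ⊔ W ⊓ centralizer {b}) _ (mul_mem ha hb) hab1
    have k3 := hstep _ (sup_le (sup_le inf_le_left inf_le_left) inf_le_left)
      (mem_sup_left (mem_sup_left (hle a ha (mem_zpowers z))) :
      z ∈ W ⊓ centralizer {a} ⊔ W ⊓ centralizer {b} ⊔ W ⊓ centralizer {a * b}) _ (mul_mem (inv_mem ha) hb) hab2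
    have k4 := h8 a ha ha1
    refine (card_le_of_le (H01.le_of_centralizer_le_of_not_isCyclic hnc hn (hcop W le_rfl)
      fun e he h1 => ?_)).trans (k3.trans (by omega))
    have hinv : ∀ c : G, e = c ∨ e = c⁻¹ → W ⊓ centralizer {e} ≤ W ⊓ centralizer {c} := by
      rintro c (rfl | rfl)
      · exact le_rfl
      · exact inf_le_inf_left W fun y hy => mem_centralizer_singleton_iff.2
          (Commute.inv_right_iff.1 (mem_centralizer_singleton_iff.1 hy))
    obtain ⟨s, hs, t, ht, rfl⟩ := (mem_sup_of_le_normalizer' (zpowers_le.2 hbn)).1 (hEab ▸ he)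
    rcases mem_three (orderOf_eq_prime (h3 a ha) ha1) hs with rfl | rfl | rfl <;>
      rcases mem_three (orderOf_eq_prime (h3 b hb) hb1) ht with rfl | rfl | rfl
    · simp at h1
    · exact (hinv _ (.inl (one_mul _))).trans (le_sup_of_le_left (le_sup_of_le_left le_sup_right))
    · exact (hinv _ (.inr (one_mul _))).trans (le_sup_of_le_left (le_sup_of_le_left le_sup_right))
    · exact (hinv _ (.inl (mul_one _))).trans (le_sup_of_le_left (le_sup_of_le_left le_sup_left))
    · exact (hinv _ (.inl rfl)).trans (le_sup_of_le_left le_sup_right)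
    · exact (hinv _ (.inr (by rw [mul_inv_rev, inv_inv, hcab.inv_right.eq]))).trans le_sup_right
    · exact (hinv _ (.inr (mul_one _))).trans (le_sup_of_le_left (le_sup_of_le_left le_sup_left))
    · exact (hinv _ (.inl rfl)).trans le_sup_right
    · exact (hinv _ (.inr (by rw [mul_inv_rev, hcab.inv_inv.eq]))).trans (le_sup_of_le_left le_sup_right)
  have hlb : Nat.card W ≠ 8 := fun e => ha1 (mem_bot.1 (hf ▸ mem_inf.2 ⟨ha, mem_centralizer_iff_le.2
    (inf_eq_left.1 (eq_of_le_of_card_ge inf_le_left (by rw [e, q8_card ea])))⟩))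
  rw [hn2] at hub hlb ⊢
  have h9 := (Nat.pow_le_pow_iff_right (by norm_num)).1 hub
  have h10 : n ≠ 1 := fun e => hlb (by simp [e])
  have : n = 2 ∨ n = 3 ∨ n = 4 := by omega
  rcases this with rfl | rfl | rfl <;> simp

/-- Let p be an odd prime, W a finite 2-group and E a non-cyclic abelian p-subgroup of Aut(W) such that, for every nontrivial e ∈ E, the fixed points of e in W contain at most one involution. Then E has order 9, W is extraspecial of order 2⁵, 2⁷ or 2⁹, and the common fixed points of E in W form exactly the centre Z(W). -/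
theorem result {W : Type*} [Group W] [Finite W] (hW : IsPGroup 2 W) {p : ℕ} [Fact p.Prime] (hp : p ≠ 2) (E : Subgroup (MulAut W)) (hE : IsPGroup p ↥E) (hab : IsMulCommutative ↥E) (hnc : ¬ IsCyclic ↥E) (hfix : ∀ e ∈ E, e ≠ 1 → ∀ x y : W, orderOf x = 2 → orderOf y = 2 → e x = x → e y = y → x = y) : Nat.card ↥E = 9 ∧ Cfsg.IsExtraspecial 2 W ∧ (Nat.card W = 2 ^ 5 ∨ Nat.card W = 2 ^ 7 ∨ Nat.card W = 2 ^ 9) ∧ {x : W | ∀ e ∈ E, e x = x} = (Subgroup.center W : Set W) := by
  have hi : Function.Injective (SemidirectProduct.inl : W →* H24.Hol W) := SemidirectProduct.inl_injective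
  have hr : Function.Injective (SemidirectProduct.inr : MulAut W →* H24.Hol W) := SemidirectProduct.inr_injective
  have hcm : ∀ (e : MulAut W) (x : W), (SemidirectProduct.inl x * SemidirectProduct.inr e : H24.Hol W) =
      SemidirectProduct.inr e * SemidirectProduct.inl x ↔ e x = x := fun e x => by
    rw [eq_comm, ← mul_inv_eq_iff_eq_mul, H17.hol_conj', hi.eq_iff]
  have eW : W ≃* (⊤ : Subgroup W).map SemidirectProduct.inl := topEquiv.symm.trans (equivMapOfInjective _ _ hi)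
  have eE := equivMapOfInjective E _ hr
  obtain ⟨h1, h2, h3, h4⟩ := amb (W := (⊤ : Subgroup W).map SemidirectProduct.inl)
    (E := E.map SemidirectProduct.inr) (hW.of_equiv eW) hp (hE.map _) inferInstance
    (fun h => hnc (isCyclic_of_surjective _ eE.symm.surjective)) (H17.hol_norm fun _ _ _ _ => trivial) (by
      rw [eq_bot_iff]
      rintro _ ⟨⟨e, -, rfl⟩, h⟩
      rw [show e = 1 from MulEquiv.ext fun x => (hcm e x).1 (h _ ⟨x, trivial, rfl⟩), map_one]
      exact one_mem _) (by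
      rintro _ ⟨e, he, rfl⟩ h1 _ ⟨x, -, rfl⟩ _ ⟨y, -, rfl⟩ hx hy h2 h3
      rw [hfix e he (fun h => h1 (by rw [h, map_one])) x y (by rwa [orderOf_injective _ hi] at hx)
        (by rwa [orderOf_injective _ hi] at hy) ((hcm e x).1 h2) ((hcm e y).1 h3)])
  refine ⟨(Nat.card_congr eE.toEquiv).trans h1, ?_, by rwa [Nat.card_congr eW.toEquiv], ?_⟩
  · obtain ⟨z, h5, h6, h7⟩ := H04.exists_aes_of_isExtraspecial h2
    have h8 := h5.map eW.symm.toMonoidHom eW.symm.injective
    rw [map_top_of_surjective _ eW.symm.surjective] at h8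
    refine H04.isExtraspecial_of_aes_top h8 (fun y hy => ?_) fun h => h7 ⟨⟨fun a b => eW.symm.injective (by
      rw [map_mul, map_mul, h.is_comm.comm])⟩⟩
    obtain ⟨k, hk⟩ : eW y ∈ zpowers z := h6 ▸ mem_center_iff.2 fun g => eW.symm.injective (by
      simp [mem_center_iff.1 hy])
    exact ⟨k, eW.injective (by simpa using hk)⟩
  · ext x
    have h5 := SetLike.ext_iff.1 h4 (SemidirectProduct.inl x)
    constructor
    · intro h
      have h6 := (h5.1 ⟨⟨x, trivial, rfl⟩, by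
        rintro _ ⟨e, he, rfl⟩; exact ((hcm e x).2 (h e he)).symm⟩).2
      exact mem_center_iff.2 fun g => hi (by rw [map_mul, map_mul]; exact h6 _ ⟨g, trivial, rfl⟩)
    · intro h e he
      exact (hcm e x).1 ((h5.2 ⟨⟨x, trivial, rfl⟩, by
        rintro _ ⟨g, -, rfl⟩; rw [← map_mul, ← map_mul, mem_center_iff.1 h g]⟩).2 _ ⟨e, he, rfl⟩).symm

end Cfsg.Agent.S2934
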