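import Mathlib
import Cfsg.Statements.S2968
import Cfsg.Agent.H08.IsoElt

set_option autoImplicit false
open Cfsg

namespace Cfsg.Agent.S2968

/-- Let G be a finite group, p a prime, P a Sylow p-subgroup of G and x ∈ P an element of p-power order which is isolated in G (the only conjugate of x commuting with x is x itself). Then x lies in the centre of P, and the subgroup generated by x is both strongly closed and weakly closed in P with respect to G. -/
theorem result {G : Type*} [Group G] [Finite G] {p : ℕ} [Fact p.Prime] (P : Sylow p G) (x : G) (hxP : x ∈ (P : Subgroup G)) (hx : ∃ k : ℕ, orderOf x = p ^ k) (hiso : Cfsg.IsIsolated x) : x ∈ (P : Subgroup G) ⊓ Subgroup.centralizer ((P : Subgroup G) : Set G) ∧ Cfsg.IsStronglyClosed (Subgroup.zpowers x) (P : Subgroup G) ∧ Cfsg.IsWeaklyClosed (Subgroup.zpowers x) (P : Subgroup G) := by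
  have hp := H21.isPGroup_zpowers hx
  have hc : ∀ y ∈ (P : Subgroup G), Commute y x := fun y hy =>
    H08.IsoP.commute_of_mem_normalizer hiso P.2 hxP (Subgroup.le_normalizer hy)
  have hs : Cfsg.IsStronglyClosed (Subgroup.zpowers x) (P : Subgroup G) := by
    refine ⟨Subgroup.zpowers_le.2 hxP, ?_⟩
    rintro _ ⟨k, rfl⟩ g hg
    rw [H08.IsoP.eq_of_mem_pgroup (H08.IsoP.zpow hiso hp k) P.2 (Subgroup.zpow_mem _ hxP k)
      (H08.isConj_conj g _) hg]
    exact ⟨k, rfl⟩
  refine ⟨⟨hxP, hc⟩, hs, H03.isWeaklyClosed_iff.2 ⟨hs.1, fun g hg => ?_⟩⟩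
  exact Subgroup.mem_normalizer_fintype fun y hy => hs.2 y hy g (hg y hy)

end Cfsg.Agent.S2968
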