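import Mathlib
import Cfsg.Statements.S2969
import Cfsg.Agent.H08.IsoElt

set_option autoImplicit false
open Cfsg

namespace Cfsg.Agent.S2969

/-- Let G be a finite group, p a prime and x ∈ G an element of p-power order which is isolated in G. If R is a p-subgroup of G containing x, then N_G(R) ≤ C_G(x); in particular x lies in the centre of R. Moreover, if x lies in a normal subgroup N of a subgroup H of G, then H = N·C_H(x). -/
theorem result {G : Type*} [Group G] [Finite G] {p : ℕ} [Fact p.Prime] (x : G) (hx : ∃ k : ℕ, orderOf x = p ^ k) (hiso : Cfsg.IsIsolated x) : (∀ R : Subgroup G, IsPGroup p ↥R → x ∈ R → Subgroup.normalizer (R : Set G) ≤ Subgroup.centralizer ({x} : Set G)) ∧ (∀ H N : Subgroup G, N ≤ H → H ≤ Subgroup.normalizer (N : Set G) → x ∈ N → N ⊔ (H ⊓ Subgroup.centralizer ({x} : Set G)) = H) := by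
  have hp := H21.isPGroup_zpowers hx
  refine ⟨fun R hR hxR g hg => H08.mem_centralizer_singleton_commute.2
    (H08.IsoP.commute_of_mem_normalizer hiso hR hxR hg), fun H N hNH hHN hxN => ?_⟩
  refine le_antisymm (sup_le hNH inf_le_left) fun g hg => ?_
  obtain ⟨c, hc, h⟩ := H08.IsoP.exists_conj_eq hiso hp hxN (H08.isConj_conj g x)
    (H03.conj_mem_of_mem_normalizer (hHN hg) hxN)
  have h1 : c * g ∈ H ⊓ Subgroup.centralizer ({x} : Set G) :=
    ⟨mul_mem (hNH hc) hg, H08.mem_centralizer_singleton'.2 (by simpa [mul_assoc] using h)⟩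
  simpa using mul_mem (Subgroup.mem_sup_left (inv_mem hc) : _ ∈ N ⊔ (H ⊓ Subgroup.centralizer ({x} : Set G)))
    (Subgroup.mem_sup_right h1)

end Cfsg.Agent.S2969
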