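import Mathlib
import Cfsg.Statements.S2971
import Cfsg.Agent.H08.IsoElt
import Cfsg.Agent.H01.BG1
import Cfsg.Agent.H03.Frobenius
import Cfsg.Agent.H04.Metacyclic

set_option autoImplicit false
open Cfsg

namespace Cfsg.Agent.S2971

/-- Let G be a finite group and p an odd prime such that G has p-rank at most 1 (no elementary abelian subgroup of order p²). If x ∈ G is an isolated element of order p, then x is central modulo the largest normal subgroup of G of order prime to p. -/
theorem result {G : Type*} [Group G] [Finite G] {p : ℕ} [Fact p.Prime] (hp : p ≠ 2) (hrk : Cfsg.PRankLE p 1 G) (x : G) (hx : orderOf x = p) (hiso : Cfsg.IsIsolated x) : Cfsg.InZStar p x := by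
  have hp' := H08.isPGroup_zpowers_of_orderOf hx
  obtain ⟨P, hP⟩ := hp'.exists_le_sylow
  have hxP := hP (Subgroup.mem_zpowers x)
  have hc : ∀ y ∈ (P : Subgroup G), Commute y x := fun y hy =>
    H08.IsoP.commute_of_mem_normalizer hiso P.2 hxP (Subgroup.le_normalizer hy)
  have hxp : x ^ p = 1 := hx ▸ pow_orderOf_eq_one x
  have key : ∀ y ∈ (P : Subgroup G), y ^ p = 1 → Subgroup.zpowers x ⊔ Subgroup.zpowers y = Subgroup.zpowers x := by
    intro y hy hyp
    have hcomm : IsMulCommutative (Subgroup.zpowers x ⊔ Subgroup.zpowers y : Subgroup G) :=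
      H04.isMulCommutative_sup_zpowers inferInstance (H04.mem_centralizer_zpowers_iff.2 (hc y hy).symm)
    refine (Subgroup.eq_of_le_of_card_ge le_sup_left ?_).symm
    rw [Nat.card_zpowers, hx]
    refine le_of_le_of_eq (hrk _ hcomm fun a ha => ?_) (pow_one p)
    rw [← SetLike.mem_coe, Subgroup.coe_mul_of_left_le_normalizer_right _ _
      (le_trans (Subgroup.zpowers_le.2 (H04.mem_centralizer_zpowers_iff.2 (hc y hy)))
        (Subgroup.centralizer_le_normalizer _))] at ha
    obtain ⟨_, ⟨i, rfl⟩, _, ⟨j, rfl⟩, rfl⟩ := ha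
    simp only
    rw [((hc y hy).symm.zpow_zpow i j).mul_pow, ← zpow_natCast, ← zpow_natCast, ← zpow_mul, ← zpow_mul,
      mul_comm i, mul_comm j, zpow_mul, zpow_mul, zpow_natCast, zpow_natCast, hxp, hyp]
    simp
  have hN : HasNormalPComplement p G := by
    refine H03.hasNPC_of_local P fun D hD hD1 g hg hgc => ?_
    have hDp := P.2.to_le hD
    have hxD : x ∈ D := by
      haveI := (Subgroup.nontrivial_iff_ne_bot D).2 hD1
      obtain ⟨k, hk, hk'⟩ := hDp.nontrivial_iff_card.1 inferInstance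
      obtain ⟨y, hy⟩ := exists_prime_orderOf_dvd_card' (G := D) p (hk' ▸ dvd_pow_self p hk.ne')
      have hy' : orderOf (y : G) = p := by rw [Subgroup.orderOf_coe, hy]
      have h1 := key y (hD y.2) (hy' ▸ pow_orderOf_eq_one _)
      have h2 : Subgroup.zpowers (y : G) = Subgroup.zpowers x :=
        Subgroup.eq_of_le_of_card_ge (h1 ▸ le_sup_right) (by rw [Nat.card_zpowers, Nat.card_zpowers, hx, hy'])
      exact Subgroup.zpowers_le.2 y.2 (h2 ▸ Subgroup.mem_zpowers x)
    refine H01.le_centralizer_of_omegaOne (A := Subgroup.zpowers g) hp (Subgroup.zpowers_le.2 hg) ?_ hDp ?_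
      (Subgroup.mem_zpowers g)
    · exact (H02.coprime_card_of_isPGroup hDp (by rwa [Nat.card_zpowers])).symm
    · refine Subgroup.le_centralizer_iff.1 (H04.omegaOne_le_iff.2 fun y hy hyp => ?_)
      obtain ⟨k, rfl⟩ : y ∈ Subgroup.zpowers x := key y (hD hy) hyp ▸ Subgroup.mem_sup_right (Subgroup.mem_zpowers y)
      exact H04.mem_centralizer_zpowers_iff.2
        ((H08.IsoP.commute_of_mem_normalizer hiso hDp hxD hg).zpow_right k)
  intro g
  obtain ⟨⟨⟨o, ho⟩, ⟨y, hy⟩⟩, rfl⟩ := (H03.HasNPC.isComplement' hN P).2 g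
  rw [H03.HasNPC.pResidual_eq_pPrimeCore hN] at ho
  have := mul_mem ho (Subgroup.Normal.conj_mem inferInstance _ (inv_mem ho) x)
  convert this using 1
  calc o * y * x * (o * y)⁻¹ * x⁻¹ = o * (y * x * y⁻¹) * o⁻¹ * x⁻¹ := by group
    _ = _ := by rw [(hc y hy).eq]; group

end Cfsg.Agent.S2971
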