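import Mathlib
import Cfsg.Statements.S2972
import Cfsg.Agent.H08.IsoElt

set_option autoImplicit false
open Cfsg

namespace Cfsg.Agent.S2972

theorem core {G : Type*} [Group G] [Finite G] {p : ℕ} [Fact p.Prime] (x : G) (hx : orderOf x = p) (hiso : Cfsg.IsIsolated x) (hnz : ¬ Cfsg.InZStar p x) (hmin : ∀ (H : Subgroup G) (hxH : x ∈ H), H ≠ ⊤ → Cfsg.InZStar p (⟨x, hxH⟩ : ↥H)) (hquot : ∀ (N : Subgroup G) [N.Normal], N ≠ ⊥ → Cfsg.InZStar p (QuotientGroup.mk x : G ⧸ N)) :
    pPrimeCore p G = ⊥ ∧ (∀ N : Subgroup G, N.Normal → N ≠ ⊥ → Subgroup.zpowers x ⊔ N = ⊤) ∧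
      ¬ IsPGroup p G := by
  have hO : pPrimeCore p G = ⊥ := by
    by_contra h
    exact hnz (H08.inZStar_of_quotient (hquot _ h))
  have hnc : x ∉ Subgroup.center G := fun h => hnz fun g => by
    rw [Subgroup.mem_center_iff.1 h g]; simp
  have hcen : ∀ N : Subgroup G, N.Normal → Subgroup.zpowers x ⊔ N ≠ ⊤ → ∀ n ∈ N, Commute n x := by
    intro N hN hne n hn
    have h1 := hmin _ (Subgroup.mem_sup_left (Subgroup.mem_zpowers x)) hne ⟨n, Subgroup.mem_sup_right hn⟩
    have h2 := H02.pPrimeCoreOf_inf_le (p := p) (le_sup_right : N ≤ Subgroup.zpowers x ⊔ N)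
      ⟨⟨_, h1, rfl⟩, by simpa [mul_assoc] using mul_mem hn (hN.conj_mem _ (inv_mem hn) x)⟩
    have h3 := H02.pPrimeCoreOf_le_pPrimeCore N h2
    rw [hO, Subgroup.mem_bot] at h3
    exact mul_inv_eq_iff_eq_mul.1 (mul_inv_eq_one.1 h3)
  have hK : Subgroup.normalClosure {x} = ⊤ := by
    by_contra h
    have hxK : x ∈ Subgroup.normalClosure ({x} : Set G) := Subgroup.subset_normalClosure (Set.mem_singleton x)
    refine hnc (Subgroup.mem_center_iff.2 fun g => mul_inv_eq_iff_eq_mul.1 (hiso g (hcen (Subgroup.normalClosure {x})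
      inferInstance ?_ _ (Subgroup.Normal.conj_mem inferInstance _ hxK g)).symm))
    rwa [sup_eq_right.2 (Subgroup.zpowers_le.2 hxK)]
  refine ⟨hO, fun N hN hN1 => ?_, fun h => hnc (Subgroup.mem_center_iff.2 fun g =>
    H08.IsoP.commute_of_mem_normalizer hiso (h.to_subgroup ⊤) trivial (Subgroup.le_normalizer trivial))⟩
  by_contra hne
  refine hnc (H08.mem_center_of_quotient hO hiso N ?_ (hquot N hN1))
  have : Subgroup.normalClosure {x} ≤ Subgroup.centralizer (N : Set G) :=
    Subgroup.normalClosure_le_normal (Set.singleton_subset_iff.2 (hcen N hN hne))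
  rw [hK] at this
  exact fun n hn => Subgroup.mem_center_iff.2 fun g => (this (Subgroup.mem_top g) n hn).symm

theorem commutator_le {G : Type*} [Group G] {x : G} (N : Subgroup G) [N.Normal]
    (h : Subgroup.zpowers x ⊔ N = ⊤) : commutator G ≤ N := by
  refine le_trans ?_ (QuotientGroup.ker_mk' N).le
  rw [commutator_def, ← h, ← Subgroup.map_eq_bot_iff, Subgroup.map_commutator, Subgroup.map_sup,
      (Subgroup.map_eq_bot_iff N).2 (QuotientGroup.ker_mk' N).ge, sup_bot_eq, MonoidHom.map_zpowers,
      Subgroup.commutator_eq_bot_iff_le_centralizer]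
  exact Subgroup.le_centralizer _

/-- Let G be a finite group, p a prime and x ∈ G an isolated element of order p (the only conjugate of x commuting with x is x) which is not central modulo the largest normal subgroup of order prime to p, while x is central modulo the largest normal subgroup of order prime to p in every proper subgroup containing x, and the image of x is so in every quotient of G by a nontrivial normal subgroup (a minimal counterexample to the Z*_p statement). Then the derived subgroup G' is a non-abelian simple group and G = G'⟨x⟩. -/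
theorem result {G : Type*} [Group G] [Finite G] {p : ℕ} [Fact p.Prime] (x : G) (hx : orderOf x = p) (hiso : Cfsg.IsIsolated x) (hnz : ¬ Cfsg.InZStar p x) (hmin : ∀ (H : Subgroup G) (hxH : x ∈ H), H ≠ ⊤ → Cfsg.InZStar p (⟨x, hxH⟩ : ↥H)) (hquot : ∀ (N : Subgroup G) [N.Normal], N ≠ ⊥ → Cfsg.InZStar p (QuotientGroup.mk x : G ⧸ N)) : IsSimpleGroup ↥(commutator G) ∧ ¬ IsMulCommutative ↥(commutator G) ∧ commutator G ⊔ Subgroup.zpowers x = ⊤ := by
  obtain ⟨hO, hN, hG⟩ := core x hx hiso hnz hmin hquot
  have hp' := H08.isPGroup_zpowers_of_orderOf hx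
  have h1 : commutator G ≠ ⊥ := fun h => hnz fun g => by
    have : g * x * g⁻¹ * x⁻¹ ∈ commutator G :=
      Subgroup.commutator_mem_commutator (Subgroup.mem_top g) (Subgroup.mem_top x)
    rw [h, Subgroup.mem_bot] at this
    rw [this]; exact one_mem _
  have htop := hN _ inferInstance h1
  have hsimple : IsSimpleGroup (commutator G) := by
    haveI := (Subgroup.nontrivial_iff_ne_bot _).2 h1
    obtain ⟨L, hL, hL1, hLm⟩ := H02.exists_minimal_normal (G := commutator G)
    suffices L = ⊤ from ⟨fun M hM => by simpa [this] using hLm M hM (this ▸ le_top)⟩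
    -- `x` normalizes `L`
    have hpL : p ∣ Nat.card L := by
      by_contra h
      have h2 := Subgroup.map_mono (f := (commutator G).subtype)
        (H02.le_pPrimeCore (H03.coprime_iff_not_dvd.2 h))
      have h3 := h2.trans (H02.pPrimeCoreOf_le_pPrimeCore (commutator G))
      rw [hO, le_bot_iff, Subgroup.map_eq_bot_iff_of_injective _ (Subgroup.subtype_injective _)] at h3
      exact hL1 h3
    obtain ⟨y, hy⟩ := exists_prime_orderOf_dvd_card' (G := L) p hpL
    obtain ⟨P, hP⟩ := hp'.exists_le_sylow
    have hy' : orderOf ((y : commutator G) : G) = p := by rw [Subgroup.orderOf_coe, Subgroup.orderOf_coe, hy]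
    obtain ⟨c, hc, hcy⟩ := H03.exists_conj_mem_of_not_dvd_relIndex (P.2) (H03.not_dvd_relIndex_inf_normal P
      (commutator G)) (H08.isPGroup_zpowers_of_orderOf hy') (Subgroup.zpowers_le.2 (y : commutator G).2)
    let w : commutator G := ⟨c, hc⟩ * y * ⟨c, hc⟩⁻¹
    have hwL : w ∈ L := hL.conj_mem _ y.2 _
    have hwx : x * w * x⁻¹ = w := mul_inv_eq_iff_eq_mul.2 (H08.IsoP.commute_of_mem_normalizer hiso P.2
      (hP (Subgroup.mem_zpowers x)) (Subgroup.le_normalizer (hcy _ (Subgroup.mem_zpowers _)))).symm
    have hw1 : w ≠ 1 := fun h => by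
      have : (y : commutator G) = 1 := conj_eq_one_iff.1 h
      rw [this, OneMemClass.coe_one, orderOf_one] at hy'
      exact (Fact.out : p.Prime).one_lt.ne hy'
    let φ := MulAut.conjNormal (H := commutator G) x
    have hφ : L ≤ L.comap φ.toMonoidHom := by
      rcases hLm (L ⊓ L.comap φ.toMonoidHom) inferInstance inf_le_left with h | h
      · refine absurd (h.le ⟨hwL, ?_⟩) hw1
        have : φ w = w := Subtype.ext hwx
        simpa [this] using hwL
      · exact h.ge.trans inf_le_right
    have hn : (L.map (commutator G).subtype).Normal := by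
      refine H02.normal_of_normalizer_of_sup ?_ (H02.le_normalizer_map_subtype L) htop
      refine Subgroup.zpowers_le.2 (Subgroup.mem_normalizer_fintype ?_)
      rintro _ ⟨l, hl, rfl⟩
      exact ⟨φ l, hφ hl, rfl⟩
    have h4 := commutator_le _ (hN _ hn (by
      rwa [Ne, Subgroup.map_eq_bot_iff_of_injective _ (Subgroup.subtype_injective _)]))
    refine eq_top_iff.2 fun l _ => ?_
    obtain ⟨l', hl', e⟩ := h4 l.2
    rwa [← Subtype.ext e]
  refine ⟨hsimple, fun hc => hG ?_, by rw [sup_comm, htop]⟩
  have hprime : (Nat.card (commutator G)).Prime := by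
    letI : CommGroup (commutator G) := { mul_comm := hc.is_comm.comm }
    exact IsSimpleGroup.prime_card
  have hq : Nat.card (commutator G) = p := by
    by_contra h
    have := H02.le_pPrimeCore (N := commutator G) ((Nat.coprime_primes hprime Fact.out).2 h)
    rw [hO, le_bot_iff] at this
    exact h1 this
  have := hp'.to_sup_of_normal_right (IsPGroup.of_card (n := 1) (by rw [hq, pow_one]))
  rw [htop] at this
  exact this.of_equiv Subgroup.topEquiv

end Cfsg.Agent.S2972
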