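import Mathlib
import Cfsg.Statements.S2975
import Cfsg.Agent.H08.IsoElt
import Cfsg.Agent.S2972

set_option autoImplicit false
open Cfsg

namespace Cfsg.Agent.S2975

/-- Let G be a finite group, p a prime and x ∈ G an isolated element of order p (the only conjugate of x commuting with x is x) which is not central modulo the largest normal subgroup of order prime to p, while x is central modulo the largest normal subgroup of order prime to p in every proper subgroup containing x, and the image of x is so in every quotient of G by a nontrivial normal subgroup (a minimal counterexample to the Z*_p statement). Then for every prime q, every q-subgroup of G that is normalized by x and maximal among the q-subgroups normalized by x is either trivial or a Sylow q-subgroup of G; and C_G(x) permutes the x-invariant Sylow q-subgroups of G transitively by conjugation. -/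
theorem result {G : Type*} [Group G] [Finite G] {p : ℕ} [Fact p.Prime] (x : G) (hx : orderOf x = p) (hiso : Cfsg.IsIsolated x) (hnz : ¬ Cfsg.InZStar p x) (hmin : ∀ (H : Subgroup G) (hxH : x ∈ H), H ≠ ⊤ → Cfsg.InZStar p (⟨x, hxH⟩ : ↥H)) (hquot : ∀ (N : Subgroup G) [N.Normal], N ≠ ⊥ → Cfsg.InZStar p (QuotientGroup.mk x : G ⧸ N)) (q : ℕ) [Fact q.Prime] : (∀ Q : Subgroup G, IsPGroup q ↥Q → x ∈ Subgroup.normalizer (Q : Set G) → (∀ R : Subgroup G, IsPGroup q ↥R → x ∈ Subgroup.normalizer (R : Set G) → Q ≤ R → R = Q) → Q = ⊥ ∨ ∃ S : Sylow q G, (S : Subgroup G) = Q) ∧ (∀ S₁ S₂ : Sylow q G, x ∈ Subgroup.normalizer ((S₁ : Subgroup G) : Set G) → x ∈ Subgroup.normalizer ((S₂ : Subgroup G) : Set G) → ∃ c ∈ Subgroup.centralizer ({x} : Set G), (S₁ : Subgroup G).map (MulAut.conj c).toMonoidHom = (S₂ : Subgroup G)) := by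
  have hp' := H08.isPGroup_zpowers_of_orderOf hx
  refine ⟨fun Q hQ hxQ hmax => ?_, fun S₁ S₂ h1 h2 => ?_⟩
  · by_cases hQ1 : Q = ⊥
    · exact Or.inl hQ1
    refine Or.inr (H08.InZ.sylow_of_maximal hp' hQ hxQ (hmin _ hxQ fun h => ?_) hmax)
    haveI := Subgroup.normalizer_eq_top_iff.1 h
    obtain ⟨hs, hc, -⟩ := Cfsg.Agent.S2972.result x hx hiso hnz hmin hquot
    have h3 := Cfsg.Agent.S2972.commutator_le Q ((Cfsg.Agent.S2972.core x hx hiso hnz hmin hquot).2.1 Q this hQ1)
    haveI := (hQ.to_le h3).isNilpotent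
    exact hc ⟨⟨IsSimpleGroup.comm_iff_isSolvable.2 inferInstance⟩⟩
  · obtain ⟨g, rfl⟩ := MulAction.exists_smul_eq G S₁ S₂
    obtain ⟨c, hc, h⟩ := H08.IsoP.exists_conj_eq hiso hp' h2 (H08.isConj_conj g x) (by
      rw [H03.coe_smul_sylow, H03.normalizer_map_conj]; exact H03.conj_mem_map_conj g h1)
    refine ⟨c * g, H08.mem_centralizer_singleton'.2 (by simpa [mul_assoc] using h), ?_⟩
    rw [← H03.map_conj_map_conj, ← H03.coe_smul_sylow, H03.map_conj_eq_iff_mem_normalizer.2 hc]

end Cfsg.Agent.S2975
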