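import Mathlib
import Cfsg.Statements.S3043
import Cfsg.Agent.H17.TI2

set_option autoImplicit false
open Cfsg

namespace Cfsg.Agent.S3043

/-- Let M be a nontrivial subgroup of a finite group G meeting each of its other conjugates trivially, with N_G(M) = M · C_{N_G(M)}(z) for some involution z ∈ N_G(M), and with C_G(x) of odd order for every nontrivial x ∈ M. Then one of the following holds: M is normal in G; the number of involutions of G is at most |G : M|; G is isomorphic to PGL₂(F) or to PSL₂(F) for a finite field F with |F| = |M|, M is an elementary abelian p-group for the characteristic p of F, and |F| ≡ 1 (mod 4) in the PSL₂ case; G is isomorphic to PSL₂(F) with |F| = 2^e, e > 1, and M is cyclic of order 2^e + 1; or for some d ≥ 1, G has an elementary abelian normal subgroup of order 2^{2d} complemented by N_G(M), and N_G(M) is dihedral of order 2(2^d + 1). -/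
theorem result {G : Type*} [Group G] [Finite G] (M : Subgroup G) (hM1 : M ≠ ⊥)
    (hTI : ∀ g : G, M ⊓ M.map (MulAut.conj g).toMonoidHom ≠ ⊥ → M.map (MulAut.conj g).toMonoidHom = M)
    (z : G) (hz : orderOf z = 2) (hzN : z ∈ Subgroup.normalizer (M : Set G))
    (hfac : M ⊔ (Subgroup.normalizer (M : Set G) ⊓ Subgroup.centralizer ({z} : Set G)) = Subgroup.normalizer (M : Set G))
    (hodd : ∀ x ∈ M, x ≠ 1 → Odd (Nat.card ↥(Subgroup.centralizer ({x} : Set G)))) :
    M.Normal ∨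
    Nat.card {g : G // orderOf g = 2} ≤ M.index ∨
    (∃ (F : Type) (_ : Field F) (_ : Fintype F) (p : ℕ) (_ : Fact p.Prime) (_ : CharP F p), Fintype.card F = Nat.card M ∧ Cfsg.IsElementaryAbelian p M ∧
        (Nonempty (G ≃* (GL (Fin 2) F ⧸ Subgroup.center (GL (Fin 2) F))) ∨
         (Fintype.card F % 4 = 1 ∧ Nonempty (G ≃* Matrix.ProjectiveSpecialLinearGroup (Fin 2) F)))) ∨
    (∃ (F : Type) (_ : Field F) (_ : Fintype F) (e : ℕ), 1 < e ∧ Fintype.card F = 2 ^ e ∧ IsCyclic ↥M ∧ Nat.card M = 2 ^ e + 1 ∧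
        Nonempty (G ≃* Matrix.ProjectiveSpecialLinearGroup (Fin 2) F)) ∨
    (∃ (d : ℕ) (E : Subgroup G), 1 ≤ d ∧ E.Normal ∧ Cfsg.IsElementaryAbelian 2 E ∧ Nat.card E = 2 ^ (2 * d) ∧
        E ⊓ Subgroup.normalizer (M : Set G) = ⊥ ∧ E ⊔ Subgroup.normalizer (M : Set G) = ⊤ ∧
        Nonempty (↥(Subgroup.normalizer (M : Set G)) ≃* DihedralGroup (2 ^ d + 1))) := by
  open Subgroup H17.TI in
  by_cases hn : normalizer (M : Set G) = ⊤
  · exact Or.inl (normalizer_eq_top_iff.1 hn)
  by_cases hb : Nat.card {g : G // orderOf g = 2} ≤ M.index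
  · exact Or.inr (Or.inl hb)
  have h : Hyp M z := by
    refine ⟨hM1, fun g x hx x1 e => ?_, (ord2.1 hz).1, (ord2.1 hz).2, hzN, fun n hn => ?_,
      fun x hx x1 s s2 e => ?_, not_le.1 hb⟩
    · have := hTI g (ne_bot_iff_exists_ne_one.2 ⟨⟨g * x * g⁻¹, e, x, hx, rfl⟩, fun e => x1 (by
        simpa using congrArg Subtype.val e)⟩)
      refine mem_normalizer_iff.2 fun y => ⟨fun hy => this ▸ ⟨y, hy, rfl⟩, fun hy => ?_⟩
      rw [← this] at hy
      obtain ⟨w, hw, e⟩ := hy
      rwa [← show w = y by simpa using e]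
    · rw [← hfac, ← SetLike.mem_coe, coe_mul_of_right_le_normalizer_left _ _ inf_le_left] at hn
      obtain ⟨m, hm, a, ha, rfl⟩ := hn
      exact ⟨m, hm, a, mem_centralizer_singleton_iff.1 ha.2, rfl⟩
    · exact orderOf_eq_one_iff.1 (Nat.eq_one_of_dvd_coprimes (Nat.coprime_two_left.2 (hodd x hx x1))
        (orderOf_dvd_of_pow_eq_one (by rw [sq, s2])) (orderOf_dvd_natCard _ (mem_centralizer_singleton_iff.2 e)))
  obtain ⟨g, hg⟩ : ∃ g, g ∉ normalizer (M : Set G) := by
    by_contra! hc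
    exact hn (eq_top_iff.2 fun g _ => hc g)
  obtain ⟨-, -, c, hc, ec, -⟩ := h.dec hg
  by_cases hk : ∀ d, d ∉ normalizer (M : Set G) → d * z = z * d → c * d ∈ normalizer (M : Set G)
  · exact Or.inr (Or.inr (Or.inl (h.case1 hc ec hk)))
  push Not at hk
  obtain ⟨d, hd, ed, hcd⟩ := hk
  refine Or.inr (Or.inr (Or.inr (h.case2 hc ec fun a ha ea => h.uA ha ea ?_)))
  have e := h.cinv hcd (by rw [mul_assoc, ed, ← mul_assoc, ec, mul_assoc]) ha ea
  rw [show c * d * a * (c * d)⁻¹ = c * (d * a * d⁻¹) * c⁻¹ by group, h.cinv hd ed ha ea,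
    show c * a⁻¹ * c⁻¹ = (c * a * c⁻¹)⁻¹ by group, h.cinv hc ec ha ea, inv_inv] at e
  nth_rw 1 [e]
  exact inv_mul_cancel a

end Cfsg.Agent.S3043
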