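import Mathlib
import Cfsg.Statements.S3836
import Cfsg.Agent.H02.PCore

set_option autoImplicit false
open Cfsg

namespace Cfsg.Agent.S3836

/-- Let G be a finite group that is p-stable in the normalizer form: for every p-subgroup Q and every x ∈ N_G(Q) with [Q, x, x] = 1, the image of x in N_G(Q)/C_G(Q) lies in O_p(N_G(Q)/C_G(Q)). Then every subgroup of G is p-stable in the same sense. -/
theorem result {G : Type*} [Group G] [Finite G] {p : ℕ} [Fact p.Prime] (hst : Cfsg.IsNormalizerPStable p G) (H : Subgroup G) : Cfsg.IsNormalizerPStable p ↥H := by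
  intro P hP g hg hc
  set P' := P.map H.subtype with hP'
  have hN : ∀ x : H, x ∈ Subgroup.normalizer (P : Set H) → (x : G) ∈ Subgroup.normalizer (P' : Set G) :=
    fun x hx => Subgroup.le_normalizer_map H.subtype ⟨x, hx, rfl⟩
  have h1 := hst P' (hP.map _) g (hN g hg) (by
    have := congrArg (Subgroup.map H.subtype) hc
    simpa [Subgroup.map_commutator, MonoidHom.map_zpowers] using this)
  let f : Subgroup.normalizer (P : Set H) →* Subgroup.normalizer (P' : Set G) :=
    (H.subtype.comp (Subgroup.normalizer (P : Set H)).subtype).codRestrict _ fun x => hN x x.2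
  have hf : (Subgroup.centralizer (P : Set H)).subgroupOf (Subgroup.normalizer (P : Set H)) =
      ((Subgroup.centralizer (P' : Set G)).subgroupOf (Subgroup.normalizer (P' : Set G))).comap f := by
    ext x
    constructor
    · rintro hx _ ⟨y, hy, rfl⟩
      exact congrArg Subtype.val (hx y hy)
    · intro hx y hy
      exact Subtype.ext (hx _ ⟨y, hy, rfl⟩)
  let F := QuotientGroup.map _ _ f hf.le
  have hF : Function.Injective F := by
    rw [injective_iff_map_eq_one]
    intro q hq
    obtain ⟨x, rfl⟩ := QuotientGroup.mk_surjective q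
    rw [QuotientGroup.eq_one_iff, hf]
    exact (QuotientGroup.eq_one_iff (f x)).1 hq
  exact H02.comap_pCore_le_of_injective F hF h1

end Cfsg.Agent.S3836
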