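import Mathlib
import Cfsg.Statements.S3109
import Cfsg.Agent.H22.SigW2
import Cfsg.Agent.S1221

set_option autoImplicit false
open Cfsg

namespace Cfsg.Agent.S3109

open BG H22

/-- Let G be a non-abelian finite simple group in which every 2-local subgroup is 2-constrained, and suppose some Sylow 2-subgroup S of G has a self-centralizing abelian normal subgroup A (C_S(A) = A) of 2-rank at least 3. Then the centralizer of every involution of G has no nontrivial normal subgroup of odd order. -/
theorem result {G : Type*} [Group G] [Finite G] [IsSimpleGroup G] (hG : ¬ IsMulCommutative G)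
    (h2c : ∀ T : Subgroup G, IsPGroup 2 T → T ≠ ⊥ → Cfsg.IsPConstrained 2 ↥(Subgroup.normalizer (T : Set G)))
    (S : Sylow 2 G) (A : Subgroup ↥(S : Subgroup G)) (hAn : A.Normal) (hAab : IsMulCommutative ↥A)
    (hAC : Subgroup.centralizer (A : Set ↥(S : Subgroup G)) = A) (hA3 : ¬ Cfsg.PRankLE 2 2 ↥A) :
    ∀ t : G, orderOf t = 2 → Cfsg.centralizerPPrimeCore 2 t = ⊥ := by
  intro t ht
  have hS := isSylowIn_top Nat.prime_two S
  obtain ⟨B, h1, h2, h3, h4⟩ := scn3_normal S A hAn hAab hA3 hS
  obtain ⟨U, h⟩ := exists_ws (lay_of_constrained h2c) hS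
    (not_rank_of_le Nat.prime_two h2 (H04.pow_succ_le_of_lt_card h2.pg h4) h1)
  have hO : oddCore G = ⊥ := (IsSimpleGroup.eq_bot_or_eq_top_of_normal (pPrimeCore 2 G) inferInstance).resolve_right fun h' =>
    H02.not_dvd_card_pPrimeCore (G := G) Nat.prime_two (ht.symm.dvd.trans (BG.orderOf_dvd_card (h'.ge (Subgroup.mem_top t))))
  exact le_bot_iff.1 (hO ▸ h.core_le S1221.result (rank_cent_of_normal S.2 h1 h2 h3 h4) ht)

end Cfsg.Agent.S3109
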