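import Mathlib
import Cfsg.Statements.S3110
import Cfsg.Agent.H22.SigW2

set_option autoImplicit false
open Cfsg

namespace Cfsg.Agent.S3110

open BG H22

/-- Let G be a finite group in which every 2-local subgroup is 2-constrained and some Sylow 2-subgroup has a self-centralizing abelian normal subgroup of 2-rank at least 3, and let S be any Sylow 2-subgroup of G. Then there is a subgroup W of G of odd order such that, for every subgroup B of S of 2-rank at least 2, W is generated by the largest normal odd-order subgroups O(C_G(b)) of the centralizers of the non-identity elements b of B, and W is normalized by the normalizer of every such B. -/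
theorem result {G : Type*} [Group G] [Finite G]
    (h2c : ∀ T : Subgroup G, IsPGroup 2 T → T ≠ ⊥ → Cfsg.IsPConstrained 2 ↥(Subgroup.normalizer (T : Set G)))
    (S : Sylow 2 G) (A : Subgroup ↥(S : Subgroup G)) (hAn : A.Normal) (hAab : IsMulCommutative ↥A)
    (hAC : Subgroup.centralizer (A : Set ↥(S : Subgroup G)) = A) (hA3 : ¬ Cfsg.PRankLE 2 2 ↥A) (S' : Sylow 2 G) :
    ∃ W : Subgroup G, Odd (Nat.card ↥W) ∧
      ∀ B : Subgroup G, B ≤ (S' : Subgroup G) → ¬ Cfsg.PRankLE 2 1 ↥B →
        W = (⨆ b : {b : G // b ∈ B ∧ b ≠ 1}, Cfsg.centralizerPPrimeCore 2 (b : G)) ∧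
        Subgroup.normalizer (B : Set G) ≤ Subgroup.normalizer (W : Set G) := by
  have hS := isSylowIn_top Nat.prime_two S'
  have hL := lay_of_constrained h2c
  obtain ⟨D, h1, h2, h3, h4⟩ := scn3_normal S A hAn hAab hA3 hS
  obtain ⟨U, h⟩ := exists_ws hL hS (not_rank_of_le Nat.prime_two h2 (H04.pow_succ_le_of_lt_card h2.pg h4) h1)
  have h5 : ∀ V, IsElem 2 2 V S' → signalizerClosure V (centralizerPPrimeCore 2) = signalizerClosure U (centralizerPPrimeCore 2) :=
    fun V hV => by
      obtain ⟨E, e1, e2, e3, e4⟩ := e2_le_e3_of_big Nat.prime_two h2 h4 hV (hV.le.trans h3)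
      exact h.clo_e2 e2 e3 (e1.trans (sup_le h1 hV.le)) e4 hV.card.ge
  have key : ∀ B : Subgroup G, B ≤ S' → ¬ PRankLE 2 1 B →
      signalizerClosure U (centralizerPPrimeCore 2) = signalizerClosure B (centralizerPPrimeCore 2) := fun B hB hr => by
    obtain ⟨V, hV⟩ := (not_pRankLE_iff Nat.prime_two).1 hr
    refine le_antisymm (h5 V (hV.mono hB) ▸ closure_le fun b hb hb1 => le_closure (hV.le hb) hb1) (closure_le fun b hb hb1 => ?_)
    obtain ⟨k, hk⟩ := S'.2 ⟨b, hB hb⟩
    obtain ⟨t, ht, ht2⟩ := exists_orderOf_eq_prime Nat.prime_two (pg_dvd Nat.prime_two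
      (pg_le S'.2 (Subgroup.zpowers_le.2 (hB hb))) (zpowers_ne_bot hb1))
    obtain ⟨V', hV', htV⟩ := exists_four_mem S'.2 (not_pRankLE_of_le hr hB) (Subgroup.zpowers_le.2 (hB hb) ht) ht2
    have h6 := cent1_le_of_mem_zpowers ht
    rw [← h5 V' hV']
    exact ((le_inf le_rfl ((cpc_le b).trans h6)).trans (cpc_balance Nat.prime_two (congrArg Subtype.val hk)
      (mem_cent1.1 (h6 (mem_cent1_self b))) (hL t ht2))).trans (le_closure htV (ne_one_of_two ht2))
  refine ⟨_, Nat.odd_iff.2 (Nat.two_dvd_ne_zero.1 h.odd), fun B hB hr => ⟨key B hB hr, fun g hg => ?_⟩⟩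
  rw [key B hB hr, ← cj_eq_self_iff, w_cj, cj_of_mem_norm hg]

end Cfsg.Agent.S3110
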