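import Mathlib
import Cfsg.Agent.L.SpB
-- Template for statement S3221 (row 3221; see /opt/grader/pristine/manifest.json for weights).
-- Copy to Cfsg/Agent/S3221.lean and replace the sorry. The statement below is byte-identical to the frozen
-- statement Cfsg.CfsgFrozen.S3221 (Cfsg/Statements/S3221.lean; the theorem Cfsg.chz_symplectic_four_three_by_involution_centralizer);
-- the grader kernel-checks Cfsg.Agent.S3221.result against that frozen type. Keep the theorem IN THIS FILE
-- (a `result` declared elsewhere and merely imported here is not credited); helpers may live anywhere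
-- under Cfsg/Agent/.
import Cfsg.Statements.S3221
-- import your own Cfsg.Agent.* helpers here

set_option autoImplicit false
open Cfsg

namespace Cfsg.Agent.S3221

/-- Let F be the field with 3 elements and t₀ an involution of PSp₄(3) = PSp₄(F) lying in the centre of a Sylow 2-subgroup. If G is a finite group of even order that has no subgroup of index 2 and contains an involution t whose centralizer C_G(t) is isomorphic to C_{PSp₄(3)}(t₀), then G ≅ PSp₄(3). -/
theorem result {G : Type*} [Group G] [Finite G] (hev : Even (Nat.card G))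
    (hG : ∀ H : Subgroup G, H.index ≠ 2) {F : Type*} [Field F] [Fintype F] (hF : Fintype.card F = 3)
    (U : Sylow 2 (Cfsg.PSp 2 F)) (t₀ : Cfsg.PSp 2 F) (ht₀ : orderOf t₀ = 2) (ht₀U : t₀ ∈ (U : Subgroup (Cfsg.PSp 2 F)))
    (ht₀c : ∀ u ∈ (U : Subgroup (Cfsg.PSp 2 F)), u * t₀ = t₀ * u) (t : G) (ht : orderOf t = 2)
    (e : ↥(Subgroup.centralizer ({t} : Set G)) ≃* ↥(Subgroup.centralizer ({t₀} : Set (Cfsg.PSp 2 F)))) :
    Nonempty (G ≃* Cfsg.PSp 2 F) := by
  have : Fact (Nat.Prime 2) := ⟨Nat.prime_two⟩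
  obtain ⟨e', u', h', -, -, n⟩ := L.Sp.model F hF
  have := Nat.finite_of_card_ne_zero (n ▸ (by decide) : Nat.card (Cfsg.PSp 2 F) ≠ 0)
  obtain ⟨T, hT⟩ := H26.exists_isSyl 2 h'.sub
  obtain ⟨s1, -, s2⟩ := h'.syl L.Sp.qok L.Sp.tree hT
  obtain ⟨g, -, hg⟩ := (H26.isSyl_top U).exists_cj_eq s1
  have r : g * t₀ * g⁻¹ = e' 1 := (s2 _ (hg ▸ H26.conj_mem_cj ht₀U) fun y hy => by
    have := L.DC.cj_comm (g := g) (ht₀c _ (H26.mem_cj.1 (hg ▸ hy)))
    rw [show g * (g⁻¹ * y * g) * g⁻¹ = y by group] at this
    exact this.symm).resolve_left fun r => by simp [conj_eq_one_iff.1 r] at ht₀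
  obtain ⟨e₁, h⟩ := h'.transport L.Sp.qok (t := t) (fun r => by simp [r] at ht)
    (e.trans (((MulAut.conj g).subgroupMap _).trans (MulEquiv.subgroupCongr (r ▸ H26.cj_centralizer_singleton g t₀))))
  exact L.Sp.main h hG F hF

end Cfsg.Agent.S3221
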