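import Mathlib
import Cfsg.Statements.S3244
import Cfsg.Agent.H22.MaxLoc
import Cfsg.Agent.S0215

set_option autoImplicit false
open Cfsg

namespace Cfsg.Agent.S3244

open BG H22

/-- Say that a finite group G is of characteristic 2 type in the early sense when a Sylow 2-subgroup S of G has a self-centralizing normal subgroup of rank at least 3, S normalizes no nontrivial subgroup of odd order, and every 2-local subgroup of G is 2-constrained. If G is a non-abelian simple group of characteristic 2 type in this sense, then for some maximal 2-local subgroup M of G the centre of O₂(M) is not cyclic. -/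
theorem result {G : Type*} [Group G] [Finite G] [IsSimpleGroup G]
    (hG : ¬ IsMulCommutative G) (S : Sylow 2 G) (A : Subgroup G) (hA : Cfsg.IsSCN (S : Subgroup G) A) (hA3 : ¬ Cfsg.PRankLE 2 2 ↥A)
    (hinv : ∀ X : Subgroup G, Odd (Nat.card ↥X) → (S : Subgroup G) ≤ Subgroup.normalizer (X : Set G) → X = ⊥)
    (hcon : ∀ T : Subgroup G, IsPGroup 2 ↥T → T ≠ ⊥ → Cfsg.IsPConstrained 2 ↥(Subgroup.normalizer (T : Set G))) :
    ∃ M : Subgroup G, Cfsg.IsMaximalTwoLocal M ∧ ¬ IsCyclic ↥(Subgroup.center ↥(Cfsg.pCore 2 ↥M)) := by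
  by_contra hcon'
  push Not at hcon'
  have hS := isSylowIn_top Nat.prime_two S
  have hAab : IsMulCommutative A := abelian_iff.2 (hA.2.2.ge.trans inf_le_right)
  obtain ⟨E, hE⟩ := (not_pRankLE_iff Nat.prime_two).1 hA3
  have hr : ¬ PRankLE 2 2 (S : Subgroup G) := not_rank_of_le Nat.prime_two hE.elemAb hE.card.ge (hE.le.trans hA.1)
  obtain ⟨U, h⟩ := exists_ws (lay_of_constrained hcon) hS hr
  have hW := hinv _ (Nat.odd_iff.2 (Nat.two_dvd_ne_zero.1 h.odd)) h.le_normW
  have hθ : ∀ t : G, orderOf t = 2 → centralizerPPrimeCore 2 t = ⊥ := by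
    intro t ht
    obtain ⟨g, -, hg⟩ := sylow_Jsub Nat.prime_two hS (pg_of_card_eq (card_zpowers_two ht)) le_top
    have hg' : g * t * g⁻¹ ∈ (S : Subgroup G) := hg (conj_mem_cj g (Subgroup.mem_zpowers t))
    have h2 : orderOf (g * t * g⁻¹) = 2 := by rw [orderOf_conj, ht]
    have := (h.cent_le hg' h2 (rank_cent_of_normal S.2 ((omega_le _ _).trans hA.1) (omega_elemAb 2 hAab)
      (norm_omega 2 hA.2.1) (lt_of_lt_of_le (by rw [hE.card]; norm_num) (card_le (le_omega hE.elemAb hE.le))) _ hg' h2)).2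
    rw [hW, le_bot_iff, cpc_cj Nat.prime_two, cj_eq_iff] at this
    simpa using this
  have hL : KM.LC 2 G := KM.lc_of Nat.prime_two fun T hT h0 =>
    fstar_eq_pCore_iff.1 (S1292.result (fun t ht => fstar_eq_pCore_iff_opE.2
      (sup_eq_bot_iff.2 ⟨h.lay t ht, hθ t ht⟩)) T hT h0)
  -- in a maximal 2-local subgroup involutions centralizing `O₂(M)` are unique
  have huniq : ∀ M : Subgroup G, IsMaximalTwoLocal M → ∀ a ∈ M, ∀ b ∈ M, a ∈ C_(piCoreOf {2} M) →
      b ∈ C_(piCoreOf {2} M) → orderOf a = 2 → orderOf b = 2 → a = b := by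
    intro M m a ha b hb ha' hb' a2 b2
    have hc : IsCyclic ↥(piCoreOf {2} M ⊓ C_(piCoreOf {2} M)) := by
      have e : piCoreOf {2} M ⊓ C_(piCoreOf {2} M) =
          ((Subgroup.center (pCore 2 M)).map (pCore 2 M).subtype).map M.subtype := by
        rw [piCoreOf, H02.piCore_singleton Nat.prime_two]
        apply le_antisymm
        · rintro _ ⟨⟨x, hx, rfl⟩, h2⟩
          exact ⟨x, ⟨⟨x, hx⟩, Subgroup.mem_center_iff.2 fun y => Subtype.ext (Subtype.ext (h2 _ ⟨y, y.2, rfl⟩)), rfl⟩, rfl⟩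
        · rintro _ ⟨_, ⟨x, hx, rfl⟩, rfl⟩
          refine ⟨⟨x, x.2, rfl⟩, ?_⟩
          rintro _ ⟨y, hy, rfl⟩
          exact congrArg (fun z : pCore 2 M => ((z : M) : G)) (Subgroup.mem_center_iff.1 hx ⟨y, hy⟩)
      rw [e]
      have := hcon' M m
      exact isCyclic_of_surjective _ (((Subgroup.equivMapOfInjective _ _ (pCore 2 M).subtype_injective).trans
        (Subgroup.equivMapOfInjective _ _ M.subtype_injective)).surjective)
    obtain ⟨T, hT, h0, rfl⟩ := m.1
    have e := eq_of_card_eq_of_cyclic hc (H := Subgroup.zpowers a) (K := Subgroup.zpowers b)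
      (by rw [Subgroup.zpowers_le]; exact ⟨hL T hT h0 ⟨ha, ha'⟩, ha'⟩)
      (by rw [Subgroup.zpowers_le]; exact ⟨hL T hT h0 ⟨hb, hb'⟩, hb'⟩) (by rw [card_zpowers, card_zpowers, a2, b2])
    exact (mem_zpowers_two (mul_self_of_two b2) (e ▸ Subgroup.mem_zpowers a)).resolve_left (ne_one_of_two a2)
  have hcen : ∀ M : Subgroup G, IsMaximalTwoLocal M → ∃ t, orderOf t = 2 ∧ M = C_[t] := by
    intro M m
    have hp := pcore_pg (G := G) Nat.prime_two M
    obtain ⟨t, ht, ht1⟩ := exists_mem_ne_one (omega_center_ne_bot Nat.prime_two hp (maxLocal_core m))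
    have t2 := (omega_center_elemAb 2 _).orderOf Nat.prime_two ht ht1
    refine ⟨t, t2, ?_⟩
    rw [← KM.norm_zp t2]
    refine (maxLocal_eq m (pg_of_card_eq (card_zpowers_two t2)) (zpowers_ne_bot ht1) ?_).symm
    rw [KM.norm_zp t2]
    intro g hg
    have h1 := conj_mem_of_norm (norm_omega_center 2 (le_norm_pcore {2} M) hg) ht
    exact mem_cent1.2 (mul_inv_eq_iff_eq_mul.1 (huniq M m _ (pcore_le _ _ (omega_center_le _ _ h1)) _
      (pcore_le _ _ (omega_center_le _ _ ht)) (omega_center_le_cent _ _ h1) (omega_center_le_cent _ _ ht)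
      (by rw [orderOf_conj, t2]) t2))
  have hz : ∀ (T M : Subgroup G) (t : G), IsSylowIn 2 T M → orderOf t = 2 → t ∈ M → T ≤ C_[t] → t ∈ T :=
    fun T M t hT ht h1 h2 => hT.le_of_norm_pg' Nat.prime_two (pg_of_card_eq (card_zpowers_two ht)) (by simpa using h1)
      (le_norm_of_cent (by simpa using le_cent1_iff.1 h2)) (Subgroup.mem_zpowers t)
  have h3 : ∀ M T : Subgroup G, IsMaximalTwoLocal M → IsSylowIn 2 T M → IsSylowIn 2 T ⊤ := by
    intro M T m hT
    obtain ⟨t, t2, rfl⟩ := hcen M m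
    refine hT.of_norm_le Nat.prime_two le_top fun g hg => ?_
    have h1 : t ∈ T := hz T _ t hT t2 (mem_cent1_self t) hT.le
    have h2 : t ∈ C_(T) := le_cent1_iff.1 hT.le
    exact mem_cent1.2 (mul_inv_eq_iff_eq_mul.1 (huniq _ m _ (hT.le (conj_mem_of_norm hg.2 h1)) _ (mem_cent1_self t)
      (cent_anti hT.pcore_le (conj_mem_of_norm (norm_le_norm_cent T hg.2) h2)) (cent_anti hT.pcore_le h2)
      (by rw [orderOf_conj, t2]) t2))
  have h4 : ∀ T M₁ M₂ : Subgroup G, IsSylowIn 2 T ⊤ → IsMaximalTwoLocal M₁ → IsMaximalTwoLocal M₂ → T ≤ M₁ →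
      T ≤ M₂ → M₁ = M₂ := by
    intro T M₁ M₂ hT m1 m2 l1 l2
    obtain ⟨t, t2, rfl⟩ := hcen M₁ m1
    obtain ⟨u, u2, rfl⟩ := hcen M₂ m2
    have h5 := (hT.sub l1 le_top).pcore_le
    rw [huniq _ m1 t (mem_cent1_self t) u (l1 (hz T ⊤ u hT u2 trivial l2)) (cent_anti h5 (le_cent1_iff.1 l1))
      (cent_anti h5 (le_cent1_iff.1 l2)) t2 u2]
  have h2 := even_of_simple hG
  obtain ⟨M, m, l⟩ := exists_maxLocal' S.2 (hS.ne_bot' Nat.prime_two (by rwa [Subgroup.card_top]))
  obtain ⟨t, t2, rfl⟩ := hcen M m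
  have l' := (le_norm _).trans l
  obtain ⟨N, hN, hNo, hNt⟩ := S0215.result S t t2 (hz _ ⊤ t hS t2 trivial l') fun g hg => by
    have g2 : orderOf (g * t * g⁻¹) = 2 := by rw [orderOf_conj, t2]
    have e := eq_of_family Nat.prime_two IsMaximalTwoLocal (fun R => exists_maxLocal') h4 h3
      (pg_of_card_eq (card_zpowers_two g2)) (zpowers_ne_bot (ne_one_of_two g2)) m (H01.max_cj' m g)
      (by rw [Subgroup.zpowers_le]; exact l' hg) (by rw [Subgroup.zpowers_le, cj_cent1]; exact mem_cent1_self _)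
    rw [cj_cent1] at e
    exact huniq _ m _ (l' hg) _ (mem_cent1_self t) (le_cent1_iff.1 ((pcore_le _ _).trans e.le))
      (le_cent1_iff.1 (pcore_le _ _)) g2 t2
  rcases hN.eq_bot_or_eq_top with e | e
  · refine simple_not_central hG t2 (eq_top_iff.2 fun g _ => mem_cent1.2 ?_)
    have := hNt g
    rw [e, Subgroup.mem_bot] at this
    exact (commutatorElement_eq_one_iff_mul_comm.1 this).symm
  · rw [e, Subgroup.card_top] at hNo
    exact hNo.not_two_dvd_nat h2

end Cfsg.Agent.S3244
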