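import Mathlib
import Cfsg.Statements.S3247
import Cfsg.Agent.H22.SigW2

set_option autoImplicit false
open Cfsg

namespace Cfsg.Agent.S3247

/-- Let G be a finite group and p a prime; here a p-local subgroup means the normalizer of a nontrivial p-subgroup, other than G itself. If every p-local subgroup of G that is maximal among p-local subgroups is p-constrained, or if the centralizer of every element of order p of G is p-constrained, then every p-local subgroup of G is p-constrained. -/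
theorem result {G : Type*} [Group G] [Finite G] (p : ℕ) [hp : Fact p.Prime]
    (h : (∀ M : Subgroup G, (∃ T : Subgroup G, IsPGroup p ↥T ∧ T ≠ ⊥ ∧ M = Subgroup.normalizer (T : Set G)) → M ≠ ⊤ →
        (∀ M' : Subgroup G, (∃ T' : Subgroup G, IsPGroup p ↥T' ∧ T' ≠ ⊥ ∧ M' = Subgroup.normalizer (T' : Set G)) → M' ≠ ⊤ → M ≤ M' → M = M') →
        Cfsg.IsPConstrained p ↥M) ∨
      (∀ x : G, orderOf x = p → Cfsg.IsPConstrained p ↥(Subgroup.centralizer ({x} : Set G))))
    (T : Subgroup G) (hT : IsPGroup p ↥T) (hT1 : T ≠ ⊥) (hTG : Subgroup.normalizer (T : Set G) ≠ ⊤) :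
    Cfsg.IsPConstrained p ↥(Subgroup.normalizer (T : Set G)) := by
  open BG H22 in
  rw [isPConstrained_iff, ← pLay_eq_bot_iff, pLay_normalizer_eq hT]
  have k : ∀ M : Subgroup G, IsPConstrained p M → T ≤ M → C_(T) ≤ M → pLay p C_(T) = ⊥ := fun M h a b => by
    have := (core_balance hp.out (pLay_eq_bot_iff.2 (isPConstrained_iff.1 h)) hT a).2
    rwa [inf_eq_right.2 b] at this
  rcases h with h | h
  · obtain ⟨M, l, hM⟩ := Finite.exists_le_maximal (p := fun M : Subgroup G => (∃ T : Subgroup G, IsPGroup p ↥T ∧ T ≠ ⊥ ∧ M = N_(T)) ∧ M ≠ ⊤)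
      (a := N_(T)) ⟨⟨T, hT, hT1, rfl⟩, hTG⟩
    exact k M (h M hM.1.1 hM.1.2 fun N a b e => le_antisymm e (hM.2 ⟨a, b⟩ e)) ((le_norm T).trans l)
      ((Subgroup.centralizer_le_normalizer _).trans l)
  · obtain ⟨x, hx, e⟩ := exists_orderOf_eq_prime hp.out (pg_dvd hp.out (pg_le hT inf_le_left) (pg_center_ne_bot hp.out hT hT1))
    exact k _ (h x e) (le_cent1_iff.2 hx.2) (cent_le_cent1 hx.1)

end Cfsg.Agent.S3247
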