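import Mathlib
import Cfsg.Statements.S3277
import Cfsg.Agent.H08.KleinC

set_option autoImplicit false
open Cfsg

namespace Cfsg.Agent.S3277

open Subgroup H08

/-- Let G be a finite group containing an involution whose centralizer is elementary abelian of order 4. If G has no normal 2-complement and no normal elementary abelian 2-subgroup of order 2 or 4, then G is isomorphic to the alternating group of degree 5 (that is, to PSL(2, 5)). -/
theorem result {G : Type*} [Group G] [Finite G] (x : G) (hx : orderOf x = 2)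
    (hC4 : Nat.card ↥(Subgroup.centralizer ({x} : Set G)) = 4) (hCe : ∀ c ∈ Subgroup.centralizer ({x} : Set G), c ^ 2 = 1)
    (hnc : ¬ Cfsg.HasNormalPComplement 2 G)
    (hne : ∀ E : Subgroup G, E.Normal → Cfsg.IsElementaryAbelian 2 E → Nat.card ↥E ≠ 2 ∧ Nat.card ↥E ≠ 4) :
    Nonempty (G ≃* ↥(alternatingGroup (Fin 5))) := by
  have hV : IsKleinFour (centralizer ({x} : Set G)) := isKleinFour_iff.2 ⟨hC4, fun c hc => sq c ▸ hCe c hc⟩
  have hxV : x ∈ centralizer ({x} : Set G) := mem_centralizer_singleton_iff.2 rfl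
  by_cases h8 : 8 ∣ Nat.card G
  · obtain ⟨z, -, hz, -, h⟩ := klein_step hx hV le_rfl (fun u hu _ => hu) (by rw [hC4]; decide) h8
    obtain ⟨h1, h2⟩ := normalClosure_elemAb (mul_self_of_orderOf hz) h
    set E := normalClosure ({z} : Set G)
    have h3 : 2 ∣ Nat.card E := hz ▸ orderOf_dvd_natCard _ (subset_normalClosure rfl)
    have h4 := hne E inferInstance ⟨⟨⟨fun a b => Subtype.ext (h1 _ a.2 _ b.2)⟩⟩, fun a ha => sq a ▸ h2 a ha⟩
    have h5 : 0 < Nat.card E := Nat.card_pos
    suffices Nat.card E ≤ 4 by omega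
    by_cases hxE : x ∈ E
    · exact hC4 ▸ card_le_of_le fun a ha => mem_centralizer_singleton_iff.2 (h1 a ha x hxE)
    refine (card_le_sq_of_invol h1 h2 (mul_self_of_orderOf hx)
      fun a ha => (inferInstance : E.Normal).conj_mem a ha x).trans ?_
    have k1 := H01.card_lt_of_lt (inf_lt_right.2 fun e => hxE (e hxV))
    have k2 := card_dvd_of_le (inf_le_right : E ⊓ centralizer ({x} : Set G) ≤ _)
    rw [hC4] at k1 k2
    generalize Nat.card (E ⊓ centralizer ({x} : Set G) : Subgroup G) = k at *
    interval_cases k <;> omega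
  exact (cent_klein hx hV h8 hnc).resolve_left fun h =>
    (hne _ h.2 ⟨IsKleinFour.isMulCommutative, hCe⟩).2 hC4

end Cfsg.Agent.S3277
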