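import Mathlib
import Cfsg.Statements.S3683
import Cfsg.Agent.H18.Prim

set_option autoImplicit false
open Cfsg

namespace Cfsg.Agent.S3683

open MulAction in
theorem core {G Ω : Type*} [Group G] [Finite G] [MulAction G Ω] [FaithfulSMul G Ω]
    (hprim : MulAction.IsPreprimitive G Ω) (a : Ω) [Nontrivial Ω] (h : stabilizer G a = ⊥) :
    IsCyclic G ∧ (Nat.card G).Prime := by
  have hco : IsCoatom (stabilizer G a) := IsPreprimitive.isCoatom_stabilizer_of_isPreprimitive G a
  rw [h] at hco
  haveI : Nontrivial G := by
    by_contra hn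
    rw [not_nontrivial_iff_subsingleton] at hn
    exact hco.1 (Subsingleton.elim _ _)
  obtain ⟨x, hx⟩ := exists_ne (1 : G)
  have hxo : orderOf x ≠ 1 := by simpa using hx
  obtain ⟨p, hp, hpd⟩ := Nat.exists_prime_and_dvd hxo
  set y : G := x ^ (orderOf x / p) with hy
  have hyo : orderOf y = p := orderOf_pow_orderOf_div (orderOf_pos _).ne' hpd
  have hy1 : y ≠ 1 := by
    intro e; rw [e, orderOf_one] at hyo; exact hp.one_lt.ne hyo
  have ht : Subgroup.zpowers y = ⊤ := hco.2 _ (bot_lt_iff_ne_bot.2 (by simpa using hy1))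
  refine ⟨⟨y, fun g => by have : g ∈ Subgroup.zpowers y := ht ▸ Subgroup.mem_top g; exact this⟩, ?_⟩
  rw [← Subgroup.card_top, ← ht, Nat.card_zpowers, hyo]; exact hp

/-- Let a finite group G act faithfully and primitively on a set Ω, and suppose the stabilizer of a point a fixes a second point b ≠ a (a suborbit of length 1 other than {a}). Then the stabilizer of a is trivial and G is cyclic of prime order. -/
theorem result {G Ω : Type*} [Group G] [Finite G] [MulAction G Ω] [FaithfulSMul G Ω] [Finite Ω]
    (hprim : MulAction.IsPreprimitive G Ω) (a b : Ω) (hab : a ≠ b) (hfix : ∀ g : G, g • a = a → g • b = b) :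
    MulAction.stabilizer G a = ⊥ ∧ IsCyclic G ∧ (Nat.card G).Prime := by
  classical
  haveI := hprim.toIsPretransitive
  haveI : Nontrivial Ω := ⟨a, b, hab⟩
  have hle : MulAction.stabilizer G a ≤ MulAction.stabilizer G b := fun g hg => hfix g hg
  have heq : MulAction.stabilizer G a = MulAction.stabilizer G b :=
    Subgroup.eq_of_le_of_card_ge hle (H18.card_stabilizer_eq_of_trans b a).le
  have hall := H18.prim_rel hprim (fun x y => MulAction.stabilizer G x = MulAction.stabilizer G y)
    ⟨fun _ => rfl, fun h => h.symm, fun h1 h2 => h1.trans h2⟩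
    (fun g x y h => by
      simp only [MulAction.stabilizer_smul_eq_stabilizer_map_conj, h]) hab heq
  have hbot : MulAction.stabilizer G a = ⊥ := by
    rw [eq_bot_iff]
    intro g hg
    rw [Subgroup.mem_bot]
    apply FaithfulSMul.eq_of_smul_eq_smul (α := Ω)
    intro x
    have : g ∈ MulAction.stabilizer G x := hall a x ▸ hg
    rw [one_smul]; exact this
  exact ⟨hbot, core hprim a hbot⟩

end Cfsg.Agent.S3683
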