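import Mathlib
import Cfsg.Statements.S3494
import Cfsg.Agent.H05.TW
import Cfsg.Agent.H05.Jord
import Cfsg.Agent.BG.Api
import Cfsg.Agent.S3683

set_option autoImplicit false
open Cfsg

namespace Cfsg.Agent.S3494

open BG MulAction

theorem smul_orb {G Ω : Type*} [Group G] [MulAction G Ω] {H : Subgroup G} {l : G} (hl : l ∈ H) {γ z : Ω}
    (hz : z ∈ orbit H γ) : l • z ∈ orbit H γ := mapsTo_smul_orbit (⟨l, hl⟩ : H) γ hz

theorem le_stb {G Ω : Type*} [Group G] [MulAction G Ω] (H : Subgroup G) (γ : Ω) : H ≤ H05.stb G (orbit H γ) :=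
  fun _ hl => Set.ext fun _ => ⟨fun hz => by simpa using smul_orb (inv_mem hl) hz, smul_orb hl⟩

/-- Manning's Theorem on extremely primitive groups. Let a finite group G act faithfully and primitively on a finite set Ω with non-trivial point stabilizers, and suppose every point stabilizer G_α acts primitively on each of its orbits. Then G_α acts faithfully on each of its orbits other than {α}: an element of G_α fixing every point of one such orbit is the identity. -/
theorem result {G : Type*} [Group G] [Finite G] {Ω : Type*} [Fintype Ω] [MulAction G Ω] [FaithfulSMul G Ω] (hprim : MulAction.IsPreprimitive G Ω) (hH : ∀ α : Ω, MulAction.stabilizer G α ≠ ⊥) (hep : ∀ (α : Ω) (ω : Ω), MulAction.IsPreprimitive (MulAction.stabilizer G α) (MulAction.orbit (MulAction.stabilizer G α) ω))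
    (α ω : Ω) (hω : ω ≠ α) (h : MulAction.stabilizer G α) (hfix : ∀ x ∈ MulAction.orbit (MulAction.stabilizer G α) ω, h • x = x) : h = 1 := by
  have := hprim.toIsPretransitive
  obtain ⟨K, ⟨hK1, hK2, β, hβ, hKβ⟩, hmax⟩ := Set.exists_max_image
    {K : Subgroup G | K ≤ stabilizer G α ∧ stabilizer G α ≤ N_(K) ∧ ∃ β, β ≠ α ∧ K ≤ stabilizer G β}
    (fun K => Nat.card K) (Set.toFinite _) ⟨⊥, bot_le, le_norm_bot, ω, hω, bot_le⟩
  have nfix : ∀ γ : Ω, stabilizer G α ≤ N_(fixingSubgroup G (orbit (stabilizer G α) γ)) := by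
    intro γ
    refine le_norm_iff.2 fun a ha k hk => (mem_fixingSubgroup_iff G).2 fun y hy => ?_
    rw [mul_smul, mul_smul, (mem_fixingSubgroup_iff G).1 hk _ (smul_orb (inv_mem ha) hy), smul_inv_smul]
  have fle : ∀ γ : Ω, fixingSubgroup G (orbit (stabilizer G α) γ) ≤ stabilizer G γ :=
    fun γ k hk => (mem_fixingSubgroup_iff G).1 hk γ (mem_orbit_self γ)
  have hK0 : K = ⊥ := by
    by_contra h0
    have pr := H05.pr_stab hprim (a := α) (b := β) fun e =>
      hH α (Cfsg.Agent.S3683.result hprim α β hβ.symm fun g hg => (e ▸ hg : g ∈ stabilizer G β)).1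
    have : Nontrivial Ω := ⟨α, β, hβ.symm⟩
    have hco := IsPreprimitive.isCoatom_stabilizer_of_isPreprimitive G α
    obtain ⟨g, rfl⟩ := exists_smul_eq G α β
    obtain ⟨γ, ⟨k₀, hk₀, hγ⟩, hγmax⟩ := Set.exists_max_image {γ : Ω | ∃ k ∈ K, k • γ ≠ γ}
      (fun γ => (orbit (stabilizer G α) γ).ncard) (Set.toFinite _) (by
        obtain ⟨k, hk, a, ha⟩ := H18.exists_move_of_ne_bot' (α := Ω) h0
        exact ⟨a, k, hk, ha⟩)
    have hKn := (Subgroup.normal_subgroupOf_iff_le_normalizer hK1).2 hK2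
    have ht := H18.normal_trans_of_prim (hep α γ) (K.subgroupOf (stabilizer G α))
        (n := ⟨k₀, hK1 hk₀⟩) hk₀ (a := ⟨γ, mem_orbit_self γ⟩) (fun e => hγ (congrArg Subtype.val e))
    have ht' : ∀ x ∈ orbit (stabilizer G α) γ, ∀ y ∈ orbit (stabilizer G α) γ, ∃ k ∈ K, k • x = y := by
      intro x hx y hy
      obtain ⟨k, hk⟩ := ht.exists_smul_eq ⟨x, hx⟩ ⟨y, hy⟩
      exact ⟨k.1.1, k.2, congrArg Subtype.val hk⟩
    have hL : cj g K ≤ fixingSubgroup G (orbit (stabilizer G α) γ) := by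
      intro k hk
      refine (mem_fixingSubgroup_iff G).2 fun y hy => by_contra fun hne => ?_
      have e1 := hγmax (g⁻¹ • y) ⟨_, mem_cj.1 hk, fun e => hne (by
        rw [mul_smul, mul_smul, smul_inv_smul, smul_left_cancel_iff] at e; exact e)⟩
      have e2 : orbit (stabilizer G α) γ = orbit (stabilizer G (g • α)) y := by
        refine Set.eq_of_subset_of_ncard_le (fun x hx => ?_) (le_trans ?_ e1)
        · obtain ⟨l, hl, rfl⟩ := ht' y hy x hx
          exact ⟨⟨l, hKβ hl⟩, rfl⟩
        · refine Set.ncard_le_ncard_of_injOn (fun x => g⁻¹ • x) ?_ (MulAction.injective g⁻¹).injOn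
          rintro _ ⟨l, rfl⟩
          refine ⟨⟨g⁻¹ * l * g, ?_⟩, ?_⟩
          · rw [mem_stabilizer_iff, mul_smul, mul_smul, l.2, inv_smul_smul]
          · simp [mul_smul, Subgroup.smul_def]
      have e3 : ∀ x : G, x ∈ stabilizer G α ⊔ stabilizer G (g • α) → x • γ ∈ orbit (stabilizer G α) γ := by
        intro x hx
        have : stabilizer G α ⊔ stabilizer G (g • α) ≤ H05.stb G (orbit (stabilizer G α) γ) := sup_le
          (le_stb _ _) (e2 ▸ le_stb _ _)
        exact (H05.stb_smul (this hx)).2 (mem_orbit_self γ)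
      obtain ⟨x, hx⟩ := exists_smul_eq G γ α
      obtain ⟨l, hl⟩ := e3 x (by
        rw [mmax_sup_eq_top hco fun e => pr.ne (eq_of_le_of_card_eq e (H18.card_stabilizer_smul g α)).symm]; trivial)
      rw [hx] at hl
      have : γ = α := smul_left_cancel l (hl.trans (l.2 : (l : G) • α = α).symm)
      exact hγ (this ▸ hK1 hk₀)
    have hγα : γ ≠ α := fun e => hγ (e ▸ hK1 hk₀)
    by_cases hle : fixingSubgroup G (orbit (stabilizer G α) γ) ≤ stabilizer G α
    · have e := eq_of_le_of_card_le hL ((hmax _ ⟨hle, nfix γ, γ, hγα, fle γ⟩).trans (card_cj g K).ge)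
      refine h0 (cj_eq_bot_iff.1 (pr.eq_bot (e ▸ hle) ?_ (e ▸ nfix γ) ?_))
      · rw [H05.stab_smul]; exact cj_mono g hK1
      · rw [H05.stab_smul, ← cj_norm]; exact cj_mono g hK2
    · have : (fixingSubgroup G (orbit (stabilizer G α) γ)).Normal :=
        Subgroup.normalizer_eq_top_iff.1 (top_le_iff.1 (mmax_sup_eq_top hco hle ▸ sup_le (nfix γ) (le_norm _)))
      exact hle ((H16.eq_bot_of_normal_le_corefree (H16.stabilizer_corefree γ) (fle γ)).le.trans bot_le)
  have := hmax (stabilizer G α ⊓ fixingSubgroup G (orbit (stabilizer G α) ω))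
    ⟨inf_le_left, le_norm_inf (nfix ω), ω, hω, inf_le_right.trans (fle ω)⟩
  rw [hK0, Subgroup.card_bot] at this
  exact Subtype.ext (Subgroup.mem_bot.1 (card_eq_one.1 (le_antisymm this (card_pos _)) ▸
    Subgroup.mem_inf.2 ⟨h.2, (mem_fixingSubgroup_iff G).2 hfix⟩))

end Cfsg.Agent.S3494
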