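import Mathlib
import Cfsg.Statements.S3496
import Cfsg.Agent.S3494
import Cfsg.Agent.S3495
import Cfsg.Agent.H19.FieldCoords

set_option autoImplicit false
open Cfsg

namespace Cfsg.Agent.S3496

open BG MulAction

theorem exists_elem {G : Type*} [Group G] [Finite G] {X : Subgroup G} (h : Group.IsSolvable X) (h0 : X ≠ ⊥) :
    ∃ (p : ℕ) (E : Subgroup G), p.Prime ∧ IsElementaryAbelian p E ∧ E ≠ ⊥ ∧ E ≤ X ∧ X ≤ N_(E) := by
  obtain ⟨p, hp, h1⟩ := exists_pcore_ne_bot h h0
  exact ⟨p, _, hp, omega_center_elemAb p _, omega_center_ne_bot hp (pcore_pg hp _) h1,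
    (omega_center_le p _).trans (pcore_le _ _), norm_omega_center p (le_norm_pcore _ _)⟩

theorem sub_top {F A : Type*} [Field F] (ψ : A → F)
    (hirr : ∀ S : AddSubgroup F, (∀ a, ∀ z ∈ S, ψ a * z ∈ S) → S = ⊥ ∨ S = ⊤) (S : AddSubgroup F) (h1 : 1 ∈ S)
    (h : ∀ a, ∀ z ∈ S, ψ a * z ∈ S) (z : F) : z ∈ S := by
  rcases hirr S h with e | e
  · rw [e] at h1; exact absurd h1 one_ne_zero
  · rw [e]; trivial

theorem exists_gal {p : ℕ} [Fact p.Prime] {F A H : Type*} [Field F] [Algebra (ZMod p) F] [Group H] (ψ : A → F)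
    (hirr : ∀ S : AddSubgroup F, (∀ a, ∀ z ∈ S, ψ a * z ∈ S) → S = ⊥ ∨ S = ⊤) (η : H → F ≃+ F)
    (hmul : ∀ a b z, η (a * b) z = η a (η b z))
    (hη : ∀ h a, ∃ b, ∀ z, η h (ψ a * z) = ψ b * η h z) :
    ∃ σ : H →* (F ≃ₐ[ZMod p] F), ∀ h z, η h z = σ h z * η h 1 := by
  have h0 : ∀ h, η h 1 ≠ 0 := fun h => (map_ne_zero_iff _ (η h).injective).2 one_ne_zero
  have hm : ∀ h a z, η h (a * z) * η h 1 = η h a * η h z := by
    intro h a
    refine sub_top ψ hirr
      { carrier := {a | ∀ z, η h (a * z) * η h 1 = η h a * η h z}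
        zero_mem' := fun z => by simp
        add_mem' := fun {a b} ha hb z => by rw [add_mul, map_add, map_add, add_mul, add_mul, ha, hb]
        neg_mem' := fun {a} ha z => by rw [neg_mul, map_neg, map_neg, neg_mul, neg_mul, ha] }
      (fun z => by rw [one_mul, mul_comm]) (fun a w hw z => ?_) a
    obtain ⟨b, hb⟩ := hη h a
    rw [mul_assoc, hb, hb, mul_assoc, hw, mul_assoc]
  let s : H → (F ≃+* F) := fun h =>
    { ((η h).toEquiv.trans (Equiv.mulRight₀ _ (inv_ne_zero (h0 h)))) with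
      map_add' := fun a z => by
        change η h (a + z) * (η h 1)⁻¹ = η h a * (η h 1)⁻¹ + η h z * (η h 1)⁻¹
        rw [map_add, add_mul]
      map_mul' := fun a z => by
        change η h (a * z) * (η h 1)⁻¹ = η h a * (η h 1)⁻¹ * (η h z * (η h 1)⁻¹)
        have := h0 h
        field_simp
        exact hm h a z }
  have hs : ∀ h z, η h z = s h z * η h 1 := fun h z => (inv_mul_cancel_right₀ (h0 h) _).symm
  refine ⟨MonoidHom.mk' (fun h => AlgEquiv.ofRingEquiv (f := s h) fun x => ?_) fun a b => AlgEquiv.ext fun z => ?_, hs⟩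
  · obtain ⟨n, rfl⟩ := ZMod.natCast_zmod_surjective x
    simp
  · change s (a * b) z = s a (s b z)
    apply mul_right_cancel₀ (h0 (a * b))
    rw [← hs, hmul, hmul, hs b z, hs a, hs a (η b 1), map_mul, mul_assoc]

/-- The soluble extremely primitive groups. Let a finite solvable group G act faithfully and primitively on a finite set Ω with p ^ d points (p prime), with non-trivial point stabilizers each acting primitively on every one of its orbits. Then there is a prime q such that every orbit of a point stabilizer G_α other than {α} has exactly q points, q divides p ^ d − 1 but no p ^ i − 1 with 0 < i < d, and G_α has a normal subgroup T of order q with G_α generated by T and one further element and the order of G_α dividing q·d (so G_α is cyclic of order q, or an extension of T by a cyclic group of order dividing d). -/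
theorem result {G : Type*} [Group G] [Finite G] {Ω : Type*} [Fintype Ω] [MulAction G Ω] [FaithfulSMul G Ω] [Group.IsSolvable G] (p d : ℕ) (hp : p.Prime) (hcard : Fintype.card Ω = p ^ d)
    (hprim : MulAction.IsPreprimitive G Ω) (hH : ∀ α : Ω, MulAction.stabilizer G α ≠ ⊥) (hep : ∀ (α : Ω) (ω : Ω), MulAction.IsPreprimitive (MulAction.stabilizer G α) (MulAction.orbit (MulAction.stabilizer G α) ω)) (α : Ω) :
    ∃ q : ℕ, q.Prime ∧ (∀ ω : Ω, ω ≠ α → Nat.card (MulAction.orbit (MulAction.stabilizer G α) ω) = q) ∧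
      q ∣ p ^ d - 1 ∧ (∀ i : ℕ, 0 < i → i < d → ¬ q ∣ p ^ i - 1) ∧
      ∃ T : Subgroup G, T ≤ MulAction.stabilizer G α ∧ MulAction.stabilizer G α ≤ Subgroup.normalizer (T : Set G) ∧ Nat.card T = q ∧
        (∃ h : G, MulAction.stabilizer G α = T ⊔ Subgroup.zpowers h) ∧ Nat.card (MulAction.stabilizer G α) ∣ q * d := by
  classical
  have := hprim.toIsPretransitive
  have := Fact.mk hp
  obtain ⟨g₀, hg₀, ω₀, hω₀⟩ := H18.exists_move_of_ne_bot' (α := Ω) (hH α)
  have hωα : ω₀ ≠ α := fun e => hω₀ (e ▸ hg₀)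
  obtain ⟨r, N, hr, hN, hN0, -, hNn⟩ := exists_elem (X := (⊤ : Subgroup G)) inferInstance (ne_bot_mono (hH α) le_top)
  have : N.Normal := Subgroup.normalizer_eq_top_iff.1 (top_le_iff.1 hNn)
  have : Nontrivial Ω := ⟨_, _, hωα⟩
  have tN := H18.normal_trans_of_prim_faithful hprim N hN0
  have rN : ∀ ω : Ω, stabilizer N ω = ⊥ := fun ω => (Subgroup.eq_bot_iff_forall _).2 fun g hg => Subtype.ext
    (eq_one_of_mem_of_disj (H16.corefree_abelian (IsPreprimitive.isCoatom_stabilizer_of_isPreprimitive _ ω)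
      (H16.stabilizer_corefree _) hN0 hN.abelian).2.1 g.2 hg)
  have cN : C_(N) ⊓ stabilizer G α = ⊥ := H16.corefree_centralizer_inf
    (IsPreprimitive.isCoatom_stabilizer_of_isPreprimitive _ α) (H16.stabilizer_corefree _) hN0
  have hNc : Nat.card N = p ^ d := by rw [H18.card_eq_of_regular α (rN α), Nat.card_eq_fintype_card, hcard]
  have hd : d ≠ 0 := by
    rintro rfl
    exact hN0 (card_eq_one.1 hNc)
  obtain ⟨q, T, hq, hT, hT0, hT1, hT2⟩ := exists_elem (X := stabilizer G α) inferInstance (hH α)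
  obtain ⟨horb, hirr⟩ := Cfsg.Agent.S3495.result hprim hH hep N hN.abelian r hr (fun n hn => hN.pow hn) tN rN α T hT0 hT1 hT2
  have := hT.abelian
  have := hN.abelian
  letI : CommGroup N := { (inferInstance : Group N) with mul_comm := hN.abelian.is_comm.comm }
  have : Nontrivial N := (Subgroup.nontrivial_iff_ne_bot N).2 hN0
  have := Fintype.ofFinite (GaloisField p d)
  have hF : Fintype.card (GaloisField p d) = p ^ d := by rw [← Nat.card_eq_fintype_card, GaloisField.card p d hd]
  obtain ⟨e, ψ, he, hψ⟩ := H19.exists_field_of_irreducible (F := GaloisField p d)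
    ((MulAut.conjNormal (H := N)).comp T.subtype) (fun U hU => by
      rcases hirr (U.map N.subtype) (Subgroup.map_subtype_le _) (le_norm_iff.2 (by
        rintro a ha _ ⟨k, hk, rfl⟩
        exact ⟨_, hU ⟨a, ha⟩ k hk, rfl⟩)) with h | h
      · exact Or.inl ((Subgroup.map_eq_bot_iff_of_injective _ N.subtype_injective).1 h)
      · exact Or.inr (Subgroup.map_injective N.subtype_injective (h.trans (by rw [← MonoidHom.range_eq_map, Subgroup.range_subtype])))) (hF.trans hNc.symm)
  let ε : Multiplicative (GaloisField p d) ≃* N := { (Multiplicative.toAdd.trans e) with map_mul' := fun x y => he _ _ }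
  have hirr' : ∀ S : AddSubgroup (GaloisField p d), (∀ a : T, ∀ z ∈ S, (ψ a : GaloisField p d) * z ∈ S) → S = ⊥ ∨ S = ⊤ := by
    intro S hS
    rcases hirr ((S.toSubgroup.map ε.toMonoidHom).map N.subtype) (Subgroup.map_subtype_le _) (le_norm_iff.2 (by
      rintro a ha _ ⟨_, ⟨k, hk, rfl⟩, rfl⟩
      exact ⟨_, ⟨_, hS ⟨a, ha⟩ _ hk, rfl⟩, congrArg Subtype.val (hψ ⟨a, ha⟩ _)⟩)) with h | h
    · rw [Subgroup.map_eq_bot_iff_of_injective _ N.subtype_injective,
        Subgroup.map_eq_bot_iff_of_injective _ ε.injective] at h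
      exact Or.inl (AddSubgroup.toSubgroup.injective (h.trans (map_bot _).symm))
    · refine Or.inr (eq_top_iff.2 fun z _ => ?_)
      obtain ⟨_, ⟨k, hk, rfl⟩, e1⟩ := h.ge (e z).2
      exact (e.injective (Subtype.ext e1) : k.toAdd = z) ▸ hk
  have hψi : Function.Injective ψ := (injective_iff_map_eq_one ψ).2 fun a ha => Subtype.ext (by
    refine eq_one_of_mem_of_disj cN (mem_cent.2 fun n hn => ?_) (hT1 a.2)
    have := congrArg Subtype.val (hψ a (e.symm ⟨n, hn⟩))
    rw [ha, Units.val_one, one_mul, e.apply_symm_apply] at this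
    exact mul_inv_eq_iff_eq_mul.1 this.symm |>.symm)
  have cT : Nat.card T = q := by
    obtain ⟨n, hn⟩ := pg_card hq hT.pg
    refine le_antisymm (hT.card_le_of_cyclic hq (isCyclic_of_injective ψ hψi)) (Nat.le_of_dvd (card_pos _) (pg_dvd hq hT.pg hT0))
  have mv : ∀ ω, ω ≠ α → ¬ T ≤ stabilizer G ω := fun ω hω hle => hH α (Cfsg.Agent.S3683.result hprim α ω hω.symm fun g hg => by
    obtain ⟨t, ht⟩ := (horb ω).ge ⟨⟨g, hg⟩, rfl⟩
    exact ht.symm.trans (hle t.2)).1
  let η : stabilizer G α → (GaloisField p d ≃+ GaloisField p d) := fun h =>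
    { ((e.trans (MulAut.conjNormal (h : G) : MulAut N).toEquiv).trans e.symm) with
      map_add' := fun x y => e.injective (by simp [he]) }
  have hη : ∀ h z, (e (η h z) : G) = h * e z * (h : G)⁻¹ := fun h z => by simp [η]
  have hψ' : ∀ (a : T) z, (e (ψ a * z) : G) = a * e z * (a : G)⁻¹ := fun a z => congrArg Subtype.val (hψ a z)
  have hηψ : ∀ (h : stabilizer G α) (a : T) z, η h (ψ a * z) = ψ ⟨_, conj_mem_of_norm (hT2 h.2) a.2⟩ * η h z :=
    fun h a z => e.injective (Subtype.ext (by rw [hη, hψ', hψ', hη]; group))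
  obtain ⟨σ, hσ⟩ := exists_gal (p := p) (fun a : T => (ψ a : GaloisField p d)) hirr' η
    (fun a b z => e.injective (Subtype.ext (by rw [hη, hη, hη, Subgroup.coe_mul]; group))) fun h a => ⟨_, hηψ h a⟩
  have hk : σ.ker = T.subgroupOf (stabilizer G α) := by
    ext h
    rw [MonoidHom.mem_ker, Subgroup.mem_subgroupOf]
    have h0 : η h 1 ≠ 0 := (map_ne_zero_iff _ (η h).injective).2 one_ne_zero
    refine ⟨fun hh => ?_, fun hh => AlgEquiv.ext fun z => mul_right_cancel₀ h0 ?_⟩
    · have hc : ∀ a ∈ T, (h : G) * a * (h : G)⁻¹ = a := fun a ha => by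
        have := hηψ h ⟨a, ha⟩ 1
        rw [hσ, hh, mul_one, AlgEquiv.one_apply] at this
        exact congrArg Subtype.val (hψi (Units.ext (mul_right_cancel₀ h0 this))).symm
      obtain ⟨t, ht⟩ := (horb ω₀).ge ⟨h, rfl⟩
      have := Cfsg.Agent.S3494.result hprim hH hep α ω₀ hωα (⟨t, hT1 t.2⟩⁻¹ * h) fun x hx => by
        obtain ⟨s, rfl⟩ := (horb ω₀).ge hx
        change ((t : G)⁻¹ * h) • (s : G) • ω₀ = (s : G) • ω₀
        have ht' : (t : G) • ω₀ = (h : G) • ω₀ := ht
        rw [mul_smul, ← mul_smul (h : G), mul_inv_eq_iff_eq_mul.1 (hc s s.2), mul_smul, ← ht', inv_smul_eq_iff, ← mul_smul,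
          ← mul_smul, mul_comm_of_abelian hT.abelian s.2 t.2]
      rw [← inv_mul_eq_one.1 this]; exact t.2
    · have : ∀ z, η h z = ψ ⟨h, hh⟩ * z := fun z => e.injective (Subtype.ext (by rw [hη, hψ']))
      rw [← hσ, this, this, AlgEquiv.one_apply, mul_one, mul_comm]
  have hpow : ∀ a : T, (ψ a : GaloisField p d) ^ q = 1 := fun a => by
    rw [← Units.val_pow_eq_pow_val, ← map_pow, ← cT, pow_card_eq_one', map_one, Units.val_one]
  refine ⟨q, hq, fun ω hω => ?_, ?_, fun i hi hid hdv => ?_, T, hT1, hT2, cT, ?_, ?_⟩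
  · have h1 := H18.card_orbit_mul_card_stabilizer (G := T) ω
    rw [horb, cT] at h1
    refine ((Nat.dvd_prime hq).1 (Dvd.intro _ h1)).resolve_left fun e1 => mv ω hω fun t ht => ?_
    rw [e1, one_mul, ← cT] at h1
    have : (⟨t, ht⟩ : T) ∈ stabilizer T ω := Subgroup.eq_top_of_card_eq _ h1 ▸ Subgroup.mem_top _
    exact this
  · rw [← cT, ← hF, ← Fintype.card_units, ← Nat.card_eq_fintype_card]
    exact Subgroup.card_dvd_of_injective ψ hψi
  · have h1 := sub_top _ hirr'
      { carrier := {z | z ^ p ^ i = z}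
        zero_mem' := zero_pow (pow_ne_zero _ hp.ne_zero)
        add_mem' := fun {a b} ha hb => by
          change (a + b) ^ p ^ i = a + b
          rw [add_pow_char_pow, ha, hb]
        neg_mem' := fun {a} ha => by
          change (-a) ^ p ^ i = -a
          rw [← zero_sub, sub_pow_char_pow, ha, zero_pow (pow_ne_zero _ hp.ne_zero)] } (one_pow _) (fun a z hz => by
        change (ψ a * z : GaloisField p d) ^ p ^ i = _
        obtain ⟨c, hc⟩ := hdv
        rw [mul_pow, hz, show p ^ i = q * c + 1 by rw [← hc, Nat.sub_add_cancel (Nat.one_le_pow _ _ hp.pos)], pow_succ, pow_mul,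
          hpow, one_pow, one_mul])
    have h2 := (FiniteField.forall_pow_eq_one_iff (GaloisField p d) (p ^ i - 1)).1 fun x => Units.ext (by
      have : (x : GaloisField p d) ^ p ^ i = x := h1 x
      rw [← Nat.sub_add_cancel (Nat.one_le_pow i _ hp.pos), pow_succ] at this
      simpa using this)
    rw [hF] at h2
    have h3 := Nat.one_lt_pow hi.ne' hp.one_lt
    have h4 := Nat.pow_lt_pow_right hp.one_lt hid
    have := Nat.le_of_dvd (by omega) h2
    omega
  · obtain ⟨⟨_, h, rfl⟩, hg⟩ := IsCyclic.exists_generator (α := σ.range)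
    refine ⟨h, le_antisymm (fun x hx => ?_) (sup_le hT1 (Subgroup.zpowers_le.2 h.2))⟩
    obtain ⟨n, hn⟩ := hg ⟨_, ⟨x, hx⟩, rfl⟩
    have h1 : (⟨x, hx⟩ * (h ^ n)⁻¹ : stabilizer G α) ∈ σ.ker := by
      rw [MonoidHom.mem_ker, map_mul, map_inv, map_zpow, mul_inv_eq_one]
      exact (congrArg Subtype.val hn).symm
    rw [hk] at h1
    have := Subgroup.mul_mem_sup (Subgroup.mem_subgroupOf.1 h1) (Subgroup.zpow_mem_zpowers (h : G) n)
    simpa using this
  · rw [← card_mul_relIndex hT1, cT, Subgroup.relIndex, ← hk, Subgroup.index_ker]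
    exact Nat.mul_dvd_mul_left _ ((Subgroup.card_subgroup_dvd_card _).trans
      (dvd_of_eq ((IsGalois.card_aut_eq_finrank _ _).trans (GaloisField.finrank p hd))))

end Cfsg.Agent.S3496
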