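import Mathlib
import Cfsg.Statements.S3497
import Cfsg.Agent.S3494
import Cfsg.Agent.H04.ElemAb

set_option autoImplicit false
open Cfsg

namespace Cfsg.Agent.S3497

open BG MulAction

theorem card_dvd_of_semireg {H Ω : Type*} [Group H] [Finite H] [MulAction H Ω] [Finite Ω] (S : Set Ω)
    (h1 : ∀ (g : H), ∀ x ∈ S, g • x ∈ S) (h2 : ∀ (g : H), ∀ x ∈ S, g • x = x → g = 1) : Nat.card H ∣ S.ncard := by
  let A : SubMulAction H Ω := ⟨S, fun g x hx => h1 g x hx⟩
  have e := selfEquivOrbitsQuotientProd (G := H) (X := A) fun x => (Subgroup.eq_bot_iff_forall _).2 fun g hg =>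
    h2 g x x.2 (congrArg Subtype.val hg)
  rw [← Nat.card_coe_set_eq]
  exact Dvd.intro_left _ ((Nat.card_prod _ _).symm.trans (Nat.card_congr e.symm))

/-- Restrictions on the point stabilizer of an extremely primitive group. Let a finite group G act faithfully and primitively on a finite set Ω with point stabilizers H = G_α whose order is neither 1 nor a prime, each acting primitively on every one of its orbits. Then H has trivial center, the Fitting subgroup F(H) is an elementary abelian p-group for some prime p, and if F(H) ≠ 1 has order p ^ e then p ^ e divides the number of points minus one and H / F(H) embeds in GL_e(p) (there is a homomorphism from H to GL_e(p) with kernel exactly F(H)). -/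
theorem result {G : Type*} [Group G] [Finite G] {Ω : Type*} [Fintype Ω] [MulAction G Ω] [FaithfulSMul G Ω] (hprim : MulAction.IsPreprimitive G Ω) (hep : ∀ (α : Ω) (ω : Ω), MulAction.IsPreprimitive (MulAction.stabilizer G α) (MulAction.orbit (MulAction.stabilizer G α) ω)) (α : Ω)
    (hH1 : MulAction.stabilizer G α ≠ ⊥) (hHp : ¬ (Nat.card (MulAction.stabilizer G α)).Prime) :
    Subgroup.center (MulAction.stabilizer G α) = ⊥ ∧
    IsMulCommutative (Cfsg.fittingSubgroup (MulAction.stabilizer G α)) ∧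
    ∃ p e : ℕ, p.Prime ∧ Nat.card (Cfsg.fittingSubgroup (MulAction.stabilizer G α)) = p ^ e ∧
      (∀ x ∈ Cfsg.fittingSubgroup (MulAction.stabilizer G α), x ^ p = 1) ∧
      (Cfsg.fittingSubgroup (MulAction.stabilizer G α) ≠ ⊥ →
        p ^ e ∣ Fintype.card Ω - 1 ∧
        ∃ φ : MulAction.stabilizer G α →* GL (Fin e) (ZMod p), φ.ker = Cfsg.fittingSubgroup (MulAction.stabilizer G α)) := by
  have := hprim.toIsPretransitive
  have hH : ∀ a : Ω, stabilizer G a ≠ ⊥ := fun a e => hH1 (by
    rw [← card_eq_one, H18.card_stabilizer_eq_of_trans α a, e, Subgroup.card_bot])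
  have hf : ∀ ω, ω ≠ α → FaithfulSMul (stabilizer G α) (orbit (stabilizer G α) ω) := fun ω hω =>
    ⟨fun {a b} h => by
      rw [← inv_mul_eq_one]
      refine Cfsg.Agent.S3494.result hprim hH hep α ω hω _ fun x hx => ?_
      rw [mul_smul, inv_smul_eq_iff]
      exact (congrArg Subtype.val (h ⟨x, hx⟩)).symm⟩
  have cf : ∀ ω, ω ≠ α → ∀ M : Subgroup (stabilizer G α), M.Normal → M ≠ ⊥ → IsMulCommutative M →
      C_(M) = M ∧ ∀ m ∈ M, m • ω = ω → m = 1 := by
    intro ω hω M _ hM hc
    have := hf ω hω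
    have := hep α ω
    have := H16.nontrivial_of_faithful (Ω := orbit (stabilizer G α) ω) hM
    obtain ⟨h1, h2, -⟩ := H16.corefree_abelian (IsPreprimitive.isCoatom_stabilizer_of_isPreprimitive _
      (⟨ω, mem_orbit_self ω⟩ : orbit (stabilizer G α) ω)) (H16.stabilizer_corefree _) hM hc
    exact ⟨h1, fun m hm e => eq_one_of_mem_of_disj h2 hm (Subtype.ext e)⟩
  obtain ⟨g₀, hg₀, ω, hω⟩ := H18.exists_move_of_ne_bot' (α := Ω) hH1
  have hωα : ω ≠ α := fun e => hω (e ▸ hg₀)
  have hZ : Subgroup.center (stabilizer G α) = ⊥ := by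
    by_contra h0
    obtain ⟨z, hz, hz1⟩ := exists_mem_ne_one h0
    have := hf ω hωα
    refine hHp (Cfsg.Agent.S3683.result (hep α ω) ⟨ω, mem_orbit_self ω⟩ (z • ⟨ω, mem_orbit_self ω⟩) (fun e => hz1 ?_)
      fun g hg => ?_).2.2
    · exact (cf ω hωα _ inferInstance h0 inferInstance).2 z hz (congrArg Subtype.val e).symm
    · rw [← mul_smul, Subgroup.mem_center_iff.1 hz g, mul_smul, hg]
  refine ⟨hZ, ?_⟩
  by_cases hF : fittingSubgroup (stabilizer G α) = ⊥
  · rw [hF]
    exact ⟨inferInstance, 2, 0, Nat.prime_two, by simp, by simp, fun h => absurd rfl h⟩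
  set F := fittingSubgroup (stabilizer G α) with hFd
  have hFe : F = fittingOf ⊤ := H02.fittingOf_top.symm
  have Fn : F.Normal := Subgroup.normalizer_eq_top_iff.1 (top_le_iff.1 (hFe ▸ le_norm_fit _))
  obtain ⟨p, hp, hd⟩ := exists_prime_dvd_card (nil_center_ne_bot (hFe ▸ fit_nil _) hF)
  have := Fact.mk hp
  have En : (omegaOne p (F ⊓ C_(F))).Normal :=
    Subgroup.normalizer_eq_top_iff.1 (top_le_iff.1 (norm_omega_center p (hFe ▸ le_norm_fit _)))
  have hE := omega_center_elemAb p F
  have e : omegaOne p (F ⊓ C_(F)) = F := le_antisymm (omega_center_le p F) (by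
    rw [← (cf ω hωα _ En (omega_ne_bot' hp hd) hE.abelian).1]
    exact cent_symm (omega_center_le_cent p F))
  rw [e] at hE
  obtain ⟨n, hn⟩ := pg_card hp hE.pg
  refine ⟨hE.abelian, p, n, hp, hn, fun x hx => hE.pow hx, fun _ => ⟨?_, ?_⟩⟩
  · have := card_dvd_of_semireg (H := F) ({α}ᶜ : Set Ω) (fun g x hx e => hx (smul_left_cancel g (e.trans (g.1.2 : _ = α).symm)))
      fun g x hx e => Subtype.ext ((cf x hx F Fn hF hE.abelian).2 g g.2 e)
    rwa [hn, Set.ncard_compl, Set.ncard_singleton, Nat.card_eq_fintype_card] at this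
  · obtain ⟨-, φ, -⟩ := H04.exists_mulAut_equiv_GL hE.abelian (fun x : F => Subtype.ext (hE.pow x.2)) hn
    refine ⟨φ.toMonoidHom.comp (MulAut.conjNormal (H := F)), ?_⟩
    refine Eq.trans ?_ (cf ω hωα F Fn hF hE.abelian).1
    ext x
    simp only [MonoidHom.mem_ker, MonoidHom.comp_apply, MulEquiv.toMonoidHom_eq_coe, MonoidHom.coe_coe, map_eq_one_iff _ φ.injective,
      mem_cent]
    refine ⟨fun h a ha => ?_, fun h => MulEquiv.ext fun a => Subtype.ext ?_⟩
    · have := congrArg Subtype.val (DFunLike.congr_fun h ⟨a, ha⟩)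
      rw [MulAut.conjNormal_apply] at this
      exact (mul_inv_eq_iff_eq_mul.1 this).symm
    · rw [MulAut.conjNormal_apply]
      exact mul_inv_eq_iff_eq_mul.2 (h a a.2).symm

end Cfsg.Agent.S3497
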