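import Mathlib
import Cfsg.Statements.S3554
import Cfsg.Agent.H02.FrobCompl

set_option autoImplicit false
open Cfsg

namespace Cfsg.Agent.S3554

/-- Let G act faithfully and transitively on a finite set and suppose G has a non-trivial cyclic normal subgroup. Then some element of G of prime order fixes no point. -/
theorem result {G Ω : Type*} [Group G] [Finite G] [MulAction G Ω] [FaithfulSMul G Ω] [Finite Ω]
    (htrans : MulAction.IsPretransitive G Ω) (C : Subgroup G) (hC : C.Normal) (hC1 : C ≠ ⊥) (hcyc : IsCyclic ↥C) :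
    ∃ g : G, (orderOf g).Prime ∧ ∀ ω : Ω, g • ω ≠ ω := by
  classical
  obtain ⟨⟨x, hx⟩, hx1⟩ := (Subgroup.ne_bot_iff_exists_ne_one).1 hC1
  have hx1' : x ≠ 1 := fun e => hx1 (Subtype.ext e)
  have hxo : orderOf x ≠ 1 := by simpa using hx1'
  obtain ⟨p, hp, hpd⟩ := Nat.exists_prime_and_dvd hxo
  set y : G := x ^ (orderOf x / p) with hy
  have hyo : orderOf y = p := orderOf_pow_orderOf_div (orderOf_pos _).ne' hpd
  have hyC : y ∈ C := C.pow_mem hx _
  refine ⟨y, hyo ▸ hp, fun ω hω => ?_⟩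
  have hconj : ∀ g : G, g⁻¹ * y * g ∈ Subgroup.zpowers y := by
    intro g
    have h1 : g⁻¹ * y * g ∈ C := by simpa using hC.conj_mem y hyC g⁻¹
    have h2 : Subgroup.zpowers (⟨g⁻¹ * y * g, h1⟩ : C) = Subgroup.zpowers (⟨y, hyC⟩ : C) := by
      apply H02.eq_of_card_eq_of_isCyclic
      rw [Nat.card_zpowers, Nat.card_zpowers, ← Subgroup.orderOf_coe, ← Subgroup.orderOf_coe]
      have := (MulAut.conj g⁻¹).orderOf_eq y
      simpa using this
    have h3 : (⟨g⁻¹ * y * g, h1⟩ : C) ∈ Subgroup.zpowers (⟨y, hyC⟩ : C) := h2 ▸ Subgroup.mem_zpowers _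
    obtain ⟨k, hk⟩ := h3
    exact ⟨k, congrArg Subtype.val hk⟩
  have : y = 1 := by
    apply FaithfulSMul.eq_of_smul_eq_smul (α := Ω)
    intro a
    obtain ⟨g, rfl⟩ := htrans.exists_smul_eq ω a
    have h1 : (g⁻¹ * y * g) • ω = ω := by
      obtain ⟨k, hk⟩ := hconj g
      rw [← hk]
      exact MulAction.mem_stabilizer_iff.1 (Subgroup.zpow_mem (MulAction.stabilizer G ω) (MulAction.mem_stabilizer_iff.2 hω) _)
    rw [one_smul, ← mul_smul]
    calc (y * g) • ω = g • ((g⁻¹ * y * g) • ω) := by rw [← mul_smul]; congr 1; group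
      _ = g • ω := by rw [h1]
  rw [this, orderOf_one] at hyo
  exact hp.one_lt.ne hyo

end Cfsg.Agent.S3554
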