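import Mathlib
import Cfsg.Statements.S3555
import Cfsg.Agent.H06.Derange
import Cfsg.Agent.H05.Frobenius
import Cfsg.Agent.H02.Frobenius

set_option autoImplicit false
open Cfsg

namespace Cfsg.Agent.S3555

open MulAction H06

theorem sum_sq_le {G Ω : Type*} [Group G] [Fintype G] [MulAction G Ω] [Finite Ω] :
    ∑ g : G, fx Ω (g * g) ≤ ∑ g : G, fx Ω g * fx Ω g := by
  classical
  have := Fintype.ofFinite Ω
  have e1 : ∀ g : G, fx Ω (g * g) = ∑ a : Ω, ∑ b : Ω, if g • a = b ∧ g • b = a then 1 else 0 := by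
    intro g
    rw [fx_eq_sum]
    refine Finset.sum_congr rfl (fun a _ => ?_)
    rw [Finset.sum_eq_single (g • a)]
    · simp [mul_smul]
    · intro b _ hb; simp [Ne.symm hb]
    · simp
  have e2 : ∀ g : G, fx Ω g * fx Ω g = ∑ a : Ω, ∑ b : Ω, if g • a = a ∧ g • b = b then 1 else 0 := by
    intro g
    rw [fx_eq_sum, Finset.sum_mul_sum]
    refine Finset.sum_congr rfl (fun a _ => Finset.sum_congr rfl (fun b _ => ?_))
    by_cases h1 : g • a = a <;> by_cases h2 : g • b = b <;> simp [h1, h2]
  simp only [e1, e2]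
  rw [Finset.sum_comm, Finset.sum_comm (s := (Finset.univ : Finset G))]
  refine Finset.sum_le_sum (fun a _ => ?_)
  rw [Finset.sum_comm, Finset.sum_comm (s := (Finset.univ : Finset G))]
  refine Finset.sum_le_sum (fun b _ => ?_)
  rw [← Finset.card_filter, ← Finset.card_filter]
  rcases (Finset.univ.filter (fun g : G => g • a = b ∧ g • b = a)).eq_empty_or_nonempty with h | ⟨k, hk⟩
  · rw [h]; simp
  rw [Finset.mem_filter] at hk
  apply Finset.card_le_card_of_injOn (fun g => k⁻¹ * g)
  · intro g hg
    simp only [Finset.coe_filter, Finset.mem_univ, true_and, Set.mem_setOf_eq] at hg ⊢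
    rw [mul_smul, mul_smul, hg.1, hg.2, inv_smul_eq_iff, inv_smul_eq_iff]
    exact ⟨hk.2.1.symm, hk.2.2.symm⟩
  · intro x _ y _ h; exact mul_left_cancel h

theorem fx_le_sq {G Ω : Type*} [Group G] [MulAction G Ω] [Finite Ω] (g : G) :
    fx Ω g ≤ fx Ω (g * g) := by
  apply Nat.card_mono (Set.toFinite _)
  intro a ha
  have : g • a = a := ha
  change (g * g) • a = a
  rw [mul_smul, this, this]

/-- Let G act faithfully and transitively on a finite set and suppose every element of G fixing no point is an involution. Then either G is an elementary abelian 2-group, or G is a Frobenius group whose Frobenius kernel is an elementary abelian 2-group: G has a Frobenius complement H, and the elements lying in no conjugate of H, together with the identity, pairwise commute and square to the identity. -/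
theorem result {G Ω : Type*} [Group G] [Finite G] [MulAction G Ω] [FaithfulSMul G Ω] [Finite Ω]
    (htrans : MulAction.IsPretransitive G Ω) (hinv : ∀ g : G, (∀ ω : Ω, g • ω ≠ ω) → orderOf g = 2) :
    (IsMulCommutative G ∧ ∀ g : G, g ^ 2 = 1) ∨
    (∃ H : Subgroup G, Cfsg.IsFrobeniusComplement H ∧
      (∀ x ∈ Cfsg.frobeniusKernel H, x ^ 2 = 1) ∧
      ∀ x ∈ Cfsg.frobeniusKernel H, ∀ y ∈ Cfsg.frobeniusKernel H, x * y = y * x) := by
  classical
  have := Fintype.ofFinite G
  rcases isEmpty_or_nonempty Ω with hΩ | hΩ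
  · have := hinv 1 (fun a => hΩ.elim a)
    simp at this
  set n := Nat.card Ω with hn
  have h1 := sum_fx_trans (G := G) Ω
  have h2 := sum_sq_le (G := G) (Ω := Ω)
  -- termwise inequality
  have h3 : ∀ g ∈ (Finset.univ : Finset G), fx Ω g * fx Ω g + n ≤ fx Ω (g * g) + n * fx Ω g := by
    intro g _
    rcases Nat.eq_zero_or_pos (fx Ω g) with h | h
    · have hg := hinv g ((fx_eq_zero_iff Ω).1 h)
      have : g * g = 1 := by rw [← sq, ← hg, pow_orderOf_eq_one]
      rw [this, fx_one, h]; omega
    · have a1 := fx_le_sq (Ω := Ω) g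
      have a2 := fx_le Ω g
      nlinarith
  have h4 := Finset.sum_le_sum h3
  have h5 : ∑ g : G, (fx Ω g * fx Ω g + n) = ∑ g : G, (fx Ω (g * g) + n * fx Ω g) := by
    apply le_antisymm h4
    rw [Finset.sum_add_distrib, Finset.sum_add_distrib, ← Finset.mul_sum, h1, Finset.sum_const,
      Finset.card_univ, smul_eq_mul, Nat.card_eq_fintype_card, mul_comm n]
    omega
  have h6 := (Finset.sum_eq_sum_iff_of_le h3).1 h5
  have hs : ∀ (g : G) (a b : Ω), a ≠ b → g • a = a → g • b = b → g = 1 := by
    intro g a b hab ha hb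
    have a0 := two_le_fx Ω hab ha hb
    have a1 := fx_le_sq (Ω := Ω) g
    have a2 := fx_le Ω g
    have a3 := h6 g (Finset.mem_univ g)
    have a4 : fx Ω g = n := by nlinarith
    apply FaithfulSMul.eq_of_smul_eq_smul (α := Ω)
    intro x; rw [one_smul]; exact smul_eq_of_fx_eq Ω a4 x
  obtain ⟨a⟩ := hΩ
  have hder : ∀ g : G, (∀ x : G, x⁻¹ * g * x ∉ stabilizer G a) → g ^ 2 = 1 := by
    intro g hg
    rw [← hinv g, pow_orderOf_eq_one]
    intro ω hω
    obtain ⟨x, rfl⟩ := exists_smul_eq G a ω
    apply hg x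
    rw [mem_stabilizer_iff, mul_smul, mul_smul, hω, inv_smul_smul]
  have hcomm : ∀ x y : G, x ^ 2 = 1 → y ^ 2 = 1 → (x * y) ^ 2 = 1 → x * y = y * x := by
    intro x y hx hy hxy
    rw [sq] at hx hy hxy
    calc x * y = x * ((x * y) * (x * y)) * y := by rw [hxy, mul_one]
      _ = (x * x) * (y * x) * (y * y) := by group
      _ = y * x := by rw [hx, hy, one_mul, mul_one]
  by_cases hH : stabilizer G a = ⊥
  · left
    have hall : ∀ g : G, g ^ 2 = 1 := by
      intro g
      by_cases hg : g = 1
      · simp [hg]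
      apply hder
      intro x hx
      rw [hH, Subgroup.mem_bot] at hx
      exact hg (H02.inv_conj_eq_one_iff.1 hx)
    exact ⟨⟨⟨fun x y => hcomm x y (hall _) (hall _) (hall _)⟩⟩, hall⟩
  · right
    have hF : Cfsg.IsFrobeniusComplement (stabilizer G a) := by
      rw [H02.isFrob_iff]
      refine ⟨hH, fun ht => hH ?_, fun g h hh h1 hg => ?_⟩
      · rw [eq_bot_iff]
        intro g _
        rw [Subgroup.mem_bot]
        apply FaithfulSMul.eq_of_smul_eq_smul (α := Ω)
        intro x
        obtain ⟨k, rfl⟩ := exists_smul_eq G a x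
        have hk : k • a = a := (ht ▸ Subgroup.mem_top k : k ∈ stabilizer G a)
        have hg : g • a = a := (ht ▸ Subgroup.mem_top g : g ∈ stabilizer G a)
        rw [hk, hg, one_smul]
      · by_contra hga
        apply h1
        refine hs h a (g⁻¹ • a) (fun e => hga ?_) hh ?_
        · rw [mem_stabilizer_iff]; rw [eq_inv_smul_iff] at e; exact e
        · rw [mem_stabilizer_iff, mul_smul, mul_smul, smul_eq_iff_eq_inv_smul] at hg
          exact hg
    have hsq : ∀ x ∈ Cfsg.frobeniusKernel (stabilizer G a), x ^ 2 = 1 := by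
      intro x hx
      rcases H02.mem_frobKer.1 hx with h | h
      · simp [h]
      · exact hder x h
    obtain ⟨N, hN, -, -⟩ := H05.frobenius_kernel_isComplement hF
    refine ⟨_, hF, hsq, fun x hx y hy => hcomm x y (hsq x hx) (hsq y hy) (hsq _ ?_)⟩
    rw [← hN] at hx hy ⊢
    exact N.mul_mem hx hy

end Cfsg.Agent.S3555
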