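import Mathlib
import Cfsg.Statements.S3643
import Cfsg.Agent.H19.RecM12
import Cfsg.Agent.H19.DegG
import Cfsg.Agent.H19.Ord11
import Cfsg.Agent.S2034
import Cfsg.Agent.S2060

set_option autoImplicit false
open Cfsg

namespace Cfsg.Agent.S3643

/-- Let G be a finite group of the same order as the Mathieu group M₁₂ whose character degree graph equals that of M₁₂ (same primes dividing some irreducible complex character degree, same pairs of distinct primes whose product divides some degree). Then G is isomorphic to M₁₂ or to the direct product of the alternating group of degree 4 with M₁₁. -/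
theorem result {G : Type*} [Group G] [Finite G] (hcard : Nat.card G = Nat.card ↥Cfsg.Spor.M12) (hΔ : Cfsg.degreePrimes G = Cfsg.degreePrimes ↥Cfsg.Spor.M12 ∧ Cfsg.degreeGraph G = Cfsg.degreeGraph ↥Cfsg.Spor.M12) :
    Nonempty (G ≃* ↥Cfsg.Spor.M12) ∨ Nonempty (G ≃* alternatingGroup (Fin 4) × ↥Cfsg.Spor.M11) := by
  open H05 H19 Subgroup in
  classical
  have p11 := Fact.mk (by norm_num : Nat.Prime 11)
  have p5 := Fact.mk Nat.prime_five
  have h := hcard.trans H14.card_M12
  have := H14.simple_M12
  have := Fintype.ofFinite Spor.M12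
  obtain ⟨S⟩ := exists_m12S H14.card_M12
  obtain ⟨T⟩ := S.exists_m12T H14.card_M12
  obtain ⟨-, -, -, _, ⟨χ, rfl⟩, h1⟩ : (degreeGraph G).Adj 5 11 :=
    hΔ.2 ▸ ⟨by norm_num, p5.out, p11.out, _, ⟨T.h₁, rfl⟩, by simp [T.deg']⟩
  obtain ⟨-, -, -, _, ⟨ψ, rfl⟩, h2⟩ : (degreeGraph G).Adj 3 11 :=
    hΔ.2 ▸ ⟨by norm_num, Nat.prime_three, p11.out, _, ⟨T.d, rfl⟩, by simp [T.deg']⟩
  obtain ⟨E, _, h3, h4, h5, h6⟩ := exists_comp_of_deg (p := 11) (by omega) (h ▸ pow_mod_ne_one_of_list (qs := [2, 3, 5, 11])
    (B := 17) (by decide) (by norm_num) (by norm_num) (by norm_num) (by decide +kernel)) χ.2 (by omega)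
  have h7 := (center E).card_mul_index
  have h8 := E.card_mul_index
  rcases card_of_dvd_95040 h4 (h ▸ (card_quotient_dvd_card _).trans (card_subgroup_dvd_card E)) h6 with h9 | h9 | h9
  · have := Fintype.ofFinite E
    obtain ⟨θ, h10, h11⟩ := (χ.2.isCharacter.restrict E).exists_constituent fun e => χ.2.apply_one_ne_zero (congrFun e 1)
    have h12 : (center E).index = 660 := h9
    rw [h12] at h7
    have := dvd_deg_of_normal (p := 5) (by omega) (by omega) χ.2 (by omega) h10 h11
    have := dvd_deg_of_normal (p := 11) (by omega) (by omega) χ.2 (by omega) h10 h11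
    have := Nat.pow_le_pow_left (show 55 ≤ charDegree θ by have := h10.charDegree_pos; omega) 2
    have := H06.charDegree_sq_le_index_center h10
    omega
  · obtain ⟨e⟩ := isoM11_of_simple h9
    have h10 := center_eq_bot_of_mult S2034.result e h5
    let e' : E ≃* Spor.M11 := (QuotientGroup.quotientBot.symm.trans (QuotientGroup.quotientMulEquivOfEq h10.symm)).trans e
    have h11 : Nat.card (Out E) = 1 := (Nat.card_congr (QuotientGroup.congr (Inn E) (Inn Spor.M11) (MulAut.congr e') (by
      ext φ
      refine ⟨?_, fun ⟨y, hy⟩ => ⟨_, ⟨e'.symm y, rfl⟩, by ext1 z; simp [← hy]⟩⟩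
      rintro ⟨_, ⟨y, rfl⟩, rfl⟩
      exact ⟨e' y, by ext1 z; simp⟩)).toEquiv).trans S2060.result
    obtain ⟨f⟩ := prod_of_out h10 h11
    have h12 := Nat.card_congr f.toEquiv
    rw [Nat.card_prod, Nat.card_congr e'.toEquiv, H14.card_M11] at h12
    obtain ⟨φ, θ, h13, h14, h15⟩ := (H06.isIrr_prod_iff _).1 (ψ.2.comp_mulEquiv f.symm)
    have h16 := congrFun h15 1
    simp only [map_one, Prod.fst_one, Prod.snd_one, ← ψ.2.charDegree_eq, ← h13.charDegree_eq, ← h14.charDegree_eq] at h16
    rw [show charDegree (ψ : G → ℂ) = charDegree φ * charDegree θ by exact_mod_cast h16] at h2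
    have h17 := (H06.charDegree_sq_le_index_center h13).trans (Nat.le_of_dvd Nat.card_pos (index_dvd_card _))
    have h18 : charDegree φ < 4 := lt_of_pow_lt_pow_left₀ 2 (by norm_num) (by omega)
    have := h13.charDegree_pos
    have := H14.simple_M11
    have := e'.isSimpleGroup
    obtain ⟨U⟩ := exists_m11T ((Nat.card_congr e'.toEquiv).trans H14.card_M11)
    obtain ⟨e''⟩ := A4_of_deg (by omega) h13 (by
      have := U.da; have := U.db; have := U.dc; have := U.dd; have := U.ds; have := U.ds'; have := U.de; have := U.df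
      have := U.dh; have := charDegree_irrOne E
      have h19 : charDegree θ ∈ [1, 10, 11, 16, 44, 45, 55] := by
        rcases U.cases ⟨θ, h14⟩ with e | e | e | e | e | e | e | e | e | e <;> simp [show θ = _ from congrArg Subtype.val e, *]
      generalize charDegree θ = a at *
      generalize charDegree φ = b at *
      fin_cases h19 <;> interval_cases b <;> simp at h2 ⊢)
    exact Or.inr ⟨f.trans (e''.prodCongr e')⟩
  · have h10 : (center E).index = 95040 := h9
    have h11 : Nat.card (center E) = 1 ∧ E.index = 1 := by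
      rw [← h7, h10, h] at h8
      exact mul_eq_one.1 (by nlinarith)
    have := ((QuotientGroup.quotientMulEquivOfEq (card_eq_one.1 h11.1)).trans QuotientGroup.quotientBot).trans
      ((MulEquiv.subgroupCongr (index_eq_one.1 h11.2)).trans topEquiv) |>.symm.isSimpleGroup
    exact Or.inl (isoM12_of_simple h)

end Cfsg.Agent.S3643
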