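import Mathlib
import Cfsg.Statements.S3668
import Cfsg.Agent.H19.DegI

set_option autoImplicit false
open Cfsg

namespace Cfsg.Agent.S3668

/-- The character degree graph of a finite group has as vertices the primes dividing some irreducible complex character degree, two distinct primes being joined when their product divides some irreducible character degree; two groups have the same character degree graph when they have the same vertices and the same joined pairs. Let S be a finite non-abelian simple group of order less than 6000. If a finite group G has the same order as S and the same character degree graph as S, then G is isomorphic to S. -/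
theorem result {S : Type*} [Group S] [Finite S] [IsSimpleGroup S] (hS : ¬ IsMulCommutative S)
    (hlt : Nat.card S < 6000) {G : Type*} [Group G] [Finite G] (hcard : Nat.card G = Nat.card S) (hΓ : Cfsg.degreePrimes G = Cfsg.degreePrimes S ∧ Cfsg.degreeGraph G = Cfsg.degreeGraph S) :
    Nonempty (G ≃* S) := by
  open H05 H19 Subgroup in
  classical
  suffices IsSimpleGroup G from equiv_of_simple_lt_6000 hS hlt hcard
  by_contra hG
  have direct : ∀ {n p q : ℕ}, Nat.card S = n → p ∈ degreePrimes S → q ∈ degreePrimes S → _ → False := fun h h1 h2 h3 => by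
    obtain ⟨E, -, -, h4, -⟩ := exists_comp_small (hcard.trans h) (hΓ.1 ▸ h1) (hΓ.1 ▸ h2) [] h3 hG
    simp at h4
  have h := card_mem_of_lt_6000 hS hlt
  simp only [List.mem_cons, List.not_mem_nil, or_false] at h
  rcases h with h | h | h | h | h | h | h | h | h | h | h
  · have k := ((l2_facts 4 h (by decide)).1 5).2 (by norm_num)
    exact direct h k k (by decide +kernel)
  · exact direct h (((l2_facts 7 h (by decide)).1 7).2 (by norm_num)) (((l2_facts 7 h (by decide)).1 2).2 (by norm_num))
      (by decide +kernel)
  · obtain ⟨k1, k2⟩ := l2_facts 9 h (by decide)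
    have k := hΓ.1 ▸ (k1 5).2 (by norm_num)
    obtain ⟨E, _, _, h4, h5⟩ := exists_comp_small (hcard.trans h) k k [60] (by decide +kernel) hG
    have := alternatingGroup.isSimpleGroup (α := Fin 5) (by simp)
    exact absurd ((k2 2 3).1 (hΓ.2 ▸ edge_of_A5 (hcard.trans h) (H08.A5_of_simple (List.mem_singleton.1 h4)).some h5
      (hΓ.2 ▸ (k2 2 5).2 (by norm_num)) (((l2_facts 4 H08.card_A5 (by decide)).1 3).2 (by norm_num)))) (by norm_num)
  · obtain ⟨k1, k2⟩ := l2_facts 8 h (by decide)
    obtain ⟨E, _, _, h4, -⟩ := exists_comp_small (hcard.trans h) (hΓ.1 ▸ (k1 7).2 (by norm_num))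
      (hΓ.1 ▸ (k1 2).2 (by norm_num)) [168] (by decide +kernel) hG
    obtain ⟨h5, h6, h7, d, h8, h9⟩ := ((l2_facts 7 (List.mem_singleton.1 h4) (by decide)).2 2 3).2 (by norm_num)
    obtain ⟨θ, rfl⟩ := L.SLc.charDegrees_mono _ (QuotientGroup.mk'_surjective _) h8
    obtain ⟨χ, h10⟩ := H07.exists_over_dvd E θ
    exact absurd ((k2 2 3).1 (hΓ.2 ▸ ⟨h5, h6, h7, _, ⟨χ, rfl⟩, h9.trans h10⟩)) (by norm_num)
  · have k := ((l2_facts 11 h (by decide)).1 11).2 (by norm_num)
    exact direct h k k (by decide +kernel)
  · have k := ((l2_facts 13 h (by decide)).1 13).2 (by norm_num)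
    exact direct h k k (by decide +kernel)
  · have k := ((l2_facts 17 h (by decide)).1 17).2 (by norm_num)
    exact direct h k k (by decide +kernel)
  · obtain ⟨k1, k2, k3⟩ := hΓ.1 ▸ primes_2520 h
    replace h := hcard.trans h
    obtain ⟨E, _, -, h4, -⟩ := exists_comp_small h k3 k1 [168, 504] (by decide +kernel) hG
    obtain ⟨E', _, -, h5, h6⟩ := exists_comp_small h k2 k2 [60, 360] (by decide +kernel) hG
    simp only [List.mem_cons, List.not_mem_nil, or_false] at h4 h5
    have p5 := Fact.mk Nat.prime_five
    have h7 := (center E).card_mul_index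
    have h8 : (centralizer (E : Set G)).subgroupOf E = center E := Subgroup.ext fun y =>
      ⟨fun e => mem_center_iff.2 fun z => Subtype.ext (e z z.2), fun e z hz =>
        congrArg Subtype.val (mem_center_iff.1 e ⟨z, hz⟩)⟩
    have h9 := card_mul_le_inf (le_top (a := centralizer (E : Set G))) (le_top (a := E))
    have h10 := card_inf_eq (H := centralizer (E : Set G)) (K := E)
    rw [h8] at h10
    rw [← h10, ← h7, card_top, h, mul_left_comm] at h9
    have h11 := Nat.le_of_mul_le_mul_left h9 Nat.card_pos
    have h12 := card_le_of_le (h6 (centralizer (E : Set G)) inferInstance (by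
      by_cases h12 : 5 ∣ Nat.card E
      · exact (((Nat.Prime.dvd_mul p5.out).1 (h7 ▸ h12)).resolve_right fun e : 5 ∣ Nat.card (E ⧸ center E) => by omega).trans
          (h10 ▸ card_dvd_of_le inf_le_left)
      · obtain ⟨x, hx⟩ := exists_prime_orderOf_dvd_card' (G := G) 5 (by omega)
        have : x ∈ centralizer (E : Set G) := fun k hk => mem_centralizer_singleton_iff.1 (le_centralizer_of_normal hx h12
          (fun q a hq e => pow_mod_ne_one_of_list (n := 2520) (qs := [2, 3, 5, 7]) (B := 12) (by decide) (by norm_num)
            (by norm_num) (by norm_num) (by decide +kernel) q a hq (e.trans (h ▸ card_subgroup_dvd_card E))) hk)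
        exact hx ▸ Subgroup.orderOf_dvd_natCard _ this))
    have h13 := Nat.le_of_dvd Nat.card_pos (card_quotient_dvd_card (center E'))
    have := Nat.mul_le_mul (show 60 ≤ Nat.card (centralizer (E : Set G)) by omega)
      (show 168 ≤ Nat.card (E ⧸ center E) by omega)
    exact absurd (this.trans h11) (by norm_num)
  · have k := ((l2_facts 19 h (by decide)).1 19).2 (by norm_num)
    exact direct h k k (by decide +kernel)
  · have k := ((l2_facts 16 h (by decide)).1 17).2 (by norm_num)
    exact direct h k k (by decide +kernel)
  · exact direct h (facts_5616 h).2.2.2.1 (facts_5616 h).2.2.2.2 (by decide +kernel)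

end Cfsg.Agent.S3668
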