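import Mathlib
import Cfsg.Statements.S3755
import Cfsg.Agent.H01.KS101

set_option autoImplicit false
open Cfsg

namespace Cfsg.Agent.S3755

/-- Let M and V be subgroups of a finite group with V an elementary abelian 2-group, M normalizing V and acting faithfully on it (M ∩ C(V) = 1), and C_M(O_{2'}(M)) ≤ O_{2'}(M). If some elementary abelian 2-subgroup A of M satisfies |V : C_V(A)| < |A|², then M has a section isomorphic to the symmetric group of degree 3. -/
theorem result {X : Type*} [Group X] [Finite X] (M V : Subgroup X) (hV : Cfsg.IsElementaryAbelian 2 V) (hMV : M ≤ Subgroup.normalizer (V : Set X)) (hfaith : M ⊓ Subgroup.centralizer (V : Set X) = ⊥) (hcon : Subgroup.centralizer (Cfsg.pPrimeCore 2 ↥M : Set ↥M) ≤ Cfsg.pPrimeCore 2 ↥M) (A : Subgroup X) (hAM : A ≤ M) (hA : Cfsg.IsElementaryAbelian 2 A) (hsmall : (V ⊓ Subgroup.centralizer (A : Set X)).relIndex V < Nat.card A ^ 2) : Cfsg.Involves (Equiv.Perm (Fin 3)) ↥M := by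
  by_contra hs
  obtain ⟨n, hn⟩ := BG.Cfsg.IsElementaryAbelian.exists_isElem hA Nat.prime_two
  have h := H01.two_f (K := (Cfsg.pPrimeCore 2 M).map M.subtype) hV hMV hfaith (Subgroup.map_subtype_le _)
    (H26.le_normalizer_map_subtype _) (by
      rw [H26.card_map_subtype]; exact fun e => by simpa using (H02.pPrimeCore_coprime 2 M).coprime_dvd_left e)
    (by rw [← H26.map_subtype_centralizer]; exact Subgroup.map_mono hcon) (mt H17.sec_iff_involves.mp hs) n A (hn.mono hAM)
  rw [Subgroup.inf_relIndex_left] at hsmall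
  omega

end Cfsg.Agent.S3755
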