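import Mathlib
import Cfsg.Statements.S3807
import Cfsg.Agent.H04.Count

set_option autoImplicit false
open Cfsg

open scoped commutatorElement

namespace Cfsg.Agent.S3807

/-- Let S be a non-abelian finite p-group with an abelian subgroup A of index p. Then [S : Z(S)] = p·#[S,S], and either [S,S] has order p, S/Z(S) is elementary abelian of order p², and S has exactly p + 1 abelian subgroups of index p; or [S,S] has order at least p² and A is the only abelian subgroup of index p in S. -/
theorem result {S : Type*} [Group S] [Finite S] (p : ℕ) [Fact p.Prime] (hS : IsPGroup p S) (hna : ¬ IsMulCommutative S)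
    (A : Subgroup S) (hA : IsMulCommutative ↥A) (hAi : A.index = p) :
    (Subgroup.center S).index = p * Nat.card (commutator S) ∧
      ((Nat.card (commutator S) = p ∧ Cfsg.IsElementaryAbelian p (⊤ : Subgroup (S ⧸ Subgroup.center S)) ∧
          Nat.card (S ⧸ Subgroup.center S) = p ^ 2 ∧
          Nat.card {B : Subgroup S // IsMulCommutative ↥B ∧ B.index = p} = p + 1) ∨
        (p ^ 2 ≤ Nat.card (commutator S) ∧ ∀ B : Subgroup S, IsMulCommutative ↥B → B.index = p → B = A)) := by
  have hp : p.Prime := Fact.out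
  haveI := H04.normal_of_index_eq hS hAi
  have hco := (H04.isCoatom_iff_index_eq hS).mpr hAi
  have key : ∀ B : Subgroup S, IsMulCommutative B → B.index = p → Subgroup.center S ≤ B :=
    fun B hB hBi => by
      by_contra h
      obtain ⟨z, hz, hzB⟩ := SetLike.not_le_iff_exists.mp h
      exact hna (H04.isMulCommutative_of_sup_zpowers_eq_top hB (Subgroup.center_le_centralizer _ hz)
        (H04.sup_zpowers_eq_top_of_isCoatom ((H04.isCoatom_iff_index_eq hS).mpr hBi) hzB))
  obtain ⟨b, hb⟩ : ∃ b, b ∉ A := by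
    by_contra! h; exact hco.1 (eq_top_iff.mpr fun x _ => h x)
  have hAb := H04.sup_zpowers_eq_top_of_isCoatom hco hb
  let f : A →* S := MonoidHom.mk' (fun a => ⁅(a : S), b⁆) fun a c => by
    have h1 : ∀ a ∈ A, ⁅a, b⁆ ∈ A := fun a ha =>
      Subgroup.commutator_le_left A ⊤ (Subgroup.commutator_mem_commutator ha (Subgroup.mem_top b))
    rw [Subgroup.coe_mul, H04.commutatorElement_mul_left_of_commute
      (BG.mul_comm_of_abelian hA a.2 (h1 c c.2)), BG.mul_comm_of_abelian hA (h1 c c.2) (h1 a a.2)]
  have h1 : f.range = commutator S := Subgroup.ext fun x => by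
    rw [H04.mem_commutator_iff_of_sup_zpowers hA hAb]
    exact ⟨fun ⟨a, h⟩ => ⟨a, a.2, h.symm⟩, fun ⟨a, ha, h⟩ => ⟨⟨a, ha⟩, h.symm⟩⟩
  have h2 : f.ker = (Subgroup.center S).subgroupOf A := Subgroup.ext fun a => by
    rw [Subgroup.mem_subgroupOf, ← Subgroup.centralizer_univ, ← Subgroup.coe_top, ← hAb, BG.cent_sup,
      BG.cent_zpowers]
    exact ⟨fun h => ⟨BG.abelian_iff.mp hA a.2, BG.mem_cent1.mpr
      (commutatorElement_eq_one_iff_mul_comm.mp h)⟩,
      fun h => commutatorElement_eq_one_iff_mul_comm.mpr (BG.mem_cent1.mp h.2)⟩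
  have h3 : (Subgroup.center S).index = p * Nat.card (commutator S) := by
    rw [← Subgroup.relIndex_mul_index (key A hA hAi), hAi, mul_comm, ← h1, ← Subgroup.index_ker, h2]
    rfl
  refine ⟨h3, ?_⟩
  have h4 := H04.le_card_of_ne_bot (hS.to_subgroup (commutator S))
    fun h => hna ((commutator_eq_bot_iff S).mp h)
  obtain h5 | h5 := h4.eq_or_lt
  · have h6 : (Subgroup.center S).index = p ^ 2 := by rw [h3, ← h5, sq]
    have h7 := H04.le_center_of_card_eq hS _ h5.symm
    have h8 : ∀ x : S, x ^ p ∈ Subgroup.center S := fun x => Subgroup.mem_center_iff.mpr fun y => by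
      have h9 := Subgroup.commutator_mem_commutator (Subgroup.mem_top y) (Subgroup.mem_top x)
      rw [← commutatorElement_eq_one_iff_mul_comm,
        H04.commutatorElement_pow_right (H04.commute_of_mem_center (h7 h9) x), h5]
      exact BG.pow_card_eq_one h9
    refine Or.inl ⟨h5.symm, ⟨H04.isMulCommutative_top_iff.mpr (H04.isMulCommutative_of_card_le_sq
      (hS.to_quotient _) h6.le), fun x _ => ?_⟩, h6, ?_⟩
    · obtain ⟨x, rfl⟩ := QuotientGroup.mk_surjective x
      exact (QuotientGroup.eq_one_iff _).mpr (h8 x)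
    · rw [← H04.eq_of_mul_pred_sq hp.one_lt ((H04.ncard_index_eq_prime _ h7 h8).trans h6)]
      refine Nat.card_congr (Equiv.subtypeEquivRight fun B => ⟨fun h => ⟨key B h.1 h.2, h.2⟩,
        fun h => ⟨H04.isMulCommutative_of_relIndex_le (hS.to_subgroup B) h.1
          (Subgroup.center_le_centralizer _) (Nat.le_of_mul_le_mul_right (le_of_eq ?_) hp.pos), h.2⟩⟩)
      have h9 := B.card_mul_index
      rw [h.2, ← (Subgroup.center S).card_mul_index, h6] at h9
      rw [h9]; ring
  · have h6 := H04.pow_succ_le_of_lt_card (k := 1) (hS.to_subgroup _) (by rwa [pow_one])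
    refine Or.inr ⟨h6, fun B hB hBi => by_contra fun hne => ?_⟩
    have h7 : B ⊔ A = ⊤ := hco.2 _ (right_lt_sup.mpr fun h =>
      hne (((H04.isCoatom_iff_index_eq hS).mpr hBi).le_iff.mp h |>.resolve_left hco.1).symm)
    have h8 : B ⊓ A ≤ Subgroup.center S := by
      rw [← Subgroup.centralizer_univ, ← Subgroup.coe_top, ← h7]
      exact BG.le_cent_sup (inf_le_left.trans (BG.abelian_iff.mp hB))
        (inf_le_right.trans (BG.abelian_iff.mp hA))
    have h9 := (Nat.le_of_dvd (Nat.pos_of_ne_zero Subgroup.FiniteIndex.index_ne_zero)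
      (Subgroup.index_dvd_of_le h8)).trans (Subgroup.index_inf_le)
    rw [h3, hAi, hBi] at h9
    exact absurd (Nat.le_of_mul_le_mul_left h9 hp.pos) h5.not_ge

end Cfsg.Agent.S3807
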