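import Mathlib
import Cfsg.Statements.S3808
import Cfsg.Agent.H04.Extraspecial

set_option autoImplicit false
open Cfsg

namespace Cfsg.Agent.S3808

/-- Let S be a finite p-group with an extraspecial subgroup Q of index p. Then either Z(S) = Z(Q), or S = Q·Z(S) and Z(S) has order p². -/
theorem result {S : Type*} [Group S] [Finite S] (p : ℕ) [Fact p.Prime] (hS : IsPGroup p S) (Q : Subgroup S) (hQ : Cfsg.IsExtraspecial p ↥Q) (hQi : Q.index = p) :
    Subgroup.center S = (Subgroup.center ↥Q).map Q.subtype ∨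
      (Q ⊔ Subgroup.center S = ⊤ ∧ Nat.card (Subgroup.center S) = p ^ 2) := by
  obtain ⟨z, h1, h2, -⟩ := H04.exists_aes_of_isExtraspecial' hQ
  haveI := H04.normal_of_index_eq hS hQi
  have h3 : Nat.card ↥(Q ⊓ Subgroup.centralizer (Q : Set S)) = p := by rw [h2, Nat.card_zpowers, h1.ord]
  have h4 : Subgroup.center S ⊓ Q = Q ⊓ Subgroup.centralizer (Q : Set S) :=
    le_antisymm (le_inf inf_le_right (inf_le_left.trans (Subgroup.center_le_centralizer _)))
      (le_inf (H04.le_center_of_card_eq hS _ h3) inf_le_left)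
  rw [H04.map_subtype_center]
  by_cases h5 : Subgroup.center S ≤ Q
  · exact Or.inl (by rw [← h4, inf_eq_left.mpr h5])
  have h6 : Q ⊔ Subgroup.center S = ⊤ :=
    ((H04.isCoatom_iff_index_eq hS).mpr hQi).2 _ (left_lt_sup.mpr h5)
  refine Or.inr ⟨h6, ?_⟩
  rw [← H04.card_inf_mul_relIndex Q, inf_comm, h4, h3, ← Subgroup.relIndex_sup_left, h6,
    Subgroup.relIndex_top_right, hQi, sq]

end Cfsg.Agent.S3808
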