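import Mathlib
import Cfsg.Statements.S3809
import Cfsg.Agent.H04.Extraspecial

set_option autoImplicit false
open Cfsg

namespace Cfsg.Agent.S3809

/-- Let S be a finite p-group with an extraspecial subgroup of index p. Then S has order p^(2+2n) for some n ≥ 1, derived length at most 3, and exponent dividing p³. -/
theorem result {S : Type*} [Group S] [Finite S] (p : ℕ) [Fact p.Prime] (hS : IsPGroup p S) (Q : Subgroup S) (hQ : Cfsg.IsExtraspecial p ↥Q) (hQi : Q.index = p) :
    (∃ n : ℕ, 1 ≤ n ∧ Nat.card S = p ^ (2 + 2 * n)) ∧ derivedSeries S 3 = ⊥ ∧ ∀ x : S, x ^ (p ^ 3) = 1 := by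
  obtain ⟨z, h1, h2, -⟩ := H04.exists_aes_of_isExtraspecial' hQ
  obtain ⟨n, h3, hn⟩ := H04.exists_card_of_isExtraspecial hQ
  haveI := H04.normal_of_index_eq hS hQi
  refine ⟨⟨n, h3, by rw [← Q.card_mul_index, hn, hQi]; ring⟩, ?_, fun x => ?_⟩
  · have h4 : derivedSeries S 2 ≤ Subgroup.zpowers z :=
      (BG.der_mono (H04.commutator_le_of_index_eq hS hQi)).trans h1.der_le
    exact BG.eq_bot_mono (BG.abelian_iff_der.mp inferInstance) (BG.der_mono h4)
  · rw [pow_succ, pow_succ, pow_one, pow_mul, pow_mul]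
    exact h1.pow_eq_one (h1.pow _ (hQi ▸ Q.pow_index_mem x))

end Cfsg.Agent.S3809
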