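import Mathlib
import Cfsg.Statements.S3810
import Cfsg.Agent.H04.Extraspecial

set_option autoImplicit false
open Cfsg

namespace Cfsg.Agent.S3810

/-- Let S be a finite p-group with an extraspecial subgroup of index p. Then S has an abelian subgroup of index p if and only if S has order p⁴. -/
theorem result {S : Type*} [Group S] [Finite S] (p : ℕ) [Fact p.Prime] (hS : IsPGroup p S) (Q : Subgroup S) (hQ : Cfsg.IsExtraspecial p ↥Q) (hQi : Q.index = p) :
    (∃ A : Subgroup S, IsMulCommutative ↥A ∧ A.index = p) ↔ Nat.card S = p ^ 4 := by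
  have hp : p.Prime := Fact.out
  obtain ⟨n, h3, hn⟩ := H04.exists_card_of_isExtraspecial hQ
  have h4 : Nat.card S = p ^ (2 * n + 2) := by rw [← Q.card_mul_index, hn, hQi]; ring
  constructor
  · rintro ⟨A, hA, hAi⟩
    haveI := H04.normal_of_index_eq hS hAi
    have h5 := H04.card_le_of_isExtraspecial hQ hn (A := A.subgroupOf Q) inferInstance
    have h6 := (A.subgroupOf Q).card_mul_index
    have h7 : (A.subgroupOf Q).index ≤ p :=
      Nat.le_of_dvd hp.pos (hAi ▸ Subgroup.relIndex_dvd_index_of_normal A Q)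
    have h8 := Nat.mul_le_mul h5 h7
    rw [h6, hn, ← pow_succ, Nat.pow_le_pow_iff_right hp.one_lt] at h8
    rw [h4, show n = 1 by omega]
  · intro h
    haveI := hS.isNilpotent
    obtain ⟨A, -, hA, hc, hC⟩ := H04.exists_scn (⊥ : Subgroup S) inferInstance inferInstance
    obtain ⟨a, ha⟩ := H04.card_eq_pow hS A
    have h5 := H04.card_le_of_scn hS A hC.le ha
    rw [h, Nat.pow_le_pow_iff_right hp.one_lt] at h5
    have h6 : 3 ≤ a := by
      by_contra h6
      exact absurd (h5.trans (Nat.choose_le_choose 2 (show a + 1 ≤ 3 by omega))) (by decide)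
    obtain ⟨B, hB, h7⟩ := H04.exists_le_card_eq (hS.to_subgroup A) (k := 3)
      (ha ▸ Nat.pow_le_pow_right hp.pos h6)
    have h8 := B.card_mul_index
    rw [h, h7, pow_succ p 3] at h8
    exact ⟨B, BG.abelian_of_le hc hB, Nat.eq_of_mul_eq_mul_left (pow_pos hp.pos 3) h8⟩

end Cfsg.Agent.S3810
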