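import Mathlib
import Cfsg.Statements.S3811
import Cfsg.Agent.H04.Soft

set_option autoImplicit false
open Cfsg

namespace Cfsg.Agent.S3811

/-- Let P be a finite p-group and E an abelian subgroup of P that contains its centralizer, has index p in its normalizer, and has index at least p² in P. Then the subgroups of P containing E are totally ordered by inclusion, each proper one has index p in its normalizer (so they form the normalizer tower of E, with all steps of index p), and the i-th member of the tower above E has nilpotency class i + 1 whenever it is a proper subgroup of P. -/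
theorem result {P : Type*} [Group P] [Finite P] (p : ℕ) [Fact p.Prime] (hP : IsPGroup p P)
    (E : Subgroup P) (hEab : IsMulCommutative ↥E) (hC : Subgroup.centralizer (E : Set P) ≤ E)
    (hN : (E.subgroupOf (Subgroup.normalizer (E : Set P))).index = p) (hidx : p ^ 2 ≤ E.index) :
    (∀ K L : Subgroup P, E ≤ K → E ≤ L → K ≤ L ∨ L ≤ K) ∧
      (∀ K : Subgroup P, E ≤ K → K ≠ ⊤ → (K.subgroupOf (Subgroup.normalizer (K : Set P))).index = p) ∧
      ∀ (i : ℕ) (K : Subgroup P) [Group.IsNilpotent ↥K], E ≤ K → K ≠ ⊤ → K.index * p ^ i = E.index →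
        Group.nilpotencyClass ↥K = i + 1 := by
  open Subgroup BG H04 in
  have hpp : p.Prime := Fact.out
  haveI := hP.isNilpotent
  have h1 := soft hP hEab hC (by rw [← H04.card_mul_relIndex (le_norm E), mul_comm, ← hN]; rfl)
  refine ⟨fun K L hK hL => ?_, fun K hK hK' => relIndex_eq_of_card_eq_mul (le_norm K) (h1 K hK hK'),
    fun i K _ hK hK' hi => ?_⟩
  · by_contra! h4
    have h5 := h1 _ (le_inf hK hL) (inf_lt_left.mpr h4.1).ne_top
    exact (lt_of_card_eq_mul (le_norm _) h5).not_ge (le_inf
      (le_of_lt_of_card_eq_mul (hP.to_subgroup _) (lt_inf_normalizer (inf_lt_left.mpr h4.1)) h5)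
      (le_of_lt_of_card_eq_mul (hP.to_subgroup _) (lt_inf_normalizer (inf_lt_right.mpr h4.2)) h5))
  have h2 : Nat.card K = p ^ i * Nat.card E := by
    refine Nat.eq_of_mul_eq_mul_left (Nat.pos_of_ne_zero K.index_ne_zero_of_finite) ?_
    rw [← mul_assoc, hi, index_mul_card, index_mul_card]
  rcases hK.eq_or_lt with rfl | h3
  · obtain rfl : i = 0 := (Nat.pow_eq_one.mp (Nat.eq_of_mul_eq_mul_right Nat.card_pos
      (h2.symm.trans (one_mul _).symm))).resolve_left hpp.ne_one
    refine le_antisymm (le_ucs_iff.mp (le_ucs_succ.mpr ⟨le_rfl, (abelian_iff_der.mp hEab).trans_le bot_le⟩))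
      (Nat.succ_le_of_lt <| not_le.mp fun h => hK' (eq_top_iff.mpr fun x _ => hC fun y hy => ?_))
    rw [mem_bot.mp ((ucs_zero E).le (le_ucs_iff.mpr h hy)), mul_one, one_mul]
  · exact (soft_step hP hEab hC h3 hK' fun L h4 h5 => h1 L h4 h5.ne_top).2 i h2

end Cfsg.Agent.S3811
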