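import Mathlib
import Cfsg.Agent.H20.Tr2
-- Template for statement S3814 (row 3814; see /opt/grader/pristine/manifest.json for weights).
-- Copy to Cfsg/Agent/S3814.lean and replace the sorry. The statement below is byte-identical to the frozen
-- statement Cfsg.CfsgFrozen.S3814 (Cfsg/Statements/S3814.lean; the theorem Cfsg.fg3_nonsolvable_of_four_primes_pairwise_not_triply_joined);
-- the grader kernel-checks Cfsg.Agent.S3814.result against that frozen type. Keep the theorem IN THIS FILE
-- (a `result` declared elsewhere and merely imported here is not credited); helpers may live anywhere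
-- under Cfsg/Agent/.
import Cfsg.Statements.S3814
-- import your own Cfsg.Agent.* helpers here

set_option autoImplicit false
open Cfsg

open H20.Tr

namespace Cfsg.Agent.S3814

/-- A criterion for nonsolvability from element orders: let G be a finite group and σ a set of at least four primes such that for all distinct p, q ∈ σ the product pq is the order of some element of G, while for all pairwise distinct p, q, r ∈ σ no element of G has order pqr. Then G is not solvable. -/
theorem result {G : Type*} [Group G] [Finite G]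
    (σ : Finset ℕ) (hσ : 4 ≤ σ.card) (hprime : ∀ p ∈ σ, p.Prime)
    (h2 : ∀ p ∈ σ, ∀ q ∈ σ, p ≠ q → ∃ g : G, orderOf g = p * q)
    (h3 : ∀ p ∈ σ, ∀ q ∈ σ, ∀ r ∈ σ, p ≠ q → q ≠ r → p ≠ r → ∀ g : G, orderOf g ≠ p * q * r) :
    ¬ Group.IsSolvable G := by
----
  obtain ⟨τ, hτ, h4⟩ := Finset.exists_subset_card_eq hσ
  obtain ⟨p, τ', hp, rfl, h3'⟩ := Finset.card_eq_succ.1 h4
  obtain ⟨q, r, s, qr, qs, rs, rfl⟩ := Finset.card_eq_three.1 h3'
  simp only [Finset.mem_insert, Finset.mem_singleton, not_or] at hp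
  obtain ⟨pq, pr, ps⟩ := hp
  have mp : p ∈ σ := hτ (by simp)
  have mq : q ∈ σ := hτ (by simp)
  have mr : r ∈ σ := hτ (by simp)
  have ms : s ∈ σ := hτ (by simp)
  have k : ∀ {a b c : ℕ}, a ∈ σ → b ∈ σ → c ∈ σ → a ≠ b → a ≠ c → b ≠ c → NT G a b c := fun ha hb hc ab ac bc =>
    nt_of (hprime _ ha) (hprime _ hb) (hprime _ hc) ab ac bc (h3 _ ha _ hb _ hc ab bc ac)
  exact not_sol ⟨hprime _ mp, hprime _ mq, hprime _ mr, hprime _ ms, pq, pr, ps, qr, qs, rs, k mp mq mr pq pr qr, k mp mq ms pq ps qs,
    k mp mr ms pr ps rs, k mq mr ms qr qs rs⟩ (h2 _ mp _ mq pq) (h2 _ mp _ mr pr) (h2 _ mp _ ms ps) (h2 _ mq _ mr qr) (h2 _ mq _ ms qs)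
    (h2 _ mr _ ms rs)

end Cfsg.Agent.S3814
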