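import Cfsg.Statements.S3824
import Mathlib
import Cfsg.Agent.H27.Kazarin
-- import your own Cfsg.Agent.* helpers here

set_option autoImplicit false
open Cfsg

namespace Cfsg.Agent.S3824

open scoped Pointwise commutatorElement

/-- Every finite group having an abelian subgroup whose index is a power of 2 is solvable. -/
theorem result {G : Type*} [Group G] [Finite G]
    (A : Subgroup G) (hA : IsMulCommutative A) (hidx : ∃ k : ℕ, A.index = 2 ^ k) : Group.IsSolvable G := by
  have hp := Nat.prime_two
  obtain ⟨k, hi⟩ := hidx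
  have h2 : ∀ y ∈ A, H27.cs y ∣ 2 ^ k := fun y hy => hi ▸ Subgroup.index_dvd_of_le fun a ha =>
      H27.mem_cent.2 (congrArg Subtype.val (hA.is_comm.comm (⟨a, ha⟩ : A) ⟨y, hy⟩))
  have hK : A ≤ solvableRadical G := fun y hy => H27.kazarin hp (h2 y hy)
  obtain ⟨m, -, hm⟩ := (Nat.dvd_prime_pow hp).1 (hi ▸ Subgroup.index_dvd_of_le hK)
  haveI : Fact (Nat.Prime 2) := ⟨hp⟩
  haveI := (IsPGroup.of_card (G := G ⧸ solvableRadical G) hm).isNilpotent
  exact H02.isSolvable_of_normal_of_quotient (solvableRadical G)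

end Cfsg.Agent.S3824
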