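import Mathlib
import Cfsg.Statements.S3841
import Cfsg.Agent.H22.SEMod3
import Cfsg.Agent.H27.Act2

set_option autoImplicit false
open Cfsg

namespace Cfsg.Agent.S3841

/-- Let G be a finite group with a strongly embedded subgroup (a proper subgroup of even order meeting each of its conjugates by outside elements in a group of odd order), S a Sylow 2-subgroup of G, and V a finite-dimensional vector space over the field with two elements on which G acts linearly and faithfully through ρ. If S has order 2ᵏ then dim V ≥ 2k; and if Z(S) is elementary abelian of order 2ⁿ then for every nonidentity s ∈ S the image of ρ(s) − 1 has dimension at least n. -/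
theorem result {G : Type*} [Group G] [Finite G] (H : Subgroup G) (hH : Cfsg.IsStronglyEmbedded H) (S : Sylow 2 G) {V : Type*} [AddCommGroup V] [Module (ZMod 2) V] [Module.Finite (ZMod 2) V] (ρ : Representation (ZMod 2) G V) (hρ : Function.Injective ρ) : (∀ k : ℕ, Nat.card ↥(S : Subgroup G) = 2 ^ k → 2 * k ≤ Module.finrank (ZMod 2) V) ∧ ∀ n : ℕ, (∀ z ∈ (S : Subgroup G) ⊓ Subgroup.centralizer ((S : Subgroup G) : Set G), z ^ 2 = 1) → Nat.card ↥((S : Subgroup G) ⊓ Subgroup.centralizer ((S : Subgroup G) : Set G)) = 2 ^ n → ∀ s ∈ (S : Subgroup G), s ≠ 1 → n ≤ Module.finrank (ZMod 2) ↥(LinearMap.range (ρ s - 1)) := by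
  open BG SemidirectProduct in
  haveI : Finite V := Module.finite_of_finite (ZMod 2)
  let φ : G →* MulAut (Multiplicative V) :=
    { toFun := fun g => AddEquiv.toMultiplicative (LinearMap.GeneralLinearGroup.toLinearEquiv (ρ.asGroupHom g)).toAddEquiv
      map_one' := by ext; simp
      map_mul' := fun a b => by ext; simp }
  have hφ : ∀ g v, φ g v = Multiplicative.ofAdd (ρ g v.toAdd) := fun _ _ => rfl
  have hc : ∀ g v, (inl v : Multiplicative V ⋊[φ] G) ∈ C_[inr g] ↔ ρ g v.toAdd = v.toAdd := fun g v => by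
    rw [mem_cent1, eq_comm, ← mul_inv_eq_iff_eq_mul, ← map_inv, ← inl_aut, inl_inj, hφ]
    rfl
  have h : H22.FM (inr : G →* Multiplicative V ⋊[φ] G) inl.range := by
    refine ⟨⟨inferInstance, ?_⟩, fun g => ?_, fun g hg => hρ (LinearMap.ext fun v => ?_)⟩
    · rintro _ ⟨v, rfl⟩
      rw [← map_pow, show v ^ 2 = 1 from ZModModule.char_nsmul_eq_zero 2 v.toAdd, map_one]
    · rw [range_inl_eq_ker_rightHom, Subgroup.normalizer_eq_top]; trivial
    · rw [map_one]
      exact (hc g (Multiplicative.ofAdd v)).1 (mem_cent1.2 (mem_cent.1 hg _ ⟨_, rfl⟩))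
  refine ⟨fun k hk => ?_, fun n hz hn s hs s1 => ?_⟩
  · have := h.sq_le hH S
    rw [hk, ← Nat.card_congr (MonoidHom.ofInjective inl_injective).toEquiv, ← pow_mul, Nat.card_congr Multiplicative.toAdd,
      Module.natCard_eq_pow_finrank (K := ZMod 2), Nat.card_zmod, Nat.pow_le_pow_iff_right one_lt_two] at this
    omega
  obtain ⟨t, ht, t2⟩ := exists_orderOf_eq_prime Nat.prime_two (pg_dvd Nat.prime_two
    (pg_le S.isPGroup' (Subgroup.zpowers_le.2 hs)) (by rwa [Ne, Subgroup.zpowers_eq_bot]))
  have h1 := (h.rank_le hH ⟨abelian_iff.2 (inf_le_right.trans (cent_anti inf_le_left)), hz⟩ t2).trans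
    (Subgroup.relIndex_le_of_le_left (cent1_le_of_mem_zpowers (x := inr s)
    (by rw [← MonoidHom.map_zpowers]; exact Subgroup.mem_map_of_mem _ ht))
      (relIndex_ne_zero _ _))
  have e : C_[(inr s : Multiplicative V ⋊[φ] G)].comap inl = (AddMonoidHom.toMultiplicative (ρ s - 1).toAddMonoidHom).ker := by
    ext v
    rw [Subgroup.mem_comap, hc, ← sub_eq_zero]
    rfl
  rw [hn, ← Subgroup.index_comap, e, Subgroup.index_ker] at h1
  rw [← Nat.pow_le_pow_iff_right one_lt_two]
  refine h1.trans (le_of_eq ?_)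
  have := Module.natCard_eq_pow_finrank (K := ZMod 2) (V := LinearMap.range (ρ s - 1))
  rw [Nat.card_zmod] at this
  exact this ▸ rfl

end Cfsg.Agent.S3841
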