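import Mathlib
import Cfsg.Statements.S3869
import Cfsg.Agent.H16.IrrCyc

set_option autoImplicit false
open Cfsg

namespace Cfsg.Agent.S3869

open BG

theorem top_eq {G : Type*} [Group G] [Finite G] {p : ℕ} (hp : p.Prime) {A : Subgroup G}
    (hidx : A.index = p) {H : Subgroup G} (h : A ≤ H) (h' : ¬ H ≤ A) : H = ⊤ := by
  have h1 := Subgroup.relIndex_mul_index h
  rw [hidx] at h1
  rcases (Nat.dvd_prime hp).1 (Dvd.intro_left _ h1) with h2 | h2
  · exact Subgroup.index_eq_one.1 h2
  · rw [h2] at h1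
    exact absurd (Subgroup.relIndex_eq_one.1 (Nat.eq_of_mul_eq_mul_right hp.pos
      (h1.trans (one_mul p).symm))) h'

/-- Let p and q be distinct primes and G a finite non-abelian group with a normal elementary abelian q-subgroup A that is a minimal normal subgroup of G and has index p. Then A has order q^e with e the multiplicative order of q modulo p, and G is minimal non-p-closed: its Sylow p-subgroups are not normal, while in every proper subgroup and in every proper quotient of G the Sylow p-subgroups are normal. -/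
theorem result {G : Type*} [Group G] [Finite G] {p q : ℕ} [Fact p.Prime] (hq : q.Prime) (hpq : q ≠ p)
    (hna : ¬ IsMulCommutative G) (A : Subgroup G) [A.Normal] (hA : Cfsg.IsElementaryAbelian q A) (hidx : A.index = p)
    (hmin : ∀ B : Subgroup G, B.Normal → B ≤ A → B = ⊥ ∨ B = A) :
    Nat.card ↥A = q ^ orderOf (q : ZMod p) ∧ ¬ Cfsg.IsPClosed p G ∧ (∀ H : Subgroup G, H ≠ ⊤ → Cfsg.IsPClosed p ↥H) ∧
      ∀ (N : Subgroup G) [N.Normal], N ≠ ⊥ → Cfsg.IsPClosed p (G ⧸ N) := by
  have hp := (Fact.out : p.Prime)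
  have hAq : IsPGroup q A := pg_of_pow hA.2
  have hpA : ¬ p ∣ Nat.card A := pg_not_dvd hp hq hAq (Ne.symm hpq)
  have hnA : ∀ H : Subgroup G, H ≤ N_(A) := fun H => by
    rw [Subgroup.normalizer_eq_top]; exact le_top
  -- every element of order `p` generates `G` over `A` and does not centralize `A`
  have key : ∀ x : G, orderOf x = p → A ⊔ Subgroup.zpowers x = ⊤ ∧ x ∉ C_(A) := fun x hx => by
    have h1 : A ⊔ Subgroup.zpowers x = ⊤ := top_eq hp hidx le_sup_left (fun h => hpA
      (hx ▸ orderOf_dvd_card (h (Subgroup.mem_sup_right (Subgroup.mem_zpowers x)))))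
    refine ⟨h1, fun h => hna ?_⟩
    have := abelian_sup hA.1 (abelian_of_cyclic (cyclic_zpowers x))
      (cent_symm (Subgroup.zpowers_le.2 h))
    rw [h1] at this
    exact ⟨⟨fun a b => mul_comm_of_abelian this trivial trivial⟩⟩
  have irr : ∀ x : G, orderOf x = p → ∀ B ≤ A, x ∈ N_(B) → B = ⊥ ∨ B = A := fun x hx B hB hn =>
    hmin B (Subgroup.normalizer_eq_top_iff.1 (top_le_iff.1 ((key x hx).1 ▸
      sup_le (le_norm_of_abelian hA.1 hB) (Subgroup.zpowers_le.2 hn)))) hB
  have hpG : p ∣ Nat.card G := hidx ▸ A.index_dvd_card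
  obtain ⟨x, hx⟩ := exists_prime_orderOf_dvd_card' p hpG
  -- no normal subgroup disjoint from `A` has order divisible by `p`
  have nonorm : ∀ N : Subgroup G, N.Normal → N ⊓ A = ⊥ → ¬ p ∣ Nat.card N := fun N hN hd hdv => by
    obtain ⟨y, hy, ho⟩ := exists_orderOf_eq_prime hp hdv
    exact (key y ho).2 (le_cent_of_disj (hnA N) (by rw [Subgroup.normalizer_eq_top]; exact le_top)
      hd hy)
  have hrel : ∀ H : Subgroup G, H ⊓ A = ⊥ → Nat.card H ∣ p := fun H h => by
    have h1 := card_inf_mul_relIndex A H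
    rw [inf_comm, h, Subgroup.card_bot, one_mul] at h1
    rw [← h1, ← hidx]
    exact Subgroup.relIndex_dvd_index_of_normal A H
  refine ⟨H16.card_eq_pow_orderOf hp hq hpq hA (hnA ⊤ trivial) hx (irr x hx) (key x hx).2,
    fun h => ?_, fun H hH => ?_, fun N _ hN => ?_⟩
  · obtain ⟨P⟩ : Nonempty (Sylow p G) := inferInstance
    exact nonorm P (h P) (pg_inf_eq_bot hp P.isPGroup' hpA) (by
      have := (isSylowIn_top hp P).dvd_card' hp (by simpa using hpG)
      exact this)
  · by_cases hd : p ∣ Nat.card H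
    · obtain ⟨y, hy, ho⟩ := exists_orderOf_eq_prime hp hd
      rcases irr y ho (H ⊓ A) inf_le_right (norm_inf (le_norm H) (hnA H) hy) with h | h
      · refine H16.isPClosed_of_pgroup ?_
        obtain ⟨k, -, hk⟩ := (Nat.dvd_prime_pow hp (m := 1)).1 (by simpa using hrel H h)
        exact pg_of_card hk
      · exact absurd (top_le_iff.1 ((key y ho).1 ▸ sup_le (h.ge.trans inf_le_left)
          (Subgroup.zpowers_le.2 hy))) hH
    · exact H16.isPClosed_iff_sylowIn.2 ⟨⊥, sylow_bot hp hd, by rw [norm_bot]; exact le_top⟩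
  · rcases hmin (N ⊓ A) inferInstance inf_le_right with h | h
    · rcases (Nat.dvd_prime hp).1 (hrel N h) with h1 | h1
      · exact absurd (card_eq_one.1 h1) hN
      · exact absurd h1.symm.dvd (nonorm N inferInstance h)
    · refine H16.isPClosed_of_pgroup ?_
      have h1 : N.index ∣ p ^ 1 := by
        rw [pow_one, ← hidx]; exact Subgroup.index_dvd_of_le (h.ge.trans inf_le_left)
      obtain ⟨k, -, hk⟩ := (Nat.dvd_prime_pow hp).1 h1
      exact IsPGroup.of_card hk

end Cfsg.Agent.S3869
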