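import Mathlib
import Cfsg.Statements.S3868
import Cfsg.Agent.H16.IrrCyc
import Cfsg.Agent.S3869
import Cfsg.Agent.H02.MinNormal

set_option autoImplicit false
open Cfsg

namespace Cfsg.Agent.S3868

open BG

/-- common reduction: a minimal normal `p'`-subgroup `N`, a `p`-element `x` not centralizing it
such that `x` centralizes each `q`-subgroup `Q` it normalizes with `Q⟨x⟩` proper. -/
theorem red {G : Type*} [Group G] [Finite G] {p : ℕ} (hp : p.Prime) {N : Subgroup G} [N.Normal]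
    (hmin : ∀ B : Subgroup G, B.Normal → B ≤ N → B = ⊥ ∨ B = N) (hN : ¬ p ∣ Nat.card N) {x : G}
    (hx : IsPGroup p (Subgroup.zpowers x)) (hc : x ∉ C_(N))
    (h : ∀ Q ≤ N, x ∈ N_(Q) → Q ⊔ Subgroup.zpowers x ≠ ⊤ → x ∈ C_(Q)) :
    ∃ q : ℕ, q.Prime ∧ q ≠ p ∧ IsElementaryAbelian q N ∧ N ⊔ Subgroup.zpowers x = ⊤ := by
  have hnN : ∀ H : Subgroup G, H ≤ N_(N) := fun H => by
    rw [Subgroup.normalizer_eq_top]; exact le_top
  by_contra hcon
  apply hc
  rw [← le_cent1_iff]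
  refine le_of_sylows (fun q hq hd => ?_)
  obtain ⟨Q, hQ, hn⟩ := coprime_sylow_exists hq (Or.inl (pg_sol hp hx)) (hnN _)
    (pg_coprime hp hx hN)
  refine ⟨Q, hQ, le_cent1_iff.2 (h Q hQ.le (hn (Subgroup.mem_zpowers x)) (fun ht => hcon ?_))⟩
  have hqp : q ≠ p := fun h => hN (h ▸ hd)
  have hQN : Q = N := by
    have := dedekind hQ.le (H := Subgroup.zpowers x) (Or.inl hn)
    rw [ht, inf_top_eq, inf_comm, pg_inf_eq_bot hp hx hN, sup_bot_eq] at this
    exact this.symm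
  have hq' : IsPGroup q N := hQN ▸ hQ.pg hq
  have h0 : N ≠ ⊥ := ne_bot_of_dvd hq hd
  refine ⟨q, hq, hqp, ?_, hQN ▸ ht⟩
  have hφ : frattiniOf N = ⊥ := (hmin _ (Subgroup.normalizer_eq_top_iff.1 (top_le_iff.1
    (norm_phi (hnN ⊤)))) (phi_le N)).resolve_right (phi_lt h0).ne
  exact ⟨abelian_iff_der.2 (eq_bot_mono hφ (der_le_phi hq hq')), fun a ha => by
    have := pow_mem_phi hq hq' ha
    rwa [hφ, Subgroup.mem_bot] at this⟩

theorem fin {G : Type*} [Group G] [Finite G] {p q : ℕ} [Fact p.Prime] (hq : q.Prime) (hqp : q ≠ p)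
    {N : Subgroup G} [N.Normal]
    (hmin : ∀ B : Subgroup G, B.Normal → B ≤ N → B = ⊥ ∨ B = N) (hN : IsElementaryAbelian q N)
    {x : G} (hx : orderOf x = p) (hc : x ∉ C_(N)) (ht : N ⊔ Subgroup.zpowers x = ⊤) :
    ∃ q : ℕ, q.Prime ∧ q ≠ p ∧ Nat.card G = p * q ^ orderOf (q : ZMod p) ∧
      ∃ A : Subgroup G, A.Normal ∧ Nat.card ↥A = q ^ orderOf (q : ZMod p) ∧
        Cfsg.IsElementaryAbelian q A ∧ ∀ B : Subgroup G, B.Normal → B ≤ A → B = ⊥ ∨ B = A := by
  have hp := (Fact.out : p.Prime)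
  have hz : Nat.card (Subgroup.zpowers x) = p := by rw [card_zpowers, hx]
  have hidx : N.index = p := by
    have := (sdprod_sup (K := N) (H := Subgroup.zpowers x)
      (by rw [Subgroup.normalizer_eq_top]; exact le_top)
      (inf_eq_bot_of_coprime (pg_coprime_ne hq hp (pg_of_pow hN.2) (pg_of_card_eq hz) hqp))).relIndex_left
    rwa [ht, Subgroup.relIndex_top_right, hz] at this
  have := (Cfsg.Agent.S3869.result hq hqp (fun h => hc (mem_cent.2 fun a _ => h.1.1 a x)) N hN hidx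
    hmin).1
  exact ⟨q, hq, hqp, by rw [← N.card_mul_index, hidx, this, mul_comm], N, inferInstance, this, hN,
    hmin⟩

theorem exists_min {G : Type*} [Group G] [Finite G] [Nontrivial G] (hns : ¬ IsSimpleGroup G) :
    ∃ N : Subgroup G, N.Normal ∧ N ≠ ⊥ ∧ N ≠ ⊤ ∧
      ∀ B : Subgroup G, B.Normal → B ≤ N → B = ⊥ ∨ B = N := by
  obtain ⟨M, hM, h1, h2⟩ : ∃ M : Subgroup G, M.Normal ∧ M ≠ ⊥ ∧ M ≠ ⊤ := by
    by_contra h
    push Not at h
    exact hns ⟨fun H hH => by
      by_cases h0 : H = ⊥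
      · exact Or.inl h0
      · exact Or.inr (h H hH h0)⟩
  obtain ⟨N, ⟨hN, h0⟩, hle, hm⟩ : ∃ N : Subgroup G, (N.Normal ∧ N ≠ ⊥) ∧ N ≤ M ∧
      ∀ B : Subgroup G, (B.Normal ∧ B ≠ ⊥) → B ≤ N → N ≤ B := by
    obtain ⟨N, hle, hN⟩ := exists_minimal_le_of_wellFoundedLT
      (fun N : Subgroup G => N.Normal ∧ N ≠ ⊥) M ⟨hM, h1⟩
    exact ⟨N, hN.prop, hle, fun B hB h => hN.le_of_le hB h⟩
  refine ⟨N, hN, h0, fun h => h2 (top_le_iff.1 (h ▸ hle)), fun B hB h => ?_⟩
  by_cases hb : B = ⊥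
  · exact Or.inl hb
  · exact Or.inr (le_antisymm h (hm B ⟨hB, hb⟩ h))

/-- Structure of the non-simple minimal non-p-closed groups. Call a finite group p-closed when its Sylow p-subgroups are normal, and minimal non-p-closed when it is not p-closed but every proper subgroup and every proper quotient is. If such a group G is not simple, then there is a prime q ≠ p such that G has order p · q^e, where e is the multiplicative order of q modulo p, and G has a normal subgroup A of order q^e that is elementary abelian and is a minimal normal subgroup of G (so G is the semidirect product of A by a group of order p acting irreducibly). -/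
theorem result {G : Type*} [Group G] [Finite G] {p : ℕ} [Fact p.Prime]
    (hnc : ¬ Cfsg.IsPClosed p G) (hsub : ∀ H : Subgroup G, H ≠ ⊤ → Cfsg.IsPClosed p ↥H)
    (hquo : ∀ (N : Subgroup G) [N.Normal], N ≠ ⊥ → Cfsg.IsPClosed p (G ⧸ N)) (hns : ¬ IsSimpleGroup G) :
    ∃ q : ℕ, q.Prime ∧ q ≠ p ∧ Nat.card G = p * q ^ orderOf (q : ZMod p) ∧
      ∃ A : Subgroup G, A.Normal ∧ Nat.card ↥A = q ^ orderOf (q : ZMod p) ∧ Cfsg.IsElementaryAbelian q A ∧
        ∀ B : Subgroup G, B.Normal → B ≤ A → B = ⊥ ∨ B = A := by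
  have hp := (Fact.out : p.Prime)
  haveI : Nontrivial G := by
    by_contra h
    rw [not_nontrivial_iff_subsingleton] at h
    exact hnc fun P => ⟨fun a ha g => by rw [Subsingleton.elim (g * a * g⁻¹) a]; exact ha⟩
  obtain ⟨N, hN, h0, h1, hmin⟩ := exists_min hns
  have nrm : ∀ K : Subgroup G, ⊤ ≤ N_(K) → K.Normal := fun K h =>
    Subgroup.normalizer_eq_top_iff.1 (top_le_iff.1 h)
  have hnN : ∀ H : Subgroup G, H ≤ N_(N) := fun H => by
    rw [Subgroup.normalizer_eq_top]; exact le_top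
  have nop : ∀ K : Subgroup G, K.Normal → IsPGroup p K → K = ⊥ := fun K hK h => by
    by_contra hk
    exact hnc (H16.isPClosed_of_quot K h (hquo K hk))
  have hpN : ¬ p ∣ Nat.card N := by
    obtain ⟨P, hP, hn⟩ := H16.isPClosed_iff_sylowIn.1 (hsub N h1)
    exact hP.not_dvd_of_bot hp (nop P (nrm _ ((hnN ⊤).trans (hP.norm_le hn))) (hP.pg hp))
  -- a `p`-element centralizes `Q` if `Q⟨x⟩` is proper
  have cen : ∀ (x : G), IsPGroup p (Subgroup.zpowers x) → ∀ Q ≤ N, x ∈ N_(Q) →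
      Q ⊔ Subgroup.zpowers x ≠ ⊤ → x ∈ C_(Q) := fun x hx Q hQ hn ht => by
    obtain ⟨P, hP, hnP⟩ := H16.isPClosed_iff_sylowIn.1 (hsub _ ht)
    refine le_cent_of_coprime (A := P) (hP.le.trans (sup_le_norm_left (Subgroup.zpowers_le.2 hn)))
      (le_sup_left.trans hnP) (pg_coprime hp (hP.pg hp) (not_dvd_of_le hpN hQ))
      (hP.le_of_norm_pg' hp hx le_sup_right (le_sup_right.trans hnP) (Subgroup.mem_zpowers x))
  -- some `p`-element does not centralize `N`
  obtain ⟨x, hx, hc⟩ : ∃ x : G, IsPGroup p (Subgroup.zpowers x) ∧ x ∉ C_(N) := by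
    by_contra hcon
    push Not at hcon
    obtain ⟨P⟩ : Nonempty (Sylow p G) := inferInstance
    have h2 := hquo N h0 (P.mapSurjective (QuotientGroup.mk'_surjective N))
    have h3 : (N ⊔ P : Subgroup G).Normal := by
      have := h2.comap (QuotientGroup.mk' N)
      rwa [Sylow.coe_mapSurjective, Subgroup.comap_map_eq, QuotientGroup.ker_mk', sup_comm] at this
    have hPc : (P : Subgroup G) ≤ C_(N) := fun y hy =>
      hcon y (pg_le P.isPGroup' (Subgroup.zpowers_le.2 hy))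
    have h4 := ((isSylowIn_top hp P).sub le_sup_right (le_top (a := N ⊔ P))).norm_le
      (sup_le_norm_right (le_norm_of_cent (cent_symm hPc)))
    refine hnc (H16.isPClosed_of_normal_sylow P (nrm _ (le_trans ?_ h4)))
    rw [Subgroup.normalizer_eq_top]
  obtain ⟨q, hq, hqp, hE, ht⟩ := red hp hmin hpN hx hc (cen x hx)
  refine fin hq hqp hmin hE ?_ hc ht
  have hx1 : x ≠ 1 := fun h => hc (h ▸ one_mem _)
  have hxp : IsPGroup p (Subgroup.zpowers (x ^ p)) :=
    pg_le hx (Subgroup.zpowers_le.2 (Subgroup.npow_mem_zpowers x p))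
  have h5 : x ^ p ∈ C_(N) := by
    refine cen _ hxp N le_rfl (hnN ⊤ trivial) (fun h => ?_)
    have h6 := dedekind' (U := Subgroup.zpowers (x ^ p)) (V := Subgroup.zpowers x) (H := N)
      (Subgroup.zpowers_le.2 (Subgroup.npow_mem_zpowers x p)) (Or.inr (hnN _))
    rw [h, top_inf_eq, inf_comm N, pg_inf_eq_bot hp hx hpN, bot_sup_eq] at h6
    have h7 := congrArg (fun H : Subgroup G => Nat.card H) h6
    simp only [card_zpowers] at h7
    have h8 : p ∣ orderOf x := card_zpowers x ▸ pg_dvd hp hx (zpowers_ne_bot hx1)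
    rw [orderOf_pow_of_dvd hp.ne_zero h8] at h7
    exact (Nat.div_lt_self (orderOf_pos x) hp.one_lt).ne h7.symm
  have h9 : Subgroup.zpowers (x ^ p) = ⊥ := nop _ (nrm _ (ht ▸ sup_le
    (le_norm_of_cent (cent_symm (Subgroup.zpowers_le.2 h5)))
    (le_norm_of_abelian (abelian_of_cyclic (cyclic_zpowers x))
      (Subgroup.zpowers_le.2 (Subgroup.npow_mem_zpowers x p))))) hxp
  exact orderOf_eq_prime (Subgroup.zpowers_eq_bot.1 h9) hx1

end Cfsg.Agent.S3868
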