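import Mathlib
import Cfsg.Statements.S3870
import Cfsg.Agent.H03.Fusion
import Cfsg.Agent.H02.PCore

set_option autoImplicit false
open Cfsg

namespace Cfsg.Agent.S3870

/-- Let G be a finite simple group whose Sylow p-subgroups are not normal but such that every proper subgroup of G has a normal Sylow p-subgroup. Then any two distinct Sylow p-subgroups of G intersect trivially, and for every Sylow p-subgroup P the normalizer of every non-identity subgroup of P lies in the normalizer of P. -/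
theorem result {G : Type*} [Group G] [Finite G] [IsSimpleGroup G] {p : ℕ} [Fact p.Prime]
    (hnc : ¬ Cfsg.IsPClosed p G) (hsub : ∀ H : Subgroup G, H ≠ ⊤ → Cfsg.IsPClosed p ↥H) :
    (∀ P Q : Sylow p G, P ≠ Q → (P : Subgroup G) ⊓ (Q : Subgroup G) = ⊥) ∧
      ∀ (P : Sylow p G) (R : Subgroup G), R ≤ P → R ≠ ⊥ →
        Subgroup.normalizer (R : Set G) ≤ Subgroup.normalizer ((P : Subgroup G) : Set G) := by
  have hN : ∀ D : Subgroup G, D ≠ ⊥ → IsPGroup p D → Subgroup.normalizer (D : Set G) ≠ ⊤ := by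
    intro D hD hp h
    rcases (Subgroup.normalizer_eq_top_iff.1 h).eq_bot_or_eq_top with h | h
    · exact hD h
    · apply hnc
      intro P
      rw [(P.is_maximal' hp (h ▸ le_top)).symm, h]; infer_instance
  have key : ∀ P Q : Sylow p G, P ≠ Q → (P : Subgroup G) ⊓ (Q : Subgroup G) = ⊥ := by
    by_contra hc
    push Not at hc
    obtain ⟨P, Q, h⟩ := hc
    obtain ⟨D, ⟨P, Q, hne, hD, hD0⟩, hmax⟩ := exists_maximal_of_wellFoundedGT
      (fun D : Subgroup G => ∃ P Q : Sylow p G, P ≠ Q ∧ D = (P : Subgroup G) ⊓ Q ∧ D ≠ ⊥)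
      ⟨_, P, Q, h.1, rfl, h.2⟩
    have hDp : IsPGroup p D := hD ▸ P.isPGroup'.to_inf_left
    set N := Subgroup.normalizer (D : Set G)
    obtain ⟨S⟩ : Nonempty (Sylow p N) := inferInstance
    obtain ⟨T, hT⟩ := (S.isPGroup'.map N.subtype).exists_le_sylow
    haveI := hsub N (hN D hD0 hDp) S
    have h2 : ∀ P' : Sylow p G, D < P' → P' = T := by
      intro P' hlt
      by_contra hne'
      have h3 := H03.lt_inf_normalizer_of_lt P'.isPGroup' hlt
      have h4 : (P' : Subgroup G) ⊓ N ≤ T := by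
        refine le_trans ?_ hT
        rw [← Subgroup.subgroupOf_map_subtype]
        apply Subgroup.map_mono
        obtain ⟨S', hS'⟩ := (P'.isPGroup'.comap_subtype (K := N)).exists_le_sylow
        haveI := Sylow.unique_of_normal S this
        rwa [Subsingleton.elim S' S] at hS'
      have h5 : D < (P' : Subgroup G) ⊓ T := h3.trans_le (le_inf inf_le_left h4)
      exact not_le_of_gt h5 (hmax ⟨P', T, hne', rfl, ne_bot_of_gt h5⟩ h5.le)
    have h6 : D < P := hD ▸ lt_of_le_of_ne inf_le_left fun h =>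
      hne (Sylow.ext (P.is_maximal' Q.isPGroup' (inf_eq_left.1 h)).symm)
    have h7 : D < Q := hD ▸ lt_of_le_of_ne inf_le_right fun h =>
      hne (Sylow.ext (Q.is_maximal' P.isPGroup' (inf_eq_right.1 h)))
    exact hne ((h2 P h6).trans (h2 Q h7).symm)
  refine ⟨key, fun P R hR hR0 g hg => ?_⟩
  change g ∈ Subgroup.normalizer (P : Set G)
  rw [← Sylow.smul_eq_iff_mem_normalizer]
  by_contra hne
  apply hR0
  rw [eq_bot_iff, ← key _ _ hne]
  exact le_inf (fun x hx => H03.mem_smul_sylow.2 (hR (H03.conj_mem_of_mem_normalizer' hg hx))) hR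

end Cfsg.Agent.S3870
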