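import Mathlib
import Cfsg.Statements.S3872
import Cfsg.Agent.H04.Breadth

set_option autoImplicit false
open Cfsg

open scoped commutatorElement

namespace Cfsg.Agent.S3872

/-- Say that a finite group is p-exponent closed when its elements of order dividing p form a subgroup. Let G be a finite p-group that is not p-exponent closed, but all of whose proper subgroups and proper quotients are. Then G is generated by two elements, has nilpotency class at least p, has exponent p², has cyclic center, and has order at least p^(p+1). -/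
theorem result {G : Type*} [Group G] [Finite G] {p : ℕ} [Fact p.Prime] (hG : IsPGroup p G)
    (hnc : ¬ (∃ H : Subgroup G, (H : Set G) = {g : G | g ^ p = 1})) (hsub : ∀ K : Subgroup G, K ≠ ⊤ → (∃ H : Subgroup ↥K, (H : Set ↥K) = {g : ↥K | g ^ p = 1}))
    (hquo : ∀ (N : Subgroup G) [N.Normal], N ≠ ⊥ → (∃ H : Subgroup (G ⧸ N), (H : Set (G ⧸ N)) = {g : (G ⧸ N) | g ^ p = 1})) :
    (∃ x y : G, Subgroup.closure ({x, y} : Set G) = ⊤) ∧ (⊤ : Subgroup G).lowerCentralSeries (p - 1) ≠ ⊥ ∧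
      Monoid.exponent G = p ^ 2 ∧ IsCyclic ↥(Subgroup.center G) ∧ p ^ (p + 1) ≤ Nat.card G := by
  open Subgroup BG H04 in
  have hpp : p.Prime := Fact.out
  have h0 : ∀ (K : Type _) [Group K], (∃ H : Subgroup K, (H : Set K) = {g | g ^ p = 1}) →
      ∀ x y : K, x ^ p = 1 → y ^ p = 1 → (x * y) ^ p = 1 := fun K _ ⟨H, hH⟩ x y hx hy =>
    hH.le (H.mul_mem (hH.ge hx) (hH.ge hy))
  obtain ⟨x, y, hx, hy, hxy⟩ : ∃ x y : G, x ^ p = 1 ∧ y ^ p = 1 ∧ (x * y) ^ p ≠ 1 := by
    by_contra! h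
    exact hnc ⟨⟨⟨⟨{g | g ^ p = 1}, fun ha hb => h _ _ ha hb⟩, one_pow p⟩, fun ha => by
      simpa using ha⟩, rfl⟩
  have h1 : closure ({x, y} : Set G) = ⊤ := by
    by_contra h1
    exact hxy (congrArg Subtype.val (h0 _ (hsub _ h1) ⟨x, left_mem_closure_pair x y⟩
      ⟨y, right_mem_closure_pair x y⟩ (Subtype.ext hx) (Subtype.ext hy)))
  have h2 : (⊤ : Subgroup G).lowerCentralSeries (p - 1) ≠ ⊥ := fun h2 =>
    hxy ((regOn_of_lcs_eq_bot hpp h2).mul_pow_prime_eq_one (hG.to_subgroup ⊤) x trivial y trivial hx hy)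
  have h3 : ∀ (N : Subgroup G) [N.Normal], N ≠ ⊥ → ∀ g : G, g ^ p ∈ N := fun N _ hN g => by
    obtain ⟨H, hH⟩ := hquo N hN
    have h3 : closure ({x, y} : Set G) ≤ H.comap (QuotientGroup.mk' N) := closure_pair_le
      (hH.ge (show _ ^ p = 1 by rw [← map_pow, hx, map_one]))
      (hH.ge (show _ ^ p = 1 by rw [← map_pow, hy, map_one]))
    exact (QuotientGroup.eq_one_iff _).mp (hH.le (h3 (h1.ge (mem_top g))))
  obtain ⟨z, -, h4, h5, h6⟩ := exists_mem_center_pow_eq_one_of_normal hG ⊤ fun h =>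
    hxy (mem_bot.mp (h.le (mem_top _)))
  haveI := normal_of_le_center (zpowers_le.mpr h6)
  have h7 := h3 _ (zpowers_ne_bot h4)
  refine ⟨⟨x, y, h1⟩, h2, ?_, isCyclic_of_comm_of_card_omegaOne_le (hG.to_subgroup _) inferInstance
    (le_trans (card_le (omegaOne_le_iff.mpr fun w hw hwp => ?_)) (card_zpowers_eq_prime h5 h4).le), ?_⟩
  · obtain ⟨k, h8, h9⟩ := (Nat.dvd_prime_pow hpp).mp (Monoid.exponent_dvd_of_forall_pow_eq_one (n := p ^ 2)
      fun g : G => by rw [sq, pow_mul]; exact (isElementaryAbelian_zpowers h5).2 _ (h7 g))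
    have h10 := h9 ▸ Monoid.pow_exponent_eq_one (x * y)
    interval_cases k
    · simp [show x * y = 1 by simpa using h10] at hxy
    · exact absurd (pow_one p ▸ h10) hxy
    · exact h9
  · by_cases h8 : w = 1
    · exact h8 ▸ one_mem _
    haveI := normal_of_le_center (zpowers_le.mpr hw)
    refine le_of_prime_of_inf_ne (card_zpowers_eq_prime hwp h8 ▸ hpp) (ne_bot_of_mem
      ⟨h3 _ (zpowers_ne_bot h8) _, h7 _⟩ hxy) (mem_zpowers w)
  · obtain ⟨m, hm⟩ : ∃ m, p = m + 2 := ⟨p - 2, by have := hpp.two_le; omega⟩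
    by_contra h8
    refine h2 (show p - 1 = m + 1 by omega ▸ lcs_eq_bot_of_card_le (hG.to_subgroup ⊤) ?_)
    by_contra h9
    exact h8 (by simpa [← hm] using pow_succ_le_of_lt_card (hG.to_subgroup ⊤) (not_le.mp h9))

end Cfsg.Agent.S3872
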