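import Mathlib
import Cfsg.Statements.S3873
import Cfsg.Agent.H16.IrrCyc
import Cfsg.Agent.S3868

set_option autoImplicit false
open Cfsg

namespace Cfsg.Agent.S3873

open BG

theorem amb {G : Type*} [Group G] {p : ℕ} {K : Subgroup G}
    (h : ∃ H : Subgroup ↥K, (H : Set ↥K) = {g : ↥K | g ^ p = 1}) :
    ∃ E : Subgroup G, (∀ g, g ∈ E ↔ g ∈ K ∧ g ^ p = 1) ∧ N_(K) ≤ N_(E) := by
  obtain ⟨H, hH⟩ := h
  have h1 : ∀ g, g ∈ H.map K.subtype ↔ g ∈ K ∧ g ^ p = 1 := fun g => by
    constructor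
    · rintro ⟨y, hy, rfl⟩
      rw [hH] at hy
      exact ⟨y.2, congrArg Subtype.val hy⟩
    · rintro ⟨h1, h2⟩
      exact ⟨⟨g, h1⟩, by rw [hH]; exact Subtype.ext h2, rfl⟩
  refine ⟨_, h1, le_norm_iff.2 fun a ha k hk => ?_⟩
  rw [h1] at hk ⊢
  exact ⟨conj_mem_of_norm ha hk.1, by rw [conj_pow, hk.2]; group⟩

/-- Say that a finite group is p-exponent closed when its elements of order dividing p form a subgroup. Let G be a finite group that is not p-exponent closed, but all of whose proper subgroups and proper quotients are, and suppose G is neither simple nor a p-group. Then there is a prime q ≠ p such that G has order p · q^e, where e is the multiplicative order of q modulo p, and G has a normal elementary abelian subgroup of order q^e that is a minimal normal subgroup of G. -/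
theorem result {G : Type*} [Group G] [Finite G] {p : ℕ} [Fact p.Prime]
    (hnc : ¬ (∃ H : Subgroup G, (H : Set G) = {g : G | g ^ p = 1})) (hsub : ∀ K : Subgroup G, K ≠ ⊤ → (∃ H : Subgroup ↥K, (H : Set ↥K) = {g : ↥K | g ^ p = 1}))
    (hquo : ∀ (N : Subgroup G) [N.Normal], N ≠ ⊥ → (∃ H : Subgroup (G ⧸ N), (H : Set (G ⧸ N)) = {g : (G ⧸ N) | g ^ p = 1}))
    (hns : ¬ IsSimpleGroup G) (hnp : ¬ IsPGroup p G) :
    ∃ q : ℕ, q.Prime ∧ q ≠ p ∧ Nat.card G = p * q ^ orderOf (q : ZMod p) ∧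
      ∃ A : Subgroup G, A.Normal ∧ Nat.card ↥A = q ^ orderOf (q : ZMod p) ∧ Cfsg.IsElementaryAbelian q A ∧
        ∀ B : Subgroup G, B.Normal → B ≤ A → B = ⊥ ∨ B = A := by
  have hp := (Fact.out : p.Prime)
  haveI : Nontrivial G := by
    by_contra h
    rw [not_nontrivial_iff_subsingleton] at h
    exact hnp fun g => ⟨0, Subsingleton.elim _ _⟩
  obtain ⟨N, hN, h0, h1, hmin⟩ := S3868.exists_min hns
  have nrm : ∀ K : Subgroup G, ⊤ ≤ N_(K) → K.Normal := fun K h =>
    Subgroup.normalizer_eq_top_iff.1 (top_le_iff.1 h)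
  have hnN : ∀ H : Subgroup G, H ≤ N_(N) := fun H => by
    rw [Subgroup.normalizer_eq_top]; exact le_top
  obtain ⟨x, y, hx, hy, hxy⟩ : ∃ x y : G, x ^ p = 1 ∧ y ^ p = 1 ∧ (x * y) ^ p ≠ 1 := by
    by_contra h
    push Not at h
    exact hnc ⟨{ carrier := {g | g ^ p = 1}
                 one_mem' := one_pow p
                 mul_mem' := fun {a b} ha hb => h a b ha hb
                 inv_mem' := fun {a} ha => by
                   change a⁻¹ ^ p = 1
                   rw [inv_pow, show a ^ p = 1 from ha, inv_one] }, rfl⟩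
  have hgen : Subgroup.zpowers x ⊔ Subgroup.zpowers y = ⊤ := by
    by_contra h
    obtain ⟨E, hE, -⟩ := amb (hsub _ h)
    exact hxy ((hE _).1 (mul_mem
      ((hE x).2 ⟨Subgroup.mem_sup_left (Subgroup.mem_zpowers x), hx⟩)
      ((hE y).2 ⟨Subgroup.mem_sup_right (Subgroup.mem_zpowers y), hy⟩))).2
  have hq : ∀ g : G, g ^ p ∈ N := fun g => by
    obtain ⟨H, hH⟩ := hquo N h0
    have : H.comap (QuotientGroup.mk' N) = ⊤ := top_le_iff.1 (hgen ▸ sup_le
      (Subgroup.zpowers_le.2 (by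
        change (x : G ⧸ N) ∈ (H : Set (G ⧸ N))
        rw [hH]; change (x : G ⧸ N) ^ p = 1
        rw [← QuotientGroup.mk_pow, hx]; rfl))
      (Subgroup.zpowers_le.2 (by
        change (y : G ⧸ N) ∈ (H : Set (G ⧸ N))
        rw [hH]; change (y : G ⧸ N) ^ p = 1
        rw [← QuotientGroup.mk_pow, hy]; rfl)))
    have h2 : g ∈ H.comap (QuotientGroup.mk' N) := this ▸ Subgroup.mem_top g
    have h3 : (g : G ⧸ N) ∈ (H : Set (G ⧸ N)) := h2
    rw [hH] at h3
    exact (QuotientGroup.eq_one_iff _).1 h3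
  have hpN : ¬ p ∣ Nat.card N := by
    obtain ⟨E, hE, hn⟩ := amb (hsub N h1)
    rcases hmin E (nrm _ ((hnN ⊤).trans hn)) (fun g hg => ((hE g).1 hg).1) with h | h
    · intro hd
      obtain ⟨z, hz, ho⟩ := exists_orderOf_eq_prime hp hd
      have : z ∈ E := (hE z).2 ⟨hz, ho ▸ pow_orderOf_eq_one z⟩
      rw [h, Subgroup.mem_bot] at this
      rw [this, orderOf_one] at ho
      exact hp.one_lt.ne ho
    · exact absurd (fun g => ⟨2, by
        rw [pow_two, pow_mul]; exact ((hE _).1 (h ▸ hq g)).2⟩) hnp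
  have pgz : ∀ z : G, z ^ p = 1 → IsPGroup p (Subgroup.zpowers z) := fun z hz =>
    pg_of_pow (by
      rintro _ ⟨k, rfl⟩
      change (z ^ k) ^ p = 1
      rw [← zpow_natCast, ← zpow_mul, mul_comm, zpow_mul, zpow_natCast, hz, one_zpow])
  obtain ⟨z, hz, hc⟩ : ∃ z : G, z ^ p = 1 ∧ z ∉ C_(N) := by
    by_contra hcon
    push Not at hcon
    have hZ : N ≤ C_((⊤ : Subgroup G)) := cent_symm (hgen ▸ sup_le
      (Subgroup.zpowers_le.2 (hcon x hx)) (Subgroup.zpowers_le.2 (hcon y hy)))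
    obtain ⟨P, hP⟩ := sylow_exists hp (⊤ : Subgroup G)
    have hNP : N ⊔ P = ⊤ := by
      have h2 : (N ⊔ P).index ∣ P.index := Subgroup.index_dvd_of_le le_sup_right
      have h3 : (N ⊔ P).index ∣ N.index := Subgroup.index_dvd_of_le le_sup_left
      have h4 : IsPGroup p (G ⧸ N) := fun g => ⟨1, by
        obtain ⟨g, rfl⟩ := QuotientGroup.mk_surjective g
        rw [pow_one, ← QuotientGroup.mk_pow]; exact (QuotientGroup.eq_one_iff _).2 (hq g)⟩
      obtain ⟨k, hk⟩ := h4.exists_card_eq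
      have h5 := hP.not_dvd' hp
      rw [Subgroup.relIndex_top_right] at h5
      exact Subgroup.index_eq_one.1 (Nat.eq_one_of_dvd_coprimes
        (Nat.Coprime.pow_left k ((Nat.Prime.coprime_iff_not_dvd hp).2 h5)) (hk ▸ h3) h2)
    have hn : ⊤ ≤ N_(P) := hNP ▸ sup_le_norm_right (le_norm_of_cent (le_cent_mono hZ le_rfl le_top))
    have hPt : ⊤ ≤ P := hgen ▸ sup_le (hP.le_of_norm_pg' hp (pgz x hx) le_top (le_top.trans hn))
      (hP.le_of_norm_pg' hp (pgz y hy) le_top (le_top.trans hn))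
    exact hnp fun g => by
      obtain ⟨k, hk⟩ := hP.pg hp ⟨g, hPt trivial⟩
      exact ⟨k, congrArg Subtype.val hk⟩
  obtain ⟨q, hq', hqp, hE, ht⟩ := S3868.red hp hmin hpN (pgz z hz) hc (fun Q hQ hn ht => by
    obtain ⟨E, hE, hnE⟩ := amb (hsub _ ht)
    exact le_cent_of_coprime (A := E) (le_trans (fun g hg => ((hE g).1 hg).1)
      (sup_le_norm_left (Subgroup.zpowers_le.2 hn))) (le_sup_left.trans ((le_norm _).trans hnE))
      (pg_coprime hp (pg_of_pow fun g hg => ((hE g).1 hg).2) (not_dvd_of_le hpN hQ))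
      ((hE z).2 ⟨Subgroup.mem_sup_right (Subgroup.mem_zpowers z), hz⟩))
  exact S3868.fin hq' hqp hmin hE (orderOf_eq_prime hz (fun h => hc (h ▸ one_mem _))) hc ht

end Cfsg.Agent.S3873
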