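import Mathlib
import Cfsg.Statements.S3875
import Cfsg.Agent.S0999
import Cfsg.Agent.H09.SLBasic
import Cfsg.Agent.H16.IrrCyc

set_option autoImplicit false
open Cfsg

namespace Cfsg.Agent.S3875

open BG Subgroup H16
open scoped commutatorElement MatrixGroups

theorem lower (p : ℕ) [hp : Fact p.Prime] (m : ℕ) (hleast : ∀ k : ℕ, IsPrimePow k → k % p = 1 → m ≤ k) (n : ℕ) :
    ∀ (H : Type) [Group H] [Finite H], Nat.card H = n → ¬ Cfsg.IsPClosed p H →
      min (p * m) (p * (p ^ 2 - 1) / 2) ≤ Nat.card H := by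
  induction n using Nat.strong_induction_on with
  | _ n ih =>
  intro H _ _ hn hH
  by_contra hlt
  rw [not_le] at hlt
  have ih' : ∀ (K : Type) [Group K] [Finite K], Nat.card K < Nat.card H → Cfsg.IsPClosed p K := by
    intro K _ _ hK
    by_contra h
    have := ih _ (hn ▸ hK) K rfl h
    omega
  obtain ⟨P₀, hP₀⟩ := not_forall.1 hH
  have hP : IsSylowIn p (P₀ : Subgroup H) ⊤ := isSylowIn_top hp.out P₀
  set P := (P₀ : Subgroup H)
  have hPp := hP.pg hp.out
  have hsub : ∀ X : Subgroup H, X ≠ ⊤ → P ≤ X → X ≤ N_(P) := by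
    intro X hX hPX
    obtain ⟨Q, hQ, hXQ⟩ := isPClosed_iff_sylowIn.1 (ih' X (by
      rw [← card_top (G := H)]; exact card_lt (lt_top_iff_ne_top.2 hX)))
    have h1 : Q = P := hP.eq_of_pg hp.out (hQ.pg hp.out) (hQ.le_of_norm_pg' hp.out hPp hPX (hPX.trans hXQ)) le_top
    exact h1 ▸ hXQ
  have hnn : ¬ ⊤ ≤ N_(P) := fun h => hP₀ (normalizer_eq_top_iff.1 (top_le_iff.1 h))
  have hq : ∀ N : Subgroup H, ∀ [N.Normal], N ≠ ⊥ → Cfsg.IsPClosed p (H ⧸ N) := fun N _ h0 => ih' _ (by
    have h1 := N.card_mul_index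
    have h2 : 1 < Nat.card N := (one_lt_card_iff_ne_bot N).2 h0
    have h3 : 0 < N.index := Nat.pos_of_ne_zero index_ne_zero_of_finite
    change N.index < _
    nlinarith)
  by_cases hs : ∃ N : Subgroup H, N.Normal ∧ N ≠ ⊥ ∧ N ≠ ⊤
  · obtain ⟨N, hN, h0, h1⟩ := hs
    have hPN : P ⊔ N = ⊤ := by
      by_contra h
      have h2 : (P ⊔ N).Normal := by
        have := (hq N h0 (P₀.mapSurjective (QuotientGroup.mk'_surjective N))).comap (QuotientGroup.mk' N)
        rwa [Sylow.coe_mapSurjective, comap_map_eq, QuotientGroup.ker_mk'] at this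
      have h3 : IsSylowIn p P (P ⊔ N) := hP.sub le_sup_left le_top
      exact hnn (le_normalizer_of_normal.trans (h3.norm_le (hsub _ h le_sup_left)))
    have hN' : ¬ p ∣ Nat.card N := by
      intro hd
      obtain ⟨Q, hQ, hNQ⟩ := isPClosed_iff_sylowIn.1 (ih' N (by
        rw [← card_top (G := H)]; exact card_lt (lt_top_iff_ne_top.2 h1)))
      have : Q.Normal := normalizer_eq_top_iff.1 (top_le_iff.1 (le_normalizer_of_normal.trans (hQ.norm_le hNQ)))
      exact hH (isPClosed_of_quot Q (hQ.pg hp.out) (hq Q (hQ.ne_bot' hp.out hd)))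
    have hco : (Nat.card P).Coprime (Nat.card N) := by
      obtain ⟨k, hk⟩ := hPp.exists_card_eq
      rw [hk]; exact Nat.Coprime.pow_left _ ((Nat.Prime.coprime_iff_not_dvd hp.out).2 hN')
    have : ¬ N ≤ N_(P) := fun h => hnn (hPN ▸ sup_le le_normalizer h)
    obtain ⟨q, hq, Q, hQ, hPQ, hQP⟩ : ∃ q : ℕ, q.Prime ∧ ∃ Q, IsSylowIn q Q N ∧ P ≤ N_(Q) ∧ ¬ Q ≤ N_(P) := by
      by_contra hcon
      push Not at hcon
      refine this (le_of_sylows fun q hq _ => ?_)
      obtain ⟨Q, hQ, hPQ⟩ := coprime_sylow_exists hq (Or.inl (sol_of_nil (pg_nil hp.out hPp)))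
        le_normalizer_of_normal hco
      exact ⟨Q, hQ, hcon q hq Q hQ hPQ⟩
    have hQP' : Q ⊔ P = ⊤ := by
      by_contra h
      exact hQP (le_sup_left.trans (hsub _ h le_sup_right))
    have : Fact q.Prime := ⟨hq⟩
    obtain ⟨k, hk⟩ := (hQ.pg hq).exists_card_eq
    have h2 : P.index ∣ q ^ k := by
      rw [← relIndex_top_right, ← hQP', relIndex_sup' hPQ, ← hk]; exact BG.relIndex_dvd_card _ _
    have h3 := P₀.card_dvd_index
    obtain ⟨j, -, hj⟩ := (Nat.dvd_prime_pow hq).1 (h3.trans h2)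
    have h4 := card_sylow_modEq_one p H
    have hj0 : j ≠ 0 := by
      rintro rfl
      have : Subsingleton (Sylow p H) := (Nat.card_eq_one_iff_unique.1 hj).1
      exact hP₀ (Sylow.normal_of_subsingleton P₀)
    have h5 := hleast _ (hj ▸ (hq.isPrimePow.pow hj0)) (by
      rw [Nat.ModEq, Nat.mod_eq_of_lt hp.out.one_lt] at h4; exact h4)
    have h6 : p ≤ Nat.card P := Nat.le_of_dvd Nat.card_pos (pg_dvd hp.out hPp fun h => hP₀ (h ▸ inferInstance))
    have h7 := P.card_mul_index
    have h8 := Nat.le_of_dvd (Nat.pos_of_ne_zero index_ne_zero_of_finite) h3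
    have h9 : p * m ≤ Nat.card H := h7 ▸ Nat.mul_le_mul h6 (h5.trans h8)
    omega
  · have hP0 : P ≠ ⊥ := fun h => hP₀ (h ▸ inferInstance)
    have : Nontrivial H := by
      have := (nontrivial_iff_ne_bot P).2 hP0
      exact P.subtype_injective.nontrivial
    have : IsSimpleGroup H := ⟨fun N hN => by by_contra h; exact hs ⟨N, hN, not_or.1 h⟩⟩
    have h1 : Nat.card H < p * (p ^ 2 - 1) / 2 ∨ Nat.card H < p * m := by omega
    have h2 : Nat.card H < p * (p ^ 2 - 1) / 2 := (lt_min_iff.1 hlt).2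
    have h3 : 2 * Nat.card H < p * (p ^ 2 - 1) := by omega
    have h4 : p * (p ^ 2 - 1) ≤ p ^ 3 := by rw [pow_succ' p 2]; exact Nat.mul_le_mul_left _ (Nat.sub_le _ _)
    rcases Cfsg.Agent.S0999.result (G := H) (fun h => hP₀ inferInstance) p hp.out
      ((pg_dvd hp.out hPp hP0).trans (card_subgroup_dvd_card P)) (by omega) with
      ⟨F, _, _, hF, -, ⟨e⟩⟩ | ⟨k, F, _, _, hF, hpk, h5, ⟨e⟩⟩
    · have := H09.card_PSL_two_mul (F := F)
      rw [← Nat.card_congr e.toEquiv, hF] at this
      have h6 : Nat.gcd 2 (p - 1) ≤ 2 := Nat.gcd_le_left _ two_pos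
      nlinarith
    · have := H09.card_PSL_two_mul (F := F)
      have hk : k ≠ 0 := by rintro rfl; omega
      have h6 : Nat.gcd 2 (2 ^ k - 1) = 1 := by
        have := Nat.two_pow_pos k
        have : 2 ∣ 2 ^ k := dvd_pow_self 2 hk
        rw [Nat.gcd_rec, show (2 ^ k - 1) % 2 = 1 by omega]; rfl
      have h7 : 4 ≤ 2 ^ k := by
        have : 2 ∣ 2 ^ k := dvd_pow_self 2 hk
        omega
      rw [← Nat.card_congr e.toEquiv, hF, h6, one_mul] at this
      rw [this, hpk] at h3
      obtain ⟨x, hx⟩ : ∃ x, 2 ^ k = x + 4 := ⟨2 ^ k - 4, by omega⟩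
      rw [hx, show (x + 4) ^ 2 - 1 = (x + 3) * (x + 5) by rw [Nat.sub_eq_iff_eq_add (Nat.one_le_pow _ _ (by omega))]; ring,
        show (x + 4 + 1) ^ 2 - 1 = (x + 4) * (x + 6) by rw [Nat.sub_eq_iff_eq_add (Nat.one_le_pow _ _ (by omega))]; ring] at h3
      nlinarith [Nat.zero_le (x * x * x), Nat.zero_le (x * x)]

def phi (F : Type) [Field F] : Fˣ →* MulAut (Multiplicative F) where
  toFun u := AddEquiv.toMultiplicative (DistribMulAction.toAddEquiv F u)
  map_one' := by ext x; simp
  map_mul' u v := by ext x; simp [mul_smul]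

/-- Let p be an odd prime and let m be the least prime power congruent to 1 modulo p. Then the least order of a finite group whose Sylow p-subgroups are not normal is the smaller of p · m and p(p² − 1)/2: every finite group whose Sylow p-subgroups are not normal has at least that order, and some group of exactly that order has non-normal Sylow p-subgroups. -/
theorem result (p : ℕ) [Fact p.Prime] (hp : p ≠ 2) (m : ℕ) (hm : IsPrimePow m) (hm1 : m % p = 1)
    (hleast : ∀ k : ℕ, IsPrimePow k → k % p = 1 → m ≤ k) :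
    (∀ (H : Type) [Group H] [Finite H], ¬ Cfsg.IsPClosed p H → min (p * m) (p * (p ^ 2 - 1) / 2) ≤ Nat.card H) ∧
      ∃ (H : Type) (_ : Group H) (_ : Finite H), Nat.card H = min (p * m) (p * (p ^ 2 - 1) / 2) ∧ ¬ Cfsg.IsPClosed p H := by
  refine ⟨fun H _ _ => lower p m hleast _ H rfl, ?_⟩
  have hp' : p.Prime := Fact.out
  rcases le_or_gt (p * m) (p * (p ^ 2 - 1) / 2) with h | h
  · rw [min_eq_left h]
    obtain ⟨q, k, hq, hk, rfl⟩ := (isPrimePow_nat_iff m).1 hm
    have : Fact q.Prime := ⟨hq⟩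
    let F := GaloisField q k
    have hF : Nat.card F = q ^ k := GaloisField.card q k hk.ne'
    obtain ⟨u, hu⟩ := exists_prime_orderOf_dvd_card' (G := Fˣ) p (by
      rw [Nat.card_units, hF]; exact (Nat.modEq_iff_dvd' (Nat.one_le_pow _ _ hq.pos)).1
        (by rw [Nat.ModEq, hm1, Nat.mod_eq_of_lt hp'.one_lt]))
    have hfin : Finite (Multiplicative F ⋊[(phi F).comp (zpowers u).subtype] zpowers u) :=
      Finite.of_equiv _ SemidirectProduct.equivProd.symm
    refine ⟨Multiplicative F ⋊[(phi F).comp (zpowers u).subtype] zpowers u, inferInstance, hfin, ?_, ?_⟩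
    · rw [SemidirectProduct.card, Nat.card_zpowers, hu, mul_comm]; congr 1
    · intro hcl
      let x : Multiplicative F ⋊[(phi F).comp (zpowers u).subtype] zpowers u := SemidirectProduct.inr ⟨u, mem_zpowers u⟩
      have hx : orderOf x = p := by
        rw [orderOf_injective _ SemidirectProduct.inr_injective, ← orderOf_coe, hu]
      obtain ⟨P, hP⟩ := (pg_of_card_eq (A := zpowers x) (by rw [Nat.card_zpowers, hx])).exists_le_sylow
      have := hcl P
      let a : Multiplicative F ⋊[(phi F).comp (zpowers u).subtype] zpowers u := SemidirectProduct.inl (Multiplicative.ofAdd 1)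
      have h1 : a * x * a⁻¹ * x⁻¹ ∈ (P : Subgroup _) :=
        mul_mem (this.conj_mem _ (hP (mem_zpowers x)) _) (inv_mem (hP (mem_zpowers x)))
      have h2 : a * x * a⁻¹ * x⁻¹ = SemidirectProduct.inl (Multiplicative.ofAdd (1 - (u : F))) := by
        rw [show a * x * a⁻¹ * x⁻¹ = a * (x * a⁻¹ * x⁻¹) by group]
        simp only [a, x]
        rw [← map_inv SemidirectProduct.inl, ← map_inv SemidirectProduct.inr, ← SemidirectProduct.inl_aut, ← map_mul]
        congr 1
        apply Multiplicative.toAdd.injective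
        simp [phi, sub_eq_add_neg, Units.smul_def]
      obtain ⟨j, hj⟩ := P.2 ⟨_, h1⟩
      have h3 : (a * x * a⁻¹ * x⁻¹) ^ p ^ j = 1 := congrArg Subtype.val hj
      rw [h2, ← map_pow, ← map_one SemidirectProduct.inl] at h3
      have h4 := SemidirectProduct.inl_injective h3
      have h5 : (p : F) ^ j * (1 - u) = 0 := by
        have := congrArg Multiplicative.toAdd h4
        simpa using this
      have h6 : (p : F) ≠ 0 := by
        rw [Ne, CharP.cast_eq_zero_iff F q, Nat.prime_dvd_prime_iff_eq hq hp']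
        rintro rfl
        rw [Nat.mod_eq_zero_of_dvd (dvd_pow_self q hk.ne')] at hm1
        exact zero_ne_one hm1
      have h7 : u = 1 := Units.ext (sub_eq_zero.1 ((mul_eq_zero.1 h5).resolve_left (pow_ne_zero _ h6))).symm
      rw [h7, orderOf_one] at hu
      exact hp'.one_lt.ne hu
  · rw [min_eq_right h.le]
    have h1 := H09.card_PSL_two_mul (F := ZMod p)
    have hodd := hp'.odd_of_ne_two hp
    have h2 : Nat.gcd 2 (p - 1) = 2 := Nat.gcd_eq_left (by obtain ⟨k, hk⟩ := hodd; omega)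
    rw [ZMod.card, h2] at h1
    refine ⟨PSL(2, ZMod p), inferInstance, inferInstance, by omega, fun hcl => ?_⟩
    have hd : p ∣ Nat.card PSL(2, ZMod p) :=
      Nat.Coprime.dvd_of_dvd_mul_left ((Nat.coprime_primes hp' Nat.prime_two).2 hp) (h1 ▸ dvd_mul_right _ _)
    by_cases h3 : p = 3
    · subst h3
      have h4 := hleast 4 ((Nat.prime_two.isPrimePow).pow (n := 2) two_ne_zero) rfl
      omega
    · have h4 : 4 ≤ p := by have := hp'.two_le; omega
      have := H09.PSL_simple_fin (F := ZMod p) 2 le_rfl (fun _ => by rwa [ZMod.card])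
      obtain ⟨P⟩ : Nonempty (Sylow p PSL(2, ZMod p)) := inferInstance
      rcases (hcl P).eq_bot_or_eq_top with h5 | h5
      · exact P.not_dvd_index (by rwa [h5, index_bot])
      · obtain ⟨k, hk⟩ := P.2.exists_card_eq
        rw [h5, card_top] at hk
        have h6 : p + 1 ∣ 2 * p ^ k := by
          rw [← hk, h1, show p ^ 2 - 1 = (p + 1) * (p - 1) by rw [← Nat.sq_sub_sq, one_pow]]
          exact Dvd.dvd.mul_left (dvd_mul_right _ _) _
        have h7 := Nat.le_of_dvd two_pos (Nat.Coprime.dvd_of_dvd_mul_right (Nat.Coprime.pow_right k (by simp)) h6)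
        omega

end Cfsg.Agent.S3875
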