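import Mathlib
import Cfsg.Statements.S3889

set_option autoImplicit false
open Cfsg

namespace Cfsg.Agent.S3889

theorem aux {G : Type*} [Group G] [Finite G] (hc : ∀ a b : G, Commute a b) (𝓑 : Set (Subgroup G))
    (hprop : ∀ B ∈ 𝓑, B ≠ ⊤)
    (hcov : ∀ g : G, ∃ B ∈ 𝓑, g ∈ B) (hdisj : ∀ B ∈ 𝓑, ∀ C ∈ 𝓑, B ≠ C → B ⊓ C = ⊥)
    {p : ℕ} {x : G} (hx1 : x ≠ 1) (hx : x ^ p = 1) (y : G) : y ^ p = 1 := by
  obtain ⟨A, hA, hxA⟩ := hcov x
  have key : ∀ y : G, y ∉ A → y ^ p = 1 := by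
    intro y hy
    obtain ⟨B, hB, hyB⟩ := hcov y
    obtain ⟨C, hC, hyC⟩ := hcov (x * y)
    have hBC : B ≠ C := by
      rintro rfl
      have h1 : x ∈ B := by simpa using mul_mem hyC (inv_mem hyB)
      have h2 : A ≠ B := fun h => hy (h ▸ hyB)
      exact hx1 (Subgroup.mem_bot.1 (hdisj A hA B hB h2 ▸ ⟨hxA, h1⟩))
    have h3 := pow_mem hyC p
    rw [(hc x y).mul_pow, hx, one_mul] at h3
    exact Subgroup.mem_bot.1 (hdisj B hB C hC hBC ▸ ⟨pow_mem hyB p, h3⟩)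
  by_cases hy : y ∈ A
  · obtain ⟨z, -, hz⟩ := SetLike.exists_of_lt (lt_top_iff_ne_top.2 (hprop A hA))
    have := key (y * z) fun h => hz (by simpa using mul_mem (inv_mem hy) h)
    rwa [(hc y z).mul_pow, key z hz, mul_one] at this
  · exact key y hy

/-- A finite abelian group that is the union of a family of proper subgroups any two of which intersect trivially is elementary abelian: its exponent is a prime. -/
theorem result {G : Type*} [CommGroup G] [Finite G] (𝓑 : Set (Subgroup G)) (hprop : ∀ B ∈ 𝓑, B ≠ ⊤)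
    (hcov : ∀ g : G, ∃ B ∈ 𝓑, g ∈ B) (hdisj : ∀ B ∈ 𝓑, ∀ C ∈ 𝓑, B ≠ C → B ⊓ C = ⊥) :
    (Monoid.exponent G).Prime := by
  obtain ⟨A, hA, -⟩ := hcov 1
  haveI : Nontrivial G := by
    by_contra h
    rw [not_nontrivial_iff_subsingleton] at h
    exact hprop A hA (Subsingleton.elim _ _)
  obtain ⟨p, hp, hd⟩ := Nat.exists_prime_and_dvd (Finite.one_lt_card (α := G)).ne'
  haveI := Fact.mk hp
  obtain ⟨x, hx⟩ := exists_prime_orderOf_dvd_card' p hd
  have hx1 : x ≠ 1 := by rintro rfl; rw [orderOf_one] at hx; exact hp.one_lt.ne hx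
  have h := aux (fun a b => Commute.all a b) 𝓑 hprop hcov hdisj hx1 (hx ▸ pow_orderOf_eq_one x)
  have h1 : Monoid.exponent G = p :=
    Nat.dvd_antisymm (Monoid.exponent_dvd_of_forall_pow_eq_one h) (hx ▸ Monoid.order_dvd_exponent x)
  rw [h1]; exact hp

end Cfsg.Agent.S3889
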