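import Mathlib
import Cfsg.Statements.S3890
import Cfsg.Agent.S3889
import Cfsg.Agent.H02.Frobenius
import Cfsg.Agent.H16.Schmidt
import Cfsg.Agent.H03.PResidual
import Cfsg.Agent.H27.ClassSize

set_option autoImplicit false
open Cfsg

namespace Cfsg.Agent.S3890

open Subgroup in
theorem main {G : Type*} [Group G] [Finite G] (hZ : Subgroup.center G = ⊥) (𝓐 : Finset (Subgroup G))
    (h𝓐 : ((∀ A ∈ 𝓐, A ≠ ⊤) ∧ (∀ g : G, ∃ A ∈ 𝓐, g ∈ A)) ∧ (∀ 𝓑 : Finset (Subgroup G), (∀ A ∈ 𝓑, A ≠ ⊤) ∧ (∀ g : G, ∃ A ∈ 𝓑, g ∈ A) → 𝓐.card ≤ 𝓑.card) ∧ (∀ A ∈ 𝓐, Group.IsNilpotent ↥A)) {p : ℕ} [hp : Fact p.Prime] (P : Sylow p G) (hab : IsMulCommutative ↥(P : Subgroup G))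
    (hnn : ¬ (P : Subgroup G).Normal) :
    (Cfsg.IsElementaryAbelian p (P : Subgroup G) ∧ p < Nat.card ↥(P : Subgroup G)) ∨
    (∃ A ∈ 𝓐, (P : Subgroup G) ≤ A ∧ (∀ x ∈ (P : Subgroup G), x ≠ 1 → centralizer {x} = A) ∧
      centralizer ((P : Subgroup G) : Set G) = A ∧ normalizer (A : Set G) ≤ normalizer ((P : Subgroup G) : Set G) ∧
      ∀ M : Subgroup G, M ≠ ⊤ → A ≤ M → M ≤ normalizer ((P : Subgroup G) : Set G)) := by
  classical
  obtain ⟨⟨hprop, hcov⟩, hmin, hnil⟩ := h𝓐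
  have hjoin : ∀ A ∈ 𝓐, ∀ B ∈ 𝓐, ∀ M : Subgroup G, M ≠ ⊤ → A ≤ M → B ≤ M → A = B := by
    intro A hA B hB M hM hAM hBM
    by_contra hne
    have := hmin (insert M ((𝓐.erase A).erase B)) ⟨fun X hX => ?_, fun g => ?_⟩
    · have h1 := Finset.card_insert_le M ((𝓐.erase A).erase B)
      have h2 := Finset.card_erase_of_mem (Finset.mem_erase.2 ⟨Ne.symm hne, hB⟩)
      have h3 := Finset.card_erase_of_mem hA
      have h4 := Finset.card_pos.2 ⟨B, Finset.mem_erase.2 ⟨Ne.symm hne, hB⟩⟩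
      omega
    · rcases Finset.mem_insert.1 hX with rfl | hX
      · exact hM
      · exact hprop X (Finset.mem_of_mem_erase (Finset.mem_of_mem_erase hX))
    · obtain ⟨X, hX, hg⟩ := hcov g
      by_cases h1 : X = A
      · exact ⟨M, Finset.mem_insert_self _ _, hAM (h1 ▸ hg)⟩
      by_cases h2 : X = B
      · exact ⟨M, Finset.mem_insert_self _ _, hBM (h2 ▸ hg)⟩
      exact ⟨X, Finset.mem_insert_of_mem (Finset.mem_erase.2 ⟨h2, Finset.mem_erase.2 ⟨h1, hX⟩⟩), hg⟩
  have hpc : ∀ Q : Subgroup G, IsPGroup p Q → ∀ a ∈ Q, ∀ b ∈ Q, a * b = b * a := by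
    intro Q hQ a ha b hb
    obtain ⟨g, hg⟩ := H03.exists_conj_mem_sylow P hQ
    have := H16.comm_of_isMulCommutative (hg a ha) (hg b hb)
    apply (MulAut.conj g).injective
    rw [map_mul, map_mul]; exact this
  have hcen : ∀ A ∈ 𝓐, ∀ x ∈ A, IsPGroup p (zpowers x) → A ≤ centralizer {x} := by
    intro A hA x hx hxp
    haveI := hnil A hA
    have h1 := congrArg (map A.subtype) (H02.pCore_sup_pPrimeCore_eq_top (G := A) hp.out)
    rw [Subgroup.map_sup, ← MonoidHom.range_eq_map, range_subtype] at h1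
    rw [← h1]
    refine sup_le (fun a ha => mem_centralizer_singleton_iff.2 (hpc _ (H02.pCoreOf_isPGroup A) _ ha _
      (H02.le_pCoreOf_of_le_fittingOf hp.out hxp (by
        rw [H02.fittingOf_eq_self_iff.2 this]; exact zpowers_le.2 hx) (mem_zpowers x))))
      (fun a ha => mem_centralizer_singleton_iff.2 ?_)
    exact (H16.le_centralizer_of_nilpotent_coprime (H := A) (H02.pPrimeCoreOf_le (p := p) A)
      (zpowers_le.2 hx) (H01.coprime_card_of_isPGroup hxp (H02.pPrimeCoreOf_coprime A)) ha x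
      (mem_zpowers x)).symm
  have hct : ∀ x : G, x ≠ 1 → centralizer {x} ≠ ⊤ := fun x hx h =>
    hx (mem_bot.1 (hZ ▸ centralizer_eq_top_iff_subset.1 h (Set.mem_singleton x)))
  have huniq : ∀ A ∈ 𝓐, ∀ B ∈ 𝓐, ∀ x ∈ A, x ∈ B → IsPGroup p (zpowers x) → x ≠ 1 → A = B :=
    fun A hA B hB x h1 h2 h3 h4 =>
      hjoin A hA B hB _ (hct x h4) (hcen A hA x h1 h3) (hcen B hB x h2 h3)
  have hPx : ∀ x ∈ (P : Subgroup G), IsPGroup p (zpowers x) := fun x hx =>
    P.isPGroup'.to_le (zpowers_le.2 hx)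
  have hP0 : (P : Subgroup G) ≠ ⊥ := fun h => hnn (h ▸ inferInstance)
  by_cases hex : ∃ A ∈ 𝓐, (P : Subgroup G) ≤ A
  · right
    obtain ⟨A, hA, hPA⟩ := hex
    haveI := hnil A hA
    have hC : ∀ x ∈ (P : Subgroup G), x ≠ 1 → centralizer {x} = A := by
      intro x hx hx1
      refine le_antisymm (H01.le_of_sylow_le fun q hq => ?_) (hcen A hA x (hPA hx) (hPx x hx))
      haveI := Fact.mk hq
      by_cases hqp : q = p
      · subst hqp
        exact ⟨P, hPA, H03.not_dvd_relIndex_of_le P (hPA.trans (hcen A hA x (hPA hx) (hPx x hx)))⟩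
      obtain ⟨Q⟩ : Nonempty (Sylow q (centralizer {x} : Subgroup G)) := inferInstance
      obtain ⟨h1, h2, h3⟩ := H01.sylow_map_subtype_spec Q
      refine ⟨_, fun c hc => ?_, h3⟩
      have hcx : Commute x c := (mem_centralizer_singleton_iff.1 (h1 hc)).symm
      have hco : (orderOf x).Coprime (orderOf c) :=
        ((H16.coprime_card_of_isPGroup_ne (Ne.symm hqp) P.isPGroup' h2).coprime_dvd_left
          ((P : Subgroup G).orderOf_dvd_natCard hx)).coprime_dvd_right
          (Subgroup.orderOf_dvd_natCard _ hc)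
      obtain ⟨B, hB, hxc⟩ := hcov (x * c)
      rw [huniq A hA B hB x (hPA hx) (zpowers_le.2 hxc (H27.mem_zpowers_mul_of_coprime hcx hco))
        (hPx x hx) hx1]
      exact zpowers_le.2 hxc (H27.mem_zpowers_mul_of_coprime' hcx hco)
    have hPeq : pCoreOf p A = P := by
      refine (P.is_maximal' (H02.pCoreOf_isPGroup A) ?_)
      exact H02.le_pCoreOf_of_le_fittingOf hp.out P.isPGroup' (by
        rw [H02.fittingOf_eq_self_iff.2 this]; exact hPA)
    refine ⟨A, hA, hPA, hC, ?_, hPeq ▸ H02.normalizer_le_normalizer_pCoreOf A, fun M hM hAM m hm => ?_⟩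
    · obtain ⟨⟨x, hx⟩, hx1⟩ := (Subgroup.ne_bot_iff_exists_ne_one).1 hP0
      refine le_antisymm ?_ fun a ha y hy => ?_
      · rw [← hC x hx (fun h => hx1 (Subtype.ext h))]
        exact centralizer_le (Set.singleton_subset_iff.2 hx)
      · exact (mem_centralizer_singleton_iff.1 (hcen A hA y (hPA hy) (hPx y hy) ha)).symm
    · apply H03.mem_normalizer_of_conj_le
      intro x hx
      by_cases hx1 : x = 1
      · rw [hx1]; simp
      obtain ⟨B, hB, hxB⟩ := hcov (m * x * m⁻¹)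
      have hp' : IsPGroup p (zpowers (m * x * m⁻¹)) := by
        have := (hPx x hx).map (MulAut.conj m).toMonoidHom
        rwa [MonoidHom.map_zpowers] at this
      have h1 : B ≤ M := by
        refine (hcen B hB _ hxB hp').trans fun c hc => ?_
        have h2 : m⁻¹ * c * m ∈ A := by
          rw [← hC x hx hx1, mem_centralizer_singleton_iff]
          rw [mem_centralizer_singleton_iff] at hc
          calc m⁻¹ * c * m * x = m⁻¹ * (c * (m * x * m⁻¹)) * m := by group
            _ = _ := by rw [hc]; group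
        simpa [mul_assoc] using mul_mem (mul_mem hm (hAM h2)) (inv_mem hm)
      rw [← hjoin A hA B hB M hM hAM h1] at hxB
      rw [← hPeq]
      exact H02.le_pCoreOf_of_le_fittingOf hp.out hp' (by
        rw [H02.fittingOf_eq_self_iff.2 this]; exact zpowers_le.2 hxB) (mem_zpowers _)
  · left
    push Not at hex
    haveI := (Subgroup.nontrivial_iff_ne_bot _).2 hP0
    obtain ⟨k, hk⟩ := P.isPGroup'.exists_card_eq
    have hd : p ∣ Nat.card (P : Subgroup G) := by
      rcases Nat.eq_zero_or_pos k with rfl | hk0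
      · rw [pow_zero] at hk; exact absurd (Subgroup.card_eq_one.1 hk) hP0
      · rw [hk]; exact dvd_pow_self p hk0.ne'
    obtain ⟨x, hx⟩ := exists_prime_orderOf_dvd_card' p hd
    have hx1 : x ≠ 1 := by rintro rfl; rw [orderOf_one] at hx; exact hp.out.one_lt.ne hx
    have h1 := S3889.aux (G := (P : Subgroup G)) (fun a b => mul_comm' a b)
      ((fun A => A.subgroupOf P) '' (𝓐 : Set (Subgroup G))) (by
        rintro _ ⟨A, hA, rfl⟩ h
        exact hex A hA (subgroupOf_eq_top.1 h)) (fun g => by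
        obtain ⟨A, hA, hg⟩ := hcov g
        exact ⟨_, ⟨A, hA, rfl⟩, hg⟩) (by
        rintro _ ⟨A, hA, rfl⟩ _ ⟨B, hB, rfl⟩ hne
        rw [eq_bot_iff]
        intro y hy
        by_contra hy1
        exact hne (by rw [huniq A hA B hB y hy.1 hy.2 (hPx y y.2) fun h => hy1 (Subtype.ext h)]))
      hx1 (hx ▸ pow_orderOf_eq_one x)
    refine ⟨⟨hab, fun a ha => congrArg Subtype.val (h1 ⟨a, ha⟩)⟩, ?_⟩
    refine lt_of_le_of_ne (Nat.le_of_dvd Nat.card_pos hd) fun he => ?_
    obtain ⟨A, hA, hg⟩ := hcov x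
    apply hex A hA
    have h2 : zpowers x = ⊤ := by
      rw [← Subgroup.card_eq_iff_eq_top, Nat.card_zpowers, hx]; exact he
    intro y hy
    obtain ⟨n, hn⟩ := mem_zpowers_iff.1 (h2 ▸ mem_top (⟨y, hy⟩ : (P : Subgroup G)))
    have : y = (x : G) ^ n := (congrArg Subtype.val hn).symm
    rw [this]; exact zpow_mem hg n

theorem coatom {G : Type*} [Group G] {A N : Subgroup G} (hN : N ≠ ⊤) (hAN : A ≤ N)
    (h : ∀ M : Subgroup G, M ≠ ⊤ → A ≤ M → M ≤ N) : IsCoatom N :=
  ⟨hN, fun M hM => by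
    by_contra hne
    exact not_le_of_gt hM (h M hne (hAN.trans hM.le))⟩

/-- A cover of a group is a finite set of proper subgroups whose union is the whole group; it is minimal when no cover has fewer members, and nilpotent when all its members are nilpotent. Let G be a finite group with trivial center admitting a nilpotent minimal cover 𝓐, and let P be an abelian Sylow p-subgroup of G that is not normal. Then either P is elementary abelian of order greater than p, or P is a Sylow p-subgroup of some member A of 𝓐, the normalizer N of P is a maximal subgroup of G, N meets each of its conjugates by elements outside N in a subgroup of order prime to p, and the centralizer of P equals A. -/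
theorem result {G : Type*} [Group G] [Finite G] (hZ : Subgroup.center G = ⊥) (𝓐 : Finset (Subgroup G))
    (h𝓐 : ((∀ A ∈ 𝓐, A ≠ ⊤) ∧ (∀ g : G, ∃ A ∈ 𝓐, g ∈ A)) ∧ (∀ 𝓑 : Finset (Subgroup G), (∀ A ∈ 𝓑, A ≠ ⊤) ∧ (∀ g : G, ∃ A ∈ 𝓑, g ∈ A) → 𝓐.card ≤ 𝓑.card) ∧ (∀ A ∈ 𝓐, Group.IsNilpotent ↥A)) {p : ℕ} [Fact p.Prime] (P : Sylow p G) (hab : IsMulCommutative ↥(P : Subgroup G))
    (hnn : ¬ (P : Subgroup G).Normal) :
    (Cfsg.IsElementaryAbelian p (P : Subgroup G) ∧ p < Nat.card ↥(P : Subgroup G)) ∨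
    (∃ A ∈ 𝓐, (P : Subgroup G) ≤ A ∧ ¬ p ∣ ((P : Subgroup G).subgroupOf A).index ∧
      IsCoatom (Subgroup.normalizer ((P : Subgroup G) : Set G)) ∧
      (∀ g : G, g ∉ Subgroup.normalizer ((P : Subgroup G) : Set G) →
        ¬ p ∣ Nat.card ↥(Subgroup.normalizer ((P : Subgroup G) : Set G) ⊓
          (Subgroup.normalizer ((P : Subgroup G) : Set G)).map (MulAut.conj g).toMonoidHom)) ∧
      Subgroup.centralizer ((P : Subgroup G) : Set G) = A) := by
  refine (main hZ 𝓐 h𝓐 P hab hnn).imp id ?_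
  rintro ⟨A, hA, hPA, hC, hCP, hNA, hM⟩
  have hp : p.Prime := Fact.out
  refine ⟨A, hA, hPA, H03.not_dvd_relIndex_of_le P hPA,
    coatom (fun h => hnn (Subgroup.normalizer_eq_top_iff.1 h))
      (hCP ▸ Subgroup.centralizer_le_normalizer _) hM, fun g hg hd => hg ?_, hCP⟩
  obtain ⟨⟨y, hy1, hy2⟩, hy⟩ := exists_prime_orderOf_dvd_card' p hd
  rw [← Subgroup.orderOf_coe] at hy
  simp only at hy
  have key : ∀ y ∈ Subgroup.normalizer ((P : Subgroup G) : Set G), orderOf y = p → y ∈ (P : Subgroup G) := by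
    intro y hy ho
    have h1 : IsPGroup p (Subgroup.zpowers y) := IsPGroup.of_card (n := 1) (by
      rw [Nat.card_zpowers, ho, pow_one])
    have := h1.inf_normalizer_sylow P
    exact (this.le ⟨Subgroup.mem_zpowers y, hy⟩).2
  have hy0 : y ≠ 1 := by rintro rfl; rw [orderOf_one] at hy; exact hp.one_lt.ne hy
  have h1 := hC y (key y hy1 hy) hy0
  have h2 := hC _ (key _ (H03.mem_map_conj.1 hy2) (by
    rw [show g⁻¹ * y * g = MulAut.conj g⁻¹ y by simp, MulEquiv.orderOf_eq, hy]))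
    (fun h => hy0 (H02.inv_conj_eq_one_iff.1 h))
  apply hNA
  apply H03.mem_normalizer_of_conj_le
  intro a ha
  rw [← h2, Subgroup.mem_centralizer_singleton_iff] at ha
  rw [← h1, Subgroup.mem_centralizer_singleton_iff]
  calc g * a * g⁻¹ * y = g * (a * (g⁻¹ * y * g)) * g⁻¹ := by group
    _ = _ := by rw [ha]; group

end Cfsg.Agent.S3890
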