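import Mathlib
import Cfsg.Statements.S3891
import Cfsg.Agent.S3890

set_option autoImplicit false
open Cfsg

namespace Cfsg.Agent.S3891

/-- A cover of a group is a finite set of proper subgroups whose union is the whole group; it is minimal when no cover has fewer members, and nilpotent when all its members are nilpotent. Let G be a finite group with trivial center admitting a nilpotent minimal cover, and let P be a non-normal Sylow p-subgroup of G that is cyclic, or abelian but not elementary abelian. Then the centralizer of P is nilpotent and the normalizer of P is the unique maximal subgroup of G containing the centralizer of P. -/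
theorem result {G : Type*} [Group G] [Finite G] (hZ : Subgroup.center G = ⊥) (𝓐 : Finset (Subgroup G))
    (h𝓐 : ((∀ A ∈ 𝓐, A ≠ ⊤) ∧ (∀ g : G, ∃ A ∈ 𝓐, g ∈ A)) ∧ (∀ 𝓑 : Finset (Subgroup G), (∀ A ∈ 𝓑, A ≠ ⊤) ∧ (∀ g : G, ∃ A ∈ 𝓑, g ∈ A) → 𝓐.card ≤ 𝓑.card) ∧ (∀ A ∈ 𝓐, Group.IsNilpotent ↥A)) {p : ℕ} [Fact p.Prime] (P : Sylow p G)
    (hP : IsCyclic ↥(P : Subgroup G) ∨ (IsMulCommutative ↥(P : Subgroup G) ∧ ¬ Cfsg.IsElementaryAbelian p (P : Subgroup G)))
    (hnn : ¬ (P : Subgroup G).Normal) :
    Group.IsNilpotent ↥(Subgroup.centralizer ((P : Subgroup G) : Set G)) ∧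
      IsCoatom (Subgroup.normalizer ((P : Subgroup G) : Set G)) ∧
      ∀ M : Subgroup G, IsCoatom M → Subgroup.centralizer ((P : Subgroup G) : Set G) ≤ M →
        M = Subgroup.normalizer ((P : Subgroup G) : Set G) := by
  have hab : IsMulCommutative ↥(P : Subgroup G) := hP.elim (fun h => inferInstance) (·.1)
  rcases S3890.main hZ 𝓐 h𝓐 P hab hnn with ⟨h1, h2⟩ | ⟨A, hA, hPA, hC, hCP, hNA, hM⟩
  · exfalso
    rcases hP with h | h
    · have h3 : Monoid.exponent (P : Subgroup G) ∣ p :=
        Monoid.exponent_dvd_of_forall_pow_eq_one fun x => Subtype.ext (h1.2 x x.2)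
      rw [IsCyclic.exponent_eq_card] at h3
      exact not_le_of_gt h2 (Nat.le_of_dvd (Fact.out : p.Prime).pos h3)
    · exact h.2 h1
  have hc := S3890.coatom (fun h => hnn (Subgroup.normalizer_eq_top_iff.1 h))
      (hCP ▸ Subgroup.centralizer_le_normalizer _) hM
  refine ⟨hCP ▸ h𝓐.2.2 A hA, hc, fun M h1 h2 => ?_⟩
  exact (h1.le_iff_eq hc.1).1 (hM M h1.1 (hCP ▸ h2)) |>.symm

end Cfsg.Agent.S3891
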