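import Mathlib
import Cfsg.Statements.S3892
import Cfsg.Agent.H03.SymD
import Cfsg.Agent.H02.Fitting

set_option autoImplicit false
open Cfsg

namespace Cfsg.Agent.S3892

open Equiv Equiv.Perm Finset Subgroup MulAction H03.Sym Pointwise

theorem cent {G : Type*} [Group G] [Finite G] {n : ℕ} (φ : G →* Perm (Fin n)) (hφ : Function.Injective φ) {x : G}
    (hp : (orderOf x).Prime) (hn : n < 2 * orderOf x) {N : Subgroup G} (hN : Group.IsNilpotent N) (hx : x ∈ N) :
    N ≤ centralizer {x} := by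
  have := Fact.mk hp
  obtain ⟨P, hP⟩ := IsPGroup.exists_le_sylow (p := orderOf x) (P := zpowers (⟨x, hx⟩ : N))
    (.of_card (n := 1) (by simp [← orderOf_coe]))
  obtain ⟨k, hk⟩ := P.isPGroup'.exists_card_eq
  have h1 : ¬ orderOf x ^ 2 ∣ Nat.card P := fun h => by
    have h2 := ((h.trans P.1.card_subgroup_dvd_card).trans N.card_subgroup_dvd_card).trans
      (card_dvd_of_injective φ hφ)
    rw [Nat.card_perm, Nat.card_eq_fintype_card, Fintype.card_fin] at h2
    rw [hp.pow_dvd_factorial_iff (b := 2) (Nat.log_lt_of_lt_pow' two_ne_zero (by nlinarith [hp.two_le]))] at h2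
    exact absurd ((Nat.le_div_iff_mul_le hp.pos).1 (by simpa using h2)) (by omega)
  have h2 := H02.inf_center_ne_bot_of_isNilpotent (P : Subgroup N) fun e => hp.ne_one (by
    simpa [e, Subtype.ext_iff] using hP (mem_zpowers _))
  have h3 : k ≤ 1 := by
    by_contra h; exact h1 (hk ▸ pow_dvd_pow _ (by omega))
  have h4 := card_dvd_of_le (inf_le_left : (P : Subgroup N) ⊓ center N ≤ P)
  have h5 := (Nat.dvd_prime hp).1 (h4.trans (hk ▸ (pow_dvd_pow _ h3).trans (pow_one _).dvd))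
  have h6 := eq_of_le_of_card_ge (inf_le_left : (P : Subgroup N) ⊓ center N ≤ P) (by
    rw [h5.resolve_left (mt card_eq_one.1 h2), hk]
    exact (Nat.pow_le_pow_right hp.pos h3).trans (pow_one _).le)
  exact fun g hg => mem_centralizer_singleton_iff.2
    (congrArg Subtype.val (mem_center_iff.1 (h6.ge (hP (mem_zpowers _))).2 ⟨g, hg⟩))

theorem nocov {G : Type*} [Group G] [Finite G] {n : ℕ} (φ : G →* Perm (Fin n)) (hφ : Function.Injective φ)
    {x y : G} {p : ℕ} (hp : p.Prime) (hn : n < 2 * p) (hx : orderOf (φ x) = p) (hy : orderOf (φ y) = p)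
    (h : φ y * φ x ≠ φ x * φ y) {M : Subgroup (Perm (Fin n))} (hM : ∃ g, φ g ∉ M)
    (h1 : ∀ g, φ g * φ x = φ x * φ g → φ g ∈ M) (h2 : ∀ g, φ g * φ y = φ y * φ g → φ g ∈ M) :
    ¬ ∃ 𝓐 : Finset (Subgroup G), ((∀ A ∈ 𝓐, A ≠ ⊤) ∧ (∀ g, ∃ A ∈ 𝓐, g ∈ A)) ∧ (∀ 𝓑 : Finset (Subgroup G),
      (∀ A ∈ 𝓑, A ≠ ⊤) ∧ (∀ g, ∃ A ∈ 𝓑, g ∈ A) → 𝓐.card ≤ 𝓑.card) ∧ (∀ A ∈ 𝓐, Group.IsNilpotent A) := by
  classical
  rintro ⟨𝓐, ⟨a1, a2⟩, a3, a4⟩
  rw [orderOf_injective φ hφ] at hx hy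
  obtain ⟨A, hA, hxA⟩ := a2 x
  obtain ⟨B, hB, hyB⟩ := a2 y
  have key : ∀ x, orderOf x = p → ∀ A ∈ 𝓐, x ∈ A → ∀ g ∈ A, φ g * φ x = φ x * φ g := fun x hx A hA h g hg => by
    simpa using congrArg φ (mem_centralizer_singleton_iff.1 (cent φ hφ (hx ▸ hp) (hx ▸ hn) (a4 A hA) h hg))
  have hAB : B ≠ A := fun e => h (key x hx A hA hxA y (e ▸ hyB))
  have := a3 (insert (M.comap φ) ((𝓐.erase A).erase B)) ⟨fun C hC => ?_, fun g => ?_⟩
  · have h3 := card_insert_le (M.comap φ) ((𝓐.erase A).erase B)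
    rw [card_erase_of_mem (mem_erase.2 ⟨hAB, hB⟩), card_erase_of_mem hA] at h3
    have := one_lt_card.2 ⟨_, hB, _, hA, hAB⟩
    omega
  · rcases mem_insert.1 hC with rfl | hC
    · exact fun e => hM.elim fun g hg => hg (e.ge (mem_top g))
    · exact a1 C (mem_of_mem_erase (mem_of_mem_erase hC))
  · obtain ⟨C, hC, hg⟩ := a2 g
    by_cases e1 : C = A
    · exact ⟨_, mem_insert_self _ _, h1 g (key x hx A hA hxA g (e1 ▸ hg))⟩
    by_cases e2 : C = B
    · exact ⟨_, mem_insert_self _ _, h2 g (key y hy B hB hyB g (e2 ▸ hg))⟩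
    · exact ⟨C, mem_insert_of_mem (by simp [hC, e1, e2]), hg⟩

theorem big {n : ℕ} (hn : 6 ≤ n) : ∃ (x y : alternatingGroup (Fin n)) (p : ℕ) (M : Subgroup (Perm (Fin n))),
    p.Prime ∧ n < 2 * p ∧ orderOf x.1 = p ∧ orderOf y.1 = p ∧ y.1 * x.1 ≠ x.1 * y.1 ∧
      (∃ g : alternatingGroup (Fin n), g.1 ∉ M) ∧ (∀ g, g * x.1 = x * g → g ∈ M) ∧ ∀ g, g * y.1 = y * g → g ∈ M := by
  obtain ⟨p, hp, h1, h2⟩ := Nat.exists_prime_lt_and_le_two_mul (n / 2) (by omega)
  have h3 := hp.five_le_of_ne_two_of_ne_three (by omega) (by omega)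
  obtain ⟨k, hk⟩ := hp.odd_of_ne_two (by omega)
  obtain ⟨s, -, hs⟩ := exists_subset_card_eq (s := (univ : Finset (Fin n))) (n := p) (by simp; omega)
  obtain ⟨x, x1, rfl⟩ := exists_cycle (s := s) (by omega)
  obtain ⟨a, ha⟩ := card_pos.1 (show 0 < #x.support by omega)
  have h4 : (swap a (x a) * x * (swap a (x a))⁻¹).support = x.support := by
    rw [support_conj, map_eq_image]
    exact (inv_fixU _).le_stab (x := swap a (x a)) (by
      rw [mem_fixU, support_swap (mem_support.1 ha).symm]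
      exact insert_subset ha (by simpa using ha))
  have h5 := cycle_even x1 (hs ▸ ⟨k, hk⟩)
  have key : ∀ y : Perm (Fin n), ∀ g, g * y = y * g → g ∈ stabilizer (Perm (Fin n)) y.support := fun y g h =>
    Inv.le_stab (H := centralizer {y}) (fun g hg z hz => supp_inv (mem_centralizer_singleton_iff.1 hg) hz)
      (mem_centralizer_singleton_iff.2 h)
  refine ⟨⟨x, h5⟩, ⟨_, Normal.conj_mem inferInstance _ h5 (swap a (x a))⟩, p, stabilizer _ x.support, hp, by omega,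
    x1.orderOf.trans hs, x1.conj.orderOf.trans (h4 ▸ hs), fun e => ?_, ?_, key x, h4 ▸ key _⟩
  · have f : ∀ q, q.Prime → q < 5 → (x ^ q) a ≠ a := fun q hq h e => by
      have := dvd_orderOf_of_fix hq (h := x) (a := a) e (mem_support.1 ha)
      rw [x1.orderOf, hs, Nat.prime_dvd_prime_iff_eq hq hp] at this
      omega
    have f2 : x (x a) ≠ a := f 2 Nat.prime_two (by omega)
    have f3 : x (x (x a)) ≠ a := f 3 Nat.prime_three (by omega)
    have f1 : x (x a) ≠ x a := x.injective.ne (mem_support.1 ha)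
    have := congrArg (· (x a)) e
    simp [swap_apply_of_ne_of_ne f2 f1, swap_apply_of_ne_of_ne f3 (x.injective.ne f2), f2] at this
  · obtain ⟨c, -, hc⟩ := exists_mem_notMem_of_card_lt_card (s := x.support) (t := univ) (by simp; omega)
    by_contra! h
    exact not_alt_le (r := fun a b => a ∈ x.support ↔ b ∈ x.support) (by simp; omega) (mem_support.1 ha).symm
      (by simp [mem_support.1 ha]) (fun e => hc (e.1 ha)) (fun e => hc (e ▸ ha)) fun g hg => stab_le_P (h ⟨g, hg⟩)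

/-- A cover of a group is a finite set of proper subgroups whose union is the whole group; it is minimal when no cover has fewer members, and nilpotent when all its members are nilpotent. The alternating groups of degree at least 5 and the symmetric groups of degree at least 4 have no nilpotent minimal cover. -/
theorem result (n : ℕ) :
    (5 ≤ n → ¬ ∃ 𝓐 : Finset (Subgroup ↥(alternatingGroup (Fin n))), ((∀ A ∈ 𝓐, A ≠ ⊤) ∧ (∀ g : ↥(alternatingGroup (Fin n)), ∃ A ∈ 𝓐, g ∈ A)) ∧ (∀ 𝓑 : Finset (Subgroup ↥(alternatingGroup (Fin n))), (∀ A ∈ 𝓑, A ≠ ⊤) ∧ (∀ g : ↥(alternatingGroup (Fin n)), ∃ A ∈ 𝓑, g ∈ A) → 𝓐.card ≤ 𝓑.card) ∧ (∀ A ∈ 𝓐, Group.IsNilpotent ↥A)) ∧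
    (4 ≤ n → ¬ ∃ 𝓐 : Finset (Subgroup (Equiv.Perm (Fin n))), ((∀ A ∈ 𝓐, A ≠ ⊤) ∧ (∀ g : (Equiv.Perm (Fin n)), ∃ A ∈ 𝓐, g ∈ A)) ∧ (∀ 𝓑 : Finset (Subgroup (Equiv.Perm (Fin n))), (∀ A ∈ 𝓑, A ≠ ⊤) ∧ (∀ g : (Equiv.Perm (Fin n)), ∃ A ∈ 𝓑, g ∈ A) → 𝓐.card ≤ 𝓑.card) ∧ (∀ A ∈ 𝓐, Group.IsNilpotent ↥A)) := by
  refine ⟨fun hn => ?_, fun hn => ?_⟩ <;> by_cases h : 6 ≤ n
  · obtain ⟨x, y, p, M, h1, h2, h3, h4, h5, h6, h7, h8⟩ := big h
    exact nocov _ (subtype_injective _) h1 h2 h3 h4 h5 h6 (fun g => h7 g) fun g => h8 g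
  · obtain rfl : n = 5 := by omega
    exact nocov _ (subtype_injective _) (x := ⟨swap 0 1 * swap 0 2, mem_alternatingGroup.2 (by decide)⟩) (y := ⟨swap 0 1 * swap 0 3, mem_alternatingGroup.2 (by decide)⟩)
      (M := stabilizer _ (4 : Fin 5)) Nat.prime_three (by omega) (orderOf_eq_prime (by decide) (by decide))
      (orderOf_eq_prime (by decide) (by decide)) (by decide) ⟨⟨swap 0 1 * swap 0 4, mem_alternatingGroup.2 (by decide)⟩, by decide⟩
      (by decide +kernel) (by decide +kernel)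
  · obtain ⟨x, y, p, M, h1, h2, h3, h4, h5, ⟨g, h6⟩, h7, h8⟩ := big h
    exact nocov (.id _) (fun _ _ => id) h1 h2 h3 h4 h5 ⟨g, h6⟩ h7 h8
  obtain rfl | rfl : n = 4 ∨ n = 5 := by omega
  · exact nocov (.id _) (fun _ _ => id) (x := swap 0 1 * swap 0 2) (y := swap 0 1 * swap 0 3)
      (M := alternatingGroup _) Nat.prime_three (by omega) (orderOf_eq_prime (by decide) (by decide))
      (orderOf_eq_prime (by decide) (by decide)) (by decide) ⟨swap 0 1, by simp [mem_alternatingGroup]⟩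
      (by simp only [mem_alternatingGroup]; decide +kernel) (by simp only [mem_alternatingGroup]; decide +kernel)
  · have : Fact (Nat.Prime 5) := ⟨by norm_num⟩
    exact nocov (.id _) (fun _ _ => id) (x := swap 0 1 * swap 0 2 * swap 0 3 * swap 0 4)
      (y := swap 0 1 * swap 0 2 * swap 0 4 * swap 0 3)
      (M := alternatingGroup _) this.out (by omega) (orderOf_eq_prime (by decide) (by decide))
      (orderOf_eq_prime (by decide) (by decide)) (by decide) ⟨swap 0 1, by simp [mem_alternatingGroup]⟩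
      (by simp only [mem_alternatingGroup]; decide +kernel) (by simp only [mem_alternatingGroup]; decide +kernel)

end Cfsg.Agent.S3892
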