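import Mathlib
import Cfsg.Statements.S3893
import Cfsg.Agent.H12.Sz8

set_option autoImplicit false
open Cfsg

namespace Cfsg.Agent.S3893

open H12.Sz H12.CC

/-- A cover of a group is a finite set of proper subgroups whose union is the whole group; it is minimal when no cover has fewer members, and nilpotent when all its members are nilpotent. The Suzuki groups Sz(q), q = 2^(2m+1) with m ≥ 1, have no nilpotent minimal cover. -/
theorem result {F : Type*} [Field F] [Fintype F] (m : ℕ) (hm : 1 ≤ m) (hF : Fintype.card F = 2 ^ (2 * m + 1)) :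
    ¬ ∃ 𝓐 : Finset (Subgroup ↥(Cfsg.Lie.Sz F (2 ^ (m + 1)))), ((∀ A ∈ 𝓐, A ≠ ⊤) ∧ (∀ g : ↥(Cfsg.Lie.Sz F (2 ^ (m + 1))), ∃ A ∈ 𝓐, g ∈ A)) ∧ (∀ 𝓑 : Finset (Subgroup ↥(Cfsg.Lie.Sz F (2 ^ (m + 1)))), (∀ A ∈ 𝓑, A ≠ ⊤) ∧ (∀ g : ↥(Cfsg.Lie.Sz F (2 ^ (m + 1))), ∃ A ∈ 𝓑, g ∈ A) → 𝓐.card ≤ 𝓑.card) ∧ (∀ A ∈ 𝓐, Group.IsNilpotent ↥A) := by
  haveI : SzF F m := ⟨hm, hF⟩
  classical
  let e := lieEquiv (F := F)
  rintro ⟨𝓐, ⟨h1, h2⟩, h3, h4⟩
  have key : ∀ P : Subgroup (G F m), H12.Sz.Part P → ∀ x ∈ P, x ≠ 1 → ∃ A ∈ 𝓐, e x ∈ A ∧ A ≤ P.map e.toMonoidHom :=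
    fun P hP x hx x1 => by
      obtain ⟨A, hA, hxA⟩ := h2 (e x)
      haveI := h4 A hA
      haveI : Group.IsNilpotent (A.comap e.toMonoidHom) :=
        Group.nilpotent_of_mulEquiv (A.equivMapOfInjective e.symm.toMonoidHom e.symm.injective |>.trans
          (MulEquiv.subgroupCongr (Subgroup.map_equiv_eq_comap_symm' e.symm A)))
      have := nilpotent_le_part (N := A.comap e.toMonoidHom) hP x1 hx hxA
      refine ⟨A, hA, hxA, fun y hy => ?_⟩
      obtain ⟨y, rfl⟩ := e.surjective y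
      exact Subgroup.mem_map_of_mem e.toMonoidHom (this hy)
  obtain ⟨k, hk⟩ := exists_hh_ne (F := F)
  obtain ⟨A₁, a1, b1, c1⟩ := key (U F m) (Or.inl ⟨1, (cj_one _).symm⟩) (uu 0 1) (uu_mem_U _ _) (by simp [uu_eq_one])
  obtain ⟨A₂, a2, b2, c2⟩ := key (H F m) (Or.inr oddPart_H) (hh k) (hh_mem_H _) hk
  let B' := (B F m).map e.toMonoidHom
  have hB : B' ≠ ⊤ := fun h => by
    have : e.toMonoidHom ww ∈ B' := h ▸ Subgroup.mem_top _
    exact ww_not_mem_B ((Subgroup.mem_map_iff_mem e.injective).1 this)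
  let φ := fun A : Subgroup (Cfsg.Lie.Sz F (2 ^ (m + 1))) => if A ≤ B' then B' else A
  have h5 := h3 (𝓐.image φ) ⟨fun A hA => ?_, fun g => ?_⟩
  · have h6 := Finset.injOn_of_card_image_eq (le_antisymm Finset.card_image_le h5) a1 a2 (by
      exact (if_pos (c1.trans (Subgroup.map_mono U_le_B))).trans
        (if_pos (c2.trans (Subgroup.map_mono H_le_B))).symm)
    subst h6
    exact hk (U_inf_H ((Subgroup.mem_map_iff_mem e.injective).1 (c1 b2)) (hh_mem_H k))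
  · obtain ⟨A, hA', rfl⟩ := Finset.mem_image.1 hA
    simp only [φ]
    split_ifs
    exacts [hB, h1 A hA']
  · obtain ⟨A, hA, hg⟩ := h2 g
    refine ⟨φ A, Finset.mem_image_of_mem _ hA, ?_⟩
    simp only [φ]
    split_ifs with h
    exacts [h hg, hg]

end Cfsg.Agent.S3893
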