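import Mathlib
import Cfsg.Statements.S3903
import Cfsg.Agent.H23.Eppo
import Cfsg.Agent.S0556
import Cfsg.Agent.S4040

set_option autoImplicit false
open Cfsg

namespace Cfsg.Agent.S3903

open BG Subgroup

/-- Let N be a proper normal subgroup of the finite group G such that every element x of G outside N has prime power order and has centralizer C_G(x) a maximal subgroup of G. Then N is solvable. -/
theorem result {G : Type*} [Group G] [Finite G] (N : Subgroup G) [N.Normal] (hN : N ≠ ⊤)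
    (h : ∀ x : G, x ∉ N → IsPrimePow (orderOf x) ∧ IsCoatom (Subgroup.centralizer ({x} : Set G))) : Group.IsSolvable ↥N := by
  suffices Group.IsSolvable G from inferInstance
  have hC : ∀ x ∉ N, ∀ p : ℕ, p.Prime → p ∣ orderOf x → IsPGroup p C_[x] := fun x hx p hp hd =>
    (isPi_singleton hp).1 fun q hq hqd => by
      by_contra e
      obtain ⟨y, hy, rfl⟩ := exists_orderOf_eq_prime hq hqd
      obtain ⟨r, k, hr, -, hk⟩ := (isPrimePow_nat_iff _).1 (h x hx).1
      obtain rfl := (Nat.prime_dvd_prime_iff_eq hp hr).1 (hp.dvd_of_dvd_pow (hk ▸ hd))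
      have hc : (orderOf y).Coprime (orderOf x) := hk ▸ ((Nat.coprime_primes hq hp).2 e).pow_right k
      have hxy : Commute x y := (mem_cent1.1 hy).symm
      rcases H23.pp_mul hxy hc.symm (h _ fun e => hx (by
        obtain ⟨m, hm⟩ := exists_pow_eq_self_of_coprime hc
        have := pow_mem (pow_mem e (orderOf y)) m
        rwa [hxy.mul_pow, pow_orderOf_eq_one, mul_one, hm] at this)).1 with rfl | rfl
      · exact hx (one_mem N)
      · exact Nat.not_prime_one (orderOf_one (G := G) ▸ hq)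
  by_cases h2 : ∀ x ∉ N, 2 ∣ orderOf x
  swap
  · push Not at h2
    obtain ⟨x, hx, h2⟩ := h2
    obtain ⟨p, hp, hd⟩ := Nat.exists_prime_and_dvd (h x hx).1.ne_one
    exact Cfsg.Agent.S4040.result _ (h x hx).2 (pg_nil hp (hC x hx p hp hd)) (Nat.odd_iff.2 (Nat.two_dvd_ne_zero.1
      (pg_not_dvd Nat.prime_two hp (hC x hx p hp hd) fun e => h2 (e ▸ hd))))
  by_cases hG : IsPGroup 2 (⊤ : Subgroup G)
  · have := pg_sol Nat.prime_two hG
    exact Group.isSolvable_of_surjective (f := (⊤ : Subgroup G).subtype) fun a => ⟨⟨a, trivial⟩, rfl⟩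
  have hS : ∀ x ∉ N, IsSylowIn 2 C_[x] ⊤ := fun x hx =>
    sylow_of_max Nat.prime_two (hC x hx 2 Nat.prime_two (h2 x hx)) le_top fun Y hY hle _ => by
      by_contra e
      exact hG ((h x hx).2.2 Y (hle.lt_of_ne (Ne.symm e)) ▸ hY)
  obtain ⟨x, -, hx⟩ := SetLike.exists_of_lt (lt_top_iff_ne_top.2 hN)
  obtain ⟨S, eS⟩ : ∃ S, S = C_[x] := ⟨_, rfl⟩
  have h1 : Nat.card ↥(N : Set G)ᶜ ≤ Nat.card (↥(((S ⊓ C_(S) : Subgroup G) : Set G) \ N) × (G ⧸ S)) :=
    Nat.card_le_card_of_surjective (fun z => ⟨z.2.out * z.1 * z.2.out⁻¹, fun e => z.1.2.2 (by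
      simpa [mul_assoc] using ‹N.Normal›.conj_mem _ e z.2.out⁻¹)⟩) fun ⟨y, hy⟩ => by
      obtain ⟨g, -, hg⟩ := sylow_trans Nat.prime_two (eS ▸ hS x hx : IsSylowIn 2 S ⊤) (hS y hy)
      obtain ⟨s, hs⟩ := QuotientGroup.mk_out_eq_mul S g
      have hz : g⁻¹ * y * g ∈ C_(S) := le_cent1_iff.1 (by
        rw [← cj_le_cj_iff (g := g), cj_cent1, ← hg]; simp [mul_assoc])
      refine ⟨⟨⟨g⁻¹ * y * g, ⟨mem_cj.1 (hg ▸ mem_cent1_self y), hz⟩, fun e => hy (by
        simpa [mul_assoc] using ‹N.Normal›.conj_mem _ e g)⟩, g⟩, Subtype.ext ?_⟩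
      show (QuotientGroup.mk g : G ⧸ S).out * (g⁻¹ * y * g) * (QuotientGroup.mk g : G ⧸ S).out⁻¹ = y
      rw [hs, mul_assoc g, mem_cent.1 hz s s.2]; group
  rw [Nat.card_prod, ← S.index_eq_card, Nat.card_coe_set_eq, Nat.card_coe_set_eq] at h1
  have h3 := Set.ncard_add_ncard_compl (N : Set G)
  have h4 := Set.ncard_inter_add_ncard_sdiff_eq_ncard (S : Set G) N
  have h5 := card_inf_mul_relIndex S N
  have h6 : S.relIndex N ≤ S.index := by
    rw [← relIndex_top_right]; exact relIndex_le_of_le_right le_top (relIndex_ne_zero _ _)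
  have h7 := S.card_mul_index
  have h8 : (((S ⊓ C_(S) : Subgroup G) : Set G) \ N) = (S : Set G) \ N :=
    Set.eq_of_subset_of_ncard_le (fun y hy => ⟨hy.1.1, hy.2⟩) (by
      refine Nat.le_of_mul_le_mul_right ?_ (Nat.pos_of_ne_zero S.index_ne_zero_of_finite)
      rw [← Nat.card_coe_set_eq (S : Set G), ← Nat.card_coe_set_eq (_ ∩ _)] at h4
      rw [← Nat.card_coe_set_eq] at h3
      change Nat.card ↥(S ⊓ N) + _ = Nat.card S at h4
      change Nat.card N + _ = _ at h3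
      rw [← h4, add_mul] at h7
      nlinarith [Nat.mul_le_mul_left (Nat.card ↥(S ⊓ N)) h6])
  have hx' : x ∈ C_(S) := le_cent1_iff.1 eS.le
  have : IsMulCommutative S := abelian_iff.2 fun y hy => by
    by_cases e : y ∈ N
    · simpa using mul_mem (inv_mem hx') (h8.ge ⟨mul_mem (eS.ge (mem_cent1_self x)) hy,
        fun e' => hx ((mul_mem_cancel_right e).1 e')⟩).1.2
    · exact (h8.ge ⟨hy, e⟩).1.2
  exact ⟨⟨3, Cfsg.Agent.S0556.result S (eS ▸ (h x hx).2)⟩⟩

end Cfsg.Agent.S3903
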