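import Mathlib
import Cfsg.Statements.S3906
import Cfsg.Agent.H04.Sh3

set_option autoImplicit false
open Cfsg

namespace Cfsg.Agent.S3906

/-- Let p be a prime and let k ≥ 3, c ≥ 0 and d ≥ 0 be integers with 2^d + 2 ≤ k. There is a bound B depending only on p, k, c and d such that the following holds for every finite group G of order prime to p and every elementary abelian subgroup A of order p^k of the automorphism group of G: if, for every non-identity a ∈ A, the d-th derived subgroup of the fixed-point subgroup C_G(a) (the 0-th derived subgroup of a group being the group itself) is nilpotent of class at most c, then the d-th derived subgroup of G is nilpotent of class at most B. -/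
theorem result (p k c d : ℕ) (hp : p.Prime) (hk : 3 ≤ k) (hd : 2 ^ d + 2 ≤ k) :
    ∃ B : ℕ, ∀ (G : Type) [Group G] [Finite G], (Nat.card G).Coprime p →
      ∀ A : Subgroup (MulAut G), Cfsg.IsElementaryAbelian p A → Nat.card ↥A = p ^ k →
        (∀ a ∈ A, a ≠ 1 → (derivedSeries ↥((a : MulAut G).toMonoidHom.eqLocus (MonoidHom.id G)) d).lowerCentralSeries c = ⊥) →
        (derivedSeries G d).lowerCentralSeries B = ⊥ := by
  haveI := Fact.mk hp
  obtain ⟨t, ht⟩ := H04.Sh.ex_fam p (p ^ p ^ k) d
  obtain ⟨B, hB⟩ := H04.Sh.fin_main p k c d t hk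
  refine ⟨B, fun G _ _ hc A hA hA' h => ?_⟩
  haveI := hA.1
  have e : ∀ a : A, a ^ p = 1 := fun a => Subtype.ext (hA.2 a a.2)
  open scoped IsMulCommutative in
  obtain ⟨⟨ι, _, F, a1, a2, a3, a4⟩, -⟩ := ht G A A.subtype e hc (H04.Sh.card_ch k hA')
  rw [← H04.Sh.dg_top, ← a3]
  refine hB G _ A.subtype ι F _ _ A.subtype_injective e hc hA' a1 a2 hd a4 (fun X => ⟨?_, le_rfl⟩) fun a ha => ?_
  · haveI := derivedSeries_normal X d
    simpa [Subgroup.map_commutator, H04.Sh.map_der, ← MonoidHom.range_eq_map] using
      Subgroup.map_mono (f := X.subtype) (Subgroup.commutator_le_right ⊤ (derivedSeries X d))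
  · rw [H04.Sh.fx_eq, ← H04.Sh.map_der, ← Subgroup.map_lowerCentralSeries, h a a.2 fun e => ha (Subtype.ext e),
      Subgroup.map_bot]

end Cfsg.Agent.S3906
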