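import Mathlib
import Cfsg.Statements.S3907
import Cfsg.Agent.H04.Sh3

set_option autoImplicit false
open Cfsg

namespace Cfsg.Agent.S3907

/-- Let p be a prime and let k ≥ 3 and c ≥ 0 be integers. There is a bound B depending only on p, k and c such that the following holds for every finite group G of order prime to p and every elementary abelian subgroup A of order p^k of the automorphism group of G: if, for every non-identity a ∈ A, the (k−2)-th term of the lower central series of the fixed-point subgroup C_G(a) (the first term being the whole group) is nilpotent of class at most c, then the (k−2)-th term of the lower central series of G is nilpotent of class at most B. -/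
theorem result (p k c : ℕ) (hp : p.Prime) (hk : 3 ≤ k) :
    ∃ B : ℕ, ∀ (G : Type) [Group G] [Finite G], (Nat.card G).Coprime p →
      ∀ A : Subgroup (MulAut G), Cfsg.IsElementaryAbelian p A → Nat.card ↥A = p ^ k →
        (∀ a ∈ A, a ≠ 1 → ((⊤ : Subgroup ↥((a : MulAut G).toMonoidHom.eqLocus (MonoidHom.id G))).lowerCentralSeries (k - 3)).lowerCentralSeries c = ⊥) →
        ((⊤ : Subgroup G).lowerCentralSeries (k - 3)).lowerCentralSeries B = ⊥ := by
  haveI := Fact.mk hp
  obtain ⟨t, ht⟩ := H04.Sh.ex_fam p (p ^ p ^ k) (k - 3)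
  obtain ⟨B, hB⟩ := H04.Sh.fin_main p k c (k - 3) t hk
  refine ⟨B, fun G _ _ hc A hA hA' h => ?_⟩
  haveI := hA.1
  have e : ∀ a : A, a ^ p = 1 := fun a => Subtype.ext (hA.2 a a.2)
  open scoped IsMulCommutative in
  obtain ⟨-, ι, _, F, a1, a2, a3, a4⟩ := ht G A A.subtype e hc (H04.Sh.card_ch k hA')
  rw [← a3]
  refine hB G _ A.subtype ι F _ _ A.subtype_injective e hc hA' a1 a2.self (by omega) a4 (fun X => ⟨?_, H04.Sh.dg_le X _⟩)
    fun a ha => ?_
  · rw [Subgroup.commutator_comm]
    exact X.lowerCentralSeries_antitone (Nat.le_succ (k - 3))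
  · rw [H04.Sh.fx_eq, ← Subgroup.top_subtype_lowerCentralSeries _ (k - 3), ← Subgroup.map_lowerCentralSeries,
      h a a.2 fun e => ha (Subtype.ext e), Subgroup.map_bot]

end Cfsg.Agent.S3907
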