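import Mathlib
import Cfsg.Statements.S3908
import Cfsg.Agent.H04.Soft

set_option autoImplicit false
open Cfsg

open scoped commutatorElement

namespace Cfsg.Agent.S3908

open Subgroup BG H04 in
theorem aux {G : Type*} [Group G] [Finite G] {p : ℕ} [hp : Fact p.Prime] {P : Subgroup G}
    (hP : IsPGroup p P) (hB : ∀ A B : Subgroup G, A ≤ P → B ≤ P → IsMulCommutative A → IsMulCommutative B →
      Nat.card A = Nat.card B → IsCyclic A → IsCyclic B) (h : ¬ ∀ x ∈ P, x ^ p = 1) :
    IsCyclic P ∨ (p = 2 ∧ ∃ n : ℕ, Nonempty (P ≃* QuaternionGroup (2 ^ (n + 1)))) := by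
  push Not at h
  obtain ⟨x, hx, h⟩ := h
  obtain ⟨A, h1, h2⟩ := exists_le_card_eq (hP.to_le (zpowers_le.mpr hx)) (k := 2)
    (pow_succ_le_of_lt_card (hP.to_le (zpowers_le.mpr hx)) (not_le.mp fun h1 => h (by
      obtain ⟨_ | _ | k, hk⟩ := IsPGroup.iff_card.mp (hP.to_le (zpowers_le.mpr hx))
      · simp [show x = 1 by simpa using hk]
      · exact (pow_one p).symm.trans hk.symm ▸ BG.pow_card_eq_one (mem_zpowers x)
      · rw [hk, Nat.pow_le_pow_iff_right hp.out.one_lt] at h1; omega)))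
  have h3 := cyclic_of_le inferInstance h1
  refine isCyclic_or_quaternion_of_unique hP (unique_of_forall_isCyclic hP fun V hV h4 => ?_)
  have h5 := IsElementaryAbelian.map hV P.subtype
  rw [← card_map_subtype] at h4
  exact not_isCyclic_of_elemAb hp.out h5 (h4 ▸ lt_self_pow₀ hp.out.one_lt one_lt_two)
    (hB A _ (h1.trans (zpowers_le.mpr hx)) (map_subtype_le V) (abelian_of_cyclic h3) h5.1
      (h2.trans h4.symm) h3)


/-- Let G be a finite group in which any two abelian subgroups of the same order are conjugate. Then a Sylow 2-subgroup of G is cyclic, elementary abelian or generalized quaternion, and for an odd prime p a Sylow p-subgroup of G is cyclic or has exponent dividing p. -/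
theorem result {G : Type*} [Group G] [Finite G] (hB : ∀ A B : Subgroup G, IsMulCommutative ↥A → IsMulCommutative ↥B → Nat.card ↥A = Nat.card ↥B → ∃ g : G, B = A.map (MulAut.conj g).toMonoidHom) :
    (∀ P : Sylow 2 G, IsCyclic ↥(P : Subgroup G) ∨ Cfsg.IsElementaryAbelian 2 (P : Subgroup G) ∨ ∃ k : ℕ, Nonempty (↥(P : Subgroup G) ≃* QuaternionGroup (2 ^ k))) ∧
    ∀ (p : ℕ) [Fact p.Prime], p ≠ 2 → ∀ P : Sylow p G, IsCyclic ↥(P : Subgroup G) ∨ ∀ x ∈ (P : Subgroup G), x ^ p = 1 := by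
  have h : ∀ A B : Subgroup G, IsMulCommutative A → IsMulCommutative B →
      Nat.card A = Nat.card B → IsCyclic A → IsCyclic B := fun A B h1 h2 h3 h4 => by
    obtain ⟨g, rfl⟩ := hB A B h1 h2 h3
    exact (A.equivMapOfInjective _ (MulAut.conj g).injective).isCyclic.mp h4
  refine ⟨fun P => ?_, fun p _ hp P => or_iff_not_imp_right.mpr fun h1 =>
    (aux P.2 (fun A B _ _ => h A B) h1).resolve_right fun h2 => hp h2.1⟩
  by_cases h1 : ∀ x ∈ (P : Subgroup G), x ^ 2 = 1
  · exact Or.inr (Or.inl ⟨BG.abelian_iff_der.mpr (eq_bot_iff.mpr (Subgroup.commutator_le.mpr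
      fun a ha b hb => by
        rw [show ⁅a, b⁆ = a ^ 2 * (a⁻¹ * b) ^ 2 * b⁻¹ ^ 2 by simp [commutatorElement_def, sq, mul_assoc],
          h1 a ha, h1 _ (mul_mem (inv_mem ha) hb), h1 _ (inv_mem hb)]
        simp)), h1⟩)
  · exact (aux P.2 (fun A B _ _ => h A B) h1).imp_right fun ⟨_, n, h2⟩ => Or.inr ⟨_, h2⟩

end Cfsg.Agent.S3908
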