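import Cfsg.Statements.S4014
import Mathlib
import Cfsg.Agent.H27.DerLen
-- import your own Cfsg.Agent.* helpers here

set_option autoImplicit false
open Cfsg

namespace Cfsg.Agent.S4014

open scoped Pointwise commutatorElement

theorem aux (p : ℕ) [hp : Fact p.Prime] (j : ℕ) : ∃ (D : Type) (_ : Group D) (_ : Finite D) (X : Type) (_ : Finite X)
    (_ : MulAction D X), IsPGroup p D ∧ Nat.card X = p ^ (j + 1) ∧ ∃ g ∈ derivedSeries D j, ∃ x : X, g • x ≠ x := by
  have hQ : IsPGroup p (Multiplicative (ZMod p)) := IsPGroup.of_card (n := 1) (by simp)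
  induction j with
  | zero =>
    obtain ⟨q, hq⟩ := exists_ne (1 : Multiplicative (ZMod p))
    exact ⟨Multiplicative (ZMod p), inferInstance, inferInstance, Multiplicative (ZMod p), inferInstance,
      inferInstance, hQ, by simp, q, trivial, 1, by simpa using hq⟩
  | succ j ih =>
    obtain ⟨D, _, _, X, _, _, hD, hX, g, hg, x, hx⟩ := ih
    obtain ⟨w, hw, h1, h2⟩ := H27.wreath_derived (Q := Multiplicative (ZMod p)) j g hg
    refine ⟨D ≀ᵣ Multiplicative (ZMod p), inferInstance, inferInstance, X × Multiplicative (ZMod p), inferInstance,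
      inferInstance, H27.wreath_isPGroup hD hQ, by simp [hX, pow_succ], w, hw, (x, 1), fun h => hx ?_⟩
    have := congrArg Prod.fst h
    simpa [h1, h2] using this

/-- Let p be a prime, n ≥ 1, and P a Sylow p-subgroup of the symmetric group on n letters. Then the derived length of P is exactly k = ⌊log_p n⌋ (the largest k with p^k ≤ n): the k-th derived subgroup of P is trivial and, when k ≥ 1, the (k−1)-st is not. -/
theorem result (p : ℕ) [Fact p.Prime] (n : ℕ) (hn : 1 ≤ n) (P : Sylow p (Equiv.Perm (Fin n))) : derivedSeries ↥(P : Subgroup (Equiv.Perm (Fin n))) (Nat.log p n) = ⊥ ∧ (1 ≤ Nat.log p n → derivedSeries ↥(P : Subgroup (Equiv.Perm (Fin n))) (Nat.log p n - 1) ≠ ⊥) := by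
  have hp : p.Prime := Fact.out
  constructor
  · rw [eq_bot_iff]
    intro g hg
    refine Subtype.ext (Equiv.ext fun x => ?_)
    have h1 : (MulAction.stabilizer (P : Subgroup (Equiv.Perm (Fin n))) x).index ∣ p ^ Nat.log p n := by
      obtain ⟨i, hi⟩ := P.isPGroup'.index (MulAction.stabilizer (P : Subgroup (Equiv.Perm (Fin n))) x)
      rw [hi]
      apply pow_dvd_pow
      apply Nat.le_log_of_pow_le hp.one_lt
      rw [← hi, MulAction.index_stabilizer]
      exact (Set.ncard_le_card _).trans (by simp)
    exact H27.derived_le_of_index _ _ P.isPGroup' _ h1 hg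
  · intro h
    obtain ⟨D, _, _, X, _, _, hD, hX, g, hg, x, hx⟩ := aux p (Nat.log p n - 1)
    rw [Nat.sub_add_cancel h] at hX
    haveI := Fintype.ofFinite X
    have h2 : Fintype.card X ≤ Fintype.card (Fin n) := by
      rw [← Nat.card_eq_fintype_card, hX, Fintype.card_fin]; exact Nat.pow_log_le_self p (by omega)
    obtain ⟨e⟩ := Function.Embedding.nonempty_of_card_le h2
    refine H27.sylow_derived_ne_bot hD ((Equiv.Perm.viaEmbeddingHom e).comp (MulAction.toPermHom D X)) hg ?_ P
    intro h3
    have := (map_eq_one_iff _ (Equiv.Perm.viaEmbeddingHom_injective e)).1 h3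
    exact hx (congrArg (fun f : Equiv.Perm X => f x) this)

end Cfsg.Agent.S4014
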