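import Mathlib
import Cfsg.Statements.S4018
import Cfsg.Agent.H08.Simp

set_option autoImplicit false
open scoped Pointwise
open Cfsg

namespace Cfsg.Agent.S4018

open Subgroup L.Dk
open scoped MatrixGroups

/-- Let G be a finite group with an abelian Sylow 3-subgroup P such that the normalizer of P has order 4·#P, the centralizer C of P has order 2·#P, C meets each of its conjugates by elements outside its normalizer trivially, and every proper subgroup of G of even order has order dividing 4·#P. Then G is not simple. -/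
theorem result {G : Type*} [Group G] [Finite G]
    (P : Sylow 3 G) (hab : IsMulCommutative P)
    (hN : Nat.card (Subgroup.normalizer ((P : Subgroup G) : Set G)) = 4 * Nat.card P)
    (hC : Nat.card (Subgroup.centralizer (P : Set G)) = 2 * Nat.card P)
    (hTI : Cfsg.IsTISubset (Subgroup.centralizer (P : Set G) : Set G))
    (heven : ∀ H : Subgroup G, H ≠ ⊤ → 2 ∣ Nat.card H → Nat.card H ∣ 4 * Nat.card P) :
    ¬ IsSimpleGroup G := by
  intro hs
  haveI := Fact.mk Nat.prime_two
  haveI := Fact.mk Nat.prime_three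
  have P0 : 0 < Nat.card P := Nat.card_pos
  have hna : ¬ IsMulCommutative G := fun h => by
    have := card_le_of_le (show normalizer ((P : Subgroup G) : Set G) ≤ centralizer (P : Set G) from
      fun x _ y _ => h.1.1 y x)
    omega
  obtain ⟨E, hE⟩ := H08.NA.klein hna
  obtain ⟨S, hS⟩ := (IsPGroup.of_card (p := 2) (n := 2) hE.card_four).exists_le_sylow
  obtain ⟨a, ha⟩ := P.2.exists_card_eq
  have hc : ∀ n, n.Coprime 3 → n ∣ 4 * Nat.card P → n ∣ 4 := fun n h e =>
    (ha ▸ h.pow_right a).dvd_of_dvd_mul_right e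
  have h4 : Nat.card S ∣ 4 := by
    obtain ⟨k, hk⟩ := S.2.exists_card_eq
    refine hc _ (hk ▸ Nat.Coprime.pow_left k (by decide)) (heven S (fun e => ?_)
      (Dvd.dvd.trans (by decide) (H08.NA.four_dvd_sylow hna S)))
    haveI := S.2.isNilpotent
    exact H08.NA.not_sol hna (solvable_of_surjective (f := (S : Subgroup G).subtype) fun x => ⟨⟨x, e.ge trivial⟩, rfl⟩)
  have hES : E = S := eq_of_le_of_card_ge hS (hE.card_four ▸ Nat.le_of_dvd (by decide) h4)
  obtain ⟨e⟩ := IsKleinFour.nonempty_mulEquiv (G₁ := E) (G₂ := DihedralGroup 2)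
  rcases H08.NA.gw hna S (hES ▸ e) with ⟨F, _, _, ho, h3, ⟨f⟩⟩ | ⟨⟨f⟩⟩
  swap
  · have := S.pow_dvd_card_of_pow_dvd_card (n := 3) (by
      rw [Nat.card_congr f.toEquiv, Nat.card_eq_fintype_card, card_alternatingGroup]; decide)
    exact absurd (this.trans h4) (by decide)
  have key : ∀ s : SL(2, F), (s : Matrix (Fin 2) (Fin 2) F).trace ^ 2 ≠ 4 →
      dd F * Nat.card (torusBar s) ≤ Fintype.card F + 1 → dd F * Nat.card (torusBar s) ∣ 4 * Nat.card P := fun s h h' => by
    have e1 : Nat.card ((torusNBar s).map f.symm.toMonoidHom) = 2 * Nat.card (torusBar s) := by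
      rw [card_map_of_injective f.symm.injective, card_torusNBar h]
    rw [H08.dd_odd ho, ← e1] at h' ⊢
    refine heven _ (fun e => ?_) (e1 ▸ dvd_mul_right _ _)
    have h9 := H08.card_psl2 ho
    rw [e, card_top, Nat.card_congr f.toEquiv] at h'
    obtain ⟨k, hk⟩ : ∃ k, Fintype.card F ^ 2 = k + 1 := ⟨_, (Nat.sub_add_cancel (Nat.one_le_pow _ _ (by omega))).symm⟩
    rw [hk, Nat.add_sub_cancel] at h9
    nlinarith
  obtain ⟨s, h1, h2⟩ := exists_torus_add (F := F)
  obtain ⟨t, h5, h6⟩ := exists_torus_sub (F := F) h3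
  have h7 := h2 ▸ key s h1 h2.le
  have h8 := h6 ▸ key t h5 (by omega)
  have hq : Fintype.card F = 5 := by
    by_cases h : 3 ∣ Fintype.card F + 1
    · have := hc _ ((Nat.coprime_comm.1 ((Nat.Prime.coprime_iff_not_dvd Nat.prime_three).2 (by omega)))) h8
      have := Nat.le_of_dvd (by decide) this
      obtain ⟨k, hk⟩ := ho
      omega
    · have := Nat.le_of_dvd (by decide) (hc _ (Nat.coprime_comm.1 ((Nat.Prime.coprime_iff_not_dvd Nat.prime_three).2 h)) h7)
      omega
  have h9 := H08.card_psl2 ho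
  rw [hq, ← Nat.card_congr f.toEquiv, ← (normalizer ((P : Subgroup G) : Set G)).card_mul_index, hN,
    show normalizer ((P : Subgroup G) : Set G) = normalizer (P : Set G) from rfl, ← P.card_eq_index_normalizer] at h9
  have h10 := card_sylow_modEq_one 3 G
  have h11 : Nat.card P ∣ 3 := by
    rw [ha] at h9 ⊢
    rcases a with _ | _ | a
    · simp
    · simp
    · rw [pow_succ, pow_succ] at h9
      generalize 3 ^ a = k at h9
      have : 9 ∣ 5 * (5 ^ 2 - 1) := ⟨8 * k * Nat.card (Sylow 3 G), by rw [← h9]; ring⟩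
      exact absurd this (by decide)
  rcases (Nat.dvd_prime Nat.prime_three).1 h11 with h | h <;> rw [h] at h9 <;> unfold Nat.ModEq at h10 <;> omega

end Cfsg.Agent.S4018
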