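import Mathlib
import Cfsg.Statements.S4023
import Cfsg.Agent.H04.Soft
import Cfsg.Agent.S3908

set_option autoImplicit false
open Cfsg

open scoped commutatorElement

namespace Cfsg.Agent.S4023

/-- Let p be a prime and G a finite group in which any two p-subgroups of the same order are conjugate, with Sylow p-subgroup P. Then P is cyclic, or elementary abelian, or p = 2 and P is a quaternion group of order 8, or p is odd and P is non-abelian of order p³ and exponent p. -/
theorem result {G : Type*} [Group G] [Finite G]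
    {p : ℕ} [Fact p.Prime] (hC : ∀ H K : Subgroup G, IsPGroup p H → IsPGroup p K → Nat.card H = Nat.card K →
      ∃ g : G, K = H.map (MulAut.conj g).toMonoidHom) (P : Sylow p G) :
    IsCyclic P ∨ Cfsg.IsElementaryAbelian p (P : Subgroup G) ∨
      (p = 2 ∧ Nonempty ((P : Subgroup G) ≃* QuaternionGroup 2)) ∨
      (p ≠ 2 ∧ ¬ IsMulCommutative P ∧ Nat.card P = p ^ 3 ∧ Monoid.exponent P = p) := by
  open Subgroup BG H04 in
  have hpp : p.Prime := Fact.out
  have hP := P.2
  have h : ∀ A B : Subgroup G, A ≤ P → B ≤ P → Nat.card A = Nat.card B → Nonempty (A ≃* B) :=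
    fun A B h1 h2 h3 => by
    obtain ⟨g, rfl⟩ := hC A B (hP.to_le h1) (hP.to_le h2) h3
    exact ⟨A.equivMapOfInjective _ (MulAut.conj g).injective⟩
  by_cases h1 : ∀ x ∈ (P : Subgroup G), x ^ p = 1
  swap
  · refine (S3908.aux hP (fun A B h1 h2 _ _ h3 => (h A B h1 h2 h3).some.isCyclic.mp) h1).imp_right
      fun ⟨h2, n, ⟨e⟩⟩ => Or.inr (Or.inl ⟨h2, ?_⟩)
    subst h2
    rcases n with _ | n
    · exact ⟨e⟩
    obtain ⟨a, b, h2⟩ : ∃ a b : (P : Subgroup G), DSQ (n + 1) a b := ⟨_, _, (dsq_quaternion (n + 1)).map e.symm⟩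
    have h3 := hP.to_subgroup ⊤
    obtain ⟨A, h4, h5⟩ := exists_le_card_eq (hP.to_subgroup (zpowers a)) (k := 3) (by
      rw [BG.card_zpowers, h2.ord]; exact Nat.pow_le_pow_right two_pos (by omega))
    obtain ⟨B, h6, -, h7⟩ := exists_between_card_eq h3 (le_top (a := zpowers b)) (j := 3) (by
      rw [BG.card_zpowers]; exact (orderOf_le_of_pow_eq_one (by decide) (h2.pow_four h2.notMem)).trans
        (by norm_num)) (by rw [card_top, h2.card]; exact Nat.pow_le_pow_right two_pos (by omega))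
    obtain ⟨c, rfl⟩ := cyclic_iff.mp (isCyclic_map_subtype.mp ((h _ _ (map_subtype_le A) (map_subtype_le B)
      (by rw [card_map_subtype, card_map_subtype, h5, h7])).some.isCyclic.mp
        (isCyclic_map_subtype.mpr (cyclic_of_le inferInstance h4))))
    exact absurd (zpowers_le.mpr (h2.mem_of_orderOf (by rw [← BG.card_zpowers, h7]; decide))
      (h6 (mem_zpowers b))) h2.notMem
  by_cases h2 : IsMulCommutative P
  · exact Or.inr (Or.inl ⟨h2, h1⟩)
  haveI : Nontrivial P := not_subsingleton_iff_nontrivial.mp fun _ => h2 ⟨⟨fun _ _ => Subsingleton.elim _ _⟩⟩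
  refine Or.inr (Or.inr (Or.inr ⟨?_, h2, le_antisymm ?_ (pow_succ_le_of_lt_card hP (not_le.mp fun h3 =>
    h2 (isMulCommutative_of_card_le_sq hP h3))), (Monoid.exponent_eq_prime_iff hpp).mpr fun x hx =>
      orderOf_eq_prime (Subtype.ext (h1 x x.2)) hx⟩))
  · rintro rfl
    exact h2 (abelian_iff_der.mpr (eq_bot_iff.mpr (commutator_le.mpr fun a ha b hb => by
      rw [show ⁅a, b⁆ = a ^ 2 * (a⁻¹ * b) ^ 2 * b⁻¹ ^ 2 by simp [commutatorElement_def, sq, mul_assoc],
        h1 a ha, h1 _ (mul_mem (inv_mem ha) hb), h1 _ (inv_mem hb)]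
      simp)))
  haveI := hP.isNilpotent
  obtain ⟨A, -, hn, hA, hAC⟩ := exists_scn (⊥ : Subgroup P) inferInstance inferInstance
  obtain ⟨k, hk⟩ := card_eq_pow hP A
  refine (card_le_of_scn hP A hAC.le hk).trans (Nat.pow_le_pow_right hpp.pos ?_)
  by_cases h3 : k ≤ 2
  · interval_cases k <;> decide
  obtain ⟨B, h4, h5⟩ := exists_le_card_eq (hP.to_subgroup A) (k := 3)
    (hk ▸ Nat.pow_le_pow_right hpp.pos (by omega))
  obtain ⟨x, -, h6, -, h7⟩ := exists_central_step hP (center P) ⊤ fun h => h2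
    ⟨⟨fun a b => mem_center_iff.mp (h trivial) a⟩⟩
  obtain ⟨y, hy⟩ := not_forall.mp (mem_center_iff.not.mp h6)
  have h8 : ∀ z : P, z ^ p = 1 := fun z => Subtype.ext (h1 z z.2)
  have h9 := zpowers_le.mpr (h7 y)
  haveI := normal_of_le_center h9
  obtain ⟨D, h11, h12, h13⟩ := exists_between_card_eq (hP.to_subgroup ⊤)
    (le_top (a := zpowers ⁅x, y⁆ ⊔ zpowers x ⊔ zpowers y)) (j := 3) (by
      refine (card_sup_zpowers_le _ (le_norm_of_comm_le (comm_sup_le (norm_of_le le_sup_left)
        (norm_of_le le_sup_right) ((comm_le_left le_normalizer_of_normal).trans le_sup_left)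
        (le_sup_left.trans' ?_)) (mem_zpowers y)) (h8 y ▸ one_mem _)).trans ?_
      · rw [zpowers_eq_closure x, zpowers_eq_closure y]
        exact commutator_closure_le le_normalizer_of_normal le_normalizer_of_normal (by simp)
      rw [pow_succ', sq]
      exact Nat.mul_le_mul_left p ((card_sup_zpowers_le _ (le_normalizer_of_normal (mem_top x))
        (h8 x ▸ one_mem _)).trans (Nat.mul_le_mul_left p (BG.card_zpowers ⁅x, y⁆ ▸
          orderOf_le_of_pow_eq_one hpp.pos (h8 _))))) (h5 ▸ card_le (le_top (a := B)))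
  obtain ⟨e⟩ := h _ _ (map_subtype_le B) (map_subtype_le D)
    (by rw [card_map_subtype B, card_map_subtype D, h5, h13])
  have h14 := isMulCommutative_map_subtype.mpr (abelian_of_le hA h4)
  exact absurd (mul_comm_of_abelian (isMulCommutative_map_subtype.mp ⟨⟨fun a b => e.symm.injective
    (by rw [map_mul, map_mul, h14.1.1])⟩⟩) (h11 (mem_sup_right (mem_zpowers y))) (h11 (mem_sup_left (mem_sup_right (mem_zpowers x))))) hy

end Cfsg.Agent.S4023
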