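import Mathlib
import Cfsg.Statements.S4027
import Cfsg.Agent.H08.BaerSuzuki
import Cfsg.Agent.BG.Api4
import Cfsg.Agent.H16.Util

set_option autoImplicit false
open Cfsg

namespace Cfsg.Agent.S4027

open BG Cfsg

theorem exists_inverted {G : Type*} [Group G] [Finite G] (P : Sylow 2 G) (hP : ¬ (P : Subgroup G).Normal) :
    ∃ h n : G, h ≠ 1 ∧ Odd (orderOf h) ∧ n * h * n⁻¹ = h⁻¹ := by
  set Q := pCore 2 G with hQ
  have hQp : IsPGroup 2 Q := H02.pCore_isPGroup 2 G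
  have hd : 2 ∣ Nat.card (G ⧸ Q) := by
    by_contra hd
    have : (P : Subgroup G) = Q := (isSylowIn_mk (H := ⊤) Nat.prime_two le_top hQp (by rwa [Subgroup.relIndex_top_right])).eq_of_pg
      Nat.prime_two P.isPGroup' (H02.pCore_le_sylow P) le_top
    exact hP (this ▸ inferInstance)
  obtain ⟨t, ht⟩ := exists_prime_orderOf_dvd_card' 2 hd
  obtain ⟨r, hr, hr2, h, hh, hinv, -⟩ := H08.exists_inverted_odd_prime_of_notMem_pCore (t := t)
    (by have := pow_orderOf_eq_one t; rwa [ht, pow_two] at this) (by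
      rw [H02.pCore_quotient_pCore, Subgroup.mem_bot]; rintro rfl; simp at ht)
  obtain ⟨t, rfl⟩ := QuotientGroup.mk_surjective t
  obtain ⟨h, rfl⟩ := QuotientGroup.mk_surjective h
  have hn : ∀ A : Subgroup G, A ≤ N_(Q) := fun A => Subgroup.le_normalizer_of_normal
  set K := Q ⊔ Subgroup.zpowers h with hK
  have hmem : ∀ x : G, x ∈ K ↔ (x : G ⧸ Q) ∈ Subgroup.zpowers (h : G ⧸ Q) := by
    intro x
    have : K = (Subgroup.zpowers (h : G ⧸ Q)).comap (QuotientGroup.mk' Q) := by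
      rw [← QuotientGroup.mk'_apply, ← MonoidHom.map_zpowers, Subgroup.comap_map_eq, QuotientGroup.ker_mk', sup_comm]
    rw [this]; rfl
  have hinv' : ∀ x ∈ K, ((t * x * t⁻¹ : G) : G ⧸ Q) = (x : G ⧸ Q)⁻¹ := by
    intro x hx
    obtain ⟨k, hk⟩ := (hmem x).1 hx
    simp only [QuotientGroup.mk_mul, QuotientGroup.mk_inv, ← hk, ← conj_zpow, hinv, inv_zpow]
  have htK : t ∈ N_(K) := H16.mem_normalizer_of_conj_mem fun x hx => by
    rw [hmem, hinv' x hx]; exact inv_mem ((hmem x).1 hx)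
  have hcard : Nat.card K = Nat.card Q * r := by
    have := H02.card_comap_mk' Q (Subgroup.zpowers (h : G ⧸ Q))
    rw [Nat.card_zpowers, hh, mul_comm] at this
    rw [← this]; exact congrArg (fun X : Subgroup G => Nat.card X) (Subgroup.ext hmem)
  obtain ⟨R, hR⟩ := sylow_exists hr K
  have hR0 : R ≠ ⊥ := hR.ne_bot' hr (hcard ▸ Dvd.intro_left _ rfl)
  have hQR : Q ⊓ R = ⊥ := pg_inf_eq_bot Nat.prime_two hQp (pg_not_dvd Nat.prime_two hr (hR.pg hr) hr2.symm)
  have hfr := sylow_frattini hr hR (le_norm K) le_rfl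
  obtain ⟨k, hk, n, hn', rfl⟩ := (mem_sup_norm (inf_le_left : N_(K) ⊓ N_(R) ≤ _)).1 (hfr ▸ htK)
  obtain ⟨x, hx, hx1⟩ := exists_mem_ne_one hR0
  obtain ⟨j, hj⟩ := pg_card hr (hR.pg hr)
  refine ⟨x, n, hx1, (hr.odd_of_ne_two hr2).pow.of_dvd_nat (hj ▸ orderOf_dvd_card hx), ?_⟩
  have h1 : n * x * n⁻¹ ∈ R := conj_mem_of_norm hn'.2 hx
  have h2 : ((n * x * n⁻¹ * x : G) : G ⧸ Q) = 1 := by
    have a1 := hinv' x (hR.le hx)
    have a2 : Commute (k : G ⧸ Q) ((n * x * n⁻¹ : G) : G ⧸ Q) :=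
      commute_of_mem_zpowers ((hmem k).1 hk) ((hmem _).1 (hR.le h1))
    have a3 : ((k * n * x * (k * n)⁻¹ : G) : G ⧸ Q) = k * ((n * x * n⁻¹ : G) : G ⧸ Q) * (k : G ⧸ Q)⁻¹ := by
      simp [mul_assoc]
    rw [a3, a2.eq, mul_inv_cancel_right] at a1
    rw [QuotientGroup.mk_mul, a1, inv_mul_cancel]
  exact eq_inv_of_mul_eq_one_left
    (eq_one_of_mem_of_disj hQR ((QuotientGroup.eq_one_iff _).1 h2) (mul_mem h1 hx))

theorem ne_inv {G : Type*} [Group G] {h : G} (h1 : h ≠ 1) (ho : Odd (orderOf h)) : h ≠ h⁻¹ := by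
  intro e
  have : orderOf h ∣ 2 := orderOf_dvd_of_pow_eq_one (by rw [pow_two]; nth_rewrite 2 [e]; simp)
  rcases (Nat.dvd_prime Nat.prime_two).1 this with h2 | h2
  · exact h1 (orderOf_eq_one_iff.1 h2)
  · rw [h2] at ho; exact absurd ho (by decide)

theorem mem_norm {G : Type*} [Group G] {h n : G} (e : n * h * n⁻¹ = h⁻¹) : n ∈ N_(Subgroup.zpowers h) := by
  rw [← cj_eq_self_iff, cj_zpowers, e, Subgroup.zpowers_inv]

/-- Let G be a finite group in which every element x of odd order satisfies N_G(⟨x⟩) = C_G(x). Then the Sylow 2-subgroups of G are normal. -/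
theorem result {G : Type*} [Group G] [Finite G]
    (hirr : ∀ x : G, (∀ r : ℕ, r.Prime → r ∣ orderOf x → r ≠ 2) →
      Subgroup.normalizer ((Subgroup.zpowers x : Subgroup G) : Set G) ≤ Subgroup.centralizer {x}) (P : Sylow 2 G) :
    (P : Subgroup G).Normal := by
  by_contra hP
  obtain ⟨h, n, h1, ho, e⟩ := exists_inverted P hP
  have := mem_cent1.1 (hirr h (fun r _ hd => ne_two_of_odd ho hd) (mem_norm e))
  exact ne_inv h1 ho (by rw [← e, this]; simp)

end Cfsg.Agent.S4027
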