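import Mathlib
import Cfsg.Statements.S4033
import Cfsg.Agent.H02.CZ2

set_option autoImplicit false
open Cfsg

namespace Cfsg.Agent.S4033

open BG Subgroup H02.CZ

/-- Let G be a finite group and p a prime, and suppose the conjugacy classes of p-regular elements of G (elements of order prime to p) have exactly two distinct sizes. Then either G has an abelian p-complement (an abelian subgroup of order prime to p and p-power index), or there are a prime q ≠ p, a Sylow p-subgroup P, a Sylow q-subgroup Q and a central subgroup A such that PQ is a normal subgroup of order #P·#Q and G is the internal direct product PQ × A. -/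
theorem result {G : Type*} [Group G] [Finite G] {p : ℕ} (hp : p.Prime)
    (h2 : Set.ncard (Set.range fun x : {x : G // (orderOf x).Coprime p} => (ConjClasses.mk (x : G)).carrier.ncard) = 2) :
    (∃ H : Subgroup G, IsMulCommutative H ∧ ¬ p ∣ Nat.card H ∧ ∃ k : ℕ, H.index = p ^ k) ∨
    (∃ (q : ℕ) (_ : Fact q.Prime) (P : Sylow p G) (Q : Sylow q G) (A : Subgroup G), q ≠ p ∧
        A ≤ Subgroup.center G ∧ Nat.card ↥((P : Subgroup G) ⊔ (Q : Subgroup G)) = Nat.card P * Nat.card Q ∧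
        ((P : Subgroup G) ⊔ (Q : Subgroup G)).Normal ∧
        ((P : Subgroup G) ⊔ (Q : Subgroup G)) ⊓ A = ⊥ ∧ ((P : Subgroup G) ⊔ (Q : Subgroup G)) ⊔ A = ⊤) := by
  have e : ∀ x : G, (ConjClasses.mk x).carrier.ncard = H27.cs x := by
    intro x
    rw [← H27.ncard_isConj]
    congr 1
  simp only [e] at h2
  obtain ⟨a, b, ab, h⟩ := Set.ncard_eq_two.1 h2
  obtain ⟨m, hm⟩ : ∃ m, ∀ x : G, ¬ p ∣ orderOf x → x ∉ center G → H27.cs x = m := by
    have k : ∀ x : G, ¬ p ∣ orderOf x → H27.cs x = a ∨ H27.cs x = b := fun x hx =>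
      h.le ⟨⟨x, ((hp.coprime_iff_not_dvd).2 hx).symm⟩, rfl⟩
    rcases k 1 (by simpa using hp.one_lt.ne') with h1 | h1 <;> rw [H27.cs_one] at h1
    · exact ⟨b, fun x c d => (k x c).resolve_left (h1 ▸ cs_ne_one d)⟩
    · exact ⟨a, fun x c d => (k x c).resolve_right (h1 ▸ cs_ne_one d)⟩
  refine (two_sizes hp hm).imp (fun ⟨H, h1, h2⟩ => ⟨H, abelian_iff.2 h1, (isPi_compl hp).1 h2.isPi,
    pow_of_primes hp index_ne_zero_of_finite fun l hl a => by simpa using h2.idx l hl (by simpa using a)⟩) fun ⟨q, hq, qp, h⟩ => ?_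
  have := Fact.mk hp
  obtain ⟨P⟩ : Nonempty (Sylow p G) := inferInstance
  obtain ⟨Q⟩ : Nonempty (Sylow q G) := inferInstance
  have hZ : piCoreOf {p, q}ᶜ (center G) ≤ center G := pcore_le _ _
  have hC : ⊤ ≤ C_(piCoreOf {p, q}ᶜ (center G)) := cent_symm fun a ha b _ => mem_center_iff.1 (hZ ha) b
  have hA : IsPiHallOf {p, q}ᶜ (piCoreOf {p, q}ᶜ (center G)) ⊤ := (nil_pcore_hall _ (nil_of_abelian inferInstance)).trans' le_top
    fun l hl a => not_dvd_idx hl fun g _ b => by_contra fun c => h l hl (fun e => a (Or.inl e)) (fun e => a (Or.inr e)) ⟨g, c, b⟩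
  obtain ⟨K, hK⟩ := hA.exists_compl (le_norm_of_cent hC)
  have h1 := hK.hall_compl hA
  rw [compl_compl] at h1
  have h3 : ⊤ ≤ N_(K) := hK.sup ▸ sup_le (le_norm_of_cent (cent_symm (le_top.trans hC))) (le_norm K)
  have hP := (isSylowIn_top hp P).sub (h1.le_of_normal h3 (isPi_of_pg hp P.2 (Or.inl rfl)) le_top) le_top
  have hQ := (isSylowIn_top hq Q).sub (h1.le_of_normal h3 (isPi_of_pg hq Q.2 (Or.inr rfl)) le_top) le_top
  have h4 : (P : Subgroup G) ⊔ Q = K := le_antisymm (sup_le hP.le hQ.le) (le_of_sylows fun l hl a => by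
    rcases h1.isPi l hl a with rfl | rfl
    · exact ⟨P, hP, le_sup_left⟩
    · exact ⟨Q, hQ, le_sup_right⟩)
  refine ⟨q, ⟨hq⟩, P, Q, _, qp, hZ, ?_, h4 ▸ H02.PT.normal_of _ h3, by rw [h4, inf_comm, hK.disj], by rw [h4, sup_comm, hK.sup]⟩
  rw [h4]
  refine (hP.card_mul (hQ.congr fun l hl a => ?_)).symm
  rcases h1.isPi l hl a with rfl | rfl
  · simp [qp.symm]
  · simp [qp]

end Cfsg.Agent.S4033
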