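import Mathlib
import Cfsg.Statements.S4049
import Cfsg.Agent.S4027

set_option autoImplicit false
open Cfsg

namespace Cfsg.Agent.S4049

open BG Cfsg

/-- Let G be a finite group such that N_G(H)/C_G(H) has odd order for every nontrivial subgroup H of odd order. Then the Sylow 2-subgroups of G are normal. -/
theorem result {G : Type*} [Group G] [Finite G]
    (hhom : ∀ H : Subgroup G, H ≠ ⊥ → ¬ 2 ∣ Nat.card ↥H →
        ¬ 2 ∣ (Subgroup.centralizer (H : Set G)).relIndex (Subgroup.normalizer (H : Set G))) (P : Sylow 2 G) :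
    (P : Subgroup G).Normal := by
  by_contra hP
  obtain ⟨h, n, h1, ho, e⟩ := S4027.exists_inverted P hP
  refine hhom (Subgroup.zpowers h) (zpowers_ne_bot h1) (by
    rw [card_zpowers]; exact fun hd => ne_two_of_odd ho hd rfl) ?_
  have hn := S4027.mem_norm e
  haveI : ((C_(Subgroup.zpowers h)).subgroupOf N_(Subgroup.zpowers h)).Normal :=
    (Subgroup.normal_subgroupOf_iff_le_normalizer (cent_le_norm _)).2 (norm_le_norm_cent _)
  have h2 : orderOf (QuotientGroup.mk (s := (C_(Subgroup.zpowers h)).subgroupOf N_(Subgroup.zpowers h)) ⟨n, hn⟩) = 2 := by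
    refine orderOf_eq_prime ?_ fun h3 => ?_
    · rw [← QuotientGroup.mk_pow, QuotientGroup.eq_one_iff, Subgroup.mem_subgroupOf, cent_zpowers, mem_cent1]
      change n ^ 2 * h = h * n ^ 2
      have : n ^ 2 * h * (n ^ 2)⁻¹ = n * (n * h * n⁻¹) * n⁻¹ := by rw [pow_two]; group
      rw [e, show n * h⁻¹ * n⁻¹ = (n * h * n⁻¹)⁻¹ by group, e, inv_inv] at this
      rw [← mul_inv_eq_iff_eq_mul, this]
    · rw [QuotientGroup.eq_one_iff, Subgroup.mem_subgroupOf, cent_zpowers, mem_cent1] at h3
      exact S4027.ne_inv h1 ho (by rw [← e, show n * h = h * n from h3]; simp)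
  exact h2 ▸ orderOf_dvd_natCard _

end Cfsg.Agent.S4049
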