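import Mathlib
import Cfsg.Statements.S4113
import Cfsg.Agent.BG.Api

set_option autoImplicit false
open Cfsg

namespace Cfsg.Agent.S4113
open BG

/-- Let G be a finite group, M ≤ N non-trivial proper normal subgroups, and H a subgroup with HM = G and H ∩ M = 1. Then every element of G outside N acts fixed-point-freely on M (C_G(x) ≤ N for every x ∈ M, x ≠ 1) if and only if H ∩ gHg⁻¹ ≤ H ∩ N for every g outside H, with H proper and non-trivial and H ∩ N proper in H. -/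
theorem result {G : Type*} [Group G] [Finite G] (N M : Subgroup G) [N.Normal] [M.Normal] (hMN : M ≤ N) (hM1 : M ≠ ⊥) (hN2 : N ≠ ⊤)
    (H : Subgroup G) (hHM : H ⊔ M = ⊤) (hHM' : H ⊓ M = ⊥) :
    (∀ x ∈ M, x ≠ 1 → Subgroup.centralizer ({x} : Set G) ≤ N) ↔
      (H ≠ ⊥ ∧ H ≠ ⊤ ∧ H ⊓ N < H ∧ ∀ g : G, g ∉ H → H ⊓ H.map (MulAut.conj g).toMonoidHom ≤ N) := by
  have hn : H ≤ N_(M) := by rw [Subgroup.normalizer_eq_top]; exact le_top
  have hdec : ∀ g : G, ∃ m ∈ M, ∃ h ∈ H, m * h = g := fun g =>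
    (mem_sup_norm hn).1 (by rw [sup_comm, hHM]; trivial)
  have h1 : ∀ x ∈ H, x ∈ M → x = 1 := fun x a b => eq_one_of_mem_of_disj hHM' a b
  constructor
  · intro h
    have hHN : ¬ H ≤ N := fun hle => hN2 (top_le_iff.1 (hHM ▸ sup_le hle hMN))
    refine ⟨fun e => hHN (e ▸ bot_le), fun e => hM1 (by rw [← hHM', e, top_inf_eq]),
      lt_of_le_of_ne inf_le_left (fun e => hHN (inf_eq_left.1 e)), fun g hg y hy => ?_⟩
    obtain ⟨m, hm, k, hk, rfl⟩ := hdec g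
    have hm1 : m ≠ 1 := fun e => hg (by rw [e, one_mul]; exact hk)
    have h2 : (m * k)⁻¹ * y * (m * k) ∈ H := mem_cj.1 hy.2
    have h3 : m⁻¹ * y * m ∈ H := by
      have := H.mul_mem (H.mul_mem hk h2) (H.inv_mem hk)
      simpa [mul_assoc] using this
    have h4 := h1 _ (H.mul_mem h3 (H.inv_mem hy.1)) (by
      have := M.mul_mem (M.inv_mem hm) (Subgroup.Normal.conj_mem inferInstance m hm y)
      simpa [mul_assoc] using this)
    refine h m hm hm1 (mem_cent1.2 ?_)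
    calc y * m = m * (m⁻¹ * y * m * y⁻¹) * y := by group
      _ = _ := by rw [h4, mul_one]
  · rintro ⟨-, -, -, h⟩ x hx hx1 c hc
    by_contra hcN
    have hf : ∀ u : G, ∀ k ∈ H, u * k * u⁻¹ ∈ H → k ∉ N → u ∈ H := fun u k hk hu hkN => by
      by_contra hu'
      have := h u hu' (Subgroup.mem_inf.2 ⟨hu, conj_mem_cj u hk⟩)
      exact hkN (by simpa [mul_assoc] using Subgroup.Normal.conj_mem inferInstance _ this u⁻¹)
    let f1 : M × {k : H // (k : G) ∉ N} → {g : G // g ∉ N} := fun t => ⟨t.1 * t.2.1 * (t.1 : G)⁻¹, fun e =>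
      t.2.2 (by simpa [mul_assoc] using Subgroup.Normal.conj_mem inferInstance _ e (t.1 : G)⁻¹)⟩
    let f2 : M × {k : H // (k : G) ∉ N} → {g : G // g ∉ N} := fun t => ⟨t.1 * t.2.1, fun e =>
      t.2.2 (by simpa using N.mul_mem (N.inv_mem (hMN t.1.2)) e)⟩
    have i1 : Function.Injective f1 := by
      rintro ⟨m, k⟩ ⟨m', k'⟩ e
      have e1 : (m : G) * k.1 * (m : G)⁻¹ = m' * k'.1 * (m' : G)⁻¹ := congrArg Subtype.val e
      have e2 := h1 _ (hf ((m' : G)⁻¹ * m) _ k.1.2 (by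
        have : (m' : G)⁻¹ * m * k.1 * ((m' : G)⁻¹ * m)⁻¹ = k'.1 := by
          calc _ = (m' : G)⁻¹ * (m * k.1 * (m : G)⁻¹) * m' := by group
            _ = _ := by rw [e1]; group
        rw [this]; exact k'.1.2) k.2) (M.mul_mem (M.inv_mem m'.2) m.2)
      have e3 : m' = m := Subtype.ext (inv_mul_eq_one.1 e2)
      subst e3
      have e4 : (k.1 : G) = k'.1 := by simpa using e1
      rw [Subtype.ext (Subtype.ext e4)]
    have s2 : Function.Surjective f2 := by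
      rintro ⟨g, hg⟩
      obtain ⟨m, hm, k, hk, rfl⟩ := hdec g
      exact ⟨⟨⟨m, hm⟩, ⟨k, hk⟩, fun e => hg (N.mul_mem (hMN hm) e)⟩, rfl⟩
    obtain ⟨⟨m, k⟩, e⟩ := (i1.bijective_of_nat_card_le (Nat.card_le_card_of_surjective f2 s2)).2 ⟨c, hcN⟩
    have e1 : (m : G) * k.1 * (m : G)⁻¹ = c := congrArg Subtype.val e
    have e2 := mem_cent1.1 hc
    have e3 := h1 _ (hf ((m : G)⁻¹ * x * m) _ k.1.2 (by
      have : (m : G)⁻¹ * x * m * k.1 * ((m : G)⁻¹ * x * m)⁻¹ = k.1 := by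
        calc _ = (m : G)⁻¹ * (x * (m * k.1 * (m : G)⁻¹)) * x⁻¹ * m := by group
          _ = _ := by rw [e1, ← e2, ← e1]; group
      rw [this]; exact k.1.2) k.2) (M.mul_mem (M.mul_mem (M.inv_mem m.2) hx) m.2)
    exact hx1 (conj_eq_one_iff.1 (show (m : G)⁻¹ * x * (m : G)⁻¹⁻¹ = 1 by rwa [inv_inv]))

end Cfsg.Agent.S4113
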