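import Mathlib
import Cfsg.Statements.S4365
import Cfsg.Agent.H04.Breadth

set_option autoImplicit false
open Cfsg

open scoped commutatorElement

namespace Cfsg.Agent.S4365

/-- Let P be a finite p-group whose conjugacy class sizes are exactly 1 and pᵃ for some a ≥ 1. Then every element of P has its p-th power in the center of P (P/Z(P) has exponent p). -/
theorem result {P : Type*} [Group P] [Finite P] (p : ℕ) [Fact p.Prime]
    (hP : IsPGroup p P) (a : ℕ) (ha : 1 ≤ a)
    (hcs : {k : ℕ | ∃ x : P, (Subgroup.centralizer ({x} : Set P)).index = k} = {1, p ^ a}) (x : P) :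
    x ^ p ∈ Subgroup.center P := by
  open Subgroup BG H04 in
  have h : ∀ x : P, (C_[x]).index = 1 ∨ (C_[x]).index = p ^ a := fun x =>
    hcs.le ⟨x, rfl⟩
  haveI := hP.isNilpotent
  obtain ⟨K, -, hn, hK, hC⟩ := H04.exists_scn (⊥ : Subgroup P) inferInstance inferInstance
  have h1 := fun t ht x => H04.commutator_mem_center_of_two_sizes h hK (t := t) ht x
  have h2 : ∀ y : P, y ^ p ∉ center P → C_[y] = C_[y ^ p] := fun y hy => by
    refine BG.eq_of_le_of_card_eq (cent1_le_cent1_pow y p) (Nat.eq_of_mul_eq_mul_right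
      (pow_pos (Fact.out : p.Prime).pos a) ?_)
    have h2 := (C_[y]).card_mul_index.trans (C_[y ^ p]).card_mul_index.symm
    rwa [(h _).resolve_left (index_cent1_eq_one.not.mpr hy), (h y).resolve_left
      (index_cent1_eq_one.not.mpr fun h => hy (pow_mem h p))] at h2
  have h3 : ∀ t ∈ K, t ^ p ∈ center P := fun t ht => by
    by_contra h3
    obtain ⟨y, -, h4, h5, -⟩ := exists_card_mul_of_lt (hP.to_subgroup ⊤) (H := C_[t])
      (Ne.lt_top fun h4 => h3 (pow_mem (index_cent1_eq_one.mp (index_eq_one.mpr h4)) p))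
    obtain ⟨k, h6, h7⟩ := exists_pow_notMem_pow_mem hP _ h5
    refine h6 (h2 t h3 ▸ mem_cent1.mpr (commutatorElement_eq_one_iff_mul_comm.mp ?_).symm)
    rw [commutatorElement_pow_left (commute_of_mem_center (h1 t ht _) _),
      ← commutatorElement_pow_right (commute_of_mem_center (h1 t ht _) _),
      commutatorElement_eq_one_iff_mul_comm]
    exact (mem_cent1.mp h7).symm
  by_contra hx
  refine hx (h3 x (hC.le fun t ht => mem_cent1.mp (h2 x hx ▸ mem_cent1.mpr
    (commutatorElement_eq_one_iff_mul_comm.mp ?_))))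
  rw [commutatorElement_pow_right (commute_of_mem_center (h1 t ht _) _),
    ← commutatorElement_pow_left (commute_of_mem_center (h1 t ht _) _),
    commutatorElement_eq_one_iff_mul_comm]
  exact commute_of_mem_center (h3 t ht) x

end Cfsg.Agent.S4365
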