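import Mathlib
import Cfsg.Statements.S4134
import Cfsg.Agent.H04.Ito
import Cfsg.Agent.S4365

set_option autoImplicit false
open Cfsg

namespace Cfsg.Agent.S4134

/-- Let G be a finite group whose conjugacy classes have exactly two sizes, 1 and n > 1. Then n is a power of a prime p and G is the direct product of a p-group and an abelian group of order prime to p: its Sylow p-subgroup P is normal with an abelian normal complement centralizing it; moreover P has an abelian normal subgroup A with P/A of exponent dividing p. -/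
theorem result {G : Type*} [Group G] [Finite G] (n : ℕ) (hn : 1 < n)
    (h : ∀ x : G, (Subgroup.centralizer ({x} : Set G)).index = 1 ∨ (Subgroup.centralizer ({x} : Set G)).index = n) (hex : ∃ x : G, (Subgroup.centralizer ({x} : Set G)).index = n) :
    ∃ (p : ℕ) (_ : Fact p.Prime) (a : ℕ), n = p ^ a ∧ ∀ P : Sylow p G, (P : Subgroup G).Normal ∧
      (∃ N : Subgroup G, N.Normal ∧ N.IsComplement' (P : Subgroup G) ∧ IsMulCommutative N ∧
        ∀ x ∈ N, ∀ y ∈ (P : Subgroup G), x * y = y * x) ∧
      ∃ A : Subgroup (P : Subgroup G), A.Normal ∧ IsMulCommutative A ∧ ∀ y : (P : Subgroup G), y ^ p ∈ A := by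
  open Subgroup BG H04 in
  obtain ⟨x, hx⟩ := hex
  have h1 : n ∣ (center G).index := hx ▸ index_dvd_of_le (center_le_centralizer _)
  obtain ⟨p, hp, h2⟩ := Nat.exists_prime_and_dvd hn.ne'
  haveI := Fact.mk hp
  have h3 := isPGroup_quotient_center_of_two_sizes h hp (h2.trans h1)
  obtain ⟨k, hk⟩ := IsPGroup.iff_card.mp h3
  obtain ⟨a, -, rfl⟩ := (Nat.dvd_prime_pow hp).mp (h1.trans (show (center G).index ∣ _ from hk.dvd))
  haveI := h3.isNilpotent
  haveI : Group.IsNilpotent G := Subgroup.isNilpotent_of_ker_le_center (QuotientGroup.mk' (center G))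
    (QuotientGroup.ker_mk' _).le
  refine ⟨p, inferInstance, a, rfl, fun P => ?_⟩
  haveI : (P : Subgroup G).Normal := Sylow.normal_of_normalizerCondition Group.normalizerCondition_of_isNilpotent P
  obtain ⟨N, hN⟩ := Subgroup.exists_right_complement'_of_coprime P.card_coprime_index
  have h4 : N ≤ center G := fun y hy => (QuotientGroup.eq_one_iff y).mp (orderOf_eq_one_iff.mp
    (Nat.eq_one_of_dvd_coprimes ((hp.coprime_iff_not_dvd.mpr P.not_dvd_index).pow_left k)
      (hk ▸ orderOf_dvd_natCard _) ((orderOf_map_dvd (QuotientGroup.mk' _) y).trans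
        (hN.symm.index_eq_card ▸ BG.orderOf_dvd_card hy))))
  have h5 : ∀ y : (P : Subgroup G), (C_[y]).index = (C_[(y : G)]).index := fun y => by
    rw [← relIndex_top_right C_[(y : G)], ← eq_top_iff.mpr (hN.sup_eq_top.ge.trans (sup_le_sup_left
      (h4.trans (center_le_centralizer {(y : G)})) _)), relIndex_sup' le_normalizer_of_normal, relIndex]
    congr 1
    ext z
    simp [mem_cent1, mem_subgroupOf, Subtype.ext_iff]
  refine ⟨inferInstance, ⟨N, normal_of_le_center h4, hN.symm, abelian_of_le inferInstance h4,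
    fun x hx y _ => commute_of_mem_center (h4 hx) y⟩, center _, inferInstance, inferInstance,
    S4365.result p P.2 a (Nat.pos_of_ne_zero (by rintro rfl; simp at hn)) (Set.Subset.antisymm ?_ ?_)⟩
  · rintro _ ⟨y, rfl⟩
    exact h5 y ▸ h y
  rintro _ (rfl | rfl)
  · exact ⟨1, index_cent1_eq_one.mpr (one_mem _)⟩
  by_contra h6
  refine hn.ne' (hx ▸ index_cent1_eq_one.mpr (hN.sup_eq_top.ge.trans (sup_le (fun y hy => ?_) h4) trivial))
  exact index_cent1_eq_one.mp ((h y).resolve_right fun h7 => h6 ⟨⟨y, hy⟩, (h5 _).trans h7⟩)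

end Cfsg.Agent.S4134
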