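import Mathlib
import Cfsg.Statements.S4140
import Cfsg.Agent.H21.Camina

set_option autoImplicit false
open Cfsg

namespace Cfsg.Agent.S4140

/-- Let G be a finite group and N a proper non-trivial normal subgroup such that for every g outside N the conjugacy class of g is a union of cosets of N (equivalently gn is conjugate to g for every n ∈ N). Then either every element of G outside N acts fixed-point-freely on N (C_G(x) ≤ N for all x ∈ N, x ≠ 1, so G is a Frobenius group with kernel N), or N has prime-power order, or G/N has prime-power order. -/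
theorem result {G : Type*} [Group G] [Finite G] (N : Subgroup G) [N.Normal] (hN1 : N ≠ ⊥) (hN2 : N ≠ ⊤)
    (hcam : ∀ g : G, g ∉ N → ∀ n ∈ N, ∃ x : G, x * g * x⁻¹ = g * n) :
    (∀ x ∈ N, x ≠ 1 → Subgroup.centralizer ({x} : Set G) ≤ N) ∨ IsPrimePow (Nat.card N) ∨ IsPrimePow N.index := by
  have hk := QuotientGroup.ker_mk' N
  have h := H21.Cam.Inv.of_cam (QuotientGroup.mk'_surjective N) fun g hg => by
    rw [hk]; exact hcam g fun e => hg ((QuotientGroup.eq_one_iff g).2 e)
  have pp : ∀ (X : Type _) [Group X] [Finite X] (p : ℕ), p.Prime → IsPGroup p X → Nat.card X ≠ 1 → IsPrimePow (Nat.card X) :=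
    fun X _ _ p hp h h1 => by
      haveI := Fact.mk hp
      obtain ⟨k, hk⟩ := IsPGroup.iff_card.1 h
      exact ⟨p, k, hp.prime, Nat.pos_of_ne_zero fun e => h1 (by rw [hk, e, pow_zero]), hk.symm⟩
  by_cases h1 : ∃ p : ℕ, p.Prime ∧ IsPGroup p (G ⧸ N)
  · obtain ⟨p, hp, h1⟩ := h1
    exact Or.inr (Or.inr (pp (G ⧸ N) p hp h1 fun e => hN2 (Subgroup.index_eq_one.1 e)))
  by_cases h2 : (Nat.card N).Coprime (Nat.card (G ⧸ N))
  · refine Or.inl fun x hx hx1 g hg => by_contra fun hg1 => hx1 (orderOf_eq_one_iff.1 ?_)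
    exact Nat.eq_one_of_dvd_coprimes h2 (N.orderOf_dvd_natCard hx) (((H27.cent g).orderOf_dvd_natCard
      (H27.mem_cent_comm.1 hg)).trans (h.dvd fun e => hg1 ((QuotientGroup.eq_one_iff g).1 e)))
  obtain ⟨p, hp, h3, h4⟩ := Nat.Prime.not_coprime_iff_dvd.1 h2
  have := H21.Cam.main (fun p hp h => h1 ⟨p, hp, h⟩) _ G _ le_rfl h p hp (by rwa [hk]) h4
  rw [hk] at this
  exact Or.inr (Or.inl (pp N p hp this fun e => hN1 (Subgroup.card_eq_one.1 e)))

end Cfsg.Agent.S4140
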