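import Mathlib
import Cfsg.Statements.S4193
import Cfsg.Agent.S3861
import Cfsg.Agent.S3863
import Cfsg.Agent.H03.NPC3
import Cfsg.Agent.H08.Simp2
import Cfsg.Agent.BG.Api3

set_option autoImplicit false
open Cfsg

namespace Cfsg.Agent.S4193

open BG Subgroup

/-- Let G be a finite group in which the conjugacy classes of all non-central real elements (elements conjugate to their inverses) have sizes with the same 2-part, and suppose G has a Sylow 2-subgroup S such that every element of S that is conjugate in S to its inverse lies in the centre of S. Then G is solvable and the subgroup generated by the 2-elements of G (the smallest normal subgroup of odd index) has a normal 2-complement. -/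
theorem result {G : Type*} [Group G] [Finite G] (a : ℕ) (h : ∀ x : G, IsConj x x⁻¹ → x ∉ Subgroup.center G → ((Subgroup.centralizer ({x} : Set G)).index).factorization 2 = a) (S : Sylow 2 G) (hS : ∀ s : ↥(S : Subgroup G), IsConj s s⁻¹ → s ∈ Subgroup.center ↥(S : Subgroup G)) : Group.IsSolvable G ∧ Cfsg.HasNormalPComplement 2 ↥(Subgroup.closure {g : G | ∃ k : ℕ, orderOf g = 2 ^ k}) := by
  have hp := Nat.prime_two
  by_cases hc : ∀ x : G, (∃ j : ℕ, orderOf x = 2 ^ j) → IsConj x x⁻¹ → x ∈ center G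
  · have := H03.hasNPC_of_real_central hc
    exact ⟨H08.sol_of_npc this, H03.HasNPC.subgroup this _⟩
  push Not at hc
  obtain ⟨x, ⟨j, hj⟩, hx, hz⟩ := hc
  obtain ⟨t, ⟨i, hi⟩, ht⟩ := (Cfsg.Agent.S3863.result x hx).1
  have h1 : IsPGroup 2 ↥(zpowers x ⊔ zpowers t) := pg_sup (pg_of_card ((card_zpowers x).trans hj))
    (pg_of_card ((card_zpowers t).trans hi)) (zpowers_le.2 (mem_norm_of_cj_le (by
      rw [cj_zpowers, ht, zpowers_inv])))
  obtain ⟨g, -, hg⟩ := sylow_Jsub hp (isSylowIn_top hp S) h1 le_top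
  have h2 := hg (conj_mem_cj g (mem_sup_left (mem_zpowers x)))
  have h3 := hg (conj_mem_cj g (mem_sup_right (mem_zpowers t)))
  have h4 := hS ⟨_, h2⟩ (isConj_iff.2 ⟨⟨_, h3⟩, Subtype.ext (by
    show g * t * g⁻¹ * (g * x * g⁻¹) * (g * t * g⁻¹)⁻¹ = (g * x * g⁻¹)⁻¹
    rw [conj_mul, conj_inv, conj_mul, ht, conj_inv])⟩)
  have h5 : (S : Subgroup G) ≤ cj g C_[x] := fun s hs => by
    rw [cj_cent1]; exact congrArg Subtype.val (mem_center_iff.1 h4 ⟨s, hs⟩) |> mem_cent1.2
  have h6 : a = 0 := by
    rw [← h x hx hz]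
    exact Nat.factorization_eq_zero_of_not_dvd fun e => S.not_dvd_index (e.trans (index_cj g _ ▸ index_dvd_of_le h5))
  have hN : (S : Subgroup G).Normal := (Cfsg.Agent.S3861.result S).1 fun y h1 ho hy => h1 (by
    have h7 : y ^ 2 = 1 := by
      by_cases e : y ∈ center G
      · obtain ⟨c, hc⟩ := isConj_iff.1 hy
        rw [mem_center_iff.1 e c, mul_inv_cancel_right] at hc
        rw [pow_two]; exact mul_eq_one_iff_eq_inv.2 hc
      · refine (Cfsg.Agent.S3863.result y hy).2.1 (Nat.not_even_iff_odd.1 fun e' => ?_)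
        have := h y hy e
        rw [h6, Nat.factorization_eq_zero_iff] at this
        exact this.elim (· hp) (·.elim (· e'.two_dvd) index_ne_zero_of_finite)
    exact orderOf_eq_one_iff.1 (Nat.eq_one_of_dvd_coprimes ho.coprime_two_right dvd_rfl (orderOf_dvd_of_pow_eq_one h7)))
  refine ⟨H08.sol_of_normal_sylow S hN, H03.hasNPC_of_isPGroup (pg_le S.2 ((closure_le _).2 fun y ⟨k, hk⟩ => ?_))⟩
  exact IsSylowIn.le_of_norm_pg' (isSylowIn_top hp S) hp (pg_of_card ((card_zpowers y).trans hk)) le_top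
    (by rw [normalizer_eq_top]; exact le_top) (mem_zpowers y)

end Cfsg.Agent.S4193
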