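import Cfsg.Statements.S4354
import Cfsg.Agent.BG.Api
import Cfsg.Agent.H27.Classes
import Cfsg.Agent.H03.Fusion
-- import your own Cfsg.Agent.* helpers here

set_option autoImplicit false
open Cfsg

namespace Cfsg.Agent.S4354

open BG in
theorem core {G : Type*} [Group G] [Finite G] (p : ℕ) [hp : Fact p.Prime] (N : Subgroup G) [hN : N.Normal] (P : Sylow p G)
    (h : ∀ x : G, (∃ k : ℕ, orderOf x = p ^ k) → ¬ p ∣ (Subgroup.centralizer ({x} : Set G)).index)
    (h1 : ∀ Q : Subgroup G, IsPGroup p Q → Q ≤ N → IsMulCommutative Q)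
    (h2 : ⁅(P : Subgroup G), (P : Subgroup G)⁆ ≤ N) : IsMulCommutative (P : Subgroup G) := by
  have hNn : ∀ X : Subgroup G, X ≤ N_(N) := fun X => by rw [Subgroup.normalizer_eq_top]; exact le_top
  have key : ∀ x ∈ (P : Subgroup G), ∃ Q : Sylow p G, (Q : Subgroup G) ≤ C_[x] ∧ x ∈ (Q : Subgroup G) := by
    intro x hx
    obtain ⟨Q, hQ⟩ := H27.exists_sylow_le_iff.2 (h x (H27.orderOf_of_mem_sylow hx))
    refine ⟨Q, hQ, ?_⟩
    have := (isSylowIn_top hp.out Q).le_of_norm_pg hp.out (pg_le P.isPGroup' (Subgroup.zpowers_le.2 hx)) le_top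
      (le_norm_of_cent (by rwa [cent_zpowers]))
    exact this (Subgroup.mem_zpowers x)
  have hsyl : ∀ (Q : Sylow p G) (x : G), x ∈ (Q : Subgroup G) →
      IsSylowIn p ((Q : Subgroup G) ⊓ (N ⊔ Subgroup.zpowers x)) (N ⊔ Subgroup.zpowers x) := by
    intro Q x hx
    have hx' : Subgroup.zpowers x ≤ Q := Subgroup.zpowers_le.2 hx
    have h3 : IsSylowIn p ((Q : Subgroup G) ⊓ N) N := (isSylowIn_top hp.out Q).inf_normal le_top (hNn _)
    refine isSylowIn_mk hp.out inf_le_right (pg_le Q.isPGroup' inf_le_left) fun hd => h3.not_dvd' hp.out ?_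
    have e : (Q : Subgroup G) ⊓ (N ⊔ Subgroup.zpowers x) = ((Q : Subgroup G) ⊓ N) ⊔ Subgroup.zpowers x := by
      rw [inf_comm, dedekind' hx' (Or.inr (hNn _)), inf_comm]
    have e2 : N ⊔ Subgroup.zpowers x = N ⊔ ((Q : Subgroup G) ⊓ (N ⊔ Subgroup.zpowers x)) :=
      le_antisymm (sup_le_sup_left (le_inf hx' le_sup_right) _) (sup_le le_sup_left inf_le_right)
    rw [e2, ← e2] at hd
    nth_rewrite 2 [e2] at hd
    rw [relIndex_sup' (hNn _)] at hd
    refine hd.trans (relIndex_dvd_left N (inf_le_inf_left _ le_sup_left))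
  have hP0 : (P : Subgroup G) ≤ C_((P : Subgroup G) ⊓ N) := by
    intro x hx
    obtain ⟨Q, hQ, hxQ⟩ := key x hx
    have hab : IsMulCommutative ↥((Q : Subgroup G) ⊓ (N ⊔ Subgroup.zpowers x)) := by
      rw [inf_comm, dedekind' (Subgroup.zpowers_le.2 hxQ) (Or.inr (hNn _))]
      refine abelian_sup (h1 _ (pg_le Q.isPGroup' inf_le_right) inf_le_left) (abelian_of_cyclic (cyclic_zpowers x)) ?_
      rw [cent_zpowers]; exact inf_le_right.trans hQ
    obtain ⟨g, -, e⟩ := sylow_trans hp.out (hsyl Q x hxQ) (hsyl P x hx)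
    have hab' : IsMulCommutative ↥((P : Subgroup G) ⊓ (N ⊔ Subgroup.zpowers x)) := by
      rw [e]; haveI := hab; exact Subgroup.map_isMulCommutative _ _
    exact mem_cent.2 fun a ha => mul_comm_of_abelian hab' ⟨ha.1, Subgroup.mem_sup_left ha.2⟩
      ⟨hx, Subgroup.mem_sup_right (Subgroup.mem_zpowers x)⟩
  refine abelian_iff.2 fun x hx => ?_
  obtain ⟨Q, hQ, hxQ⟩ := key x hx
  obtain ⟨g, -, e⟩ := sylow_trans hp.out (isSylowIn_top hp.out P) (isSylowIn_top hp.out Q)
  set z := g⁻¹ * x * g with hz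
  have hzP : z ∈ (P : Subgroup G) := mem_cj.1 (e ▸ hxQ)
  have hzc : z ∈ C_((P : Subgroup G)) := mem_cent.2 fun a ha => by
    have := mem_cent1.1 (hQ (e ▸ conj_mem_cj g ha))
    calc a * z = g⁻¹ * (g * a * g⁻¹ * x) * g := by rw [hz]; group
      _ = _ := by rw [this, hz]; group
  let C : Subgroup G := (C_[(z : G ⧸ N)]).comap (QuotientGroup.mk' N)
  have hC : ∀ y, y ∈ C ↔ y⁻¹ * z * y * z⁻¹ ∈ N := fun y => by
    rw [← QuotientGroup.eq_one_iff (N := N)]
    show (y : G ⧸ N) ∈ C_[(z : G ⧸ N)] ↔ _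
    rw [mem_cent1]
    simp only [QuotientGroup.mk_mul, QuotientGroup.mk_inv]
    constructor
    · intro h; rw [mul_assoc _ (z : G ⧸ N), ← h]; group
    · intro h
      calc (y : G ⧸ N) * z = y * ((y : G ⧸ N)⁻¹ * z * y * (z : G ⧸ N)⁻¹) * z := by rw [h]; group
        _ = _ := by group
  obtain ⟨c, hc, hn⟩ := H03.exists_mul_mem_normalizer_sylow P (C := C) (g := g) (fun y hy => by
      rw [hC, mul_assoc y⁻¹, ← mem_cent.1 hzc y hy]; simp [one_mem]) (fun y hy => by
      rw [hC]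
      have h3 : y⁻¹ * x * y * x⁻¹ ∈ N := by
        have := h2 (Subgroup.commutator_mem_commutator (inv_mem hy) hx)
        simpa [commutatorElement_def] using this
      have := hN.conj_mem _ h3 g⁻¹
      convert this using 1
      rw [hz]; group)
  have hn' : g * c ∈ N_((P : Subgroup G)) := hn
  have h4 : c⁻¹ * z * c ∈ (P : Subgroup G) := by
    have := conj_mem_of_norm' hn' hx
    convert this using 1
    rw [hz]; group
  have h5 : c⁻¹ * z * c ∈ C_((P : Subgroup G)) := by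
    have h6 : c⁻¹ * z * c * z⁻¹ ∈ C_((P : Subgroup G)) := cent_symm hP0 ⟨Subgroup.mul_mem _ h4 (Subgroup.inv_mem _ hzP), (hC c).1 hc⟩
    simpa using mul_mem h6 hzc
  have h7 := conj_mem_of_norm (norm_le_norm_cent _ hn') h5
  convert h7 using 1
  rw [hz]; group

/-- Let G be a finite group and p a prime such that the Sylow p-subgroups of G are non-abelian while every element of p-power order has conjugacy class size prime to p, and suppose no nontrivial proper normal subgroup N of G has this property and no quotient G/N by such an N has it. Then G is simple. -/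
theorem result {G : Type*} [Group G] [Finite G]
    (p : ℕ) [Fact p.Prime] (h : ((∃ P : Sylow p G, ¬ IsMulCommutative P) ∧ ∀ x : G, (∃ k : ℕ, orderOf x = p ^ k) → ¬ p ∣ (Subgroup.centralizer ({x} : Set G)).index))
    (hmin : ∀ (N : Subgroup G) [N.Normal], N ≠ ⊥ → N ≠ ⊤ →
      ¬ ((∃ P : Sylow p N, ¬ IsMulCommutative P) ∧ ∀ x : N, (∃ k : ℕ, orderOf x = p ^ k) → ¬ p ∣ (Subgroup.centralizer ({x} : Set N)).index) ∧
      ¬ ((∃ P : Sylow p (G ⧸ N), ¬ IsMulCommutative P) ∧ ∀ x : (G ⧸ N), (∃ k : ℕ, orderOf x = p ^ k) → ¬ p ∣ (Subgroup.centralizer ({x} : Set (G ⧸ N))).index)) :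
    IsSimpleGroup G := by
  obtain ⟨⟨P, hP⟩, h⟩ := h
  haveI : Nontrivial G := by
    by_contra hn
    rw [not_nontrivial_iff_subsingleton] at hn
    exact hP ⟨⟨fun a b => Subsingleton.elim _ _⟩⟩
  refine ⟨fun N hN => ?_⟩
  by_contra hc
  push Not at hc
  obtain ⟨h1, h2⟩ := hmin N hc.1 hc.2
  refine hP (core p N P h (fun Q hQ hle => ?_) ?_)
  · by_contra hab
    refine h1 ⟨?_, fun x hx hd => h x (by simpa using hx) (hd.trans (H27.cs_coe_dvd N x))⟩
    obtain ⟨R, hR, hQR⟩ := BG.sylow_superset Fact.out hQ hle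
    obtain ⟨S, rfl⟩ := hR.exists_sylow Fact.out
    refine ⟨S, fun hS => hab (BG.abelian_of_le ?_ hQR)⟩
    exact Subgroup.map_isMulCommutative _ _
  · by_contra hab
    refine h2 ⟨⟨P.mapSurjective (QuotientGroup.mk'_surjective N), fun hS => hab ?_⟩, fun x hx hd => ?_⟩
    · have : ⁅(P : Subgroup G).map (QuotientGroup.mk' N), (P : Subgroup G).map (QuotientGroup.mk' N)⁆ = ⊥ :=
        BG.abelian_iff_der.1 hS
      rwa [← Subgroup.map_commutator, Subgroup.map_eq_bot_iff, QuotientGroup.ker_mk'] at this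
    · obtain ⟨y, rfl⟩ := QuotientGroup.mk_surjective x
      obtain ⟨u, z, -, -, rfl, hc, hu, hz⟩ := H27.exists_pi_decomp {p} y
      have hu' := hu.map (QuotientGroup.mk' N)
      have hz' := hz.map (QuotientGroup.mk' N)
      have hx' := (H27.isPiElt_singleton_iff Fact.out).2 hx
      have := H27.pi_decomp_unique (π := {p}) (u := ((u * z : G) : G ⧸ N)) (z := 1) (u' := QuotientGroup.mk' N u)
        (z' := QuotientGroup.mk' N z) (by simp) (Commute.one_right _) (hc.map _) hx' (H27.isPiElt_one _) hu' hz'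
      rw [this.1] at hd
      exact h u ((H27.isPiElt_singleton_iff Fact.out).1 hu) (hd.trans (H27.cs_mk_dvd N u))

end Cfsg.Agent.S4354
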