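import Mathlib
import Cfsg.Statements.S4355
import Cfsg.Agent.S3863
import Cfsg.Agent.S2791
import Cfsg.Agent.S4354
import Cfsg.Agent.S1249
import Cfsg.Agent.BG.Api3

set_option autoImplicit false
open Cfsg

namespace Cfsg.Agent.S4355

open BG Subgroup

theorem aux (n : ℕ) : ∀ {G : Type*} [Group G] [Finite G], Nat.card G = n →
    (∀ x : G, (∃ k : ℕ, orderOf x = 2 ^ k) → ¬ 2 ∣ C_[x].index) → ∀ P : Sylow 2 G, IsMulCommutative P := by
  induction n using Nat.strong_induction_on with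
  | _ n ih =>
  intro G _ _ hn h P
  have hp := Nat.prime_two
  by_contra hP
  have hs := Cfsg.Agent.S4354.result 2 ⟨⟨P, hP⟩, h⟩ fun N _ h1 h2 =>
    ⟨fun ⟨⟨Q, hQ⟩, h3⟩ => hQ (ih _ (hn ▸ card_top (G := G) ▸ card_lt h2.lt_top) rfl h3 Q),
     fun ⟨⟨Q, hQ⟩, h3⟩ => hQ (ih _ (by
      rw [← hn, ← card_mul_index N]
      exact lt_mul_of_one_lt_left (Nat.pos_of_ne_zero index_ne_zero_of_finite) (BG.one_lt_card h1)) rfl h3 Q)⟩
  have ho : ∀ {X : Subgroup G}, IsPGroup 2 X → ∀ x ∈ X, ∃ k, orderOf x = 2 ^ k := fun hX x hx =>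
    card_zpowers x ▸ pg_card hp (pg_le hX (zpowers_le.2 hx))
  have h3 : ∀ s ∈ (P : Subgroup G), ∀ t ∈ (P : Subgroup G), s * s = 1 → t * t = 1 → s * t * (s * t) = 1 :=
    fun s hs t ht e1 e2 => by
      rw [← pow_two]
      refine (Cfsg.Agent.S3863.result _ (isConj_iff.2 ⟨s, ?_⟩)).2.1 (Nat.not_even_iff_odd.1 fun e =>
        h _ (ho P.2 _ (mul_mem hs ht)) e.two_dvd)
      rw [← mul_assoc, e1, one_mul, mul_inv_rev, inv_eq_of_mul_eq_one_right e2]
  let W : Subgroup G :=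
    { carrier := {s | s ∈ (P : Subgroup G) ∧ s * s = 1}
      one_mem' := ⟨one_mem _, mul_one 1⟩
      mul_mem' := fun {a b} ha hb => ⟨mul_mem ha.1 hb.1, h3 a ha.1 b hb.1 ha.2 hb.2⟩
      inv_mem' := fun {a} ha => ⟨inv_mem ha.1, by rw [← mul_inv_rev, ha.2, inv_one]⟩ }
  have hW : IsMulCommutative W := ⟨⟨fun a b => Subtype.ext (by
    rw [coe_mul, coe_mul, ← inv_eq_of_mul_eq_one_right (h3 a a.2.1 b b.2.1 a.2.2 b.2.2), mul_inv_rev,
      inv_eq_of_mul_eq_one_right a.2.2, inv_eq_of_mul_eq_one_right b.2.2])⟩⟩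
  have hsc : IsStronglyClosed W (P : Subgroup G) := ⟨fun _ h => h.1, fun x hx g hg => ⟨hg, by
    rw [conj_mul, hx.2, mul_one, mul_inv_cancel]⟩⟩
  obtain ⟨T, hT, hc⟩ := Cfsg.Agent.S2791.result P W hW hsc
  have hT2 := Cfsg.Agent.S1249.result P T W hT hsc
  have hTN : (T : Subgroup G) ≤ N_(W) := le_norm_iff.2 fun a ha w hw =>
    hT2.2 w hw a (mul_mem (mul_mem ha (hT hw)) (inv_mem ha))
  have hTS : IsSylowIn 2 (T : Subgroup G) N_(W) := (isSylowIn_top hp T).sub hTN le_top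
  have hN : N_(W) ≠ ⊤ := fun e => by
    rcases hs.eq_bot_or_eq_top_of_normal W (normalizer_eq_top_iff.1 e) with e | e
    · obtain ⟨z, hz, hz2⟩ := exists_orderOf_eq_prime hp (pg_dvd hp P.2 fun e => hP (e ▸ inferInstance))
      have : z ∈ W := ⟨hz, by rw [← pow_two, ← hz2, pow_orderOf_eq_one]⟩
      rw [e, mem_bot] at this
      simp [this] at hz2
    · exact hP (abelian_of_le hW (e ▸ le_top))
  obtain ⟨Q, hQ⟩ := IsSylowIn.exists_sylow hTS hp
  have h4 := ih _ (hn ▸ card_top (G := G) ▸ card_lt hN.lt_top) rfl ?_ Q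
  · obtain ⟨g, -, hg⟩ := sylow_trans hp (isSylowIn_top hp T) (isSylowIn_top hp P)
    exact hP (by rw [hg, isMulCommutative_cj, ← hQ]; exact map_isMulCommutative _ _)
  rintro x ⟨k, hk⟩
  have hx : IsPGroup 2 (zpowers (x : G)) := pg_of_card ((card_zpowers _).trans ((orderOf_coe x).trans hk))
  obtain ⟨a, ha, h5⟩ := sylow_Jsub hp hTS hx (zpowers_le.2 x.2)
  rw [cj_zpowers, zpowers_le] at h5
  obtain ⟨R, hR⟩ := sylow_exists hp C_[a * x * a⁻¹]
  obtain ⟨g, -, hg⟩ := sylow_trans hp (hR.trans_idx le_top (relIndex_top_right C_[a * x * a⁻¹] ▸ h _ (ho T.2 _ h5)))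
    (isSylowIn_top hp T)
  have h6 : (T : Subgroup G) ≤ C_[g * (a * x * a⁻¹) * g⁻¹] := hg ▸ cj_cent1 g _ ▸ cj_mono g hR.le
  have h7 : g * (a * x * a⁻¹) * g⁻¹ ∈ (T : Subgroup G) := zpowers_le.1 (IsSylowIn.le_of_norm_pg' (isSylowIn_top hp T) hp
    (by rw [← cj_zpowers, ← cj_zpowers, isPGroup_cj, isPGroup_cj]; exact hx) le_top
    (le_norm_of_cent (zpowers_le.2 (le_cent1_iff.1 h6))))
  obtain ⟨b, hb, h8⟩ := (hc {a * x * a⁻¹} (Set.singleton_subset_iff.2 h5)).2 g (by rintro _ ⟨_, rfl, rfl⟩; exact h7)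
  rw [h8 _ rfl, ← mul_assoc, ← mul_assoc, mul_assoc _ a⁻¹, ← mul_inv_rev, ← cj_cent1, le_cj_iff] at h6
  have h9 : cj (⟨b * a, mul_mem hb ha⟩ : N_(W))⁻¹ (Q : Subgroup N_(W)) ≤ C_[x] := fun y hy => by
    refine mem_cent1.2 (Subtype.ext (mem_cent1.1 (h6 (mem_cj_inv.2 (hQ ▸ ⟨_, mem_cj_inv.1 hy, rfl⟩)))))
  exact fun e => Q.not_dvd_index (e.trans (index_cj _ (Q : Subgroup N_(W)) ▸ index_dvd_of_le h9))


/-- If every element of 2-power order of a finite group has a conjugacy class of odd size, then the Sylow 2-subgroups of the group are abelian. -/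
theorem result {G : Type*} [Group G] [Finite G]
    (h : ∀ x : G, (∃ k : ℕ, orderOf x = 2 ^ k) → ¬ 2 ∣ (Subgroup.centralizer ({x} : Set G)).index) (P : Sylow 2 G) :
    IsMulCommutative P := by
  exact aux _ rfl h P

end Cfsg.Agent.S4355
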