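import Mathlib
import Cfsg.Statements.S4194
import Cfsg.Agent.S4355

set_option autoImplicit false
open Cfsg

namespace Cfsg.Agent.S4194

open BG Subgroup

/-- A finite group G has commutative Sylow 2-subgroups if and only if every 2-element of G (element of order a power of 2) is 2-central, that is, its centralizer contains a Sylow 2-subgroup of G. -/
theorem result {G : Type*} [Group G] [Finite G] (P : Sylow 2 G) :
    IsMulCommutative (P : Subgroup G) ↔ ∀ x : G, (∃ k : ℕ, orderOf x = 2 ^ k) → (∃ Q : Sylow 2 G, (Q : Subgroup G) ≤ Subgroup.centralizer ({x} : Set G)) := by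
  have hp := Nat.prime_two
  refine ⟨fun h x ⟨k, hk⟩ => ?_, fun h => Cfsg.Agent.S4355.result (fun x hx e => ?_) P⟩
  · obtain ⟨Q, hQ⟩ := (pg_of_card ((card_zpowers x).trans hk)).exists_le_sylow
    obtain ⟨g, -, hg⟩ := sylow_trans hp (isSylowIn_top hp P) (isSylowIn_top hp Q)
    exact ⟨Q, fun y hy => mem_cent1.2 (mul_comm_of_abelian (hg ▸ isMulCommutative_cj.2 h) hy (hQ (mem_zpowers x)))⟩
  · obtain ⟨Q, hQ⟩ := h x hx
    exact Q.not_dvd_index (e.trans (index_dvd_of_le hQ))

end Cfsg.Agent.S4194
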