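import Mathlib
import Cfsg.Statements.S4241
import Cfsg.Agent.H02.Inv1

set_option autoImplicit false
open Cfsg

namespace Cfsg.Agent.S4241

/-- Let a finite group A act by automorphisms on a finite group G of order coprime to that of A, and let p be a prime dividing the order of G. If every maximal A-invariant proper subgroup of G whose order is divisible by p is nilpotent, then G is solvable. -/
theorem result {A G : Type*} [Group A] [Group G] [Finite A] [Finite G] [MulDistribMulAction A G]
    (hcop : (Nat.card A).Coprime (Nat.card G)) (p : ℕ) (hp : p.Prime) (hpG : p ∣ Nat.card G)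
    (hmax : ∀ H : Subgroup G, H ≠ ⊤ → (∀ a : A, ∀ x ∈ H, a • x ∈ H) →
      (∀ K : Subgroup G, H < K → (∀ a : A, ∀ x ∈ K, a • x ∈ K) → K = ⊤) → p ∣ Nat.card H → Group.IsNilpotent H) :
    Group.IsSolvable G := by
  let φ := MulDistribMulAction.toMulAut A G
  have h : ∀ H : Subgroup G, H ≠ ⊤ → H27.Inv φ H → p ∣ Nat.card H → Group.IsNilpotent H := by
    intro H h1 h2 h0
    obtain ⟨M, hHM, hM⟩ := Finite.exists_le_maximal (p := fun M : Subgroup G => M ≠ ⊤ ∧ H27.Inv φ M)
      (a := H) ⟨h1, h2⟩
    haveI := hmax M hM.1.1 hM.1.2 (fun K h3 h4 => by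
      by_contra h5
      exact h3.not_ge (hM.2 ⟨h5, h4⟩ h3.le)) (h0.trans (Subgroup.card_dvd_of_le hHM))
    exact Group.nilpotent_of_mulEquiv (Subgroup.subgroupOfEquivOfLe hHM)
  rcases Nat.even_or_odd (Nat.card G) with h1 | h1
  · haveI := Cfsg.Agent.S0205.result (G := A)
      (Nat.coprime_two_right.1 (hcop.coprime_dvd_right h1.two_dvd))
    exact H02.Inv.main hp _ G φ rfl hcop hpG h
  · exact Cfsg.Agent.S0205.result h1

end Cfsg.Agent.S4241
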