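import Cfsg.Statements.S4281
import Cfsg.Agent.H11.Cent
import Cfsg.Agent.H11.PoinAll
-- import your own Cfsg.Agent.* helpers here

set_option autoImplicit false
open scoped BigOperators
open Cfsg

namespace Cfsg.Agent.S4281
open H11 Cfsg.Lie

theorem hw : (wt : Root chevE8 → _) = fun r i => fastE8.wt r.1 i.1 := funext₂ agreeE8.wt_eq
theorem hc : (cor : Root chevE8 → _) = fun r i => fastE8.cor r.1 i.1 := funext₂ agreeE8.cor_eq
theorem d0 : InvD (D := chevE8) ([4, 5, 7, 10, 8, 6, 4, 2].getD · 0) (nd _ 0) (rt _ 225) (rt _ 226) ([1, 3, 3, 5, 4, 3, 2, 1].getD · 0)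
    ([2, 2, 3, 4, 3, 2, 1, 0].getD · 0) := by unfold InvD fv; rw [hw]; decide +kernel
theorem d7 : InvD (D := chevE8) ([2, 3, 4, 6, 5, 4, 3, 2].getD · 0) (nd _ 7) (rt _ 238) (rt _ 239) ([2, 3, 4, 6, 5, 4, 3, 1].getD · 0)
    ([2, 3, 4, 6, 5, 4, 3, 2].getD · 0) := by unfold InvD fv; rw [hw]; decide +kernel

set_option maxRecDepth 10000 in
set_option maxHeartbeats 1000000 in

/-- In the Chevalley group of type E₈ over a finite field of odd order q there are exactly two conjugacy classes of involutions; the centralizer of an involution in one class has order q⁵⁶(q⁸ − 1)·∏_{i=1}^{7}(q^{2i} − 1), and in the other class q⁶⁴(q² − 1)²(q⁶ − 1)(q⁸ − 1)(q¹⁰ − 1)(q¹² − 1)(q¹⁴ − 1)(q¹⁸ − 1). -/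
theorem result {F : Type*} [Field F] [Fintype F] (hF : Odd (Fintype.card F)) : ∃ s t : ↥(Cfsg.Lie.chevE8.group F), orderOf s = 2 ∧ orderOf t = 2 ∧ ¬ IsConj s t ∧ (∀ u : ↥(Cfsg.Lie.chevE8.group F), orderOf u = 2 → IsConj u s ∨ IsConj u t) ∧ Nat.card (Subgroup.centralizer ({s} : Set ↥(Cfsg.Lie.chevE8.group F))) = Fintype.card F ^ 56 * (Fintype.card F ^ 8 - 1) * ∏ i ∈ Finset.Icc 1 7, (Fintype.card F ^ (2 * i) - 1) ∧ Nat.card (Subgroup.centralizer ({t} : Set ↥(Cfsg.Lie.chevE8.group F))) = Fintype.card F ^ 64 * (Fintype.card F ^ 2 - 1) ^ 2 * (Fintype.card F ^ 6 - 1) * (Fintype.card F ^ 8 - 1) * (Fintype.card F ^ 10 - 1) * (Fintype.card F ^ 12 - 1) * (Fintype.card F ^ 14 - 1) * (Fintype.card F ^ 18 - 1) := by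
  have h2 : (2 : F) ≠ 0 := Ring.two_ne_zero fun e => by have := FiniteField.even_card_of_char_two e; have := Nat.odd_iff.1 hF; omega
  have hq : 1 < Fintype.card F := Fintype.one_lt_card
  have c0 := card_inv hMul_grp (grpSys_grp _ _) (torS_E8 _) h2 d0 254 56 16 (fun a i => g2 [[1, 0, 0, 0, 0, 0, 0, 0], [1, 0, 0, 0, 0, 0, 0, -2],
    [1, 0, 0, 0, 0, 0, -2, 2], [1, 0, 0, 0, 0, -2, 2, 0], [1, 0, 0, 0, -2, 2, 0, 0], [1, 0, 0, -2, 2, 0, 0, 0], [1, -2, -2, 2, 0, 0, 0, 0],
    [-1, -2, 2, 0, 0, 0, 0, 0], [1, 2, -2, 0, 0, 0, 0, 0], [-1, 2, 2, -2, 0, 0, 0, 0], [-1, 0, 0, 2, -2, 0, 0, 0], [-1, 0, 0, 0, 2, -2, 0, 0],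
    [-1, 0, 0, 0, 0, 2, -2, 0], [-1, 0, 0, 0, 0, 0, 2, -2], [-1, 0, 0, 0, 0, 0, 0, 2], [-1, 0, 0, 0, 0, 0, 0, 0]] a i)
    [0, 13, 12, 11, 10, 9, 8, 7, 7, 6, 5, 4, 3, 2, 1, 14] (by unfold fv; rw [hw, hc]; decide +kernel)
  have c7 := card_inv hMul_grp (grpSys_grp _ _) (torS_E8 _) h2 d7 127 64 2 (fun a i => g2 [[0, 0, 0, 0, 0, 0, 0, 1], [0, 0, 0, 0, 0, 0, 0, -1]] a i)
    [0, 1] (by unfold fv; rw [hw, hc]; decide +kernel)
  have c (g) := conj_inv (g := g) h2 (fun _ _ => torS_E8 _) [_, _] (List.forall_mem_cons.2 ⟨⟨_, _, _, _, _, d0⟩, List.forall_mem_singleton.2 ⟨_, _, _, _, _, d7⟩⟩)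
    (lk 0x151616170717081814150a0b131109190d0e0c0d110f100e13140b0c12100a1a0f100e0f0f110e1010110c0b11010d110e0f0d0e10100f0f12130c0d11110b1b111210110d130c1212130a0913030b1307060807150516061314090814040a1410110f100e120d1111120b0a12020c120f100e0f0f110e1011120d0e10120c1c16171718061807191516090a1410081a0c0d0b0c120e110d14150a0b130f091b0e0f0d0e10100f0f0f100d0c10000e100d0e0c0d110f100e13140b0c12100a1c171818190519061a16170809150f071b0b0c0a0b130d120c1516090a140e081c1819191a041a051b171807081610061c191a1a1b031b041c01001b1c021c1c00 8 255)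
    (by unfold fv; rw [hw]; decide +kernel)
  have o0 := orderOf_sgn (hMul_grp (K := F)) h2 d0
  have o7 := orderOf_sgn (hMul_grp (K := F)) h2 d7
  simp only [List.mem_cons, List.not_mem_nil, or_false, exists_eq_or_imp, exists_eq_left] at c
  generalize StSys.torS (hMul_grp (D := chevE8) (K := F)) _ = s at c0 o0 c
  generalize StSys.torS (hMul_grp (D := chevE8) (K := F)) _ = t at c7 o7 c
  rw [poin_of_chk agreeE8 ⟨14, 0x7888888997888889897888898897888988897889888897798888897888888799888879988887988888798888879888887988888898888888, 0xc0d0d0d0d0d0d000d0b0c0c0c0c0c000b0c0a0b0b0b0b000a0a0b090a0a0a000909090a08090900080808080907060007070707070805000606060606050800050505050406070004040403050404000303020403030300020103020202020000020101010101000100000000000000, 0xc0b0a0908070606050403020100, 0x76543112345670⟩ 254 7 126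
      [0, 1, 2, 3, 4, 5, 6, 6, 7, 8, 9, 10, 11, 12] (by decide +kernel) (by decide +kernel),
    poin_of_chk agreeE8 ⟨12, 0xa78888899978888998978889988978899888977998888978988887999888799898879888987988889798888889888888, 0xa0b0b0b0b0b00000b090a0a0a0a0000090a0809090900000808090708080000070707080605000006060606070400000505050504070000040404030506000003030204030300000201030202020000000201010101000001000000000000, 0xa0908070605050403020100, 0x654311234560⟩ 126 6 62
      [0, 1, 2, 3, 4, 5, 5, 6, 7, 8, 9, 10] (by decide +kernel) (by decide +kernel)] at c0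
  rw [poinE8_127, poinE8_63] at c7
  rw [poinE8_62, poinE8_30, poinE8_28, poinE8_24, poinE8_16, nodeSet_zero, poin_empty, Nat.card_eq_fintype_card (α := F), show _ ^ chevE8.rank = _ ^ 8 from rfl] at c0 c7
  generalize Fintype.card F = q at *
  refine ⟨s, t, o0, o7, fun h => ?_, c, ?_, ?_⟩
  · refine pow_mul_ne hq (by decide) ?_ ((mul_assoc ..).symm.trans (c0.symm.trans ((card_cent_conj h).trans (c7.trans (mul_assoc ..)))))
    simp [hq.le, ← pow_mul]; norm_num
  · rw [c0]; simp only [List.map, List.sum_cons, List.sum_nil, Finset.prod_Icc_succ_top, Nat.reduceLeDiff, Finset.Icc_self, Finset.prod_singleton]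
    zify [hq.le, Nat.one_le_pow _ _ (pos_of_gt hq)]; ring
  · rw [c7]; simp only [List.map, List.sum_cons, List.sum_nil]
    zify [hq.le, Nat.one_le_pow _ _ (pos_of_gt hq)]; ring

end Cfsg.Agent.S4281
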