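import Cfsg.Statements.S4347
import Mathlib
import Cfsg.Agent.H27.ClassSize
-- import your own Cfsg.Agent.* helpers here

set_option autoImplicit false
open Cfsg

namespace Cfsg.Agent.S4347

open scoped Pointwise commutatorElement

/-- Let G be a finite group and p a prime. Say a Sylow p-subgroup Q is redundant when every element of p-power order lies in some Sylow p-subgroup other than Q. Then G has no redundant Sylow p-subgroup if and only if some element of p-power order lies in exactly one Sylow p-subgroup. -/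
theorem result {G : Type*} [Group G] [Finite G]
    (p : ℕ) [Fact p.Prime] :
    (¬ ∃ Q : Sylow p G, ∀ x : G, (∃ k : ℕ, orderOf x = p ^ k) → ∃ P : Sylow p G, P ≠ Q ∧ x ∈ P) ↔
      ∃ x : G, (∃ k : ℕ, orderOf x = p ^ k) ∧ ∃! P : Sylow p G, x ∈ P := by
  constructor
  · intro h
    push Not at h
    obtain ⟨Q⟩ : Nonempty (Sylow p G) := inferInstance
    obtain ⟨x, hx, h1⟩ := h Q
    obtain ⟨P, hP⟩ := H27.exists_sylow_mem hx
    refine ⟨x, hx, P, hP, fun R hR => ?_⟩
    have e1 : P = Q := by by_contra hc; exact h1 P hc hP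
    have e2 : R = Q := by by_contra hc; exact h1 R hc hR
    rw [e1, e2]
  · rintro ⟨x, hx, P, hP, hu⟩ ⟨Q, hQ⟩
    obtain ⟨g, rfl⟩ := MulAction.exists_smul_eq G P Q
    obtain ⟨R, hR, hx'⟩ := hQ (g * x * g⁻¹) (by
      obtain ⟨k, hk⟩ := hx
      exact ⟨k, by rw [← hk]; exact (MulAut.conj g).orderOf_eq x⟩)
    apply hR
    have : x ∈ g⁻¹ • R := by
      have := H02.conj_mem_conj_smul (H := (R : Subgroup G)) g⁻¹ hx'
      simp only [inv_inv, mul_assoc, inv_mul_cancel, mul_one, inv_mul_cancel_left] at this
      exact this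
    rw [← hu _ this, smul_inv_smul]

end Cfsg.Agent.S4347
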