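import Mathlib
import Cfsg.Statements.S4349
import Cfsg.Agent.H03.SymD

set_option autoImplicit false
open Cfsg

namespace Cfsg.Agent.S4349

open Equiv Equiv.Perm Finset Subgroup MulAction H03.Sym Pointwise

section
variable {α : Type} [Fintype α] [DecidableEq α] {x : Perm α} {P : Subgroup (Perm α)}

theorem swap_eq (hP : IsPGroup 2 P) {a b c : α} (h1 : swap a b ∈ P) (h2 : swap a c ∈ P) (h3 : a ≠ b)
    (h4 : a ≠ c) : b = c := by
  by_contra h
  obtain ⟨k, hk⟩ := hP ⟨_, mul_mem h1 h2⟩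
  have := orderOf_dvd_of_pow_eq_one (congrArg Subtype.val hk)
  rw [show orderOf _ = 3 from (isThreeCycle_swap_mul_swap_same h3 h4 h).orderOf] at this
  exact absurd (Nat.prime_three.dvd_of_dvd_pow this) (by omega)

omit [Fintype α] in
theorem swap_form {t : Perm α} (ht : t.IsSwap) {z : α} (h : t z ≠ z) : t = swap z (t z) := by
  obtain ⟨a, b, -, rfl⟩ := ht
  rcases eq_or_eq_of_swap_apply_ne_self h with rfl | rfl <;> simp [swap_comm]

/-- the conjugates of `swap a b` under `x` commute -/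
def T0 (x : Perm α) (a b : α) : Prop :=
  a ≠ b ∧ ∀ y ∈ zpowers x, (y a = a ↔ y b = b) ∧ (y a = b ↔ y b = a)

theorem T0_of_mem (hP : IsPGroup 2 P) (hx : x ∈ P) {a b : α} (h : swap a b ∈ P) (h1 : a ≠ b) : T0 x a b :=
  ⟨h1, fun y hy => by
    have h2 : swap (y a) (y b) ∈ P := swap_apply_apply y a b ▸ mul_mem (mul_mem (zpowers_le.2 hx hy) h)
      (inv_mem (zpowers_le.2 hx hy))
    have h3 := y.injective.ne h1
    refine ⟨⟨fun e => ?_, fun e => ?_⟩, fun e => ?_, fun e => ?_⟩ <;> rw [e] at h2 h3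
    · exact swap_eq hP h2 h h3 h1
    · exact swap_eq hP (by rwa [swap_comm]) (by rwa [swap_comm]) h3.symm h1.symm
    · exact swap_eq hP h2 (by rwa [swap_comm]) h3 h1.symm
    · exact swap_eq hP (by rwa [swap_comm]) h h3.symm h1⟩

theorem exists_sylow (hx : IsPGroup 2 (zpowers x)) {a b : α} (h : T0 x a b) :
    ∃ P : Sylow 2 (Perm α), x ∈ P ∧ swap a b ∈ P := by
  let S := {t | ∃ y ∈ zpowers x, t = y * swap a b * y⁻¹}
  have h1 : ∀ y ∈ zpowers x, Commute (swap a b) (y * swap a b * y⁻¹) := fun y hy => by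
    rw [← swap_apply_apply]
    by_cases e1 : y a = a
    · rw [e1, (h.2 y hy).1.1 e1]
    by_cases e2 : y a = b
    · rw [e2, (h.2 y hy).2.1 e2, swap_comm]
    refine (Commute.symm (mul_inv_eq_iff_eq_mul.1 ?_)).symm
    rw [← swap_apply_apply, swap_apply_of_ne_of_ne e1 e2,
      swap_apply_of_ne_of_ne (mt (h.2 y hy).2.2 e2) (mt (h.2 y hy).1.2 e1)]
  have h2 : closure S ≤ centralizer (closure S : Set (Perm α)) := by
    rw [centralizer_closure, closure_le]
    rintro _ ⟨y, hy, rfl⟩ _ ⟨z, hz, rfl⟩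
    have := congrArg (z * · * z⁻¹) (h1 _ (mul_mem (inv_mem hz) hy)).eq
    simpa [mul_assoc] using this
  have h3 : IsPGroup 2 (closure S) := fun ⟨g, hg⟩ => ⟨1, Subtype.ext (by
    change g ^ 2 ^ 1 = 1
    rw [pow_one, sq]
    induction hg using closure_induction with
    | mem t ht => obtain ⟨y, -, rfl⟩ := ht; simp [mul_assoc]
    | one => simp
    | mul g k hg hk h4 h5 => rw [mul_assoc, ← mul_assoc k, h2 hg k hk, mul_assoc, h5, mul_one, h4]
    | inv g _ h4 => rw [← mul_inv_rev, h4, inv_one])⟩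
  obtain ⟨P, hP⟩ := (h3.to_sup_of_normal_left' hx fun g hg => mem_normalizer_fintype fun t ht =>
    (closure_le ((closure S).comap (MulAut.conj g).toMonoidHom)).2 (by
      rintro _ ⟨y, hy, rfl⟩
      exact subset_closure ⟨g * y, mul_mem hg hy, by simp [mul_assoc]⟩) ht).exists_le_sylow
  exact ⟨P, hP (mem_sup_right (mem_zpowers x)), hP (mem_sup_left (subset_closure ⟨1, one_mem _, by simp⟩))⟩

/-- distinct cycle lengths and at most two fixed points -/
def C (x : Perm α) : Prop := (∀ a b, x a ≠ a → period x a = period x b → x.SameCycle a b) ∧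
  ∀ a b c, x a = a → x b = b → x c = c → a = b ∨ a = c ∨ b = c

omit [Fintype α] [DecidableEq α] in
theorem per {a : α} {k : ℕ} : (x ^ k) a = a ↔ period x a ∣ k := pow_smul_eq_iff_period_dvd (m := x)

omit [DecidableEq α] in
theorem mem_zp {y : Perm α} : y ∈ zpowers x ↔ ∃ k : ℕ, x ^ k = y := mem_powers_iff_mem_zpowers.symm

omit [DecidableEq α] in
theorem half {a : α} {i j : ℕ} (h1 : (x ^ i) a ≠ a) (h2 : (x ^ j) a ≠ a) (h3 : (x ^ i) ((x ^ i) a) = a)
    (h4 : (x ^ j) ((x ^ j) a) = a) : (x ^ i) a = (x ^ j) a := by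
  have key : ∀ i, (x ^ i) a ≠ a → (x ^ i) ((x ^ i) a) = a → 2 * (i % period x a) = period x a := fun i h h' => by
    rw [← Perm.mul_apply, ← pow_add, per, ← two_mul, ← Nat.dvd_mod_iff dvd_rfl, Nat.mul_mod, Nat.dvd_mod_iff dvd_rfl,
      Nat.dvd_iff_mod_eq_zero, Nat.mod_mul_mod, ← Nat.dvd_iff_mod_eq_zero] at h'
    rw [Ne, per, Nat.dvd_iff_mod_eq_zero] at h
    have h5 := Nat.mod_lt i (period_pos_of_orderOf_pos (orderOf_pos x) a)
    obtain ⟨c, hc⟩ := h'
    rcases c with _ | _ | c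
    · omega
    · omega
    · nlinarith
  have := key i h1 h3
  have := key j h2 h4
  exact (pow_mod_period_smul i).symm.trans ((congrArg (x ^ · • a) (by omega)).trans (pow_mod_period_smul j))

omit [DecidableEq α] in
theorem C.uniq (h : C x) {a b c : α} (h1 : T0 x a b) (h2 : T0 x a c) : b = c := by
  have key : ∀ {b}, T0 x a b → x a ≠ a → ∃ i, (x ^ i) a = b ∧ (x ^ i) b = a := fun {b} h1 e => by
    obtain ⟨i, hi⟩ := (h.1 a b e (Nat.dvd_antisymm (per.1 ((h1.2 _ (mem_zp.2 ⟨_, rfl⟩)).1.2 (per.2 dvd_rfl)))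
      (per.1 ((h1.2 _ (mem_zp.2 ⟨_, rfl⟩)).1.1 (per.2 dvd_rfl))))).exists_pow_eq'
    exact ⟨i, hi.2, (h1.2 _ (mem_zp.2 ⟨_, rfl⟩)).2.1 hi.2⟩
  by_cases e : x a = a
  · exact ((h.2 a b c e ((h1.2 x (mem_zpowers x)).1.1 e) ((h2.2 x (mem_zpowers x)).1.1 e)).resolve_left
      h1.1).resolve_left h2.1
  obtain ⟨i, rfl, hi⟩ := key h1 e
  obtain ⟨j, rfl, hj⟩ := key h2 e
  exact half h1.1.symm h2.1.symm hi hj

omit [DecidableEq α] in
theorem C_of (hx : IsPGroup 2 (zpowers x)) (h : ∀ a b c, T0 x a b → T0 x a c → b = c) : C x := by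
  refine ⟨fun a b h1 h2 => by_contra fun h3 => ?_, fun a b c h1 h2 h3 => by_contra fun h4 => ?_⟩
  · obtain ⟨k, hk⟩ := hx ⟨x, mem_zpowers x⟩
    obtain ⟨j, -, hj⟩ := (Nat.dvd_prime_pow Nat.prime_two).1 ((per (a := a)).1
      (by rw [show x ^ 2 ^ k = 1 from congrArg Subtype.val hk]; rfl))
    obtain ⟨j, rfl⟩ : ∃ i, j = i + 1 := ⟨j - 1, by
      rcases j with _ | j
      · exact absurd ((per (x := x) (a := a) (k := 1)).2 (by simp [hj])) (by simpa using h1)
      · rfl⟩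
    have h4 : (x ^ 2 ^ j) ((x ^ 2 ^ j) a) = a := by rw [← Perm.mul_apply, ← pow_add, per, hj, ← two_mul, pow_succ']
    refine h3 (h a ((x ^ 2 ^ j) a) b ⟨fun e => ?_, fun y hy => ?_⟩ ⟨fun e => h3 (e ▸ .rfl), fun y hy => ?_⟩ ▸
      (SameCycle.refl x a).pow_right)
    · have := Nat.le_of_dvd (by positivity) (hj ▸ per.1 e.symm)
      exact this.not_gt (Nat.pow_lt_pow_right one_lt_two (by omega))
    · obtain ⟨i, rfl⟩ := mem_zp.1 hy
      have e : (x ^ i) ((x ^ 2 ^ j) a) = (x ^ 2 ^ j) ((x ^ i) a) := by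
        rw [← Perm.mul_apply, ← pow_add, add_comm, pow_add, Perm.mul_apply]
      rw [e, (x ^ 2 ^ j).apply_eq_iff_eq]
      exact ⟨.rfl, fun h => by rw [h, h4], fun h => (x ^ 2 ^ j).injective (h.trans h4.symm)⟩
    · obtain ⟨i, rfl⟩ := mem_zp.1 hy
      exact ⟨by rw [per, per, h2], iff_of_false (fun e => h3 (e ▸ (SameCycle.refl x a).pow_right))
        fun e => h3 (e ▸ (SameCycle.refl x b).pow_left)⟩
  · push Not at h4
    have key : ∀ {a b}, a ≠ b → x a = a → x b = b → T0 x a b := fun h h1 h2 => ⟨h, fun y hy => by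
      obtain ⟨i, rfl⟩ := mem_zp.1 hy
      simp [pow_apply_eq_self_of_apply_eq_self h1, pow_apply_eq_self_of_apply_eq_self h2, h, h.symm]⟩
    exact h4.2.2 (h a b c (key h4.1 h1 h2) (key h4.2.1 h1 h3))

theorem cover (P : Sylow 2 (Perm α)) {a b : α} (h : a ≠ b) :
    (∃ c, a ≠ c ∧ swap a c ∈ P) ∨ ∃ c, b ≠ c ∧ swap b c ∈ P := by
  classical
  by_contra h1
  obtain ⟨f, f1, -, f2, f3⟩ := cycle_mem (H := P) (e := 1) (U := {a | ¬ ∃ c, a ≠ c ∧ swap a c ∈ P}) Nat.prime_two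
    one_ne_zero (M := ⊤) (by rw [relIndex_top_right]; exact P.not_dvd_index) (fun g hg a ha => by
      simp only [mem_filter, mem_univ, true_and] at ha ⊢
      rintro ⟨c, h2, h3⟩
      obtain ⟨c, rfl⟩ := g.surjective c
      refine ha ⟨c, fun e => h2 (e ▸ rfl), ?_⟩
      rwa [swap_apply_apply, ← SetLike.mem_coe, P.coe_coe.symm, SetLike.mem_coe, P.1.mul_mem_cancel_right (inv_mem hg),
        P.1.mul_mem_cancel_left hg] at h3)
    (one_lt_card.2 ⟨a, by simpa using fun e => h1 (.inl e), b, by simpa using fun e => h1 (.inr e), h⟩) (.inl rfl)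
  obtain ⟨c, d, h2, rfl⟩ := card_support_eq_two.1 f2
  exact (mem_filter.1 (f3 (show c ∈ _ by simp [support_swap h2]))).2 ⟨d, h2, f1⟩

end

theorem uniq : ∀ (n : ℕ) {α : Type} [Fintype α] [DecidableEq α], Fintype.card α = n → ∀ {x : Perm α}, C x →
    ∀ P Q : Sylow 2 (Perm α), x ∈ P → x ∈ Q → P = Q := by
  intro n
  induction n using Nat.strong_induction_on with | _ n ih => ?_
  intro α _ _ hn x hx P Q hP hQ
  classical
  rcases isEmpty_or_nonempty α with e | ⟨⟨o⟩⟩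
  · exact Sylow.ext (Subsingleton.elim _ _)
  have key : ∀ P Q : Sylow 2 (Perm α), x ∈ P → x ∈ Q → ∀ t : Perm α, t.IsSwap → t ∈ P → t ∈ Q := by
    rintro P Q hP hQ _ ⟨a, b, h, rfl⟩ ht
    rcases cover Q h with ⟨c, h1, h2⟩ | ⟨c, h1, h2⟩
    · rwa [hx.uniq (T0_of_mem P.2 hP ht h) (T0_of_mem Q.2 hQ h2 h1)]
    · rwa [swap_comm, hx.uniq (T0_of_mem P.2 hP (swap_comm a b ▸ ht) h.symm) (T0_of_mem Q.2 hQ h2 h1)]
  let T : Finset (Perm α) := {t | t.IsSwap ∧ t ∈ P}
  have hT : ∀ {t}, t ∈ T ↔ t.IsSwap ∧ t ∈ P := by simp [T]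
  have u : ∀ {t s z}, t ∈ T → s ∈ T → t z ≠ z → s z ≠ z → t = s := fun {t s z} ht hs h1 h2 => by
    have e1 := swap_form (hT.1 ht).1 h1
    have e2 := swap_form (hT.1 hs).1 h2
    rw [e1, e2, swap_eq P.2 (e1 ▸ (hT.1 ht).2) (e2 ▸ (hT.1 hs).2) h1.symm h2.symm]
  have d : (T : Set (Perm α)).Pairwise Perm.Disjoint := fun t ht s hs h z => by
    by_contra! e; exact h (u ht hs e.1 e.2)
  obtain ⟨w, hw⟩ : ∃ w : Perm α, w.cycleFactorsFinset = T :=
    ⟨_, cycleFactorsFinset_eq_finset.2 ⟨fun f hf => (hT.1 hf).1.isCycle, d, rfl⟩⟩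
  have cj : ∀ {t : Perm α} (g), t.IsSwap → (g * t * g⁻¹).IsSwap := by
    rintro _ g ⟨a, b, h, rfl⟩
    exact ⟨g a, g b, g.injective.ne h, (swap_apply_apply g a b).symm⟩
  have le : ∀ Q : Sylow 2 (Perm α), x ∈ Q → (Q : Subgroup (Perm α)) ≤ centralizer {w} := fun Q hQ g hg =>
    mem_centralizer_singleton_iff.2 (mul_inv_eq_iff_eq_mul.1 (cycleFactorsFinset_injective (by
      rw [← ConjAct.toConjAct_smul, cycleFactorsFinset_conj, hw]
      refine eq_of_subset_of_card_le (fun t ht => ?_) (by simp)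
      obtain ⟨s, hs, rfl⟩ := Finset.mem_map.1 ht
      exact hT.2 ⟨cj g (hT.1 hs).1, key Q P hQ hP _ (cj g (hT.1 hs).1)
        (mul_mem (mul_mem hg (key P Q hP hQ _ (hT.1 hs).1 (hT.1 hs).2)) (inv_mem hg))⟩)))
  let φ := OnCycleFactors.toPermHom w
  have sw : ∀ t : w.cycleFactorsFinset, t.1 ∈ T := fun t => hw ▸ t.2
  have c2 : ∀ t : w.cycleFactorsFinset, #t.1.support = 2 := fun t => card_support_eq_two.2 (hT.1 (sw t)).1
  have hφ : Function.Surjective φ := fun τ => OnCycleFactors.mem_range_toPermHom_iff.2 fun c => by rw [c2, c2]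
  have hK : IsPGroup 2 φ.ker := fun ⟨g, hg⟩ => ⟨1, Subtype.ext (Subtype.ext (Equiv.ext fun a => by
    have h1 := (OnCycleFactors.mem_ker_toPermHom_iff w g).1 hg
    rw [hw] at h1
    change g.1 (g.1 a) = a
    by_contra h2
    have h3 : ∀ a, (∃ c, a ≠ c ∧ swap a c ∈ P) → g.1 (g.1 a) = a := by
      rintro a ⟨c, h4, h5⟩
      have h6 := (h1 _ (hT.2 ⟨⟨a, c, h4, rfl⟩, h5⟩)).eq
      have h7 := supp_inv h6 (a := a) (by simp [support_swap h4])
      have h8 := congrArg (· a) h6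
      simp only [support_swap h4, mem_insert, Finset.mem_singleton] at h7
      rcases h7 with h7 | h7
      · rw [h7, h7]
      · simpa [h7] using h8
    rcases cover P (a := a) (b := g.1 a) (fun e => h2 (by rw [← e, ← e])) with h4 | h4
    exacts [h2 (h3 a h4), h2 (g.1.injective (h3 _ h4))]))⟩
  let y := φ ⟨x, le P hP hP⟩
  have hy : ∀ (k : ℕ) (t : w.cycleFactorsFinset), ((y ^ k) t).1 = x ^ k * t * (x ^ k)⁻¹ := fun k t => by
    rw [← map_pow]; rfl
  have mv : ∀ (k : ℕ) (t : w.cycleFactorsFinset) {a}, t.1 a ≠ a → ((y ^ k) t).1 ((x ^ k) a) ≠ (x ^ k) a :=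
    fun k t a h => by simpa [hy] using h
  have ex : ∀ t : w.cycleFactorsFinset, ∃ a, t.1 a ≠ a := fun t =>
    (card_pos.1 (show 0 < #t.1.support by rw [c2]; omega)).imp fun _ => mem_support.1
  have fx : ∀ (k : ℕ) (t : w.cycleFactorsFinset) {a}, t.1 a ≠ a →
      ((y ^ k) t = t ↔ (x ^ k) a = a ∨ (x ^ k) a = t.1 a) := fun k t a h => by
    have e := swap_form (hT.1 (sw t)).1 h
    refine ⟨fun h1 => eq_or_eq_of_swap_apply_ne_self (e ▸ h1 ▸ mv k t h), fun h1 => Subtype.ext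
      (u (sw _) (sw t) (mv k t h) ?_)⟩
    rcases h1 with h1 | h1 <;> rw [h1]
    exacts [h, t.1.injective.ne h]
  have t0 : ∀ (t : w.cycleFactorsFinset) {a}, t.1 a ≠ a → T0 x a (t.1 a) := fun t a h =>
    T0_of_mem P.2 hP (swap_form (hT.1 (sw t)).1 h ▸ (hT.1 (sw t)).2) h.symm
  have pr : ∀ (t : w.cycleFactorsFinset) {a}, t.1 a ≠ a → x a ≠ a → period x a = 2 * period y t := fun t a h e => by
    have h1 := t0 t h
    obtain ⟨i, -, hi⟩ := (hx.1 a _ e (Nat.dvd_antisymm (per.1 ((h1.2 _ (mem_zp.2 ⟨_, rfl⟩)).1.2 (per.2 dvd_rfl)))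
      (per.1 ((h1.2 _ (mem_zp.2 ⟨_, rfl⟩)).1.1 (per.2 dvd_rfl))))).exists_pow_eq'
    have h2 : ¬ period x a ∣ period y t := fun d => h (hi ▸ per.2 (d.trans (per.1 ((fx i t h).2 (.inr hi)))))
    have h3 := ((fx _ t h).1 (per.2 dvd_rfl)).resolve_left (mt per.1 h2)
    obtain ⟨c, hc⟩ := per.1 ((fx _ t h).2 (.inl (per.2 dvd_rfl)))
    have h4 : period x a ∣ period y t * 2 := per.1 (by
      rw [mul_two, pow_add, Perm.mul_apply, h3, (h1.2 _ (mem_zp.2 ⟨_, rfl⟩)).2.1 h3])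
    rw [hc, Nat.mul_dvd_mul_iff_left (period_pos_of_orderOf_pos (orderOf_pos y) t), Nat.dvd_prime Nat.prime_two] at h4
    rw [hc, h4.resolve_left fun e => h2 (by simp [hc, e]), mul_comm]
  have sc : ∀ (t s : w.cycleFactorsFinset) {a b}, t.1 a ≠ a → s.1 b ≠ b → x a ≠ a → x b ≠ b →
      period y t = period y s → y.SameCycle t s := fun t s a b h1 h2 h3 h4 h5 => by
    obtain ⟨i, -, rfl⟩ := (hx.1 a b h3 (by rw [pr t h1 h3, pr s h2 h4, h5])).exists_pow_eq'
    exact Subtype.ext (u (sw _) (sw s) (mv i t h1) h2) ▸ (SameCycle.refl y t).pow_right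
  have f1 : ∀ (t : w.cycleFactorsFinset) {a}, t.1 a ≠ a → x a = a → y t = t := fun t a h e => by
    simpa using (fx 1 t h).2 (.inl (by simpa))
  have hC : C y := by
    refine ⟨fun t s h1 h2 => ?_, fun t s r h1 h2 h3 => ?_⟩
    · obtain ⟨a, ha⟩ := ex t
      obtain ⟨b, hb⟩ := ex s
      refine sc t s ha hb (mt (f1 t ha) h1) (fun e => h1 ?_) h2
      simpa using (per (x := y) (a := t) (k := 1)).2 (h2 ▸ (per (x := y) (a := s)).1 (by simpa using f1 s hb e))
    have two : ∀ {t s : w.cycleFactorsFinset} {a b}, y t = t → y s = s → t.1 a ≠ a → s.1 b ≠ b →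
        (x a = a ↔ x b = b) → t = s := fun {t s a b} h1 h2 ha hb e => by
      by_cases h : x a = a
      · rcases hx.2 a b _ h (e.1 h) (((t0 t ha).2 x (mem_zpowers x)).1.1 h) with rfl | h4 | rfl
        exacts [Subtype.ext (u (sw t) (sw s) ha hb), absurd h4.symm ha,
          Subtype.ext (u (sw t) (sw s) (t.1.injective.ne ha) hb)]
      · exact (sc t s ha hb h (mt e.2 h) (by
          rw [period_eq_one_iff.2 h1, period_eq_one_iff.2 h2])).eq_of_left h1
    obtain ⟨a, ha⟩ := ex t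
    obtain ⟨b, hb⟩ := ex s
    obtain ⟨c, hc⟩ := ex r
    have := two h1 h2 ha hb
    have := two h1 h3 ha hc
    have := two h2 h3 hb hc
    tauto
  have lt : Fintype.card w.cycleFactorsFinset < n := by
    have h1 := sum_cycleType_le w
    rw [cycleType_def, ← Finset.sum_eq_multiset_sum, sum_congr rfl fun t ht => c2 ⟨t, ht⟩] at h1
    have := Fintype.card_pos_iff.2 ⟨o⟩
    simp at h1 ⊢
    omega
  have h1 := congrArg (fun S : Sylow 2 _ => S.1.comap φ) (ih _ lt rfl hC ((P.subtype (le P hP)).mapSurjective hφ)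
    ((Q.subtype (le Q hQ)).mapSurjective hφ) (mem_map_of_mem φ hP) (mem_map_of_mem φ hQ))
  simp only [Sylow.coe_mapSurjective, comap_map_eq_self (hK.le_sylow_of_normal _)] at h1
  exact Sylow.ext (by simpa [le P hP, le Q hQ] using congrArg (map (centralizer {w}).subtype) h1)

/-- Let n ≥ 2 and let x be an element of 2-power order of the symmetric group of degree n. Then x lies in exactly one Sylow 2-subgroup if and only if x has at most two fixed points and the nontrivial cycles of x have pairwise different lengths. -/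
theorem result (n : ℕ) (hn : 2 ≤ n)
    (x : Equiv.Perm (Fin n)) (hx : ∃ k : ℕ, orderOf x = 2 ^ k) :
    (∃! P : Sylow 2 (Equiv.Perm (Fin n)), x ∈ P) ↔ (n ≤ x.support.card + 2 ∧ x.cycleType.Nodup) := by
  have h1 : IsPGroup 2 (zpowers x) := hx.elim fun k hk => .of_card (by rw [Nat.card_zpowers, hk])
  have h2 : ∀ a ∈ x.support, #(x.cycleOf a).support = period x a := fun a ha => by
    have h := isCycle_cycleOf x (mem_support.1 ha)
    have h3 : ∀ k, #(x.cycleOf a).support ∣ k ↔ period x a ∣ k := fun k => by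
      rw [← h.orderOf, orderOf_dvd_iff_pow_eq_one, h.pow_eq_one_iff' (x := a) (by simpa using ha),
        cycleOf_pow_apply_self, per]
    exact Nat.dvd_antisymm ((h3 _).2 dvd_rfl) ((h3 _).1 dvd_rfl)
  have h3 : C x ↔ n ≤ x.support.card + 2 ∧ x.cycleType.Nodup := by
    rw [C, and_comm, cycleType_def, Multiset.nodup_map_iff_inj_on x.cycleFactorsFinset.nodup]
    refine and_congr ?_ ⟨fun h c hc d hd e => ?_, fun h a b ha e => ?_⟩
    · have := card_add_card_compl x.support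
      rw [Fintype.card_fin] at this
      rw [show n ≤ #x.support + 2 ↔ ¬ 2 < #x.supportᶜ by omega, two_lt_card_iff]
      simp only [mem_compl, notMem_support]
      exact ⟨fun h ⟨a, b, c, h1, h2, h3, h4⟩ => by have := h a b c h1 h2 h3; tauto,
        fun h a b c h1 h2 h3 => by_contra fun e => h ⟨a, b, c, h1, h2, h3, by tauto⟩⟩
    · change c ∈ x.cycleFactorsFinset at hc
      change d ∈ x.cycleFactorsFinset at hd
      obtain ⟨a, ha⟩ := (mem_cycleFactorsFinset_iff.1 hc).1.nonempty_support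
      obtain ⟨b, hb⟩ := (mem_cycleFactorsFinset_iff.1 hd).1.nonempty_support
      have a1 := mem_cycleFactorsFinset_support_le hc ha
      have b1 := mem_cycleFactorsFinset_support_le hd hb
      rw [cycle_is_cycleOf ha hc, cycle_is_cycleOf hb hd] at e ⊢
      exact (h a b (mem_support.1 a1) ((h2 a a1).symm.trans (e.trans (h2 b b1)))).cycleOf_eq
    · have a1 := mem_support.2 ha
      have b1 : b ∈ x.support := mem_support.2 fun h => ha (period_eq_one_iff.1 (e.trans (period_eq_one_iff.2 h)))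
      exact (sameCycle_iff_cycleOf_eq_of_mem_support a1 b1).2 (h _ (cycleOf_mem_cycleFactorsFinset_iff.2 a1) _
        (cycleOf_mem_cycleFactorsFinset_iff.2 b1) ((h2 a a1).trans (e.trans (h2 b b1).symm)))
  rw [← h3]
  refine ⟨fun ⟨P, _, hP⟩ => C_of h1 fun a b c h4 h5 => ?_, fun h => ?_⟩
  · obtain ⟨Q, q1, q2⟩ := exists_sylow h1 h4
    obtain ⟨R, r1, r2⟩ := exists_sylow h1 h5
    exact swap_eq P.2 (hP Q q1 ▸ q2) (hP R r1 ▸ r2) h4.1 h5.1
  · obtain ⟨P, hP⟩ := h1.exists_le_sylow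
    exact ⟨P, hP (mem_zpowers x), fun Q hQ => uniq _ rfl h Q P hQ (hP (mem_zpowers x))⟩

end Cfsg.Agent.S4349
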