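import Cfsg.Statements.S4363
import Cfsg.Agent.H24.Tu7
-- import your own Cfsg.Agent.* helpers here

set_option autoImplicit false
open Cfsg

namespace Cfsg.Agent.S4363

/-- Let G be a finite solvable group and σ an automorphism of G of prime order r not dividing the order of G, with fixed-point subgroup C. Then the Fitting height of G exceeds that of C by at most 2: if C has a chain of normal subgroups 1 = C₀ ≤ ⋯ ≤ Cₙ = C with nilpotent factors, then G has such a chain of length n + 2. -/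
theorem result {G : Type*} [Group G] [Finite G]
    (hG : Group.IsSolvable G) (σ : MulAut G) (r : ℕ) (hr : r.Prime) (hσ : orderOf σ = r) (hcop : ¬ r ∣ Nat.card G)
    (C : Subgroup G) (hC : ∀ g : G, g ∈ C ↔ σ g = g) (n : ℕ) (hn : (∃ F : Fin (n + 1) → Subgroup ↥C, F 0 = ⊥ ∧ F (Fin.last n) = ⊤ ∧ Monotone F ∧ (∀ i, (F i).Normal) ∧ ∀ i : Fin n, ∃ k : ℕ, (F i.succ).lowerCentralSeries k ≤ F i.castSucc)) :
    (∃ F : Fin ((n + 2) + 1) → Subgroup G, F 0 = ⊥ ∧ F (Fin.last (n + 2)) = ⊤ ∧ Monotone F ∧ (∀ i, (F i).Normal) ∧ ∀ i : Fin (n + 2), ∃ k : ℕ, (F i.succ).lowerCentralSeries k ≤ F i.castSucc) := by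
  let φ := (Subgroup.zpowers σ).subtype
  have : Finite (G ⋊[φ] Subgroup.zpowers σ) := Finite.of_equiv _ SemidirectProduct.equivProd.symm
  obtain rfl : C = fixedSubgroup σ := Subgroup.ext hC
  refine (H03.chain_iff _).2 ((H03.resn_sK φ _).1 (H24.Tu.turull (σ := .inr ⟨σ, Subgroup.mem_zpowers σ⟩) hr (H03.sol_sK φ hG)
    (H03.sA_norm φ ⟨_, rfl⟩) (by rwa [H03.card_sK]) ?_ ?_))
  · rw [← map_pow, ← map_one SemidirectProduct.inr]
    exact congrArg _ (Subtype.ext (hσ ▸ pow_orderOf_eq_one σ))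
  · rw [H03.sK_cent1, H03.resn_map_inj SemidirectProduct.inl_injective]
    exact (H03.resn_top_iff _ _).1 ((H03.chain_iff _).1 hn)

end Cfsg.Agent.S4363
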