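import Cfsg.Statements.S4376
import Mathlib
import Cfsg.Agent.H27.PKo
-- import your own Cfsg.Agent.* helpers here

set_option autoImplicit false
open Cfsg

namespace Cfsg.Agent.S4376

open scoped Pointwise commutatorElement

open H13 H14.PK H14.PK.TS H27.PKx

noncomputable def g1L : List ℕ :=
  [nat_lit 0x187105083001, nat_lit 0x147043184080, nat_lit 0xc21c6144040]

noncomputable def g1p : List (List ℕ) :=
  []

noncomputable def g1c : Ch :=
  [(nat_lit 0, [nat_lit 0x1c61440c2040, nat_lit 0x187105083001, nat_lit 0x1c50c1106002, nat_lit 0x184080147043, nat_lit 0x1411820c7004, nat_lit 0x1c3100045086, nat_lit 0x861001c3045, nat_lit 0x1821410040c7]),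
   (nat_lit 1, [nat_lit 0x1c61440c2040, nat_lit 0x147043184080, nat_lit 0x450861c3100, nat_lit 0x811071460c0, nat_lit 0x471020c5180, nat_lit 0x1011831c2140, nat_lit 0x850c41811c0]),
   (nat_lit 2, [nat_lit 0x1c61440c2040, nat_lit 0xc21c6144040, nat_lit 0x1440c21c6040])]

noncomputable def g1s : List (List ℕ × ℕ) :=
  [([nat_lit 0x187105083001], nat_lit 0x1000000020002000100010001000100000000000000010000000000000004),
   ([nat_lit 0x147043184080], nat_lit 0x10000000100010001000100000000000000000000000000000003),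
   ([nat_lit 0xc21c6144040], nat_lit 2)]

noncomputable def g1T : ℕ :=
  nat_lit 0x300038000000000038000700010000

noncomputable def g2L : List ℕ :=
  [nat_lit 0x6585d65544d24503ce34c2ca2481c0185103081, nat_lit 0x6585d65544d24503ce34c2ca2481c50c1184080, nat_lit 0x6585d65544d24503ce34c2ca1c92061440c2040, nat_lit 0x2ca6585d65544d24503ce34c2091c1083105180, nat_lit 0x50d58f61129331539741948b2091c1083105180]

noncomputable def g2p : List (List ℕ) :=
  [[nat_lit 4, nat_lit 3], [nat_lit 4, nat_lit 4]]

noncomputable def g2c : Ch :=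
  [(nat_lit 0, [nat_lit 0x6585d65544d24503ce34c2ca2481c61440c2040, nat_lit 0x6585d65544d24503ce34c2ca2481c0185103081, nat_lit 0x6585d65544d24503ce34c2ca2481c10061440c2, nat_lit 0x2ca6585d65544d24503ce34c2091c00420c4146, nat_lit 0x6585d65544d24503ce34c2ca2481c2040185103, nat_lit 0x6585d65544d24503ce34c2ca2481c20050c1184, nat_lit 0x2ca6585d65544d24503ce34c2091c6001083105]),
   (nat_lit 1, [nat_lit 0x6585d65544d24503ce34c2ca2481c61440c2040, nat_lit 0x6585d65544d24503ce34c2ca2481c50c1184080, nat_lit 0x2ca6585d65544d24503ce34c2091c1083105180, nat_lit 0x6585d65544d24503ce34c2ca2481c3182141100, nat_lit 0x2ca6585d65544d24503ce34c2091c2106043140, nat_lit 0x2ca6585d65544d24503ce34c2091c40450860c0]),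
   (nat_lit 7, [nat_lit 0x6585d65544d24503ce34c2ca2481c61440c2040, nat_lit 0x6585d65544d24503ce34c2ca1c92061440c2040, nat_lit 0x6585d65544d24503ce34c2ca2072461440c2040]),
   (nat_lit 10, [nat_lit 0x6585d65544d24503ce34c2ca2481c61440c2040, nat_lit 0x48b50d58f6112933153974192481c61440c2040, nat_lit 0x34c2ca6585d65544d24503ce2481c61440c2040, nat_lit 0x4503ce34c2ca6585d65544d22481c61440c2040, nat_lit 0x58f61129331539741948b50d2481c61440c2040, nat_lit 0x39741948b50d58f6112933152481c61440c2040, nat_lit 0x29331539741948b50d58f6112481c61440c2040, nat_lit 0x5544d24503ce34c2ca6585d62481c61440c2040])]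

noncomputable def g2s : List (List ℕ × ℕ) :=
  [([nat_lit 0x6585d65544d24503ce34c2ca2481c0185103081], nat_lit 0x30002000200010001000000010002000000000000000000000008),
   ([nat_lit 0x6585d65544d24503ce34c2ca2481c50c1184080, nat_lit 0x2ca6585d65544d24503ce34c2091c1083105180, nat_lit 0x50d58f61129331539741948b2091c1083105180], nat_lit 0x100010002000100010000000100010000000000000007),
   ([nat_lit 0x6585d65544d24503ce34c2ca1c92061440c2040], nat_lit 4),
   ([nat_lit 0x48b50d58f6112933153974192481c61440c2040, nat_lit 0x34c2ca6585d65544d24503ce2481c61440c2040], nat_lit 0x3000100020000000200000002000100010000000100010000000000000003)]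

noncomputable def g2T : ℕ :=
  nat_lit 0x4800000000000000000000000000000000000000000000000000000000000000000000000000000000000000000000000000000000000000000000000000000000000000000000000000000000000000000000000c0000000000000000000000000000000000000000000000000000002400000000000000a800000000000c0000000000000000000000000006000001b000000000000000540006002c0000005a002c000100010000

noncomputable def g3L : List ℕ :=
  [nat_lit 0x228607de75c6da6585d65544d24503ce34c2ca2481c0185103081, nat_lit 0x195932e15cf32269035e6d839f71446075548a2481c50c1184080, nat_lit 0x1b75a7194534123e089f85e59855750c38b34a2481c61440c2040, nat_lit 0x228607de75c6da6585d65544d24503ce34c2c7289201083105180, nat_lit 0x1c69d6d94904d13e17e281e5d561650d2ce30824a1c61440c2040]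

noncomputable def g3p : List (List ℕ) :=
  [[nat_lit 2, nat_lit 4], [nat_lit 2, nat_lit 2, nat_lit 3, nat_lit 2], [nat_lit 4, nat_lit 5, nat_lit 5, nat_lit 6]]

noncomputable def g3c : Ch :=
  [(nat_lit 0, [nat_lit 0x228607de75c6da6585d65544d24503ce34c2ca2481c61440c2040, nat_lit 0x228607de75c6da6585d65544d24503ce34c2ca2481c0185103081, nat_lit 0x228607de75c6da6585d65544d24503ce34c2ca2481c10061440c2, nat_lit 0x228607de75c6da6585d65544d24503ce34c2c72892000420c4146, nat_lit 0x228607de75c6da6585d65544d24503ce34c2ca2481c2040185103, nat_lit 0x195932e15cf32269035e6d839f71446075548a2481c20050c1184, nat_lit 0x228607de75c6da6585d65544d24503ce34c2c7289206001083105]),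
   (nat_lit 1, [nat_lit 0x228607de75c6da6585d65544d24503ce34c2ca2481c61440c2040, nat_lit 0x195932e15cf32269035e6d839f71446075548a2481c50c1184080, nat_lit 0x228607de75c6da6585d65544d24503ce34c2c7289201083105180, nat_lit 0x1a78e49635155989476131080b3d87135db7ca2481c3182141100, nat_lit 0x195932e15cf32269035e6d839f714460755487289202106043140, nat_lit 0x1a78e49635155989476131080b3d87135db7c72892040450860c0]),
   (nat_lit 11, [nat_lit 0x228607de75c6da6585d65544d24503ce34c2ca2481c61440c2040, nat_lit 0x1b75a7194534123e089f85e59855750c38b34a2481c61440c2040, nat_lit 0x1c69d6d94904d13e17e281e5d561650d2ce30824a1c61440c2040, nat_lit 0x1c4a15cd6907d52dd4e260e6d18163193de50a2481c61440c2040, nat_lit 0x104524cf5565d851a6dc7597e086278b30d38a2481c61440c2040, nat_lit 0x1f69540b81b59132171748d89d61339e6543ca2481c61440c2040, nat_lit 0x1055a7cb4566e03125dc84d4d876238f51978824a1c61440c2040, nat_lit 0x1785270d55f41a2d889374e5a045b31478f64824a1c61440c2040]),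
   (nat_lit 8, [nat_lit 0x228607de75c6da6585d65544d24503ce34c2ca2481c61440c2040, nat_lit 0x1349140f61759551d71b6998a181f78e34c2c824a1c61440c2040]),
   (nat_lit 7, [nat_lit 0x228607de75c6da6585d65544d24503ce34c2ca2481c61440c2040, nat_lit 0x1349140f61759551d71b6998a181f78e34c2ca1c82461440c2040])]

noncomputable def g3s : List (List ℕ × ℕ) :=
  [([nat_lit 0x228607de75c6da6585d65544d24503ce34c2ca2481c0185103081], nat_lit 0x30002000200010001000000010002000000000000000000000009),
   ([nat_lit 0x195932e15cf32269035e6d839f71446075548a2481c50c1184080, nat_lit 0x228607de75c6da6585d65544d24503ce34c2c7289201083105180], nat_lit 0x100010002000100010000000100010000000000000008),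
   ([nat_lit 0x1b75a7194534123e089f85e59855750c38b34a2481c61440c2040, nat_lit 0x1c69d6d94904d13e17e281e5d561650d2ce30824a1c61440c2040, nat_lit 0x1c4a15cd6907d52dd4e260e6d18163193de50a2481c61440c2040], nat_lit 0x3000300030002000300020002000000020002000100010000000000000006),
   ([nat_lit 0x1349140f61759551d71b6998a181f78e34c2c824a1c61440c2040], nat_lit 3),
   ([nat_lit 0x1349140f61759551d71b6998a181f78e34c2ca1c82461440c2040], nat_lit 2)]

noncomputable def g3T : ℕ :=
  nat_lit 0x600000000000000000000000000000000000000000000000000000005a000002a00000000000000000000600a80000009c0038006300010000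

noncomputable def h1L : List ℕ :=
  [nat_lit 0x185103081, nat_lit 0x50c1184080]

noncomputable def h1p : List (List ℕ) :=
  []

noncomputable def h1c : Ch :=
  [(nat_lit 0, [nat_lit 0x61440c2040, nat_lit 0x185103081, nat_lit 0x10061440c2, nat_lit 0x2040185103, nat_lit 0x20050c1184, nat_lit 0x4080143046, nat_lit 0x3046102005]),
   (nat_lit 1, [nat_lit 0x61440c2040, nat_lit 0x50c1184080, nat_lit 0x3182141100])]

noncomputable def h1s : List (List ℕ × ℕ) :=
  [([nat_lit 0x185103081], nat_lit 0x10000000100010001000100000000000000000000000000000003),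
   ([nat_lit 0x50c1184080], nat_lit 2)]

noncomputable def h1T : ℕ :=
  nat_lit 0x6000000000000000e000000010000

noncomputable def h2L : List ℕ :=
  [nat_lit 0xe34c2ca2481c3185100081, nat_lit 0x81ce34c2ca2441460c2040, nat_lit 0xd28730938b2041460c2040]

noncomputable def h2p : List (List ℕ) :=
  [[nat_lit 2, nat_lit 1], [nat_lit 1, nat_lit 1, nat_lit 1, nat_lit 1, nat_lit 1, nat_lit 1, nat_lit 2], [nat_lit 2, nat_lit 2, nat_lit 2]]

noncomputable def h2c : Ch :=
  [(nat_lit 0, [nat_lit 0xe34c2ca2481c61440c2040, nat_lit 0xe34c2ca2481c3185100081, nat_lit 0xe34c2ca2481c40c6141002]),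
   (nat_lit 4, [nat_lit 0xe34c2ca2481c61440c2040, nat_lit 0x81ce34c2ca2441460c2040, nat_lit 0xe34c2ca2481c5103182040, nat_lit 0x81ce34c2ca243105182040]),
   (nat_lit 7, [nat_lit 0xe34c2ca2481c61440c2040, nat_lit 0xb20d2873093861440c2040, nat_lit 0x81ce34c2ca2460c4142040, nat_lit 0xa2481ce34c2c61440c2040, nat_lit 0xd28730938b2060c4142040, nat_lit 0x938b20d2873060c4142040, nat_lit 0x730938b20d2861440c2040, nat_lit 0xc2ca2481ce3460c4142040])]

noncomputable def h2s : List (List ℕ × ℕ) :=
  [([nat_lit 0xe34c2ca2481c3185100081], nat_lit 7),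
   ([nat_lit 0x81ce34c2ca2441460c2040, nat_lit 0xd28730938b2041460c2040, nat_lit 0xe34c2ca2481c5103182040], nat_lit 0x10002000100020000000000000006),
   ([nat_lit 0xb20d2873093861440c2040, nat_lit 0x81ce34c2ca2460c4142040], nat_lit 0x3000100020000000200000002000100010000000100010000000000000003)]

noncomputable def h2T : ℕ :=
  nat_lit 0x380000000000000000000000060000001c0002000300010000

noncomputable def h3L : List ℕ :=
  [nat_lit 0xe34c2ca2481c0185103081, nat_lit 0xe34c2c7289201083105180, nat_lit 0xe2cd30a2481c50c1184080, nat_lit 0xd38b30a2481c61440c2040]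

noncomputable def h3p : List (List ℕ) :=
  [[nat_lit 1, nat_lit 1], [nat_lit 3, nat_lit 3, nat_lit 4, nat_lit 3]]

noncomputable def h3c : Ch :=
  [(nat_lit 0, [nat_lit 0xe34c2ca2481c61440c2040, nat_lit 0xe34c2ca2481c0185103081, nat_lit 0xe34c2ca2481c10061440c2, nat_lit 0xe34c2c72892000420c4146, nat_lit 0xe34c2ca2481c2040185103, nat_lit 0xe34c2c7289206001083105, nat_lit 0xe2cd30a2481c20050c1184]),
   (nat_lit 1, [nat_lit 0xe34c2ca2481c61440c2040, nat_lit 0xe34c2c7289201083105180, nat_lit 0xe2cd30a2481c50c1184080, nat_lit 0xe2cd307289202106043140, nat_lit 0xe30b34a2481c3182141100, nat_lit 0xe30b3472892040450860c0]),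
   (nat_lit 11, [nat_lit 0xe34c2ca2481c61440c2040, nat_lit 0xd38b30a2481c61440c2040, nat_lit 0xc2ce34a2481c61440c2040, nat_lit 0xb30d38a2481c61440c2040]),
   (nat_lit 7, [nat_lit 0xe34c2ca2481c61440c2040, nat_lit 0xe34c2c81ca2461440c2040])]

noncomputable def h3s : List (List ℕ × ℕ) :=
  [([nat_lit 0xe34c2ca2481c0185103081], nat_lit 0x30002000200010001000000010001000000000000000000000007),
   ([nat_lit 0xe34c2c7289201083105180, nat_lit 0xe2cd30a2481c50c1184080], nat_lit 0x100010001000100010001000100010000000000000006),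
   ([nat_lit 0xd38b30a2481c61440c2040, nat_lit 0xc2ce34a2481c61440c2040], nat_lit 0x10001000100010000000000000004),
   ([nat_lit 0xe34c2c81ca2461440c2040], nat_lit 2)]

noncomputable def h3T : ℕ :=
  nat_lit 0x2a00000070000000000000000000060038000000380038000700010000

noncomputable def h4L : List ℕ :=
  [nat_lit 0x1c0185103081, nat_lit 0x1c40450860c0, nat_lit 0x1105083187]

noncomputable def h4p : List (List ℕ) :=
  [[nat_lit 2, nat_lit 0, nat_lit 2], [nat_lit 3, nat_lit 1, nat_lit 1, nat_lit 2, nat_lit 3]]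

noncomputable def h4c : Ch :=
  [(nat_lit 0, [nat_lit 0x1c61440c2040, nat_lit 0x1c0185103081, nat_lit 0x1105083187, nat_lit 0x1c10061440c2, nat_lit 0x70441420c6, nat_lit 0x1c0101142183, nat_lit 0x187003101085, nat_lit 0x70c5046084]),
   (nat_lit 1, [nat_lit 0x1c61440c2040, nat_lit 0x1c40450860c0, nat_lit 0x1831010851c0, nat_lit 0x1c50c1184080, nat_lit 0xc2047144180, nat_lit 0x1840870c1140, nat_lit 0x860c7045100]),
   (nat_lit 2, [nat_lit 0x1c61440c2040, nat_lit 0xc41c2185040, nat_lit 0x1820c5107040, nat_lit 0x105187083040, nat_lit 0x87103146040, nat_lit 0x1430861c4040])]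

noncomputable def h4s : List (List ℕ × ℕ) :=
  [([nat_lit 0x1c0185103081, nat_lit 0x1105083187], nat_lit 0x2000200020003000300020002000100010000000100010000000000000006),
   ([nat_lit 0x1c40450860c0, nat_lit 0x1831010851c0], nat_lit 0x10000000100010002000200010000000100010000000000000004),
   ([nat_lit 0xc41c2185040], nat_lit 2)]

noncomputable def h4T : ℕ :=
  nat_lit 0x54003000380000002a0038003100010000

noncomputable def b1L : List ℕ :=
  [nat_lit 0x187105083001, nat_lit 0x1441c60400c2, nat_lit 0xc20401c6144]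

noncomputable def b1q : List (List ℕ) :=
  [[nat_lit 1, nat_lit 0, nat_lit 1, nat_lit 1, nat_lit 1, nat_lit 1, nat_lit 1, nat_lit 1],
   [nat_lit 2, nat_lit 2, nat_lit 1, nat_lit 2, nat_lit 2, nat_lit 2, nat_lit 2, nat_lit 2]]

noncomputable def b1r : List (List ℕ) :=
  [[nat_lit 0, nat_lit 1],
   [nat_lit 1, nat_lit 3],
   [nat_lit 3, nat_lit 4],
   [nat_lit 3, nat_lit 4, nat_lit 5]]

noncomputable def b1p : List (List ℕ) :=
  []

noncomputable def b1c : Ch :=
  [(nat_lit 0, [nat_lit 0x1c61440c2040, nat_lit 0x187105083001, nat_lit 0x1441c60400c2, nat_lit 0xc20401c6144, nat_lit 0x105187001083, nat_lit 0x83001187105, nat_lit 0x400c21441c6, nat_lit 0x1083105187])]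

noncomputable def b1s : List (List ℕ × ℕ) :=
  [([nat_lit 0x187105083001, nat_lit 0x1441c60400c2, nat_lit 0xc20401c6144], nat_lit 0x2000200030002000300020002000100020002000100010000000000000004)]

noncomputable def b2L : List ℕ :=
  [nat_lit 0x6585d65544d24503ce34c2ca2481c0185103081]

noncomputable def b2r : List (List ℕ) :=
  [[nat_lit 0, nat_lit 0],
   [nat_lit 1, nat_lit 1, nat_lit 1],
   [nat_lit 2, nat_lit 2, nat_lit 2, nat_lit 2],
   [nat_lit 3, nat_lit 3, nat_lit 3, nat_lit 3, nat_lit 3],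
   [nat_lit 4, nat_lit 4, nat_lit 4, nat_lit 4, nat_lit 4, nat_lit 4]]

noncomputable def b2p : List (List ℕ) :=
  []

noncomputable def b2c : Ch :=
  [(nat_lit 0, [nat_lit 0x6585d65544d24503ce34c2ca2481c61440c2040, nat_lit 0x6585d65544d24503ce34c2ca2481c0185103081, nat_lit 0x6585d65544d24503ce34c2ca2481c10061440c2, nat_lit 0x6585d65544d24503ce34c2ca2481c2040185103, nat_lit 0x6585d65544d24503ce34c2ca2481c3081006144, nat_lit 0x6585d65544d24503ce34c2ca2481c40c2040185, nat_lit 0x6585d65544d24503ce34c2ca2481c5103081006])]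

noncomputable def b2s : List (List ℕ × ℕ) :=
  [([nat_lit 0x6585d65544d24503ce34c2ca2481c0185103081], nat_lit 2)]

noncomputable def b3L : List ℕ :=
  [nat_lit 0x228607de75c6da6585d65544d24503ce34c2ca2481c0185103081]

noncomputable def b3r : List (List ℕ) :=
  [[nat_lit 0, nat_lit 0],
   [nat_lit 1, nat_lit 1, nat_lit 1],
   [nat_lit 2, nat_lit 2, nat_lit 2, nat_lit 2],
   [nat_lit 3, nat_lit 3, nat_lit 3, nat_lit 3, nat_lit 3],
   [nat_lit 4, nat_lit 4, nat_lit 4, nat_lit 4, nat_lit 4, nat_lit 4]]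

noncomputable def b3p : List (List ℕ) :=
  []

noncomputable def b3c : Ch :=
  [(nat_lit 0, [nat_lit 0x228607de75c6da6585d65544d24503ce34c2ca2481c61440c2040, nat_lit 0x228607de75c6da6585d65544d24503ce34c2ca2481c0185103081, nat_lit 0x228607de75c6da6585d65544d24503ce34c2ca2481c10061440c2, nat_lit 0x228607de75c6da6585d65544d24503ce34c2ca2481c2040185103, nat_lit 0x228607de75c6da6585d65544d24503ce34c2ca2481c3081006144, nat_lit 0x228607de75c6da6585d65544d24503ce34c2ca2481c40c2040185, nat_lit 0x228607de75c6da6585d65544d24503ce34c2ca2481c5103081006])]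

noncomputable def b3s : List (List ℕ × ℕ) :=
  [([nat_lit 0x228607de75c6da6585d65544d24503ce34c2ca2481c0185103081], nat_lit 2)]

noncomputable def nx : ℕ :=
  nat_lit 0x1105083187

noncomputable def ny : ℕ :=
  nat_lit 0x1c0185103081

noncomputable def nz : ℕ :=
  nat_lit 0x1c60c0101142

noncomputable def nq : List (List ℕ) :=
  [[nat_lit 2],
   [nat_lit 1],
   [nat_lit 2, nat_lit 2, nat_lit 3]]

noncomputable abbrev g1S := SP 6 8 (by norm_num) (by norm_num)
theorem g1ss : (∀ t ∈ g1L, g1S.In ⊤ t) ∧ g1S.Full (g1S.cl g1L) g1c := ss_SP (pr := g1p) (sl := g1s) (by decide +kernel)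
theorem g1e (m : ℕ) : Nat.card {x : g1S.cl g1L // x ^ m = 1} = ec g1T (Nat.gcd m 168) :=
  (ot_spec g1ss.2 (by decide +kernel)).card_pow (by norm_num) (by decide +kernel) m

noncomputable abbrev g2S := SP 6 26 (by norm_num) (by norm_num)
theorem g2ss : (∀ t ∈ g2L, g2S.In ⊤ t) ∧ g2S.Full (g2S.cl g2L) g2c := ss_SP (pr := g2p) (sl := g2s) (by decide +kernel)
theorem g2e (m : ℕ) : Nat.card {x : g2S.cl g2L // x ^ m = 1} = ec g2T (Nat.gcd m 168) :=
  (ot_spec g2ss.2 (by decide +kernel)).card_pow (by norm_num) (by decide +kernel) m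

noncomputable abbrev g3S := SP 6 35 (by norm_num) (by norm_num)
theorem g3ss : (∀ t ∈ g3L, g3S.In ⊤ t) ∧ g3S.Full (g3S.cl g3L) g3c := ss_SP (pr := g3p) (sl := g3s) (by decide +kernel)
theorem g3e (m : ℕ) : Nat.card {x : g3S.cl g3L // x ^ m = 1} = ec g3T (Nat.gcd m 168) :=
  (ot_spec g3ss.2 (by decide +kernel)).card_pow (by norm_num) (by decide +kernel) m

noncomputable abbrev h1S := SP 6 7 (by norm_num) (by norm_num)
theorem h1ss : (∀ t ∈ h1L, h1S.In ⊤ t) ∧ h1S.Full (h1S.cl h1L) h1c := ss_SP (pr := h1p) (sl := h1s) (by decide +kernel)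
theorem h1e (m : ℕ) : Nat.card {x : h1S.cl h1L // x ^ m = 1} = ec h1T (Nat.gcd m 168) :=
  (ot_spec h1ss.2 (by decide +kernel)).card_pow (by norm_num) (by decide +kernel) m

noncomputable abbrev h2S := SP 6 15 (by norm_num) (by norm_num)
theorem h2ss : (∀ t ∈ h2L, h2S.In ⊤ t) ∧ h2S.Full (h2S.cl h2L) h2c := ss_SP (pr := h2p) (sl := h2s) (by decide +kernel)
theorem h2e (m : ℕ) : Nat.card {x : h2S.cl h2L // x ^ m = 1} = ec h2T (Nat.gcd m 168) :=
  (ot_spec h2ss.2 (by decide +kernel)).card_pow (by norm_num) (by decide +kernel) m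

noncomputable abbrev h3S := SP 6 15 (by norm_num) (by norm_num)
theorem h3ss : (∀ t ∈ h3L, h3S.In ⊤ t) ∧ h3S.Full (h3S.cl h3L) h3c := ss_SP (pr := h3p) (sl := h3s) (by decide +kernel)
theorem h3e (m : ℕ) : Nat.card {x : h3S.cl h3L // x ^ m = 1} = ec h3T (Nat.gcd m 168) :=
  (ot_spec h3ss.2 (by decide +kernel)).card_pow (by norm_num) (by decide +kernel) m

noncomputable abbrev h4S := SP 6 8 (by norm_num) (by norm_num)
theorem h4ss : (∀ t ∈ h4L, h4S.In ⊤ t) ∧ h4S.Full (h4S.cl h4L) h4c := ss_SP (pr := h4p) (sl := h4s) (by decide +kernel)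
theorem h4e (m : ℕ) : Nat.card {x : h4S.cl h4L // x ^ m = 1} = ec h4T (Nat.gcd m 168) :=
  (ot_spec h4ss.2 (by decide +kernel)).card_pow (by norm_num) (by decide +kernel) m

theorem sol1 : Group.IsSolvable (g1S.cl g1L) :=
  solv_of g1ss.1 (B := b1L) (p1 := b1q) (p2 := b1r) (by decide +kernel) (p := 3) (q := 7) (r := 2) (a := 1) (b := 1) (c := 3)
    (by norm_num) (by norm_num) (by norm_num)
    ((ss_SP (pr := b1p) (ch := b1c) (sl := b1s) (by decide +kernel)).2.card.trans (by decide +kernel))
    (g1ss.2.card.trans (by decide +kernel))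

theorem sol2 : Group.IsSolvable (g2S.cl g2L) :=
  solv_of g2ss.1 (B := b2L) (p1 := []) (p2 := b2r) (by decide +kernel) (p := 2) (q := 3) (r := 7) (a := 4) (b := 2) (c := 1)
    (by norm_num) (by norm_num) (by norm_num)
    ((ss_SP (pr := b2p) (ch := b2c) (sl := b2s) (by decide +kernel)).2.card.trans (by decide +kernel))
    (g2ss.2.card.trans (by decide +kernel))

theorem sol3 : Group.IsSolvable (g3S.cl g3L) :=
  solv_of g3ss.1 (B := b3L) (p1 := []) (p2 := b3r) (by decide +kernel) (p := 2) (q := 3) (r := 7) (a := 6) (b := 1) (c := 1)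
    (by norm_num) (by norm_num) (by norm_num)
    ((ss_SP (pr := b3p) (ch := b3c) (sl := b3s) (by decide +kernel)).2.card.trans (by decide +kernel))
    (g3ss.2.card.trans (by decide +kernel))

theorem nsol : ¬ Group.IsSolvable (h4S.cl h4L) :=
  have h := In.slp (Ts := [nx, ny, nz]) (pr := nq) (by decide +kernel) fun t ht => (h4ss.1 t ht).cl ht
  not_solv_of (h nx (by simp)) (h ny (by simp)) (h nz (by simp)) (by decide +kernel)

theorem fin : ∀ d < 169, d ∣ 168 → ec g1T d * (ec g2T d * ec g3T d) = ec h1T d * (ec h2T d * (ec h3T d * ec h4T d)) := by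
  decide +kernel

/-- There are finite groups G and H having the same number of elements of each order (the same order type) with G solvable and H not solvable. -/
theorem result :
    ∃ (G : Type) (_ : Group G) (_ : Finite G) (H : Type) (_ : Group H) (_ : Finite H),
      Group.IsSolvable G ∧ ¬ Group.IsSolvable H ∧ ∀ n : ℕ, Nat.card {g : G // orderOf g = n} = Nat.card {h : H // orderOf h = n} := by
  haveI := sol1
  haveI := sol2
  haveI := sol3
  refine ⟨g1S.cl g1L × g2S.cl g2L × g3S.cl g3L, inferInstance, inferInstance,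
    h1S.cl h1L × h2S.cl h2L × h3S.cl h3L × h4S.cl h4L, inferInstance, inferInstance, inferInstance, fun h => nsol ?_,
    ot_of_et fun m => ?_⟩
  · exact Group.isSolvable_of_surjective (f := (MonoidHom.snd _ _).comp ((MonoidHom.snd _ _).comp (MonoidHom.snd
      (h1S.cl h1L) (h2S.cl h2L × h3S.cl h3L × h4S.cl h4L)))) fun x => ⟨(1, 1, 1, x), rfl⟩
  · simp only [card_pow_prod, g1e, g2e, g3e, h1e, h2e, h3e, h4e]
    exact fin _ (Nat.lt_succ_of_le (Nat.gcd_le_right _ (by norm_num))) (Nat.gcd_dvd_right _ _)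

end Cfsg.Agent.S4376
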