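import Mathlib
import Cfsg.Statements.S4394
import Cfsg.Agent.H16.PLen
import Cfsg.Agent.H16.Schmidt
import Cfsg.Agent.H16.Primitive
import Cfsg.Agent.H24.MinAct
import Cfsg.Agent.H01.PSep
import Cfsg.Agent.H01.Generation
import Cfsg.Agent.H01.KS91

set_option autoImplicit false
open Cfsg

namespace Cfsg.Agent.S4394

open BG Subgroup
open scoped commutatorElement

/-- the properties of the normal Sylow subgroup of a minimal non-nilpotent group that are used -/
structure Cam (p : ℕ) {G : Type*} [Group G] (P : Subgroup G) : Prop where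
  c1 : ∀ x ∈ P, ∀ y ∈ P, ⁅x, y⁆ ∈ C_(P)
  c2 : ∀ x ∈ P, x ^ p ∈ C_(P)
  c3 : ∀ x ∈ P, x ∉ C_(P) → ∀ z ∈ P, z ∈ C_(P) → ∃ y ∈ P, ⁅x, y⁆ = z
  c4 : p < 5 → Nat.card P = p ^ 3 → ∀ x ∈ P, x ^ p = 1 → x ∈ C_(P)

theorem Cam.equiv {p : ℕ} {G H : Type*} [Group G] [Group H] {P : Subgroup G} {Q : Subgroup H} (h : Cam p P) (e : Q ≃* P) :
    Cam p Q := by
  have k : ∀ x : Q, (x : H) ∈ C_(Q) ↔ ((e x : P) : G) ∈ C_(P) := fun x => by
    simp only [mem_cent]
    refine ⟨fun H a ha => ?_, fun H a ha => ?_⟩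
    · have := congrArg (fun z => ((e z : P) : G)) (Subtype.ext (H _ (e.symm ⟨a, ha⟩).2) : e.symm ⟨a, ha⟩ * x = x * e.symm ⟨a, ha⟩)
      simpa using this
    · exact congrArg Subtype.val (e.injective (by
        rw [map_mul, map_mul]; exact Subtype.ext (H _ (e ⟨a, ha⟩).2)) : ⟨a, ha⟩ * x = x * ⟨a, ha⟩)
  refine ⟨fun x hx y hy => (k ⁅(⟨x, hx⟩ : Q), ⟨y, hy⟩⁆).2 ?_, fun x hx => (k (⟨x, hx⟩ ^ p)).2 ?_, fun x hx h1 z hz h2 => ?_,
    fun h1 h2 x hx h3 => (k ⟨x, hx⟩).2 (h.c4 h1 (by rw [← h2, Nat.card_congr e.toEquiv]) _ (e _).2 ?_)⟩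
  · rw [map_commutatorElement]; exact h.c1 _ (e _).2 _ (e _).2
  · rw [map_pow]; exact h.c2 _ (e _).2
  · obtain ⟨y, hy, h3⟩ := h.c3 _ (e ⟨x, hx⟩).2 (fun h => h1 ((k ⟨x, hx⟩).2 h)) _ (e ⟨z, hz⟩).2 ((k ⟨z, hz⟩).1 h2)
    refine ⟨_, (e.symm ⟨y, hy⟩).2, congrArg Subtype.val (e.injective ?_ : ⁅(⟨x, hx⟩ : Q), e.symm ⟨y, hy⟩⁆ = (⟨z, hz⟩ : Q))⟩
    rw [map_commutatorElement, e.apply_symm_apply]
    exact Subtype.ext h3
  · rw [← coe_pow, ← map_pow, show (⟨x, hx⟩ : Q) ^ p = 1 from Subtype.ext h3, map_one, coe_one]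

section
variable {G : Type*} [Group G] [Finite G] {p : ℕ} {P R : Subgroup G}

theorem normZ (hp : p.Prime) (hP : IsSylowIn p P ⊤) [R.Normal] (hR : IsPGroup p R) (hC : C_(R) ≤ R) (h : Cam p P) {g : G}
    (hg : g ∈ N_(P ⊓ C_(P))) : g ∈ N_(P) := by
  have hGR : ∀ X : Subgroup G, X ≤ N_(R) := fun X => by rw [normalizer_eq_top]; exact le_top
  have hRP : R ≤ P := hP.le_of_norm_pg hp hR le_top (hGR _)
  have h1 : ⁅P, R⁆ ≤ P ⊓ C_(P) := le_inf (comm_le_of_le le_rfl hRP) (commutator_le.2 fun a ha b hb => h.c1 a ha b (hRP hb))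
  have h2 : P ≤ C_(P ⊓ C_(P)) := cent_comm.1 inf_le_right
  have h3 : cj g P ≤ C_(P ⊓ C_(P)) := (cj_mono g h2).trans (by rw [cj_cent, cj_of_mem_norm hg])
  have h4 : ⁅cj g P, R⁆ ≤ P ⊓ C_(P) := by
    have := cj_mono g h1
    rwa [cj_comm, cj_of_mem_norm hg, cj_of_mem_norm (hGR ⊤ (mem_top g))] at this
  have h5 := comm_sup_le (le_norm_of_cent h2) (le_norm_of_cent h3) h1 h4
  have h6 : IsPGroup p ↥(P ⊔ cj g P) := (isPi_singleton hp).1 fun q hq hd => by
    by_contra hne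
    obtain ⟨t, ht, ho⟩ := exists_orderOf_eq_prime hq hd
    have h7 : zpowers t ≤ P ⊔ cj g P := zpowers_le.2 ht
    have h8 : zpowers t ≤ C_(R) := coprime_cent_of_comm (hGR _)
      (pg_coprime_ne hq hp (pg_of_card_eq ((card_zpowers t).trans ho)) hR hne) (Or.inr (pg_sol hp hR))
      (by rw [comm_comm]; exact ((comm_mono h7 le_rfl).trans h5).trans (cent_comm.1 (h7.trans (sup_le h2 h3))))
    exact hne (pg_prime_eq hp hR hq (ho ▸ orderOf_dvd_card (hC (h8 (mem_zpowers t)))))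
  exact mem_norm_of_cj_le (le_sup_right.trans (hP.eq_of_pg hp h6 le_sup_left le_top).le)

theorem normB [hp : Fact p.Prime] (hG : IsPSolvable p G) (hP : IsSylowIn p P ⊤) (hC : C_(pCore p G) ≤ pCore p G) (h : Cam p P)
    {B : Subgroup G} (h1 : pCore p G ≤ B) {a : G} (h2 : B ⊔ zpowers a = P) : N_(B) ≤ N_(P ⊓ C_(P)) := by
  set R := pCore p G with hR
  set Z := P ⊓ C_(P) with hZ
  have hBP : B ≤ P := h2 ▸ le_sup_left
  have ha : a ∈ P := h2 ▸ mem_sup_right (mem_zpowers a)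
  have hZR : Z ≤ R := inf_le_right.trans ((cent_anti (h1.trans hBP)).trans hC)
  have hD : ⁅P, P⁆ ≤ Z := le_inf (der_le _) (commutator_le.2 h.c1)
  by_cases h3 : B ⊓ C_(B) ≤ Z
  · rw [← le_antisymm h3 (le_inf (hZR.trans h1) (inf_le_right.trans (cent_anti hBP)))]
    exact norm_inf le_rfl (norm_cent le_rfl)
  obtain ⟨r, ⟨hr1, hr2⟩, hr⟩ := SetLike.not_le_iff_exists.1 h3
  have hrP : r ∈ P := hBP hr1
  have hz : ⁅r, a⁆ ∈ Z := hD (commutator_mem_commutator hrP ha)
  have hn : P ≤ N_(zpowers ⁅r, a⁆) := le_norm_of_cent (cent_comm.1 ((zpowers_le.2 hz).trans inf_le_right))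
  have h4 : ⁅P, zpowers r⁆ ≤ zpowers ⁅r, a⁆ := by
    conv_lhs => rw [← h2]
    refine comm_sup_le (hBP.trans hn) ((zpowers_le.2 ha).trans hn) ?_ ?_
    · rw [comm_eq_bot.2 (cent_comm.1 (zpowers_le.2 hr2))]; exact bot_le
    · rw [comm_comm]; exact H01.comm_zp_zp_le (hn hrP) (hn ha) (mem_zpowers _)
  have h5 : Z = zpowers ⁅r, a⁆ := le_antisymm (fun z hz => by
    obtain ⟨y, hy, rfl⟩ := h.c3 r hrP (fun e => hr ⟨hrP, e⟩) z hz.1 hz.2
    exact h4 ((comm_comm _ _).le (commutator_mem_commutator (mem_zpowers r) hy))) (zpowers_le.2 hz)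
  have h6 : ⁅r, a⁆ ≠ 1 := fun e => hr ⟨hrP, by
    rw [e, zpowers_one_eq_bot, le_bot_iff, comm_eq_bot, cent_comm] at h4
    exact h4 (mem_zpowers r)⟩
  have h7 : Nat.card Z = p := by
    rw [h5, card_zpowers]
    refine orderOf_eq_prime ?_ h6
    rw [← H04.commutatorElement_pow_right (mem_cent.1 hz.2 a ha).symm, commutatorElement_eq_one_iff_mul_comm]
    exact mem_cent.1 (h.c2 a ha) r hrP
  have h7' : (Nat.card Z).Prime := h7 ▸ hp.out
  by_cases h8 : ⁅B, B⁆ = ⊥
  swap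
  · rw [← eq_of_prime h7' ((der_mono hBP).trans hD) h8]
    exact norm_le_norm_der B
  have h9 : B = R := le_antisymm (((comm_eq_bot.1 h8).trans (cent_anti h1)).trans hC) h1
  have hab : IsMulCommutative R := h9 ▸ abelian_iff_der.2 h8
  by_cases h10 : ∀ x ∈ R, x ^ p = 1
  swap
  · push Not at h10
    obtain ⟨x, hx, h10⟩ := h10
    have h11 : ∀ y ∈ R, y ^ p ∈ Z := fun y hy => ⟨pow_mem (hBP (h1 hy)) p, h.c2 y (hBP (h1 hy))⟩
    refine fun g _ => mem_norm_of_cj_le ?_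
    conv_lhs => rw [← zpowers_eq_of_prime h7' (h11 x hx) h10]
    rw [cj_zpowers, zpowers_le, ← conj_pow]
    exact h11 _ (Normal.conj_mem inferInstance x hx g)
  exfalso
  have haR : a ∉ R := fun e => h6 (commutatorElement_eq_one_iff_mul_comm.2 (mem_cent.1 hr2 a (h1 e)).symm)
  have hGR : ∀ X : Subgroup G, X ≤ N_(R) := fun X => by rw [normalizer_eq_top]; exact le_top
  have h12 : ⁅R, zpowers a⁆ ≤ Z := (comm_mono (h1.trans hBP) (zpowers_le.2 ha)).trans hD
  by_cases h5 : p < 5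
  · refine hr ⟨hrP, h.c4 h5 ?_ r hrP (h10 r (h9 ▸ hr1))⟩
    have h13 := H01.card_comm_zp hab (hGR ⊤ (mem_top a))
    have h14 : R ⊓ C_[a] = Z := le_antisymm (le_inf (inf_le_left.trans (h1.trans hBP)) (by
      rw [← h2, h9]
      exact le_cent_sup (inf_le_left.trans (abelian_iff.1 hab)) (cent_zpowers a ▸ inf_le_right)))
      (le_inf hZR (le_cent1_iff.2 (cent_comm.1 inf_le_right ha)))
    rw [h14, eq_of_prime h7' h12 fun e => h6 (mem_bot.1 (e ▸ commutator_mem_commutator (h9 ▸ hr1) (mem_zpowers a))), h7] at h13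
    have h15 : R.relIndex P = p := by
      rw [← h2, h9, relIndex_sup (hGR _), H24.relIndex_eq_card_map, MonoidHom.map_zpowers, card_zpowers]
      refine orderOf_eq_prime ?_ fun e => haR ((QuotientGroup.eq_one_iff a).1 e)
      rw [← map_pow]
      exact (QuotientGroup.eq_one_iff _).2 (hZR ⟨pow_mem ha p, h.c2 a ha⟩)
    rw [← card_mul_relIndex (h1.trans hBP), ← h13, h15]; ring
  · have h13 := (H01.isActionPStable_of_psol (not_lt.1 h5) hG).1 R ⟨hab, h10⟩ a (comm_eq_bot.2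
      (h12.trans (inf_le_right.trans (cent_anti (zpowers_le.2 ha)))))
    refine haR (H02.le_pCore (N := (pCore p (G ⧸ C_(R))).comap (QuotientGroup.mk' _)) ?_ h13)
    exact (H02.pCore_isPGroup p _).comap_of_ker_isPGroup _ (by
      rw [QuotientGroup.ker_mk']; exact pg_le (H02.pCore_isPGroup p G) hC)

theorem le_pcore [hp : Fact p.Prime] (hG : IsPSolvable p G) (h0 : pPrimeCore p G = ⊥) (hP : IsSylowIn p P ⊤) (h : Cam p P) :
    P ≤ pCore p G := by
  have hC := H01.psol_cent_pCore hG h0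
  set R := pCore p G with hR
  have hRp : IsPGroup p R := H02.pCore_isPGroup p G
  have hRP : R ≤ P := hP.le_of_norm_pg hp.out hRp le_top (by rw [normalizer_eq_top]; exact le_top)
  set f := QuotientGroup.mk' R with hf
  have hk : f.ker = R := QuotientGroup.ker_mk' R
  have h1 := H01.psol_cent_pPrimeCore (H01.psol_quot hG R) (H02.pCore_quotient_pCore p G)
  set K := pPrimeCore p (G ⧸ R)
  have h2 : IsPGroup p (P.map f) := (hP.pg hp.out).map f
  have h3 : (Nat.card (P.map f)).Coprime (Nat.card K) :=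
    pg_coprime hp.out h2 (hp.out.coprime_iff_not_dvd.1 (H02.pPrimeCore_coprime p _).symm)
  haveI : IsMulCommutative (P.map f) := by
    rw [abelian_iff_der, ← map_commutator, Subgroup.map_eq_bot_iff, hk]
    exact (commutator_le.2 h.c1).trans ((cent_anti hRP).trans hC)
  have h4 : P.map f ≤ N_(K) := by rw [normalizer_eq_top]; exact le_top
  have h5 : K ≤ N_(P.map f) := H01.le_of_cocyclic_centralizer_le h4 h3 fun B hB ⟨a, ⟨b, hb, e⟩, ha⟩ k hk' => by
    obtain ⟨g, rfl⟩ := QuotientGroup.mk'_surjective R k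
    have h6 : R ≤ B.comap f := hk.ge.trans (ker_le_comap f B)
    have h7 : B.comap f ⊔ zpowers b = P := by
      have := congrArg (comap f) ha
      rw [comap_map_eq, hk, sup_eq_left.2 hRP, ← e, ← MonoidHom.map_zpowers,
        ← comap_sup_eq f _ _ (QuotientGroup.mk'_surjective R), comap_map_eq, hk, sup_comm _ R, ← sup_assoc, sup_eq_left.2 h6] at this
      exact this
    have h8 : g ∈ N_(B.comap f) := le_normalizer_comap f (cent_le_norm B hk'.2)
    exact le_normalizer_map f (mem_map_of_mem f (normZ hp.out hP hRp hC h (normB hG hP hC h h6 h7 h8)))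
  have h6 : P.map f = ⊥ := by
    rw [← inf_eq_left.2 ((le_cent_of_coprime h4 h5 h3).trans h1)]
    exact (disjoint_of_coprime_natCard h3).eq_bot
  rwa [Subgroup.map_eq_bot_iff, hk] at h6

theorem arith {p r j : ℕ} (hp : p.Prime) (hr : r.Prime) (hrp : r ≠ p) (h5 : p < 5) (j0 : 1 ≤ j) (j3 : j ≤ 2)
    (h2 : r ∣ p ^ 3 - p ^ j) : (p = 2 ∧ r = 3 ∧ j = 1) ∨ (p = 3 ∧ r = 2) := by
  have := hp.two_le
  interval_cases p
  · interval_cases j <;> have := Nat.le_of_dvd (by norm_num) h2 <;> norm_num at this h2 <;> interval_cases r <;>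
      first | omega | exact absurd hr (by norm_num)
  · interval_cases j <;> have := Nat.le_of_dvd (by norm_num) h2 <;> norm_num at this h2 <;> interval_cases r <;>
      first | omega | exact absurd hr (by norm_num)
  · exact absurd hp (by norm_num)

theorem cam_of_min [hp : Fact p.Prime] {y : G} {r : ℕ} [hr : Fact r.Prime] (hA : IsPGroup r (zpowers y)) (hrp : r ≠ p)
    (h : H24.MinAct p (zpowers y) (zpowers y) P) (hs : P ⊔ zpowers y = ⊤) (hy : y ^ r ∈ C_(P)) : Cam p P := by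
  have hyP : y ∈ N_(P) := h.norm (mem_zpowers y)
  haveI : P.Normal := by rw [← normalizer_eq_top_iff, eq_top_iff, ← hs]; exact sup_le (le_norm _) h.norm
  have hΦ := h.phi_le_cent
  have hD : ⁅P, P⁆ = frattiniOf P := h.cent_eq_der.symm.trans h.cent_eq_phi
  have hZ : ∀ x ∈ P, x ∉ C_(P) → P ⊓ C_(P) = frattiniOf P := fun x hx hx' =>
    (h.irred (le_inf (phi_le P) hΦ) inf_le_left (norm_inf h.norm (norm_cent h.norm))).resolve_right fun e => hx' (e.ge hx).2
  refine ⟨fun x hx z hz => h.der_le_cent (commutator_mem_commutator hx hz), fun x hx => hΦ (pow_mem_phi hp.out h.pg hx),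
    fun x hx hx' z hz1 hz2 => ?_, fun h5 hc x hx hxp => ?_⟩
  · let φ : P →* G := MonoidHom.mk' (fun w => ⁅x, (w : G)⁆) fun a b => by
      have := mem_cent.1 (h.der_le_cent (commutator_mem_commutator hx b.2)) a a.2
      show ⁅x, (a : G) * b⁆ = _
      rw [commutatorElement_mul_right_eq_mul_conj, mul_assoc _ (a : G), this]; group
    have hW : φ.range ≤ ⁅P, P⁆ := by rintro _ ⟨w, rfl⟩; exact commutator_mem_commutator hx w.2
    haveI : φ.range.Normal := by
      rw [← normalizer_eq_top_iff, eq_top_iff, ← hs]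
      exact le_norm_of_cent (cent_comm.1 (hW.trans (le_cent_sup h.der_le_cent (hD ▸ h.phi_le_centA))))
    have k : ∀ u, u ∈ C_(P.map (QuotientGroup.mk' φ.range)).comap (QuotientGroup.mk' φ.range) ↔ ∀ w ∈ P, ⁅u, w⁆ ∈ φ.range :=
      fun u => by
      have k : ∀ w, QuotientGroup.mk' φ.range w * QuotientGroup.mk' φ.range u = QuotientGroup.mk' φ.range u *
          QuotientGroup.mk' φ.range w ↔ ⁅u, w⁆ ∈ φ.range := fun w => by
        rw [eq_comm, ← commutatorElement_eq_one_iff_mul_comm, ← map_commutatorElement]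
        exact QuotientGroup.eq_one_iff _
      rw [mem_comap, mem_cent]
      exact ⟨fun H w hw => (k w).1 (H _ (mem_map_of_mem _ hw)), fun H _ ⟨w, hw, e⟩ => e ▸ (k w).2 (H w hw)⟩
    rcases h.irred (U := P ⊓ C_(P.map (QuotientGroup.mk' φ.range)).comap (QuotientGroup.mk' φ.range))
      (le_inf (phi_le P) fun u hu => (k u).2 fun w hw => by
        rw [commutatorElement_eq_one_iff_mul_comm.2 (mem_cent.1 (hΦ hu) w hw).symm]; exact one_mem _)
      inf_le_left (by rw [normalizer_eq_top]; exact le_top) with e | e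
    · exact absurd (hΦ (e.le ⟨hx, (k x).2 fun w hw => ⟨⟨w, hw⟩, rfl⟩⟩)) hx'
    · have h1 : ⁅P, P⁆ ≤ φ.range := commutator_le.2 fun u hu => (k u).1 (e.ge hu).2
      obtain ⟨w, hw⟩ := h1 (hD.ge ((hZ x hx hx').le ⟨hz1, hz2⟩))
      exact ⟨w, w.2, hw⟩
  by_contra hx'
  have h1 := H16.card_modEq_card_inf_centralizer hA h.norm
  rw [h.cent_eq_phi, hc] at h1
  obtain ⟨j, hj, e⟩ := (Nat.dvd_prime_pow hp.out).1 (hc ▸ card_dvd (phi_le P))
  have j0 : j ≠ 0 := fun e0 => pg_center_ne_bot hp.out h.pg h.ne_bot (by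
    rw [hZ x hx hx', ← BG.card_eq_one, e, e0, pow_zero])
  have j3 : j ≠ 3 := fun e0 => (phi_lt h.ne_bot).ne (eq_of_le_of_card_eq (phi_le P) (by rw [e, e0, hc]))
  have h2 : r ∣ p ^ 3 - p ^ j := (Nat.modEq_iff_dvd' (Nat.pow_le_pow_right hp.out.pos hj)).1 (e ▸ h1.symm)
  have hnc : ∀ w ∈ P, zpowers w ⊔ frattiniOf P ≠ P := fun w hw e0 =>
    hx' (abelian_iff.1 (eq_of_le_sup_phi (zpowers_le.2 hw) e0.ge ▸ inferInstance) hx)
  have hyΦ : cj y (frattiniOf P) = frattiniOf P := cj_of_mem_norm (norm_phi h.norm (mem_zpowers y))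
  have h3 : (p = 2 ∧ r = 3 ∧ j = 1) ∨ (p = 3 ∧ r = 2) := by
    exact arith hp.out hr.out hrp h5 (Nat.pos_of_ne_zero j0) (by omega) h2
  rcases h3 with ⟨rfl, rfl, rfl⟩ | ⟨rfl, rfl⟩
  · obtain ⟨a, ha⟩ : ∃ a, a = y * x * y⁻¹ := ⟨_, rfl⟩
    obtain ⟨b, hb⟩ : ∃ b, b = y * a * y⁻¹ := ⟨_, rfl⟩
    have haP : a ∈ P := ha ▸ conj_mem_of_norm hyP hx
    have hbP : b ∈ P := hb ▸ conj_mem_of_norm hyP haP
    have h4 : y * b * y⁻¹ = x := by
      have := mem_cent.1 hy x hx
      rw [hb, ha]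
      calc _ = y ^ 3 * x * (y ^ 3)⁻¹ := by simp only [pow_succ, pow_zero]; group
        _ = x := by rw [← this, mul_inv_cancel_right]
    have hw : x * a * b ∈ P := mul_mem (mul_mem hx haP) hbP
    have h6 : x * a * b ∈ frattiniOf P := by
      refine ((h.irred le_sup_right (sup_le (zpowers_le.2 hw) (phi_le P)) (zpowers_le.2 (mem_norm_of_cj_le ?_))).resolve_right
        (hnc _ hw)).le (mem_sup_left (mem_zpowers _))
      rw [cj_sup, hyΦ, cj_zpowers]
      refine sup_le (zpowers_le.2 ?_) le_sup_right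
      rw [show y * (x * a * b) * y⁻¹ = (y * x * y⁻¹) * (y * a * y⁻¹) * (y * b * y⁻¹) by group, ← ha, ← hb, h4,
        show a * b * x = x * a * b * ⁅(x * a * b)⁻¹, x⁻¹⁆ by rw [commutatorElement_def]; group]
      exact mul_mem (mem_sup_left (mem_zpowers _)) (mem_sup_right (hD.le (commutator_mem_commutator (inv_mem hw) (inv_mem hx))))
    have h7 : (x * a * b) ^ 2 = 1 := orderOf_dvd_iff_pow_eq_one.1 (by simpa [e] using orderOf_dvd_card h6)
    have ha2 : a ^ 2 = 1 := by rw [ha, conj_pow, hxp]; group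
    have hb2 : b ^ 2 = 1 := by rw [hb, conj_pow, ha2]; group
    have h8 : (x * a) ^ 2 = 1 := by
      have hc : Commute (x * a * b) b⁻¹ := (mem_cent.1 (hΦ h6) _ (inv_mem hbP)).symm
      rw [show x * a = x * a * b * b⁻¹ by group, hc.mul_pow, h7, inv_pow, hb2]; group
    have h9 : a * x = x * a := by
      rw [pow_two] at h8 hxp ha2
      calc a * x = (x * x) * a * x * (a * a) := by rw [hxp, ha2]; group
        _ = x * (x * a * (x * a)) * a := by group
        _ = x * a := by rw [h8]; group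
    rcases h.irred (U := (zpowers x ⊔ zpowers a) ⊔ frattiniOf P) le_sup_right
      (sup_le (sup_le (zpowers_le.2 hx) (zpowers_le.2 haP)) (phi_le P)) (zpowers_le.2 (mem_norm_of_cj_le (by
        rw [cj_sup, cj_sup, hyΦ, cj_zpowers, cj_zpowers, ← ha, ← hb]
        refine sup_le (sup_le (le_sup_right.trans le_sup_left) (zpowers_le.2 ?_)) le_sup_right
        rw [show b = (x * a)⁻¹ * (x * a * b) by group]
        exact mul_mem (inv_mem (mem_sup_left (mul_mem_sup (mem_zpowers _) (mem_zpowers _)))) (mem_sup_right h6)))) with e0 | e0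
    · exact hx' (hΦ (e0.le (mem_sup_left (mem_sup_left (mem_zpowers x)))))
    · refine hx' (le_cent1_iff.1 (e0.ge.trans (sup_le (sup_le (zpowers_le.2 (mem_cent1_self x)) (zpowers_le.2 (mem_cent1.2 h9)))
        (le_cent1_iff.2 (cent_comm.1 hΦ hx)))))
  · refine h.ne (comm_eq_bot.2 (cent_zpowers y ▸ fun w hw => mem_cent1.2 (commutatorElement_eq_one_iff_mul_comm.1 ?_)))
    have hu : ⁅w, y⁆ ∈ P := comm_le_left h.norm (commutator_mem_commutator hw (mem_zpowers y))
    have h4 : y * ⁅w, y⁆ * y⁻¹ = ⁅w, y⁆⁻¹ := by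
      have := mem_cent.1 hy _ (inv_mem hw)
      calc _ = y * w * y⁻¹ * (y ^ 2 * w⁻¹) * (y ^ 2)⁻¹ := by rw [commutatorElement_def, pow_two]; group
        _ = _ := by rw [← this, commutatorElement_def]; group
    have h6 := h.min' (lt_of_le_of_ne (zpowers_le.2 hu) fun e0 => hnc _ hu (by rw [e0]; exact sup_eq_left.2 (phi_le P)))
      (zpowers_le.2 (mem_norm_of_cj_le (by rw [cj_zpowers, h4, zpowers_inv]))) (mem_zpowers _) y (mem_zpowers y)
    rw [h6, mul_inv_cancel_right] at h4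
    have h7 : orderOf ⁅w, y⁆ ∣ 2 := orderOf_dvd_of_pow_eq_one (by rw [pow_two]; nth_rewrite 1 [h4]; exact inv_mul_cancel _)
    exact orderOf_eq_one_iff.1 (Nat.eq_one_of_dvd_coprimes (by norm_num : Nat.Coprime 2 (3 ^ 3)) h7 (hc ▸ orderOf_dvd_card hu))

theorem cam_schmidt [hp : Fact p.Prime] (hX : IsMinimalNonNilpotent G) (P : Sylow p G) (hPn : (P : Subgroup G).Normal)
    (hP1 : (P : Subgroup G) ≠ ⊥) : Cam p (P : Subgroup G) := by
  obtain ⟨r, q, hr, hq, hne, A, Q, hA, hQ, hs⟩ := H16.schmidt_structure hX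
  haveI := Fact.mk hr
  haveI := Fact.mk hq
  have hG : ∀ (N : Subgroup G) [N.Normal] (X : Subgroup G), X ≤ N_(N) := fun N _ X => by rw [normalizer_eq_top]; exact le_top
  have hn : ∀ {H K : Subgroup G}, H ⊔ K = ⊤ → ¬ Group.IsNilpotent ↥(H ⊔ K) := fun e h => hX.1 (by
    rw [e] at h; exact Group.nilpotent_of_mulEquiv topEquiv)
  obtain rfl : p = q := by
    by_contra h1
    by_cases h2 : p = r
    · subst h2
      haveI := Sylow.unique_of_normal P hPn
      obtain rfl : A = P := Subsingleton.elim _ _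
      exact hn hs (nil_sup (pg_nil hr A.2) (pg_nil hq Q.2) (hG _ _) (hG _ _))
    · refine not_dvd_sup hp.out (pg_not_dvd hp.out hq Q.2 h1) (pg_not_dvd hp.out hr A.2 h2) (hG _ _) ?_
      exact (pg_dvd hp.out P.2 hP1).trans (card_dvd (by rw [sup_comm, hs]; exact le_top))
  haveI := Sylow.unique_of_normal P hPn
  obtain rfl : Q = P := Subsingleton.elim _ _
  obtain ⟨y, hy⟩ := cyclic_iff.1 hA
  have hA : IsPGroup r (zpowers y) := hy ▸ A.2
  rw [← hy, sup_comm] at hs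
  have hc := pg_coprime_ne hr hq hA Q.2 hne
  have hd : (Q : Subgroup G) ⊓ zpowers y = ⊥ := (disjoint_of_coprime_natCard hc.symm).eq_bot
  have h1 : ⁅(Q : Subgroup G), zpowers y⁆ ≠ ⊥ := fun e => hn hs (nil_sup_of_cent (pg_nil hq Q.2) (pg_nil hr hA) (comm_eq_bot.1 e))
  have key : ∀ U V : Subgroup G, U ≤ Q → V ≤ zpowers y → V ≤ N_(U) → U ≠ Q ∨ V ≠ zpowers y → U ≤ C_(V) := fun U V hU hV hVU h2 => by
    refine nil_cent_of_coprime (hX.2 (U ⊔ V) fun e => ?_) le_sup_left le_sup_right (coprime_mono hc.symm hU hV)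
    have h3 := card_sup_of_disj hVU (le_bot_iff.1 (hd ▸ inf_le_inf hU hV))
    rw [e, ← hs, card_sup_of_disj (hG _ _) hd] at h3
    rcases h2 with h2 | h2
    · exact (Nat.mul_lt_mul_of_lt_of_le (card_lt (hU.lt_of_ne h2)) (card_le hV) (card_pos _)).ne' h3
    · exact (Nat.mul_lt_mul_of_le_of_lt (card_le hU) (card_lt (hV.lt_of_ne h2)) (card_pos _)).ne' h3
  refine cam_of_min hA hne ⟨Q.2, hG _ _, le_rfl, le_norm _, (hq.coprime_iff_not_dvd.2 (pg_not_dvd hq hr hA hne.symm)).symm, h1,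
    fun U h2 h3 => comm_eq_bot.2 (key U _ h2.le le_rfl h3 (Or.inl h2.ne))⟩ hs ?_
  refine cent_comm.1 (key Q (zpowers (y ^ r)) le_rfl (zpowers_le.2 (pow_mem (mem_zpowers y) r)) (hG _ _) (Or.inr fun e => ?_))
    (mem_zpowers _)
  have h2 := congrArg (fun H : Subgroup G => Nat.card H) e
  simp only [card_zpowers] at h2
  have h3 : r ∣ orderOf y := card_zpowers y ▸ pg_dvd hr hA fun e => h1 (by rw [e, commutator_bot_right])
  rw [orderOf_pow_of_dvd hr.ne_zero h3] at h2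
  exact (Nat.div_lt_self (orderOf_pos y) hr.one_lt).ne h2

end

/-- Let X be a finite minimal non-nilpotent group (not nilpotent, every proper subgroup nilpotent) with a nontrivial normal Sylow p-subgroup P. If G is a finite p-solvable group whose Sylow p-subgroups are isomorphic to P, then G has p-length at most 1. -/
theorem result {G X : Type*} [Group G] [Finite G] [Group X] [Finite X] (p : ℕ) [Fact p.Prime]
    (hX : Cfsg.IsMinimalNonNilpotent X) (P : Sylow p X) (hPn : (P : Subgroup X).Normal) (hP1 : (P : Subgroup X) ≠ ⊥)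
    (hG : Cfsg.IsPSolvable p G) (Q : Sylow p G) (hQ : Nonempty (↥(Q : Subgroup G) ≃* ↥(P : Subgroup X))) : Cfsg.PLengthLE p 1 G := by
  obtain ⟨e⟩ := hQ
  have hp : p.Prime := Fact.out
  have hs := QuotientGroup.mk'_surjective (pPrimeCore p G)
  have hc := H02.pPrimeCore_coprime p G
  refine H16.plen_of_quot_coprime _ hc ?_
  have h1 : Function.Injective ((QuotientGroup.mk' (pPrimeCore p G)).subgroupMap Q) := by
    refine (injective_iff_map_eq_one _).2 fun x hx => Subtype.ext (mem_bot.1 ?_)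
    rw [← pg_inf_eq_bot hp Q.2 (hp.coprime_iff_not_dvd.1 hc.symm)]
    exact ⟨x.2, (QuotientGroup.eq_one_iff _).1 (congrArg Subtype.val hx)⟩
  have h2 := ((cam_schmidt hX P hPn hP1).equiv e).equiv
    (MulEquiv.ofBijective _ ⟨h1, MonoidHom.subgroupMap_surjective _ _⟩).symm
  have h3 := le_pcore (H01.psol_quot hG _) (H02.pPrimeCore_quotient_pPrimeCore p G) (isSylowIn_top hp (Q.mapSurjective hs)) h2
  rw [H01.pLengthLE_one_iff]
  exact fun h => (Q.mapSurjective hs).not_dvd_index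
    (h.trans (index_dvd_of_le (h3.trans (H02.pCore_le_pPrimePCore p _))))

end Cfsg.Agent.S4394
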