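import Mathlib
import Cfsg.Statements.S4395
import Cfsg.Agent.H12.RdB

set_option autoImplicit false
universe u
open Cfsg

namespace Cfsg.Agent.S4395

/-- Let p ≠ q be primes, r ≥ 1, a the multiplicative order of p modulo q, and a₀ = a when a is odd, a₀ = 3a/2 when a is even. Call a finite group minimal non-p-nilpotent when it has no normal p-complement but every proper subgroup has one. Then there is a minimal non-p-nilpotent group G₀ of order p^a₀ · q^r such that every minimal non-p-nilpotent group of order p^t · q^r (any t) is a quotient of G₀ by a central subgroup. -/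
theorem result (p q r : ℕ) [Fact p.Prime] [Fact q.Prime] (hpq : p ≠ q) (hr : 1 ≤ r) (a a₀ : ℕ)
    (ha : a = orderOf (p : ZMod q)) (ha₀ : a₀ = if a % 2 = 1 then a else 3 * a / 2) :
    ∃ (G₀ : Type u) (_ : Group G₀) (_ : Finite G₀),
      (¬ Cfsg.HasNormalPComplement p G₀ ∧ ∀ K : Subgroup G₀, K ≠ ⊤ → Cfsg.HasNormalPComplement p ↥K) ∧ Nat.card G₀ = p ^ a₀ * q ^ r ∧
      ∀ (X : Type u) [Group X] [Finite X], (¬ Cfsg.HasNormalPComplement p X ∧ ∀ K : Subgroup X, K ≠ ⊤ → Cfsg.HasNormalPComplement p ↥K) →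
        (∃ t : ℕ, Nat.card X = p ^ t * q ^ r) → ∃ φ : G₀ →* X, Function.Surjective φ ∧ φ.ker ≤ Subgroup.center G₀ := by
  open H12.Rd in
  subst ha
  have hq : q.Prime := Fact.out
  obtain ⟨K, _, _, _, ζ, σ, K₀, d, hc⟩ := exists_dat.{u} hpq ha₀
  have : NeZero (q ^ r) := ⟨(pow_pos hq.pos r).ne'⟩
  let C := Multiplicative (ZMod (q ^ r))
  obtain ⟨y, hy⟩ := IsCyclic.exists_generator (α := C)
  have cC : Nat.card C = q ^ r := Nat.card_zmod _
  have ho : orderOf y = q ^ r := (orderOf_eq_card_of_forall_mem_zpowers hy).trans cC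
  have z0 : ζ ≠ 0 := d.prim.ne_zero hq.ne_zero
  have zq : Units.mk0 ζ z0 ^ q = 1 := Units.ext d.prim.pow_eq_one
  let κ : C →* Kˣ := monoidHomOfForallMemZpowers hy (g' := .mk0 ζ z0) 
    (((orderOf_dvd_of_pow_eq_one zq).trans (dvd_pow_self q (Nat.one_le_iff_ne_zero.1 hr))).trans ho.symm.dvd)
  have κy : κ y = .mk0 ζ z0 := monoidHomOfForallMemZpowers_apply_gen ..
  obtain ⟨χ, rfl, h0⟩ : ∃ χ : C →* K, χ y = ζ ∧ ∀ i, χ i ^ q = 1 := ⟨(Units.coeHom K).comp κ, by simp [κy], fun i => by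
    obtain ⟨n, rfl⟩ := hy i
    exact congrArg Units.val (show κ (y ^ n) ^ q = 1 by rw [map_zpow, κy, ← zpow_natCast, ← zpow_mul, mul_comm, zpow_mul, zpow_natCast, zq, one_zpow])⟩
  let ω : K →+ K →+ K ⧸ K₀ := (AddMonoidHom.mul.comp σ.toAddMonoidHom).compr₂ (QuotientAddGroup.mk' K₀)
  have alt : ∀ u, ω u u = 0 := fun u => (QuotientAddGroup.eq_zero_iff _).2 (d.alt u)
  have inv : ∀ i u v, ω (χ i * u) (χ i * v) = ω u v := fun i => d.inv _ (h0 i)
  let b := ω.comp (AddMonoidHom.mulLeft (1 - (1 - χ y)⁻¹))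
  have h : ∀ i u v, b (χ i * u) (χ i * v) = b u v := fun i u v => by simp [b, mul_left_comm _ (χ i), inv]
  have n := d.prim.ne_one hq.one_lt
  refine ⟨GG b χ h, inferInstance, inferInstance, min_GG hpq hc (.of_card cC) hy (h0 y) n (d.gen _ (h0 y) n) ?_, ?_,
    fun X _ _ ⟨h1, h2⟩ ⟨t, hX⟩ => univ_GG d (fun _ _ => rfl) hy hr ho h1 h2 hpq hX⟩
  · rintro ⟨z⟩
    have n1 : 1 - χ y ≠ 0 := sub_ne_zero.2 n.symm
    have sk : ∀ u v, ω v u = -ω u v := fun u v => by simpa [alt, add_comm, eq_neg_iff_add_eq_zero] using alt (u + v)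
    have e : ∀ u v, b ((1 - χ y) * u) ((1 - χ y) * v) - b ((1 - χ y) * v) ((1 - χ y) * u) = ω ((1 - χ y) * u) ((1 - χ y) * v) := fun u v => by
      have : ∀ w, (1 - (1 - χ y)⁻¹) * ((1 - χ y) * w) = -(χ y * w) := fun w => by field_simp; ring
      simp only [b, AddMonoidHom.comp_apply, AddMonoidHom.coe_mulLeft, this]
      simp only [sub_mul, one_mul, map_sub, map_neg, AddMonoidHom.sub_apply, AddMonoidHom.neg_apply, inv, sk u (χ y * v), sk u v]
      abel
    refine ⟨_, _, (e (1 - χ y)⁻¹ ((1 - χ y)⁻¹ * z)).trans ?_⟩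
    rw [mul_inv_cancel₀ n1, mul_inv_cancel_left₀ n1]
    exact congrArg QuotientAddGroup.mk (by simp)
  · rw [Nat.card_congr GG.eqv, Nat.card_prod, Nat.card_prod, ← mul_assoc, hc, cC]

end Cfsg.Agent.S4395
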