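import Mathlib
import Cfsg.Statements.S4418
import Cfsg.Agent.H03.Meta2

set_option autoImplicit false
open Cfsg

namespace Cfsg.Agent.S4418

/-- Let G be a finite group whose Sylow 2-subgroup S is metacyclic via a cyclic normal subgroup N of S with S/N cyclic of order greater than 2. Then G is soluble. -/
theorem result {G : Type*} [Group G] [Finite G] (S : Sylow 2 G) (N : Subgroup ↥(S : Subgroup G)) [hN : N.Normal] (hNc : IsCyclic N) (hQc : IsCyclic (↥(S : Subgroup G) ⧸ N)) (hQ : 2 < Nat.card (↥(S : Subgroup G) ⧸ N)) : Group.IsSolvable G := by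
  obtain ⟨q, hq⟩ := hQc.exists_generator
  obtain ⟨b, rfl⟩ := QuotientGroup.mk_surjective q
  refine H03.sol_of_meta S (N := N.map (S : Subgroup G).subtype) (b := b) ⟨S.isPGroup', Subgroup.map_subtype_le _, ?_,
    (Subgroup.equivMapOfInjective N _ (S : Subgroup G).subtype_injective).isCyclic.1 hNc, b.2, ?_, ?_⟩
  · refine BG.le_norm_iff.2 ?_
    rintro a ha _ ⟨k, hk, rfl⟩
    exact ⟨_, hN.conj_mem k hk ⟨a, ha⟩, rfl⟩
  · intro s hs
    obtain ⟨i, hi⟩ := hq (QuotientGroup.mk ⟨s, hs⟩)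
    simp only at hi
    rw [← QuotientGroup.mk_zpow, eq_comm, QuotientGroup.eq] at hi
    have h1 := hN.conj_mem _ (N.inv_mem hi) (b ^ i)
    have : s = ((b ^ i * ((⟨s, hs⟩ : (S : Subgroup G))⁻¹ * b ^ i)⁻¹ * (b ^ i)⁻¹ : (S : Subgroup G)) : G) * (b : G) ^ i := by
      simp [mul_assoc]
    rw [this]
    exact Subgroup.mul_mem _ (Subgroup.mem_sup_left ⟨_, h1, rfl⟩)
      (Subgroup.mem_sup_right (Subgroup.zpow_mem _ (Subgroup.mem_zpowers _) _))
  · rintro ⟨k, hk, e⟩
    have h1 : k = b ^ 2 := Subtype.ext e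
    have h2 : (QuotientGroup.mk b : (S : Subgroup G) ⧸ N) ^ 2 = 1 := by
      rw [← QuotientGroup.mk_pow, QuotientGroup.eq_one_iff]; exact h1 ▸ hk
    have := Nat.le_of_dvd two_pos (orderOf_dvd_of_pow_eq_one h2)
    rw [orderOf_eq_card_of_forall_mem_zpowers hq] at this
    omega

end Cfsg.Agent.S4418
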