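import Mathlib
import Cfsg.Statements.S4419
import Cfsg.Agent.H16.PhiAct
import Cfsg.Agent.H02.PPrimeCore
import Cfsg.Agent.H04.Metacyclic
import Cfsg.Agent.H04.Amb
import Cfsg.Agent.H02.PCore

set_option autoImplicit false
open Cfsg

namespace Cfsg.Agent.S4419

open BG Subgroup

theorem aux {G : Type*} [Group G] [Finite G] {p : ℕ} [hp : Fact p.Prime] (S : Sylow p G)
    (hS : IsMetacyclic (S : Subgroup G)) (h : ¬ HasNormalPComplement p G) :
    ∃ q : ℕ, q.Prime ∧ q ≠ p ∧ q ∣ Nat.card G ∧ q ∣ p ^ 2 - 1 := by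
  obtain ⟨D, hDP, -, -, q, hq, hqp, g, hg, ⟨k, hk⟩, hgC⟩ := H03.exists_not_commute_of_not_hasNPC S h
  have hD := S.isPGroup'.to_le hDP
  refine ⟨q, hq, hqp, ?_, ?_⟩
  · rcases k with _ | k
    · rw [pow_zero, orderOf_eq_one_iff] at hk
      exact absurd (hk ▸ one_mem _) hgC
    · exact (Dvd.intro_left _ (hk.trans (pow_succ _ _)).symm).trans (orderOf_dvd_natCard g)
  have hc : (orderOf g).Coprime p := hk ▸ Nat.Coprime.pow_left k ((Nat.coprime_primes hq hp.out).2 hqp)
  have hE := elem_quo_frattiniOf hD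
  have hm : IsMetacyclic (quo (frattiniOf D) D) :=
    H04.IsMetacyclic.of_surjective (H04.IsMetacyclic.of_le hS hDP) _ (quoSurj_surj (norm_phi le_normalizer))
  have hle := H04.card_le_sq_of_isMetacyclic_of_pow_eq_one (p := p) hm ⊤ fun x _ => Subtype.ext (hE.2 x x.2)
  rw [card_top] at hle
  obtain ⟨j, hj1, hj2, hj3⟩ := H03.dvd_pow_sub_one_of_normalizes
    (fun v => ⟨1, Subtype.ext (by simpa using hE.2 v v.2)⟩ : IsPGroup p (quo (frattiniOf D) D)) hq hqp
    (qmk_mem_norm (norm_le_norm_phi D hg) hg)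
    (by
      obtain ⟨j, -, hj⟩ := (Nat.dvd_prime_pow hq).1 (hk ▸ (orderOf_mk g (norm_le_norm_phi D hg)) ▸
        orderOf_map_dvd (qmk (frattiniOf D)) ⟨g, norm_le_norm_phi D hg⟩)
      exact ⟨j, hj⟩) (H16.not_mem_cent_quo_phi hD hg hc hgC)
  have hj4 : j ≤ 2 := (Nat.pow_le_pow_iff_right hp.out.one_lt).1 ((Nat.le_of_dvd Nat.card_pos hj2).trans hle)
  interval_cases j
  · rw [pow_one] at hj3
    exact hj3.trans (by simpa using Nat.sub_dvd_pow_sub_pow p 1 2)
  · exact hj3

/-- Let p be a prime and G a finite group whose Sylow p-subgroups are metacyclic (a cyclic normal subgroup with cyclic quotient). Then G has a normal p-complement if and only if the order of G/O_{p′,p}(G) is coprime to p² − 1. -/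
theorem result {G : Type*} [Group G] [Finite G] (p : ℕ) [Fact p.Prime] (S : Sylow p G) (hS : Cfsg.IsMetacyclic ↥(S : Subgroup G)) : Cfsg.HasNormalPComplement p G ↔ Nat.Coprime (Nat.card (G ⧸ Cfsg.pPrimePCore p G)) (p ^ 2 - 1) := by
  have hp : p.Prime := Fact.out
  have hcard : Nat.card (G ⧸ pPrimePCore p G) = (pCore p (G ⧸ pPrimeCore p G)).index :=
    index_comap_of_surjective _ (QuotientGroup.mk'_surjective _)
  rw [hcard]
  constructor
  · intro h
    obtain ⟨K, _, hK, hq⟩ := H03.hasNPC_iff_exists.1 h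
    have hP : IsPGroup p (G ⧸ pPrimeCore p G) :=
      hq.of_surjective (QuotientGroup.map K _ (MonoidHom.id G) (H02.le_pPrimeCore hK)) (by
        intro x
        obtain ⟨x, rfl⟩ := QuotientGroup.mk_surjective x
        exact ⟨x, rfl⟩)
    have : pCore p (G ⧸ pPrimeCore p G) = ⊤ := top_le_iff.1 (H02.le_pCore (hP.to_subgroup ⊤))
    rw [this, index_top]; simp
  · intro h
    refine H03.hasNPC_of_quotient_coprime _ (H02.pPrimeCore_coprime p G) ?_
    by_contra hn
    obtain ⟨q, hq, hqp, h1, h2⟩ := aux (S.mapSurjective (QuotientGroup.mk'_surjective (pPrimeCore p G)))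
      (H04.IsMetacyclic.of_surjective hS _ (MonoidHom.subgroupMap_surjective _ _)) hn
    rw [← (pCore p (G ⧸ pPrimeCore p G)).card_mul_index] at h1
    obtain ⟨n, hn⟩ := IsPGroup.iff_card.1 (H02.pCore_isPGroup p (G ⧸ pPrimeCore p G))
    rcases (hq.dvd_mul).1 h1 with h3 | h3
    · rw [hn] at h3
      exact hqp ((Nat.prime_dvd_prime_iff_eq hq hp).1 (hq.dvd_of_dvd_pow h3))
    · exact hq.one_lt.ne' (Nat.eq_one_of_dvd_coprimes h h3 h2)

end Cfsg.Agent.S4419
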