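import Mathlib
import Cfsg.Statements.S4758
import Cfsg.Agent.H07.D4c

set_option autoImplicit false
open Cfsg
open H07.D4 Subgroup

namespace Cfsg.Agent.S4758

/-- Let u ≠ 1 be an element of the finite group G such that every non-principal irreducible character χ satisfies χ(1) − χ(u) = 4 or χ(u) = 0. Then O(G), the largest normal subgroup of odd order, is abelian, and either G ⧸ O(G) ≅ PSL₂(5) and u is an involution, or G ⧸ O(G) ≅ SL₂(5) and u has order 4. -/
theorem result {G : Type*} [Group G] [Finite G] (u : G) (hu : u ≠ 1) (hyp : ∀ χ : Cfsg.IrrCharacter G, (χ : G → ℂ) ≠ (fun _ => (1 : ℂ)) → ((χ : G → ℂ) 1 - (χ : G → ℂ) u = 4 ∨ (χ : G → ℂ) u = 0)) : IsMulCommutative ↥(Cfsg.oddCore G) ∧ ((Nonempty (G ⧸ Cfsg.oddCore G ≃* Matrix.ProjectiveSpecialLinearGroup (Fin 2) (ZMod 5)) ∧ orderOf u = 2) ∨ (Nonempty (G ⧸ Cfsg.oddCore G ≃* Matrix.SpecialLinearGroup (Fin 2) (ZMod 5)) ∧ orderOf u = 4)) := by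
  classical
  have := Fintype.ofFinite G
  have h : Hyp u := fun χ hχ => hyp ⟨χ, hχ⟩
  have hO := H02.not_dvd_card_pPrimeCore (G := G) Nat.prime_two
  have hO' : ∀ {A : Type} [Group A] [IsSimpleGroup A] [Finite A], 2 ∣ Nat.card A → ∀ f : G →* A,
      Function.Surjective f → oddCore G ≤ f.ker := fun hA f hf =>
    (Subgroup.map_eq_bot_iff _).1 (((inferInstance : (oddCore G).Normal).map f hf).eq_bot_or_eq_top.resolve_right fun e =>
      hO (hA.trans (by simpa [e] using card_map_dvd (oddCore G) f)))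
  have h60 : 2 ∣ Nat.card (alternatingGroup (Fin 5)) := by rw [H08.card_A5]; norm_num
  by_cases h2 : u * u = 1
  · obtain ⟨e⟩ := h.inv hu h2
    obtain ⟨e'⟩ := H08.A5_of_psl2 (F := ZMod 5) (Or.inr (ZMod.card 5))
    have h3 : oddCore G = ⊥ := eq_bot_iff.2 ((hO' h60 e e.surjective).trans (e.toMonoidHom.ker_eq_bot e.injective).le)
    exact ⟨by rw [h3]; infer_instance, .inl ⟨⟨(QuotientGroup.quotientMulEquivOfEq h3).trans
      (QuotientGroup.quotientBot.trans (e.trans e'.symm))⟩, orderOf_eq_prime (sq u ▸ h2) hu⟩⟩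
  have h4 : orderOf u = 2 ^ 2 := orderOf_eq_prime_pow (by simpa [sq] using h2) (orderOf_dvd_iff_pow_eq_one.1
    ((orderOf_dvd_natCard _ (mem_centralizer_singleton_iff.2 rfl)).trans (h.main hu).2.dvd))
  refine ⟨?_, .inr ⟨?_, h4⟩⟩
  · obtain ⟨f, hf, h5⟩ := h.four hu h2
    obtain ⟨-, w, -, w1, -, -, w2⟩ := h5 default
    refine ⟨⟨fun a b => MonoidHom.FixedPointFree.commute_all_of_involutive
      (φ := (MulAut.conjNormal w : MulAut (oddCore G))) (fun k hk => ?_) (fun k => ?_) a b⟩⟩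
    · refine Subtype.ext ((w2 k (hO' h60 f hf k.2) (mul_inv_eq_iff_eq_mul.1 (congrArg Subtype.val hk)).symm).resolve_right
        fun e => hO (w1.symm.dvd.trans (e ▸ Subgroup.orderOf_dvd_natCard _ k.2)))
    · rw [← MulAut.mul_apply, ← map_mul, ← sq, orderOf_dvd_iff_pow_eq_one.1 w1.dvd, map_one, MulAut.one_apply]
  have hq := h.map (QuotientGroup.mk' (oddCore G)) (QuotientGroup.mk'_surjective _)
  have h5 : QuotientGroup.mk' (oddCore G) u * QuotientGroup.mk' (oddCore G) u ≠ 1 := fun e => hO <| by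
    have := orderOf_dvd_natCard _ ((QuotientGroup.eq_one_iff (u * u)).1 e)
    rwa [← sq, orderOf_pow_of_dvd two_ne_zero (by simp [h4]), h4] at this
  have h6 : QuotientGroup.mk' (oddCore G) u ≠ 1 := fun e => h5 (by rw [e, one_mul])
  obtain ⟨f, hf, h7⟩ := hq.four h6 h5
  have := hq.perfect
  have : Nontrivial (G ⧸ oddCore G) := ⟨_, _, h6⟩
  refine Cfsg.Agent.S3378.result.1 _ ?_ (Group.IsPerfect.not_isSolvable _) fun S => (h7 S).1
  have h8 : ∀ P : Subgroup (G ⧸ oddCore G), IsPGroup 2 P → P ≤ f.ker → ∃ w ∈ f.ker, orderOf w = 2 ∧ P ≤ zpowers w :=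
    fun P hP hK => by
      obtain ⟨S, hS⟩ := hP.exists_le_sylow
      obtain ⟨-, w, -, w1, w2, w3, w4⟩ := h7 S
      exact ⟨w, w2, w1, fun k hk => by rcases w4 k (hK hk) (w3 k (hS hk)) with rfl | rfl <;> simp⟩
  obtain ⟨P⟩ : Nonempty (Sylow 2 f.ker) := inferInstance
  obtain ⟨w, -, -, hw⟩ := h8 _ (P.2.map f.ker.subtype) (map_subtype_le _)
  have := isCyclic_of_surjective _ (equivMapOfInjective (P : Subgroup f.ker) _ f.ker.subtype_injective).symm.surjective
    (hH := Subgroup.isCyclic_of_le hw)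
  obtain ⟨P', N, hN, hc⟩ := H08.hasNPC_of_isCyclic P
  have h9 : N = ⊥ := by
    have e := H02.pPrimeCoreOf_le_pPrimeCore (p := 2) f.ker
    rw [H02.pPrimeCore_quotient_pPrimeCore, le_bot_iff, H02.pPrimeCoreOf, map_eq_bot_iff_of_injective _
      f.ker.subtype_injective] at e
    exact eq_bot_iff.2 (e ▸ H02.le_pPrimeCore (Nat.coprime_two_right.2 (Nat.odd_iff.2 (Nat.two_dvd_ne_zero.1
      (hc.index_eq_card ▸ P'.not_dvd_index)))))
  obtain ⟨w, w1, w2, hw⟩ := h8 f.ker (by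
    rw [h9, isComplement'_bot_left] at hc
    exact (hc ▸ P'.2).of_equiv topEquiv) le_rfl
  rw [← f.ker.card_mul_index, index_ker, MonoidHom.range_eq_top.2 hf, card_top, H08.card_A5,
    le_antisymm hw (zpowers_le.2 w1), Nat.card_zpowers, w2]

end Cfsg.Agent.S4758
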