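import Mathlib
import Cfsg.Agent.H20.McK5
-- Template for statement S4807 (row 4807; see /opt/grader/pristine/manifest.json for weights).
-- Copy to Cfsg/Agent/S4807.lean and replace the sorry. The statement below is byte-identical to the frozen
-- statement Cfsg.CfsgFrozen.S4807 (Cfsg/Statements/S4807.lean; the theorem Cfsg.chr9_p_solvable_relative_p_prime_degree_count_over_invariant_character);
-- the grader kernel-checks Cfsg.Agent.S4807.result against that frozen type. Keep the theorem IN THIS FILE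
-- (a `result` declared elsewhere and merely imported here is not credited); helpers may live anywhere
-- under Cfsg/Agent/.
import Cfsg.Statements.S4807
-- import your own Cfsg.Agent.* helpers here

set_option autoImplicit false
open Cfsg

open H20 H05 H07 Cfsg

namespace Cfsg.Agent.S4807

/-- Let p be a prime and G a finite p-solvable group, L a normal subgroup of G, S a Sylow p-subgroup of G and P the subgroup generated by L and S (so P/L is a Sylow p-subgroup of G/L), and let ν be an irreducible complex character of L that is invariant under conjugation by every element of P. Let N be the normalizer of P in G (it contains L). Then the number of irreducible characters of G of degree prime to p lying over ν (restriction to L not orthogonal to ν) equals the number of irreducible characters of N of degree prime to p lying over ν. -/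
theorem result {G : Type*} [Group G] [Finite G] (p : ℕ) [Fact p.Prime] (hG : Cfsg.IsPSolvable p G) (L : Subgroup G) [L.Normal] (S : Sylow p G) (P : Subgroup G) (hP : P = L ⊔ (S : Subgroup G)) (hLN : L ≤ (Subgroup.normalizer ((P : Subgroup G) : Set G))) (ν : Cfsg.IrrCharacter ↥L) (hν : ∀ x ∈ P, Cfsg.IsConjCharOf L x (ν : ↥L → ℂ) (ν : ↥L → ℂ)) : Nat.card {χ : Cfsg.IrrCharacter G // ¬ p ∣ Cfsg.charDegree (χ : G → ℂ) ∧ (∑ᶠ l : ↥L, (χ : G → ℂ) (l : G) * (starRingEnd ℂ) ((ν : ↥L → ℂ) l)) ≠ 0} = Nat.card {ψ : Cfsg.IrrCharacter ↥(Subgroup.normalizer ((P : Subgroup G) : Set G)) // ¬ p ∣ Cfsg.charDegree (ψ : ↥(Subgroup.normalizer ((P : Subgroup G) : Set G)) → ℂ) ∧ (∑ᶠ l : ↥L, (ψ : ↥(Subgroup.normalizer ((P : Subgroup G) : Set G)) → ℂ) (Subgroup.inclusion hLN l) * (starRingEnd ℂ) ((ν : ↥L → ℂ) l)) ≠ 0} := by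
  subst hP
  have := Fintype.ofFinite L
  have h := rel_mckay (p := p) (L := L) (G := ⊤) (S := S) (H := Subgroup.normalizer ((L ⊔ S : Subgroup G) : Set G))
    le_top Subgroup.le_normalizer_of_normal (H24.PS.top_iff.2 hG) le_top S.2
    (by rw [Subgroup.relIndex_top_right]; exact S.not_dvd_index) (top_inf_eq _).symm hLN (ν := ν)
    ⟨ν.2, (le_stab_iff Subgroup.le_normalizer_of_normal).2 fun s hs => hν s (Subgroup.mem_sup_right hs)⟩
  have key : ∀ {X : Type _} [Group X] (ι : L →* X) {χ : X → ℂ}, IsCharacter X χ →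
      (mult ι χ ν ≠ 0 ↔ (∑ᶠ l : L, χ (ι l) * (starRingEnd ℂ) ((ν : L → ℂ) l)) ≠ 0) := fun ι χ hχ => by
    rw [mult_ne_zero_iff ι hχ ν.2.isCharacter, classInner, finsum_eq_sum_of_fintype,
      mul_ne_zero_iff_left (inv_ne_zero (H06.natCard_ne_zero L))]
  refine Eq.trans ?_ (h.trans ?_)
  · refine Nat.card_congr ⟨fun χ => ⟨fun g => χ.1.1 g, ⟨χ.1.2.comp_mulEquiv Subgroup.topEquiv,
      (key _ (χ.1.2.comp_mulEquiv Subgroup.topEquiv).isCharacter).2 χ.2.2⟩, χ.2.1⟩,
      fun χ => ⟨⟨fun g => χ.1 (Subgroup.topEquiv.symm g), χ.2.1.1.comp_mulEquiv _⟩, χ.2.2,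
        (key _ χ.2.1.1.isCharacter).1 χ.2.1.2⟩, fun _ => rfl, fun _ => rfl⟩
  · exact Nat.card_congr ⟨fun χ => ⟨⟨χ.1, χ.2.1.1⟩, χ.2.2, (key _ χ.2.1.1.isCharacter).1 χ.2.1.2⟩,
      fun χ => ⟨χ.1.1, ⟨χ.1.2, (key _ χ.1.2.isCharacter).2 χ.2.2⟩, χ.2.1⟩, fun _ => rfl, fun _ => rfl⟩

end Cfsg.Agent.S4807
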