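import Mathlib
import Cfsg.Statements.S4763
import Cfsg.Agent.S4807
import Cfsg.Agent.H07.Deg4
import Cfsg.Agent.H08.Basic
import Cfsg.Agent.H01.PSep
import Cfsg.Agent.H03.Fusion

set_option autoImplicit false
open Cfsg

namespace Cfsg.Agent.S4763

theorem card_add {α : Type*} [Finite α] (q : α → Prop) :
    Nat.card {x // q x} + Nat.card {x // ¬ q x} = Nat.card α := by
  classical
  rw [← Nat.card_sum, Nat.card_congr (Equiv.sumCompl q)]

theorem card_carrier {G : Type*} [Group G] [Finite G] (x : G) :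
    Nat.card (ConjClasses.mk x).carrier = (Subgroup.centralizer ({x} : Set G)).index := by
  have h1 := H08.card_isConj_mul_card_centralizer x
  rw [← (Subgroup.centralizer ({x} : Set G)).index_mul_card] at h1
  rw [← Nat.eq_of_mul_eq_mul_right Nat.card_pos h1]
  exact Nat.card_congr (Equiv.subtypeEquivRight fun y => by
    rw [ConjClasses.mem_carrier_iff_mk_eq, ConjClasses.mk_eq_mk_iff_isConj, isConj_comm])

/-- Let p be a prime and G a finite group that is not nilpotent and has a normal p-complement (a normal subgroup of order prime to p and index a power of p). If G has exactly one irreducible complex character of degree divisible by p, then G has exactly one conjugacy class whose size is divisible by p. -/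
theorem result {G : Type*} [Group G] [Finite G] (p : ℕ) [Fact p.Prime] (hnil : ¬ Group.IsNilpotent G) (N : Subgroup G) [N.Normal] (hN : (Nat.card N).Coprime p) (hidx : ∃ k : ℕ, N.index = p ^ k) (hone : Nat.card {χ : Cfsg.IrrCharacter G // p ∣ Cfsg.charDegree (χ : G → ℂ)} = 1) : Nat.card {C : ConjClasses G // p ∣ Nat.card C.carrier} = 1 := by
  open H05 H06 H07 Subgroup in
  have hp : p.Prime := Fact.out
  obtain ⟨k, hk⟩ := hidx
  obtain ⟨P⟩ : Nonempty (Sylow p G) := inferInstance
  have hd : ∀ d, d ∣ N.index → d ≠ 1 → p ∣ d := fun d h1 h2 => by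
    obtain ⟨j, -, rfl⟩ := (Nat.dvd_prime_pow hp).1 (hk ▸ h1)
    exact dvd_pow_self _ fun e => h2 (by rw [e, pow_zero])
  have hsup : N ⊔ P = ⊤ := index_eq_one.1 (by_contra fun e =>
    P.not_dvd_index ((hd _ (index_dvd_of_le le_sup_left) e).trans (index_dvd_of_le le_sup_right)))
  obtain ⟨m, hm⟩ := P.2.exists_card_eq
  have hcop : (Nat.card P).Coprime (Nat.card N) := hm ▸ hN.symm.pow_left m
  have hinf : N ⊓ P = ⊥ := (Subgroup.disjoint_of_coprime_natCard hcop.symm).eq_bot
  obtain ⟨χ₀, hu⟩ := Nat.card_eq_one_iff_exists.1 hone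
  have := Fintype.ofFinite G
  have := Fintype.ofFinite N
  have hab : (P : Subgroup G) ≤ centralizer (P : Set G) := by
    by_contra hab
    obtain ⟨χ, h1, h2⟩ : ∃ χ : IrrCharacter G, (∀ n ∈ N, χ.1 n = χ.1 1) ∧ charDegree χ.1 ≠ 1 := by
      by_contra hh
      push Not at hh
      refine hab (commutator_eq_bot_iff_le_centralizer.1 (eq_bot_iff.2 (hinf ▸ le_inf ?_ (commutator_le.2 fun a ha b hb =>
        mul_mem (mul_mem (mul_mem ha hb) (inv_mem ha)) (inv_mem hb)))))
      exact (commutator_mono le_top le_top).trans (commutator_le_of_irr N hh)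
    have h3 : N ≤ charCenter χ.1 := fun n hn => charKer_le_charCenter (χ.2.isCharacter.mem_charKer.2 (h1 n hn))
    have h4 := hd _ (charDegree_dvd_index_of_le_charCenter χ.2 N h3) h2
    have h5 : ∀ ψ : IrrCharacter G, p ∣ charDegree ψ.1 → ψ = χ := fun ψ h =>
      congrArg Subtype.val ((hu ⟨ψ, h⟩).trans (hu ⟨χ, h4⟩).symm)
    haveI := P.2.isNilpotent
    have h6 : (P : Subgroup G) ≤ centralizer (N : Set G) := by
      refine le_centralizer_of_irrInv le_normalizer_of_normal hcop (Or.inl inferInstance) fun θ => ?_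
      rw [stab_eq_inertia]
      by_contra hh
      obtain ⟨ψ, hψ, h7⟩ := exists_irr_over N θ.2
      have h8 := (hd _ (index_dvd_of_le (le_inertia N θ.2.isCharacter.isClassFunction))
        fun e => hh (index_eq_one.1 e ▸ le_top)).trans ((Dvd.intro _ rfl).trans (index_inertia_dvd N hψ θ.2 h7))
      obtain rfl : ψ = χ.1 := congrArg Subtype.val (h5 ⟨ψ, hψ⟩ h8)
      have h9 : ∀ n : N, θ.1 n = θ.1 1 := fun n => apply_eq_of_constituent (hψ.isCharacter.restrict N) θ.2 h7 (h1 n n.2)
      exact hh fun g _ => (mem_inertia' N).2 fun n => (h9 _).trans (h9 _).symm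
    haveI : (P : Subgroup G).Normal := normalizer_eq_top_iff.1 (top_le_iff.1 (hsup ▸ sup_le
      ((le_centralizer_iff.1 h6).trans (centralizer_le_normalizer _)) le_normalizer))
    have h7 : N ≤ P := fun n hn => mem_of_forall_irr _ fun α hα => by
      have a1 := isIrr_mul_of_charCenter χ.2 α.2.isCharacter (isIrr_restrict_of_ker_sup α.2 P _ hα
        (top_le_iff.1 (hsup ▸ sup_le (h3.trans le_sup_right) le_sup_left)))
      have a2 : charDegree (χ.1 * α.1) = charDegree χ.1 * charDegree α.1 := charDegree_eq_of_apply_one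
        (by rw [Nat.cast_mul, χ.2.isCharacter.charDegree_eq, α.2.isCharacter.charDegree_eq]; rfl)
      have a3 : χ.1 * α.1 = χ.1 := congrArg Subtype.val (h5 ⟨_, a1⟩ (a2 ▸ h4.mul_right _))
      have a4 : χ.1 n * α.1 n = χ.1 n := congrFun a3 n
      have a5 : χ.1 1 * α.1 1 = χ.1 1 := congrFun a3 1
      rw [h1 n hn] at a4
      exact mul_left_cancel₀ χ.2.apply_one_ne_zero (a4.trans a5.symm)
    have h8 : IsPGroup p G := (P.2.of_equiv (MulEquiv.subgroupCongr ((sup_eq_right.2 h7).symm.trans hsup))).of_equiv topEquiv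
    exact hnil h8.isNilpotent
  have hNC : normalizer ((P : Subgroup G) : Set G) ≤ centralizer (P : Set G) := fun g hg => by
    obtain ⟨n, hn, x, hx, rfl⟩ := mem_sup_of_normal_left.1 (show g ∈ N ⊔ P from hsup ▸ mem_top g)
    have h1 : n ∈ normalizer ((P : Subgroup G) : Set G) := (mul_mem_cancel_right (le_normalizer hx)).1 hg
    refine mul_mem (fun y hy => ?_) (hab hx)
    have h2 : y⁻¹ * (n * y * n⁻¹) ∈ N ⊓ P := ⟨by
      simpa [mul_assoc] using N.mul_mem (‹N.Normal›.conj_mem' n hn y) (N.inv_mem hn),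
      (P : Subgroup G).mul_mem ((P : Subgroup G).inv_mem hy) ((mem_normalizer_iff.1 h1 y).1 hy)⟩
    rw [hinf, mem_bot, inv_mul_eq_one] at h2
    exact mul_inv_eq_iff_eq_mul.1 h2.symm |>.symm
  have hps : IsPSolvable p G := H01.psol_ext (QuotientGroup.mk' N) (QuotientGroup.mk'_surjective N)
    (by rw [QuotientGroup.ker_mk']; exact Or.inr hN) (H01.psol_of_card (Or.inl ⟨k, hk⟩))
  set C := normalizer ((P : Subgroup G) : Set G) with hC
  have h1 := S4807.result p hps ⊥ P P (bot_sup_eq _).symm bot_le ⟨1, isIrrCharacter_one⟩ fun _ _ _ _ _ => rfl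
  have h2 : Nat.card {χ : IrrCharacter G // ¬ p ∣ charDegree χ.1} = Nat.card (IrrCharacter C) := by
    refine (Nat.card_congr (Equiv.subtypeEquivRight fun χ => ?_)).trans (h1.trans (Nat.card_congr
      (Equiv.subtypeUnivEquiv fun χ => ⟨fun e => P.not_dvd_index ?_, ?_⟩)))
    · rw [finsum_unique, Subsingleton.elim default 1]
      simpa using fun _ => χ.2.apply_one_ne_zero
    · refine e.trans ((charDegree_dvd_index_of_le_charCenter χ.2 ((P : Subgroup G).subgroupOf C) fun x hx =>
        center_le_charCenter (mem_center_iff.2 fun g => Subtype.ext (hNC g.2 x hx).symm)).trans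
          (relIndex_dvd_index_of_le le_normalizer))
    · rw [finsum_unique, Subsingleton.elim default 1]
      simpa using χ.2.apply_one_ne_zero
  have h3 : Nat.card (ConjClasses C) = Nat.card {K : ConjClasses G // ¬ p ∣ Nat.card K.carrier} := by
    refine Nat.card_eq_of_bijective (fun K => ⟨K.map C.subtype, ?_⟩) ⟨fun K L e => ?_, fun ⟨K, hK⟩ => ?_⟩
    · obtain ⟨x, rfl⟩ := ConjClasses.mk_surjective K
      refine fun e => P.not_dvd_index (((card_carrier (x : G)) ▸ e).trans (index_dvd_of_le fun y hy => ?_))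
      exact mem_centralizer_singleton_iff.2 (hNC x.2 y hy)
    · obtain ⟨x, rfl⟩ := ConjClasses.mk_surjective K
      obtain ⟨y, rfl⟩ := ConjClasses.mk_surjective L
      obtain ⟨g, hg⟩ := isConj_iff.1 (ConjClasses.mk_eq_mk_iff_isConj.1 (congrArg Subtype.val e))
      have hg : g * (x : G) * g⁻¹ = y := hg
      obtain ⟨c, hc, hn⟩ := H03.exists_mul_mem_normalizer_sylow P (C := centralizer {(x : G)})
        (fun z hz => mem_centralizer_singleton_iff.2 (hNC x.2 z hz)) (g := g) fun z hz =>
          mem_centralizer_singleton_iff.2 (by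
            have := hNC y.2 z hz
            rw [← hg] at this
            calc g⁻¹ * z * g * x = g⁻¹ * (z * (g * x * g⁻¹)) * g := by group
              _ = x * (g⁻¹ * z * g) := by rw [this]; group)
      refine ConjClasses.mk_eq_mk_iff_isConj.2 (isConj_iff.2 ⟨⟨_, hn⟩, Subtype.ext ?_⟩)
      have := mem_centralizer_singleton_iff.1 hc
      show g * c * x * (g * c)⁻¹ = y
      rw [← hg, mul_assoc g, this]; group
    · obtain ⟨x, rfl⟩ := ConjClasses.mk_surjective K
      rw [card_carrier] at hK
      obtain ⟨Q⟩ : Nonempty (Sylow p (centralizer ({x} : Set G))) := inferInstance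
      obtain ⟨g, hg⟩ := MulAction.exists_smul_eq G P ((Q.2.map (centralizer ({x} : Set G)).subtype).toSylow (by
        rw [index_map_subtype, hp.dvd_mul, not_or]; exact ⟨Q.not_dvd_index, hK⟩))
      refine ⟨ConjClasses.mk ⟨g⁻¹ * x * g, centralizer_le_normalizer _ fun y hy => ?_⟩, Subtype.ext
        (ConjClasses.mk_eq_mk_iff_isConj.2 (isConj_iff.2 ⟨g, by simp [mul_assoc]⟩))⟩
      have a2 : g * y * g⁻¹ ∈ centralizer ({x} : Set G) := by
        have a1 : g * y * g⁻¹ ∈ g • P := H03.mem_smul_sylow.2 (by simpa [mul_assoc] using! hy)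
        rw [hg] at a1
        exact map_subtype_le _ a1
      have := mem_centralizer_singleton_iff.1 a2
      calc y * (g⁻¹ * x * g) = g⁻¹ * (g * y * g⁻¹ * x) * g := by group
        _ = g⁻¹ * x * g * y := by rw [this]; group
  have h4 := card_add fun χ : IrrCharacter G => p ∣ charDegree χ.1
  have h5 := card_add fun K : ConjClasses G => p ∣ Nat.card K.carrier
  rw [hone, h2, card_irr_eq_card_conjClasses, card_irr_eq_card_conjClasses, h3] at h4
  omega

end Cfsg.Agent.S4763
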