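import Mathlib
import Cfsg.Statements.S4776
import Cfsg.Agent.H07.RelDeg

set_option autoImplicit false
open Cfsg
open H05 H06 Cfsg H07 H07.RD

namespace Cfsg.Agent.S4776

/-- Let N be a normal subgroup of the finite group G that is not perfect and is contained in the derived subgroup of G. Consider the common-divisor graph on the relative degree set cd(G|N) (the degrees of the irreducible complex characters of G whose kernel does not contain N; two distinct degrees adjacent when they have a common divisor greater than one). Then this graph has at most two connected components; and if a, b ∈ cd(G|N) lie in different components, then one of a, b is coprime to the index m of the derived subgroup of N in N while the other is divisible by every prime divisor of m. -/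
theorem result {G : Type*} [Group G] [Finite G] (N : Subgroup G) [N.Normal] (hN : ⁅N, N⁆ < N) (hNG : N ≤ commutator G) : Nat.card (Cfsg.commonDivisorGraph.induce (Cfsg.relCharDegrees N)).ConnectedComponent ≤ 2 ∧ ∀ (a b : ℕ) (ha : a ∈ Cfsg.relCharDegrees N) (hb : b ∈ Cfsg.relCharDegrees N), ¬ (Cfsg.commonDivisorGraph.induce (Cfsg.relCharDegrees N)).Reachable ⟨a, ha⟩ ⟨b, hb⟩ → (Nat.Coprime a (⁅N, N⁆.relIndex N) ∧ ∀ r : ℕ, r.Prime → r ∣ ⁅N, N⁆.relIndex N → r ∣ b) ∨ (Nat.Coprime b (⁅N, N⁆.relIndex N) ∧ ∀ r : ℕ, r.Prime → r ∣ ⁅N, N⁆.relIndex N → r ∣ a) := by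
  by_cases hB : ∀ φ : Hat N, φ ≠ 1 → inH N φ ≠ ⊤
  swap
  · push Not at hB
    obtain ⟨φ, h1, h2⟩ := hB
    have := preconn_of_inv hNG h2 h1
    exact ⟨card_comp_le_two _ (fun _ => True) (fun a b _ _ => this a b) fun _ _ h => absurd trivial h,
      fun a b ha hb h => absurd (this _ _) h⟩
  obtain ⟨p, hp, h1⟩ := Nat.exists_prime_and_dvd (mt Subgroup.relIndex_eq_one.1 hN.not_ge)
  refine ⟨card_comp_le_two _ (fun a => p ∣ a.1) (fun a b h2 h3 => reach' a.2 b.2 (not_cop hp h2 h3))
    fun a b h2 h3 => reach_of_not_dvd hB hp hp h1 h1 a.2 b.2 h2 h3, fun a b ha hb h => ?_⟩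
  have h2 : a.Coprime b := by_contra fun c => h (reach' ha hb c)
  have h3 : ∀ {a b : ℕ}, a.Coprime b → (∀ r : ℕ, r.Prime → r ∣ ⁅N, N⁆.relIndex N → r ∣ b) →
      a.Coprime (⁅N, N⁆.relIndex N) := fun h4 h5 =>
    Nat.coprime_of_dvd fun r hr h6 h7 => not_cop hr h6 (h5 r hr h7) h4
  by_cases h4 : p ∣ a
  · have h5 : ∀ r : ℕ, r.Prime → r ∣ ⁅N, N⁆.relIndex N → r ∣ a := fun r hr h5 => by_contra fun c =>
      h (reach_of_not_dvd hB hr hp h5 h1 ha hb c fun c => not_cop hp h4 c h2)
    exact Or.inr ⟨h3 h2.symm h5, h5⟩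
  · have h5 : ∀ r : ℕ, r.Prime → r ∣ ⁅N, N⁆.relIndex N → r ∣ b := fun r hr h5 => by_contra fun c =>
      h (reach_of_not_dvd hB hp hr h1 h5 ha hb h4 c)
    exact Or.inl ⟨h3 h2 h5, h5⟩

end Cfsg.Agent.S4776
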