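import Mathlib
import Cfsg.Statements.S4779
import Cfsg.Agent.H07.RelDeg

set_option autoImplicit false
open Cfsg
open H05 H06 Cfsg H07 H07.RD

namespace Cfsg.Agent.S4779

/-- Let N be a solvable normal subgroup of the finite group G contained in the derived subgroup of G, and consider the common-divisor graph on the relative degree set cd(G|N) (degrees of irreducible complex characters of G whose kernel does not contain N, two distinct degrees adjacent when not coprime). If this graph has two vertices that are not joined by any path, then there is a vertex a₀ such that any two distinct vertices in the component of a₀ are adjacent, and any two distinct vertices outside that component are adjacent or have a common neighbour (one component is complete, the other has diameter at most 2). -/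
theorem result {G : Type*} [Group G] [Finite G] (N : Subgroup G) [N.Normal] [Group.IsSolvable N] (hNG : N ≤ commutator G) (hdisc : ¬ (Cfsg.commonDivisorGraph.induce (Cfsg.relCharDegrees N)).Preconnected) : ∃ a₀ : ↥(Cfsg.relCharDegrees N), (∀ b c : ↥(Cfsg.relCharDegrees N), (Cfsg.commonDivisorGraph.induce (Cfsg.relCharDegrees N)).Reachable a₀ b → (Cfsg.commonDivisorGraph.induce (Cfsg.relCharDegrees N)).Reachable a₀ c → b ≠ c → (Cfsg.commonDivisorGraph.induce (Cfsg.relCharDegrees N)).Adj b c) ∧ (∀ b c : ↥(Cfsg.relCharDegrees N), ¬ (Cfsg.commonDivisorGraph.induce (Cfsg.relCharDegrees N)).Reachable a₀ b → ¬ (Cfsg.commonDivisorGraph.induce (Cfsg.relCharDegrees N)).Reachable a₀ c → b ≠ c → (Cfsg.commonDivisorGraph.induce (Cfsg.relCharDegrees N)).Adj b c ∨ ∃ d : ↥(Cfsg.relCharDegrees N), (Cfsg.commonDivisorGraph.induce (Cfsg.relCharDegrees N)).Adj b d ∧ (Cfsg.commonDivisorGraph.induce (Cfsg.relCharDegrees N)).Adj d c) := by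
  have hB : ∀ φ : Hat N, φ ≠ 1 → inH N φ ≠ ⊤ := fun φ h1 h2 => hdisc (preconn_of_inv hNG h2 h1)
  have adj : ∀ a b : relCharDegrees N, a ≠ b → ¬ a.1.Coprime b.1 →
      (commonDivisorGraph.induce (relCharDegrees N)).Adj a b := fun a b h1 h2 =>
    ⟨fun c => h1 (Subtype.ext c), lt_of_le_of_ne (Nat.gcd_pos_of_pos_right _
      (Nat.pos_of_ne_zero (ne_zero b.2))) (Ne.symm h2)⟩
  simp only [SimpleGraph.Preconnected, not_forall] at hdisc
  obtain ⟨x, y, hxy⟩ := hdisc
  have hN : N ≠ ⊥ := by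
    rintro rfl
    obtain ⟨χ, ⟨g, h1, h2⟩, -⟩ := x.2
    exact h2 (by rw [Subgroup.mem_bot.1 h1])
  have hlt : ⁅N, N⁆.relIndex N ≠ 1 := by
    haveI := (Subgroup.nontrivial_iff_ne_bot N).2 hN
    rw [relIndex_comm]
    exact mt Subgroup.index_eq_one.1 (Group.IsSolvable.commutator_lt_top_of_nontrivial N).ne
  obtain ⟨p, hp, h1⟩ := Nat.exists_prime_and_dvd hlt
  obtain ⟨a, z, h2, h3⟩ : ∃ a z : relCharDegrees N, p ∣ a.1 ∧
      ¬ (commonDivisorGraph.induce (relCharDegrees N)).Reachable a z := by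
    by_cases h2 : p ∣ x.1
    · exact ⟨x, y, h2, hxy⟩
    · exact ⟨y, x, by_contra fun c => hxy (reach_of_not_dvd hB hp hp h1 h1 x.2 y.2 h2 c), fun c => hxy c.symm⟩
  have h4 : ¬ p ∣ z.1 := fun c => h3 (reach' a.2 z.2 (not_cop hp h2 c))
  have h5 : ∀ b : relCharDegrees N, (commonDivisorGraph.induce (relCharDegrees N)).Reachable a b →
      ∀ r : ℕ, r.Prime → r ∣ ⁅N, N⁆.relIndex N → r ∣ b.1 := fun b h r hr h5 => by_contra fun c =>
    h3 (h.trans (reach_of_not_dvd hB hr hp h5 h1 b.2 z.2 c h4))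
  have h6 : ∀ d ∈ relCharDegrees N, ¬ d.Coprime (⁅N, N⁆.relIndex N) → ∀ hd,
      (commonDivisorGraph.induce (relCharDegrees N)).Reachable a ⟨d, hd⟩ := fun d _ h hd => by
    obtain ⟨r, hr, h7, h8⟩ := Nat.Prime.not_coprime_iff_dvd.1 h
    exact reach' a.2 hd (not_cop hr (h5 a (SimpleGraph.Reachable.refl _) r hr h8) h7)
  refine ⟨a, fun b c hb hc h => adj b c h (not_cop hp (h5 b hb p hp h1) (h5 c hc p hp h1)),
    fun b c hb hc h => ?_⟩
  rcases near_two hB b.2 c.2 (by_contra fun e => hb (h6 _ b.2 e b.2)) (by_contra fun e => hc (h6 _ c.2 e c.2))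
    with ⟨d, e1, e2, e3⟩ | ⟨d, e1, e2, e3⟩ | ⟨d, e1, e2, e3⟩
  · by_cases e4 : b = ⟨d, e1⟩
    · exact Or.inl (adj b c h fun e => e3 (by rw [e4] at e; exact e.symm))
    by_cases e5 : c = ⟨d, e1⟩
    · exact Or.inl (adj b c h fun e => e2 (by rw [e5] at e; exact e))
    exact Or.inr ⟨⟨d, e1⟩, adj _ _ e4 e2, (adj _ _ e5 e3).symm⟩
  · exact absurd ((h6 d e1 e3 e1).trans (reach' b.2 e1 e2).symm) hb
  · exact absurd ((h6 d e1 e3 e1).trans (reach' c.2 e1 e2).symm) hc

end Cfsg.Agent.S4779
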