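import Mathlib
import Cfsg.Statements.S4811
import Cfsg.Agent.H07.RelDeg

set_option autoImplicit false
open Cfsg
open H05 H06 Cfsg H07 H07.RD

namespace Cfsg.Agent.S4811

/-- For every finite solvable group G the character degree graph of G (vertices: the primes dividing some irreducible complex character degree; edges: distinct primes whose product divides some degree) has at most two connected components. -/
theorem result {G : Type*} [Group G] [Finite G] [Group.IsSolvable G] : Nat.card ((Cfsg.degreeGraph G).induce (Cfsg.degreePrimes G)).ConnectedComponent ≤ 2 := by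
  by_cases hG : IsMulCommutative G
  · refine card_comp_le_two _ (fun _ => True) (fun ⟨p, hp, d, ⟨χ, h⟩, h1⟩ => ?_) fun _ _ h => absurd trivial h
    rw [← h, deg_eq_one_of_comm χ.2] at h1
    exact absurd h1 hp.not_dvd_one
  have key : ∀ (a b : degreePrimes G) (χ : IrrCharacter G), a.1 ∣ charDegree χ.1 → b.1 ∣ charDegree χ.1 →
      ((degreeGraph G).induce (degreePrimes G)).Reachable a b := fun a b χ h1 h2 => by
    by_cases e : a = b
    · rw [e]
    · exact SimpleGraph.Adj.reachable ⟨fun c => e (Subtype.ext c), a.2.1, b.2.1, _, ⟨χ, rfl⟩,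
        Nat.Coprime.mul_dvd_of_dvd_of_dvd ((Nat.coprime_primes a.2.1 b.2.1).2 fun c => e (Subtype.ext c)) h1 h2⟩
  obtain ⟨β, h1, h2⟩ | ⟨K, N, _, _, h⟩ := na_cases_solv hG
  · obtain ⟨r, hr, h3⟩ := Nat.exists_prime_and_dvd h1
    have h4 : ∀ a, ((degreeGraph G).induce (degreePrimes G)).Reachable a ⟨r, hr, _, ⟨β, rfl⟩, h3⟩ := by
      rintro ⟨p, hp, _, ⟨χ, rfl⟩, h5⟩
      by_cases h6 : (charDegree χ.1).Coprime (charDegree β.1)
      · obtain ⟨ψ, h7⟩ := exists_mul_deg β.2 h2 χ.2 h6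
        exact key _ _ ψ (h7 ▸ h5.mul_left _) (h7 ▸ h3.mul_right _)
      · obtain ⟨q, hq, h7, h8⟩ := Nat.Prime.not_coprime_iff_dvd.1 h6
        exact (key _ ⟨q, hq, _, ⟨χ, rfl⟩, h7⟩ χ h5 h7).trans (key _ _ β h8 h3)
    exact card_comp_le_two _ (fun _ => True) (fun a b _ _ => (h4 a).trans (h4 b).symm)
      fun _ _ h => absurd trivial h
  obtain ⟨s, hs, h1⟩ := Nat.exists_prime_and_dvd h.one_lt.ne'
  obtain ⟨α, h2⟩ := h.exists_deg
  obtain ⟨r, hr, h3, -⟩ := h.exists_prime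
  let s' : degreePrimes G := ⟨s, hs, _, ⟨α, rfl⟩, h2 ▸ h1⟩
  have h4 : ∀ a, ¬ ((degreeGraph G).induce (degreePrimes G)).Reachable a s' →
      ∃ χ : IrrCharacter G, a.1 ∣ charDegree χ.1 ∧ r ∣ charDegree χ.1 := by
    rintro ⟨p, hp, _, ⟨χ, rfl⟩, h5⟩ h6
    obtain ⟨ψ, f, h7, h8⟩ := exists_under_mul N χ.2
    rcases (Nat.Prime.dvd_mul hp).1 (h8 ▸ h5) with h9 | h9
    · exact absurd (key _ _ α (h2 ▸ h9.trans h7) (h2 ▸ h1)) h6
    rcases h.deg_or_dvd ψ.2 with ⟨ξ, h10⟩ | h10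
    · exact absurd (key _ _ ξ (h10 ▸ h9.mul_left _) (h10 ▸ h1.mul_right _)) h6
    · exact ⟨χ, h5, h8 ▸ (hr.dvd_of_dvd_pow (h3.trans h10)).mul_left _⟩
  refine card_comp_le_two _ (fun a => ((degreeGraph G).induce (degreePrimes G)).Reachable a s')
    (fun a b h1 h2 => h1.trans h2.symm) fun a b h1 h2 => ?_
  obtain ⟨χ, h5, h6⟩ := h4 a h1
  obtain ⟨ψ, h7, h8⟩ := h4 b h2
  exact (key a ⟨r, hr, _, ⟨χ, rfl⟩, h6⟩ χ h5 h6).trans (key _ b ψ h8 h7)

end Cfsg.Agent.S4811
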