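import Mathlib
import Cfsg.Statements.S4997
import Cfsg.Agent.H05.Van

set_option autoImplicit false
open Cfsg

namespace Cfsg.Agent.S4997

/-- Let p be an odd prime and G a finite solvable group with exactly one conjugacy class consisting of vanishing elements (elements at which some irreducible complex character is zero) of order divisible by p. Let P be a Sylow p-subgroup of G. Then the order of P is at most p times the order of the largest normal p-subgroup of G. -/
theorem result {G : Type*} [Group G] [Finite G] (hsolv : Group.IsSolvable G) (p : ℕ) [Fact p.Prime] (hp : p ≠ 2) (h1 : Set.ncard {C : ConjClasses G | (∀ g ∈ C.carrier, ∃ χ : Cfsg.IrrCharacter G, (χ : G → ℂ) g = 0) ∧ ∃ g ∈ C.carrier, p ∣ orderOf g} = 1) (P : Sylow p G) : Nat.card ↥(P : Subgroup G) ≤ p * Nat.card ↥(Cfsg.pCore p G) := by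
  obtain ⟨C, hC⟩ := Set.ncard_eq_one.1 h1
  obtain ⟨a, rfl⟩ := ConjClasses.mk_surjective C
  have := H05.Van.card_le (p := p) (b := orderOf a) (fun g χ hχ e hg => by
    have : ConjClasses.mk g ∈ ({ConjClasses.mk a} : Set _) := hC ▸ ⟨fun x hx => ⟨⟨χ, hχ⟩, by
      obtain ⟨c, rfl⟩ := isConj_iff.1 (ConjClasses.mk_eq_mk_iff_isConj.1 (ConjClasses.mem_carrier_iff_mk_eq.1 hx).symm)
      exact ((H05.Cfsg.IsIrrCharacter.isClassFunction hχ) g c).trans e⟩, g, ConjClasses.mem_carrier_mk, hg⟩
    obtain ⟨c, rfl⟩ := isConj_iff.1 (ConjClasses.mk_eq_mk_iff_isConj.1 this)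
    exact ((MulAut.conj c).orderOf_eq g).symm) P.isPGroup'
  have e := (QuotientGroup.mk' (Cfsg.pCore p G)).subgroupMap_surjective P
  rw [Subgroup.card_eq_card_quotient_mul_card_subgroup ((QuotientGroup.mk' (Cfsg.pCore p G)).subgroupMap P).ker,
    Nat.card_congr (QuotientGroup.quotientKerEquivOfSurjective _ e).toEquiv]
  refine Nat.mul_le_mul this (Nat.card_le_card_of_injective (fun x => ⟨x.1.1, (QuotientGroup.eq_one_iff _).1
    (congrArg Subtype.val x.2)⟩) fun x y h => Subtype.ext (Subtype.ext (by simpa using h)))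

end Cfsg.Agent.S4997
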