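import Mathlib
import Cfsg.Statements.S5055
import Cfsg.Agent.H29.RI8

set_option autoImplicit false
open Cfsg

namespace Cfsg.Agent.S5055

/-- The Root Structure Theorem for root involutions. Let G be a finite group with O₂(G) = 1 and trivial centre, generated by a non-degenerate class D of root involutions such that for every d ∈ D the members of D with the same commuting members as d, together with 1, form a subgroup E(d). For d ∈ D let M_d be the subgroup generated by d and the members e ≠ d of D commuting with d with ed ∈ D, let W_d be the set of members of D commuting with d that have no partner with product of odd order among the members commuting with d, and let N_d be the subgroup generated by W_d. Then N_d = M_d; the members of D in N_d are d and the e just described; the commutator subgroup of N_d is E(d); and the members of D central in N_d are exactly those with the same commuting members as d. -/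
theorem result {G : Type*} [Group G] [Finite G] {D : Set G} (hD : Cfsg.IsNondegenerateRootInvolutionSet D)
    (hcl : Cfsg.IsRootInvolutionClass D) (hO : Cfsg.pCore 2 G = ⊥) (hZ : Subgroup.center G = ⊥)
    (hE : ∀ d ∈ D, (Cfsg.sameCommutingSubgroup D d : Set G) = Cfsg.sameCommutingClass D d ∪ {1}) {d : G} (hd : d ∈ D) :
    Subgroup.closure {w | Cfsg.IsIsolatedElem (Cfsg.OddAdj (Cfsg.commutingMembers D d)) (Cfsg.commutingMembers D d) w} =
      Subgroup.closure (Cfsg.productPartners D d ∪ {d}) ∧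
    D ∩ (Subgroup.closure (Cfsg.productPartners D d ∪ {d}) : Set G) = Cfsg.productPartners D d ∪ {d} ∧
    ⁅Subgroup.closure (Cfsg.productPartners D d ∪ {d}), Subgroup.closure (Cfsg.productPartners D d ∪ {d})⁆ =
      Cfsg.sameCommutingSubgroup D d ∧
    Cfsg.sameCommutingClass D d = {e | e ∈ D ∧ e ∈ Subgroup.closure (Cfsg.productPartners D d ∪ {d}) ∧
      ∀ y ∈ Subgroup.closure (Cfsg.productPartners D d ∪ {d}), e * y = y * e} := by
  open H29.RI H12.RI Subgroup in
  have N : ND D := ⟨hD, hcl.2.2, hZ⟩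
  have hE' := he_of hE
  have R := N.rt
  have e0 := N.wd_eq hE' hd
  have e1 : {w | Cfsg.IsIsolatedElem (Cfsg.OddAdj (Cfsg.commutingMembers D d)) (Cfsg.commutingMembers D d) w} = {w | Wd D d w} :=
    Set.ext fun w => ⟨fun h => ⟨h.1.1, h.1.2, fun c hc e o => (h.2 c).1 ⟨h.1, ⟨hc, e⟩, o⟩⟩, fun h => ⟨⟨h.1, h.2.1⟩, fun b =>
      ⟨fun k => h.2.2 b k.2.1.1 k.2.1.2 k.2.2, fun k => h.2.2 b k.1.1 k.1.2 (Od.symm k.2.2)⟩⟩⟩
  have mW : ∀ w, Wd D d w → w ∈ Subgroup.closure {w | Wd D d w} := fun w h => Subgroup.subset_closure h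
  rw [e1, ← e0]
  refine ⟨rfl, Set.ext fun y => ⟨fun h => wd_cl R h.1 h.2, fun h => ⟨h.1, mW y h⟩⟩, le_antisymm ?_ fun y hy => ?_,
    Set.ext fun e => ⟨fun h => ⟨h.1, mW e (wd_E R hd h), fun y hy => cent_cl (fun w hw => (E_c h hw.1 hw.2.1).symm) hy⟩,
      fun h => by_contra fun k => ?_⟩⟩
  · have c : ∀ a, EA D d a → ∀ g ∈ Subgroup.closure {w | Wd D d w}, g * a * g⁻¹ = a := fun a ha g hg => by
      rw [← (cent_cl (fun w hw => (ha.cm hw.1 hw.2.1).symm) hg).eq, mul_inv_cancel_right]
    refine Subgroup.commutator_le.2 fun a ha b hb => (ea_of hE' R).2 ?_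
    rw [commutatorElement_def]
    induction ha using Subgroup.closure_induction with
    | mem a ha =>
      induction hb using Subgroup.closure_induction with
      | mem b hb => rw [inv R ha.1, inv R hb.1]; exact N.claim hE' hd ha hb
      | one => exact Or.inl (by simp)
      | mul b b' hb hb' h h' =>
        rw [show a * (b * b') * a⁻¹ * (b * b')⁻¹ = a * b * a⁻¹ * b⁻¹ * (b * (a * b' * a⁻¹ * b'⁻¹) * b⁻¹) by group, c _ h' b hb]
        exact h.mul hE' h'
      | inv b hb h =>
        rw [show a * b⁻¹ * a⁻¹ * b⁻¹⁻¹ = b⁻¹ * (a * b * a⁻¹ * b⁻¹)⁻¹ * b⁻¹⁻¹ by group, inv_eq_of_mul_eq_one_right (h.sq R),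
          c _ h _ (inv_mem hb)]
        exact h
    | one => exact Or.inl (by simp)
    | mul a a' ha ha' h h' =>
      rw [show a * a' * b * (a * a')⁻¹ * b⁻¹ = a * (a' * b * a'⁻¹ * b⁻¹) * a⁻¹ * (a * b * a⁻¹ * b⁻¹) by group, c _ h' a ha]
      exact h'.mul hE' h
    | inv a ha h =>
      rw [show a⁻¹ * b * a⁻¹⁻¹ * b⁻¹ = a⁻¹ * (a * b * a⁻¹ * b⁻¹)⁻¹ * a⁻¹⁻¹ by group, inv_eq_of_mul_eq_one_right (h.sq R),
        c _ h _ (inv_mem ha)]
      exact h
  · rcases (ea_of hE' R).1 hy with rfl | hy
    · exact one_mem _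
    obtain ⟨z, hz, n⟩ := N.ex_pp hd
    have hz' := wd_pp R hd hz
    obtain ⟨s, hs, e⟩ := N.line hy.1 (N.pp_of hE' hy.1 (hz'.base hy) fun e => n (e ▸ hy)) fun k => n (E_tr hy k)
    have := Subgroup.commutator_mem_commutator (mW z hz') (mW s ((wd_pp R hy.1 hs).base' hy))
    rwa [commutatorElement_def, inv R hz.1.1, inv R hs.1.1, mul_assoc, mul_assoc, ← mul_assoc s, e, cancel R hz.1.1] at this
  · obtain ⟨w, hw, n⟩ := N.zc hd h.1 (wd_cl R h.1 h.2.1).2.1 k
    exact n (h.2.2 w (mW w (wd_pp R hd hw)))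

end Cfsg.Agent.S5055
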