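import Cfsg.Statements.S5191
import Cfsg.Agent.H28.Free
-- import your own Cfsg.Agent.* helpers here

set_option autoImplicit false
open Cfsg

namespace Cfsg.Agent.S5191
open H28 Cfsg.FusionSystem
set_option linter.unusedVariables false
set_option linter.style.haveILetI false


/-- Fusion in a finite group G and in its quotient by O_{p'}(G) agree. Let S be a Sylow p-subgroup of G, N = O_{p'}(G) and P ≤ S. If an element of G/N conjugates the image of P into the image of S, then some element g of G conjugates P into S and induces the same map on P modulo N. (Together with the injectivity of S → G/N this says that g ↦ gN induces an isomorphism of the fusion system of G on S with that of G/N on SN/N.) -/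
theorem result {G : Type*} [Group G] [Finite G] {p : ℕ} [Fact p.Prime]
    [hN : (Cfsg.pPrimeCore p G).Normal] (S : Sylow p G) (P : Subgroup G) (hP : P ≤ (S : Subgroup G))
    (γ : G ⧸ Cfsg.pPrimeCore p G)
    (hγ : ∀ x ∈ P, γ * QuotientGroup.mk x * γ⁻¹ ∈ ((S : Subgroup G).map (QuotientGroup.mk' (Cfsg.pPrimeCore p G)))) :
    ∃ g : G, ∀ x ∈ P, g * x * g⁻¹ ∈ S ∧
      (QuotientGroup.mk (g * x * g⁻¹) : G ⧸ Cfsg.pPrimeCore p G) = γ * QuotientGroup.mk x * γ⁻¹ := by
  induction γ using QuotientGroup.induction_on with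
  | H g =>
  obtain ⟨l, hl, e⟩ := syl_exists_conj_of_sup (L := Cfsg.pPrimeCore p G) (X := P.map (MulAut.conj g).toMonoidHom)
    (H26.isSyl_top S) le_top (by rw [Subgroup.normalizer_eq_top]; exact le_top) (by
      rintro _ ⟨x, hx, rfl⟩
      obtain ⟨s, hs, e⟩ := hγ x hx
      have : s⁻¹ * (g * x * g⁻¹) ∈ Cfsg.pPrimeCore p G := QuotientGroup.eq.1 e
      have h2 := Subgroup.mul_mem_sup hs this
      rwa [mul_inv_cancel_left] at h2) ((S.isPGroup'.to_le hP).map _)
  refine ⟨l * g, fun x hx => ⟨?_, ?_⟩⟩
  · have := e _ ⟨x, hx, rfl⟩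
    rwa [show l * g * x * (l * g)⁻¹ = l * (g * x * g⁻¹) * l⁻¹ by group]
  · simp only [QuotientGroup.mk_mul, QuotientGroup.mk_inv, (QuotientGroup.eq_one_iff l).2 hl, one_mul]

end Cfsg.Agent.S5191
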