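import Cfsg.Statements.S5192
import Cfsg.Agent.H28.Trans2
-- import your own Cfsg.Agent.* helpers here

set_option autoImplicit false
open Cfsg

namespace Cfsg.Agent.S5192
open H28 Cfsg.FusionSystem
set_option linter.unusedVariables false
set_option linter.style.haveILetI false


/-- A Thompson-type transfer for saturated fusion systems. Let F be a saturated fusion system on a finite 2-group S, T a subgroup of S of index 2, and i an involution of S such that every fully normalized F-conjugate of i lies in S but outside T. Then i does not lie in the hyperfocal subgroup of F (the Sylow group of the 2-residual subsystem). -/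
theorem result {Ω : Type*} [Group Ω] [Finite Ω] {S : Subgroup Ω}
    (hS : IsPGroup 2 ↥S) (F : Cfsg.FusionSystem S) (hF : F.IsSaturated 2)
    (T : Subgroup Ω) (hTS : T ≤ S) (hT : T.relIndex S = 2)
    (i : Ω) (hi : i ∈ S) (hi2 : orderOf i = 2)
    (h : ∀ j : Ω, F.IsConjElt i j → F.IsFullyNormalized (Subgroup.zpowers j) → j ∉ T) :
    i ∉ F.hyperfocalSubgroup 2 := by
  classical
  haveI : Finite S := inferInstance
  haveI := Subgroup.normal_of_index_eq_two (H := T.subgroupOf S) hT
  let e : S ⧸ T.subgroupOf S ≃* Multiplicative (ZMod 2) := mulEquivOfPrimeCardEq hT (by simp)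
  let χ := e.toMonoidHom.comp (QuotientGroup.mk' (T.subgroupOf S))
  have h1 : ∀ x ∈ S, tot χ x = 1 ↔ x ∈ T := fun x hx => by
    rw [tot_apply _ hx]; simp [χ, Subgroup.mem_subgroupOf]
  have h2 : ∀ j ∈ S, orderOf j = 2 → normalizerIn S (Subgroup.zpowers j) = centralizerIn S (Subgroup.zpowers j) :=
    fun j hj ho => le_antisymm (fun s hs => ⟨hs.1, fun x ⟨k, hk⟩ => by
      have h3 := conj_mem_of_normalizer hs.2 (Subgroup.mem_zpowers j)
      have h4 : s * j * s⁻¹ = j := by
        rw [mem_zpowers_iff_mem_range_orderOf, ho] at h3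
        simp only [Finset.range_add_one, Finset.range_zero, Finset.mem_image] at h3
        obtain ⟨a, ha, h3⟩ := h3
        simp only [Finset.mem_insert, Finset.notMem_empty, or_false] at ha
        rcases ha with rfl | rfl
        · simpa using h3.symm
        · rw [pow_zero, eq_comm, conj_eq_one_iff] at h3
          rw [h3, orderOf_one] at ho; omega
      exact hk ▸ (Commute.zpow_left (show j * s = s * j from by rw [← mul_inv_eq_iff_eq_mul.1 h4]) k).eq⟩)
      centralizerIn_le_normalizerIn
  obtain ⟨Q, g, hg, hQ⟩ := exists_fullyNormalized F (Subgroup.zpowers_le.2 hi)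
  have hm := Subgroup.mem_zpowers i
  obtain rfl := hg.hiso.unique (hg.hom.hiso_zpowers hm)
  have ho := (hg.hiso.orderOf_eq hm).trans hi2
  have h3 := h _ (hg.map.isConjElt hm) hQ
  intro h4
  refine thompson_transfer hS hF (homOn_tot χ) (hg.map.mem hm) ho (mt (h1 _ (hg.map.mem hm)).1 h3) (fun f hf => ?_)
    (sc_mem (sc_of_focal_le (focal_le F) le_rfl) hg.map hm (hyperfocal_le_focal F h4))
  rw [← h2 _ (hg.map.mem hm) ho] at hf
  have hm' := le_normalizerIn hQ.1 (Subgroup.mem_zpowers (g i))
  have h5 := hf.hom.hiso_zpowers hm'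
  have h6 : F.IsFullyNormalized (Subgroup.zpowers (f (g i))) := isFullyNormalized_iff.2 ⟨Subgroup.zpowers_le.2 (hf.mem hm'),
    fun R k hk => ((isFullyNormalized_iff.1 hQ).2 R _ ((hf.iso_of_le (le_normalizerIn hQ.1) h5).trans hk)).trans
      (hf.card_le normalizerIn_le fun x hx => hf.normalizerIn_mem h5 hQ.1 hx)⟩
  have h7 := h _ ((hg.map.comp hf fun x hx => le_normalizerIn hQ.1 (hg.map_mem hx)).isConjElt hm) h6
  have h8 : ∀ a b : Multiplicative (ZMod 2), a ≠ 1 → b ≠ 1 → a = b := by decide
  exact h8 _ _ (mt (h1 _ (hf.mem hm')).1 h7) (mt (h1 _ (hg.map.mem hm)).1 h3)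

end Cfsg.Agent.S5192
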