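import Cfsg.Statements.S5296
import Cfsg.Agent.H28.Q3
-- import your own Cfsg.Agent.* helpers here

set_option autoImplicit false
universe u
open Cfsg

namespace Cfsg.Agent.S5296
open H28 Cfsg.FusionSystem
set_option linter.unusedVariables false
set_option linter.style.haveILetI false


/-- Small-exponent abelian subgroups of the hyperfocal subgroup control fusion. Let E and F be saturated fusion systems over the same finite p-group S with E contained in F. Suppose that E and F have the same maps between A and B for all subgroups A, B of the hyperfocal subgroup of F that are elementary abelian when p is odd, respectively abelian of exponent dividing 4 when p = 2. Then E = F. -/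
theorem result {Ω : Type u} [Group Ω] {S : Subgroup Ω} [Finite S] (p : ℕ) [Fact p.Prime] (hS : IsPGroup p S)
    (E F : Cfsg.FusionSystem S) (hE : E.IsSaturated p) (hF : F.IsSaturated p) (hEF : E.IsSubsystemOf F)
    (hodd : p ≠ 2 → ∀ A B : Subgroup Ω, A ≤ (F.hyperfocalSubgroup p) → B ≤ (F.hyperfocalSubgroup p) →
      Cfsg.IsElementaryAbelian p A → Cfsg.IsElementaryAbelian p B → E.homSet A B = F.homSet A B)
    (htwo : p = 2 → ∀ A B : Subgroup Ω, A ≤ (F.hyperfocalSubgroup p) → B ≤ (F.hyperfocalSubgroup p) →
      IsMulCommutative ↥A → IsMulCommutative ↥B → (∀ a ∈ A, a ^ 4 = 1) → (∀ b ∈ B, b ^ 4 = 1) → E.homSet A B = F.homSet A B) :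
    ∀ P : Subgroup Ω, E.Hom P = F.Hom P := by
  refine hom_eq_of_sub hEF (sub_of_small hS hF hE hEF fun A f h1 h2 h3 hf => ?_)
  have hi := hf.iso_img
  have h4 : img f A ≤ F.hyperfocalSubgroup p := img_le_iff.2 fun x hx => sc_mem (sc_hyperfocal hS hF) hf hx (h1 hx)
  have h5 : ∀ y ∈ img f A, H27.Small p y := fun y hy => by
    obtain ⟨x, hx, rfl⟩ := hi.surj hy
    exact small_of_hiso hi.hiso hx (h3 x hx)
  have c1 := H17.isMulCommutative_of_comm h2
  have c2 := H17.isMulCommutative_of_comm (hi.hiso.comm h2)
  have k : E.homSet A (img f A) = F.homSet A (img f A) := by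
    by_cases hp : p = 2
    · have k2 : ∀ x : Ω, H27.Small p x → x ^ 4 = 1 := fun x hx =>
        hx.elim (fun e => by rw [show 4 = p * 2 by omega, pow_mul, e, one_pow]) fun e => e.2
      exact htwo hp A _ h1 h4 c1 c2 (fun a ha => k2 a (h3 a ha)) fun a ha => k2 a (h5 a ha)
    · exact hodd hp A _ h1 h4 ⟨c1, fun a ha => (h3 a ha).resolve_right fun e => hp e.1⟩
        ⟨c2, fun a ha => (h5 a ha).resolve_right fun e => hp e.1⟩
  exact ⟨_, (k.ge ⟨hf.toHom_mem, fun x => mem_img_of_mem x.2⟩).1, fun _ _ => rfl⟩

end Cfsg.Agent.S5296
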