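import Cfsg.Statements.S5299
import Cfsg.Agent.H28.Q4
-- import your own Cfsg.Agent.* helpers here

set_option autoImplicit false
universe u
open Cfsg

namespace Cfsg.Agent.S5299
open H28 Cfsg.FusionSystem
set_option linter.unusedVariables false
set_option linter.style.haveILetI false


/-- Let F be a saturated fusion system over a finite p-group S, H a finite group and Q a p-subgroup of H. If Q is not involved in S (no section of S is isomorphic to Q), then F is H-free: H is involved in no model of the normalizer system of a fully normalized centric subgroup. -/
theorem result {Ω : Type u} [Group Ω] {S : Subgroup Ω} [Finite S] (p : ℕ) [Fact p.Prime] (hS : IsPGroup p S)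
    (F : Cfsg.FusionSystem S) (hF : F.IsSaturated p) (H : Type*) [Group H] [Finite H] (Q : Subgroup H) (hQ : IsPGroup p Q)
    (hfree : ¬ Cfsg.Involves (↥Q) (↥S)) : F.IsSectionFree p H := by
  intro U hU _ N _ L _ ι hL h
  haveI := finite_of_le (normalizerIn_le : normalizerIn S U ≤ S)
  haveI := model_finite hL
  refine hfree (H17.sec_iff_involves.1 (((sec_sylow hQ ((H17.Sec.of_hom Q.subtype Q.subtype_injective (MonoidHom.id Q)
    Function.surjective_id).trans (H17.sec_iff_involves.2 h)) (model_syl hL)).of_surjective ι.rangeRestrict
      ι.rangeRestrict_surjective).of_le normalizerIn_le))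

end Cfsg.Agent.S5299
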