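import Mathlib
import Cfsg.Statements.S5472
import Cfsg.Agent.H13.Y22

set_option autoImplicit false
open Cfsg

namespace Cfsg.Agent.S5472

/-- Let G be a finite group with trivial centre generated by a conjugation-invariant set D of 3-transpositions on which it acts primitively, such that for some d in D the subgroup generated by the members of D other than d commuting with d has central largest normal 2- and 3-subgroups, and suppose G with D is of type M(22). Then G has a non-inner automorphism s of order 2 whose fixed-point subgroup is isomorphic to the full automorphism group of Ω⁺(8, 2) (the commutator subgroup of the isometry group of the hyperbolic quadratic form in dimension 8 over the field with two elements), together with distinct commuting members a, b of D fixed by s such that: s, s composed with conjugation by a, and s composed with conjugation by a b represent the three classes (under the automorphism group) of non-inner automorphisms of order 2; the elements fixed by the automorphism s composed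 with conjugation by a are exactly those fixed by s and commuting with a, and they form a group isomorphic to the direct product of a group of order 2 and the symplectic group of dimension 6 over the field with two elements; and the elements fixed by the automorphism s composed with conjugation by a b form a group whose largest normal 2-subgroup is elementary abelian of order 64 with quotient isomorphic to the full isometry group of the elliptic quadratic form in dimension 6 over the field with two elements. -/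
theorem result {G : Type*} [Group G] [Finite G] {D : Set G} (hD : Cfsg.IsThreeTranspositionGroup D) (hprim : Cfsg.IsPrimitiveUnderConj D) (d₀ : G) (hd₀ : d₀ ∈ D) (h3 : Cfsg.pCore 3 ↥(Subgroup.closure {y : G | y ∈ D ∧ y ≠ d₀ ∧ Commute d₀ y}) ≤ Subgroup.center ↥(Subgroup.closure {y : G | y ∈ D ∧ y ≠ d₀ ∧ Commute d₀ y})) (h2 : Cfsg.pCore 2 ↥(Subgroup.closure {y : G | y ∈ D ∧ y ≠ d₀ ∧ Commute d₀ y}) ≤ Subgroup.center ↥(Subgroup.closure {y : G | y ∈ D ∧ y ≠ d₀ ∧ Commute d₀ y})) (h22 : Cfsg.IsOfTypeM22 G D) : ∃ (s : MulAut G) (a b : G) (Cs : Subgroup G), orderOf s = 2 ∧ s ∉ (MulAut.conj : G →* MulAut G).range ∧ (∀ g : G, g ∈ Cs ↔ s g = g) ∧ Nonempty (↥Cs ≃* MulAut (Cfsg.Omega (ZMod 2) (Cfsg.quadFormPlus 4 (ZMod 2)))) ∧ a ∈ D ∧ b ∈ D ∧ a ≠ b ∧ Commute a b ∧ s a = a ∧ s b = b ∧ (∀ t : MulAut G, orderOf t = 2 → t ∉ (MulAut.conj : G →* MulAut G).range → (IsConj t s ∨ IsConj t (s * MulAut.conj a) ∨ IsConj t (s * MulAut.conj (a * b)))) ∧ ¬ IsConj s (s * MulAut.conj a) ∧ ¬ IsConj s (s * MulAut.conj (a * b)) ∧ ¬ IsConj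 (s * MulAut.conj a) (s * MulAut.conj (a * b)) ∧ (∀ g : G, (s * MulAut.conj a) g = g ↔ g ∈ Cs ⊓ Subgroup.centralizer ({a} : Set G)) ∧ Nonempty (↥(Cs ⊓ Subgroup.centralizer ({a} : Set G)) ≃* Multiplicative (ZMod 2) × Cfsg.PSp 3 (ZMod 2)) ∧ ∃ Csab O : Subgroup G, (∀ g : G, g ∈ Csab ↔ (s * MulAut.conj (a * b)) g = g) ∧ O = (Cfsg.pCore 2 ↥Csab).map Csab.subtype ∧ Cfsg.IsElementaryAbelian 2 O ∧ Nat.card O = 64 ∧ ∃ _ : (O.subgroupOf Csab).Normal, Nonempty (↥Csab ⧸ O.subgroupOf Csab ≃* Cfsg.isometryGroup (ZMod 2) (Cfsg.quadFormMinus 2 (ZMod 2) 1 1)) := by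
  have h := H29.t22_of_type hD hprim h22
  have q := H13.tr3_sq hD.1
  obtain ⟨gen, M⟩ := H13.M22.of_type hD hprim h22
  obtain ⟨s, A⟩ := H13.A22.of_is M h hD.2.2 h22.1
  have o := H13.Y22.outer M A
  have w := H13.Y22.w7 M A h22.1
  have c : Commute (H13.evalW gen H13.Y22.aw) (H13.evalW gen H13.Y22.bw) := by
    simpa [H13.evalW_append, commute_iff_eq] using M.eq (rs := [(H13.Y22.aw ++ H13.Y22.bw, H13.Y22.bw ++ H13.Y22.aw)]) (by decide +kernel) (.head _)
  have n := M.neG (ws := [H13.Y22.aw, H13.Y22.bw]) (u := [0]) (v := [1]) (i := 0) (by decide +kernel)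
  have n01 := H13.Y22.not_conj (i := 0) (j := 1) A H13.Y22.c0 H13.Y22.c1 (by decide)
  have n02 := H13.Y22.not_conj (i := 0) (j := 2) A H13.Y22.c0 H13.Y22.c2 (by decide)
  have n12 := H13.Y22.not_conj (i := 1) (j := 2) A H13.Y22.c1 H13.Y22.c2 (by decide)
  simp only [H13.Y22.r0, H13.Y22.r1, H13.Y22.r2] at n01 n02 n12
  obtain ⟨O, l⟩ := H13.Y22.loc M rfl
  refine ⟨s, H13.evalW gen H13.Y22.aw, H13.evalW gen H13.Y22.bw, _, orderOf_eq_prime (by simpa [sq, H13.ivx] using A.inv 14) fun e => o (e ▸ one_mem _), o,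
    H13.Y22.fix0 M A h22.1, H13.I22.aut M q, M.mem _, M.mem _, fun e => n (by simp only [H13.evalW_cons, H13.evalW_nil, mul_one, H13.genW_eq]; exact e), c,
    H13.Y22.fix_of A h22.1 (by decide +kernel) (by decide +kernel), H13.Y22.fix_of A h22.1 (by decide +kernel) (by decide +kernel), fun t a b => ?_,
    n01, n02, n12, fun g => w ▸ H13.Y22.fix1 M A h22.1 g, w ▸ H13.Y22.e7 M q, _, O, fun g => (H13.Y22.fix2 M A h22.1 g).symm, l⟩
  obtain ⟨i, hi, e⟩ := H13.Y22.cls A (H := MulAut.conj.range) (fun l p => by simp [p.ne]) a b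
  interval_cases i
  exacts [.inl (by rwa [H13.Y22.r0] at e), .inr (.inl (by rwa [H13.Y22.r1] at e)), .inr (.inr (by rwa [H13.Y22.r2] at e))]

end Cfsg.Agent.S5472
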