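import Cfsg.Statements.S5514
import Mathlib
import Cfsg.Agent.H27.Cls
import Cfsg.Agent.H27.O73
-- import your own Cfsg.Agent.* helpers here

set_option autoImplicit false
open Cfsg

namespace Cfsg.Agent.S5514

open scoped Pointwise commutatorElement

open H13 H14.PK H14.PK.TS H27 H27.PKx H27.MG H27.O73

set_option maxRecDepth 100000

def T0 : List ℕ := [nat_lit 0x2569d954a24f259248e45219026a3f447f50e8502a0cfe813e9ecf27539aed7ebd5cad566b6beac2d2ab54a9de6eec8bb5d6e972b8dc1836fb75b5511e8ec6e34af8cc622d148ac4e25379b4e26ae498cce64de984ba5b2ca9546a14fa73ce9af6a652e9548a35b2d56bb4d9ecd646758da162b0d8124948843a190b86c22150983c1a0ab0572b558ab5547152a753295491751dcd98ca65b258f786331588c3613017ee7733a268e570b8dc4e06fcbdbadc6dc120701803fdfb457e3edf53b7cbe1eea29328541294fa79389b4ca5d30964ad5d76bd5e2e570ba5badaacb559ac962dab2b66d0d86bb59aad469b49a2cf66bd5e8f278bbde0ee76d1dd94975ba9d30f88a4d2290472351e8a4622d1288438d46826198c8622c180bc5c201694ca450279389a4b251249046228f8da6c3590cd268338e4ca6431a1898854220d045140a00fe7e239f4f87b158a45428138944624110843e1d0f070366a221088240370fc7a3c1d99874381b8d8c4602f174b6592c158a85a3d170f2783b97cec613a9d0e6553915ce27037864301a0a85c2c1409848200f088301c0d058281207030200605020080200,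
  nat_lit 0x10a8441a18fe8228a05007e3e9f0f6793c1dcf474399d8be75391c4e06f369b0d66e349a0ce6a21998ca6431b65b0d76d34dacd56a345a0cf6733596ca64b318ac863b1986c260b017ebd5e2ed7cb75d2e570b55a2cd64b1954a1372b91c8a4f2692c9243208fc7636a68f46235198bc5a2b1489c4a210e484461b0c85c2a130883c1a0b77bb312f378b95c6eb74b9dc2df6eb6daed569695b2c968b3d9acb63b1586c15faf576b8b6add6ab358abd5aab54a9980bc6230964ba5c2d968b0572b154a8522813ca64b251389a4c249208e46229108441200f4783b1f8f874391c0dc6cae56ab156b057a9d551c54aa14aa451a8540a24e27e529e4ea6932984ba592a914a43d269247a391a8c45a29128843c0e0300823f1fefe7ebe9f2f87bbd1e4f67abb9e2f077bb1d6ea74b95d0e773381c6e270b79badc6dd46a14f76d4a994ba73ce9b4aa4d228f46a1d09f745a24fa8302a04fe7b3c9dcea73356fce26f369a392673298cc25f2e96cb068331a8c06431178b85a2a148a04e2c1588842261289046200f8783a1c0d85c2c150a04c241a0c860160a04844200f070341808038180a04018080200,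
  nat_lit 0x196c2b9dc5836e63b018b7864331896868d95aed567341ad616a5adb0d25f562aeb35ad5968ba5c2f56f5c5b3cdececa5d268eea773c1e9507abb5f302a0401f0ff9dcea8afe82405f6e59a391bae36f4c25ee8733826adf9349133224c279349f4b2713b294dab55ea555c5e2b13572a1611c56299188f46a25271149252210f48c39213fa0bf67cfca1bea89427bcf27b039cbc69b4e77d32a2eba953dd348a53ca8d3299cc5c4e19bce26cdc6db9e5b2e9659acf6469daad8cfb4b36c4dab1b66c174635d6e4c3bbde6ecbfb7dc194c9b6ae6b55bacd7abf5d592c578bbaa556a71955469531853c763ca48da8e2916894964f23954ad2f284aa8a40a190a823e8e45a29108784c2a110c86c2e0d07829f8fa843da190a8041a09027c3f9c8e278379e8f2743b9d8ea70399b8ca64319a8da6c35998d26833960c2562f950c45c30168bc5d2b96caa5924920a2502294ca44c2593c9c4d239189444218e06e361f8f88441200e8723d1e0ec5e2e168d46833190c4602c0f8a83a280d8985624148884e2012878461c108200e060281006020080034190c05c2c150a04c24110803c1c0d0602c1409,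
  nat_lit 0x10c4c42a0d0481401fca07e3e9f0f6f579bd1e55078bbde0ee763add4e9af576beb6acd6eb4beac55aab54a9988c05f2f174b6593c160ae562a952e6cc653258f786331586c260b017f379b4e1bee598cce653097cba5b2c1a8d04c33190a8622c180a05e2e16a8943265027d3c9c4d26530974b255250f4a2421b0c85c2a130883c1a0b79bbb22ecc4bab2ee972b8dc2df6eb6968f4792e1dcec613a9cce872389c0dee7733a1c93470b8dc53570379badc6dd4aa34f76d3a9af6a652e9549a451e8c53289489e8427134944b249208e4622d5d78bb5eae174b9ae2dd6ab459ac9632b4ecaa53284dc9e4b2491c8a43208f8ac52271288c4821110803e1e0e870371088a4e1c9147a391a8c45a29128843c12070280bfdfb457e3e9f2f87bdb2d4d2b4d9eccd7b258ec561b00f8d86b36910ce6934198ca6431b6acad9b4361ad6b6ab51a6d16833d9ccda250dfcfba15067f40804fa7b3c9dcea7243351048042370fc763d1e0e872381b8d960ae562a952a752a9146a88f4723aa68dab634af8caae31178b456291389064301a0b0542e13090501e11080301c0d0482c1408038180a04018080200,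
  nat_lit 0x190c5625e2e7716532d996e60309836b6ab49a8d8b2b5db36868585a2ce5bd716cba5f562aebd5dacd6b565a3bde34f773d1eaf2a73ae90eca33a686fd7fbf2073e82405f2fa9ccf5eee271b866f3273ba1cd2d96371badb944ae532a91c9a4f2492c8a3f219046e3d1c8ec6235198bc4a2b1689c52231087c3a0f0682c36190b854261102804fe8141a2d09f6fea23e2753c9dd31e74ba6bd9e15176d42a5497552a8f3472b9267319ab81bf389b4ba60de97d9acf646d5aad8d3b4b5ac4cfb1b36c17464dd6e4c6bbde6ecc7b7dc17ec3b6af2b55bacd7abf5d5cae164b1aa556a6ac57ac15aae55a9d54a854a9946a55228144a14e27d3a9e4da692a984ca592e9449a49229044a210e8f47235188b45210964d26200a052289f08c4823970f05d2d184e8622f95ce0582a8f47e6e1f108886a218e074661c9d4c0762f1ccf25b3d164ee712b1c8a86f40a089e533fa150c4a2720cfa7e22924f641201a0d2671e0ecd86d358dc6c643298c66351a0c06431168bc5c2c138a856281489842241288846200d8783e1c0e85026120d06430170b054160a04844200f070341802008001007030140803,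
  nat_lit 0x2f0c6643119773665c592c1b730d80d5b5359a7676cb6accd867b46c0cdaed7ebd5cacd6eb558abd5aa755aa3c2a0f176bcded4b79525d747763aa88fd7fbf2073f82405f2fa9e4e5ef369c4de6b3498cce653097cb25d2d4eca53e9b9328648a291281309a4b2a5551d53ab960ac8b29228a58928e231087c3a170d86422150982c1e0d4081506013e7f50e8afba14edf13d9d3d69b4e7a532a2efa953ddd48a53a68ce67439dcae470b8dc4e06fb79b6dd6e596d0d7b25ada96c695a5a1626758ec374655d6e4c7bbde6ecc5b7dc184bfb6af976bd5e2e174b95bad96ab458acd64af8cab634ab8c471511e5346e2b1789c964f23954ad3d284e266409790a563e9449a49229046a3d1c8a4622d0e8944131084e2594500532811cf8492316cba772c980c4732f158b06f2a1b8d66d361a8ce6934198c66532184ea5f3b1d0b8792d1e8f05738954e47040a08a44f3fa150c4d2520cfa7e24114f6442190084411f8f8763d1e0e872361c0dc4826110a858280f080382b188a464271809468231a884661f170745e1b1686034190a85c2c120a04c1e11080301c0d0482c14060401c0605020000401,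
  nat_lit 0x2df6eb6dc2ef76625e6f174b95c6eb62b0d82c76bb55a5a56cb3592d167aad52a756afd7abb5c5b562b75aacd36994ba75228d4aa4d46a14f76d4a813f9f506793a9ccf687427dd168933994c66930974b659356fce26f36954a1372b92c92472293c9a411f90c7636a68f466311a8ac5227128bc5a210e4844615098441e0d0586c3216f77d4edf2f880c020903813f1fefe7eba9d2eca3bade4f67abd1e6ee78bc1dedd6e36dbd2f7439dcce572381c6e270b4dacd56a335a2d067b39b0d76d595b2c56431d8cc05fb0d84c164b32e6cb652dd74b95c2cd64b15aad17d575eaf176ac55ac15eae56a9d551c54aa146a55228144a14e27e529e4ea592a9a4ca612e914a43d269244a210e8f47235188b451f8fa7c3da190a8441a0902803f9c8e270379e8f2783b9d8ea7439998ca64319b8da6c359a8d26833974b85b2d164b0572b154a86230980be5e27134984b25124904723114a652289409e3f1f0f4783b1d0e470371b1108642209006a34198c86230178b85a2c158a85228138984a241188842200f8783a1c0d86832180b8582a14098482210078381a0c058281208038180a04018080200,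
  nat_lit 0x2e0c1b7db6f377645d98975ba5cee567b2d9ac8ceb1d89a160b65a9a569af576beb6ad566b7575f2d2a953aad2a9147a354aa34f76d39e74d7b53205419fcfa7b3b9e4e689437f3ee85379b4e1bee4994c6672f6f4b6592e90c81351f95a7655299426e4f2591c6a32af8c45a29125447a391d5346d250f4a242190b86c26110a834160efa7cbe1ef3a825020701803fdfb457e541e2ef783b9d94975ba5d4f57a52de4e67439e68e570b8dc535704c1b6dd6e3459ecdb0b69b3686c35dad6b6ab51a6c7bc3198b6e61b097ec066329977164d6176bd5e2e174b9ae2deacb558acd64a58aa922ea389ac15cad562ad54a953a7d3c9c4ca5d30954b491452650c89411088a4e1c9146a3d1c8a4622d0e89441f8fa7c3da190a8441a0902803f9d8ea74399c8e270379e8f2783b9b8da6c359a8d26833998ca6431960ae562a950c4613017cbc5d2e16cb45927134984b25124904723114a652289409e442190882401f8f87a3c1d8e872381b8d85e2e168d46833190c46026128904622108803e1e0e870362c158a852281386832180b8582a14098482210078381a0c058281208038180a04018080200,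
  nat_lit 0x2ecc4bcddee57565dd2e76db8306df6a695a6d965b3591af67b15819d63af576beb6ad566b7575f2d2a953aad3ea4f0a8d329d4d7b519d54aa4d21fd43a15127f009f50679399d3e27b369c4ddc0e598cce64de984b25d2d944ad3b2a91c8a4f2692c923f219047636a68f466311a8ac5227128bc5a231087c3a1b0c85c2a130883c1a0b018250207027e3edfefda2bddf53b7cbcde8f2a5bd5deed773c6a0eb74d1dd8e7733a1c93471385c6df9acbdb8db6eb61b4d9b434dad6b6ab519b6168b419ecab8b259978633158ec8612fd816e61d6176bd5e2e174b9ae2deacb558acd64ac55ac15eae56a9d551c54aa146a55228540a24f271369f94a612e964aa69329449a49229047a391a8c45a29128843a0d0c4c429fd0451409ecfc473e9e4ee5a3d1d4e65f3b1c4de55390f8d86b3690cd067348e4c86332978e86230980b2782e970b65438160ae562913ca08029934944b421389045231f0926a221008441370fc763d1e19874361c0dc66351a0c06431168bc5c2a148a04e2c158904622108984a1e0e87036200f86832180b8582a14098482210078381a0c058281208038180a04018080200,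
  nat_lit 0x286fea250a7f41814fa013c9ebe273517854a9ef6a6d39e74ca4529d5469bce26ce0994ce62e57237a5b2e965aad8d4b4d9acf646bd89a163675819177bcddae8cbbadcadf7060b02db5eafd756ebead56eb2b55a552ab538ec79511b8cabe34ad8c2ae2916894aa569d944964f234d48131214b47d289349246130a844321b0b8341e0aca665cd9371635e18ec562309876e5fda1b2dab2b61ab6b6b34da4cf68d859abc5eaeeb1575cae9715c5b55964b358bd1eaf2a5bbde350773b5d7497651dd303a041203457ebfdf8fb7cbea773a7bcd1cee873389c6e19ab7e612f6e375b6a19328a48a0912793f294e26d2e994aab960ac54aaa38a75345d491552c4d47118843e1c9045a31148e47a35108943948a680279349c8425120927c22980c4742f16cba782c958b0702a1a88242201b8783d1d9986e381b1e4b87a2d1dcea613b17ce6712b9c8aa6f42a18984b41a050451281fcfa7e23918f63f1f1b0da6b2210cd069338e872643298c522b1388c4a210e87c36261a0906a22198b0622a190a06020170785e1c168582e150c86830130a0481a0e06040220f0502c12040280c0e08030040400,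
  nat_lit 0x1aad46b34db2dab2b61aecf68b419ac66431d8acb65332e6c96130d80bf5d2e570b75eaf176beabad566b258bf5fefe7e40e0901803e5f0fa9dbdde0ef78bb9e8f67abc9d6eca3ba9d2e371385c0e57439dccde97b75b8db54aaa38a7572b560af562ad48a551a793f294e28544a04c25d34994b255269487a45188b4523d1c8d44a210f4da73ce994ba8d42a54f76d229549a35027f41814fa8745a2509f73c9ecea7333994c668e49c4de6d356fcc25d2d965d2eb72b8ddef378bb312df6eb8306db66b459ec96bb55b2d2d2b158d9d61b0562b75aacd7ebd5dae2daacb4aad52a7259249e4d23914aa569d9426e41218fc6635188ec79511b5345629178b44e251088a4a1c9085426110d8642e0f068296cba5c2c980c4612f158b0572a1349c4b25148a650279209246228fc7a3c1d9108441200e870371b2050082289fd0a8443131067d3e1f88e7b3a9d8be74399e4f45a3c1dce2722a9c0de6a219a4d067370f8da6c3599872653218c6232180d06a33170bc5a24118984a22108a8522c158a04e1e0e8803e1c0d8381a0c088401e0b050242e160a86832180a04c24050200c1007030080200,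
  nat_lit 0x2a2f0a7d4a994ea5d35e74aa45268d79bc5daeecbb95d2e375b7dc1836d954ae509d92c9e47269126241218fd0a8745a25067d3f814f1f13d9d4e5a969b65aacd68b259ec762b0b3ac11d8f46d50ad8cc6a311789c522d129c4de6b3699b96653498b925d2d9657ebd5caed6eb5595ad56ad545a54d27118724a150d83c2619068442e0ad86d35db3656adada6d6693459ed066d02030380411fefe7e3f5f6f97d4edeeae582b15eab54aa94f1c5345548a551b3192cab9b158cc863b11856e61b017ef47b3c9eb50773c5deed763add54774c9142a2502793e9c94a6d34964ba652abdac2f17cbbabae972b75c2d966b258ba1cee671b89c0e16fcc1bade6e4bdb7104a2461e904623d128b47221148d43988c0612f174b65c2c960ac572a2150c4c41a0504513f9f4fc473d8906835198a86232180785c2f1694900532813c9a842712c94483e1248c453d1e4f05a3b9d8ea742f9cce47138154de2c140a4562713088462510880381d0f86c8441200f4783b1c0dc6c3f369b8d83e35910d26a3410cce3a32998c8393185c34140b06426150c0481c1105834200a0603c12050400808070080c0c00,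
  nat_lit 0x1fefe823e9fb03813e5f0fc80c01eef17b3d5d8f077bd1e6eb773c9d4e97439dccde71b89c2e572381badc6ddd6f378b85d2ef6fb75cae376625b6d167b658ecd6bb558ac96969586c15bad566ad58afd7abb5c5b556a95341218987e40a010a843e9f0fe833d9d8f45a391d4f2713a1ccf077381bcd46e1f198d268339b4d86b32990c6d66d595a2d06ab51b2cf6734db0d766b218eccb9b0d8ccb6530982c564b017eba5cae17d575eaf176b55a2dd66b258d3aa54aa4d36a350a451e994ba7bb68d41a2d127b409fd0e793b9f509f73a9ccd271379b4ce6531984be6adf974b6585d2e188c2582b96cc05f2b154b25e2a138a64926948a2482392c9450279188a3f2210c74391e8f076422090070371b2a960af52aa55cad5229d58ab51a7d449a4ca7942984ba7140964aa511e8e46a4d188b45245128843c9e4d2b4ec864b24954a64123914a1371f8d47951178b4663b1c8ac52311b5344e251149436190b8843e1509844392107834146435178c4682e180cc5a26128b056200f890462a148783a22108a04e1c0d844200f0d0643008038181c0d0605c2c1502810060b050242813090080200,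
  nat_lit 0x286fea250994ccb9b26e25229a009f517854a9f686cb6acad830188e85e9bce26ce05e2f57758ab9a88242205aad8d4b4bd1eaf2a59e4b87a2d1dd9177bcdda0740824050a862612d075eafd756f3473ba1cc3f1f1b0da6b8ec79511b50c99452450488522b13caa569d942b960ac130d04835110cd2893492442c170a864341809850253fa0c0a7d00635e18ec5621349c84253da9b4e79d31ab6b6b34da45b2e9e0b33299cc5cae45cae9715c5b1b8783d1dd9acf646bbbde350773b4ea613b17ce77465dd6e5457ebfdf8fb40a08a2503fafab55bacb89c6e19ab7c8843341a4cf1957c695b1855a793f294e26c462510c964f2354aaa38a7530b0622a190a061118843e1c900683818100883c140b04cf27af89cb09876e5f920927c22d2294eaa333da36166958b0702a37a5b2e9655964b3589986e381b589a16367581d7497651dd2712b9c8aa6fb7dc182c0b6be5f53b9d3dcfa7e23918f6b55a552ab53984bdb8dd6d8e872643298e29168925d32950e87c369a9026242968fc5d491552c4d4620170785e1c16c26150886436170683c15168c452391e8d442250e040280c0e08030040400,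
  nat_lit 0x2569d954a24f259248e45219026a3f447f50e8502a0cfe813e9ecf27539aed7ebd5cad566b6beac2d2ab54a9de6eec8bb5d6e972b8dc1836fb75b5511e8ec6e34af8cc622d148ac4e25379b4e26ae498cce64de984ba5b2ca9546a14fa73ce9af6a652e9548a35b2d56bb4d9ecd646758da162b0d8124948843a190b86c22150983c1a0ab0572b558ab5547152a753295491751dcd98ca65b258f786331588c3613017ee7733a268e570b8dc4e06fcbdbadc6dc120701803fdfb457e3edf53b7cbe1eea29328541294fa79389b4ca5d30964ad5d76bd5e2e570ba5badaacb559ac962dab2b66d0d86bb59aad469b49a2cf66bd5e8f278bbde0ee76d1dd94975ba9d30f88a4d2290472351e8a4622d1288438d46826198c8622c180bc5c201694ca450279389a4b251249046228f8da6c3590cd268338e4ca6431a1898854220d045140a00fe7e239f4f87b158a45428138944624110843e1d0f070366a221088240370fc7a3c1d99874381b8d8c4602f174b6592c158a85a3d170f2783b97cec613a9d0e6553915ce27037864301a0a85c2c1409848200f088301c0d058281207030200605020080200,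
  nat_lit 0x6826198d46032150c4582f170805a522813ca64b25139084d249208c45369b0d63e349a0ce43220e4ca6431c0e0300823f1fefda2bea76f97c3de4ca15028939294fa7932974c2592abb5eaf2aeb75cae175565aacd64b1a8d3ddb52a652e9cf3a6bda9548a35aad2d2b6592cf666758da162b0d81290e4824a190b86c22150983c1a0b2a9426e569d91c8a4f2592486409a8fbfa87427dd127d02a0cfe813d9e4ea735dafd7ab8b6ad566b6beac2d2ab54a9a150686261fd045140a00fc473e9f0f6291409c56221089446240f8743c1c0d9a88441200f4783b370fccc3a1c0dc6cd9b4361aedab2b4dad6b6ab51a2cf66bd1e4f5773c6a0ef7851dd94975ba9d29187c422293472351e8a4622d128843ab958ab5829d551c54a95491751b299373663158f786330d84c05fcd1cee674381c2e3714bdbadc6dddd9176625e6e571bab2ee97060dbedd6d8ec6d4ca88f46234ad57c662d148ac4e25356fcde6d387239663339937a612e96cb0c05e31164ba5b2c158a85c3c9e0ee5a3d1d0e65f3b184ea553915ce270378542e160a04c24190c068160a048401e11060381a07030200605020080200,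
  nat_lit 0x196c2b9dc5836e63b018b7864331896868d95aed567341ad616a5adb0d25f562aeb35ad5968ba5c2f56f5c5b3cdececa5d268eea773c1e9507abb5f302a0401f0ff9dcea8afe82405f6e59a391bae36f4c25ee8733826adf9349133224c279349f4b2713b294dab55ea555c5e2b13572a1611c56299188f46a25271149252210f48c39213fa0bf67cfca1bea89427bcf27b039cbc69b4e77d32a2eba953dd348a53ca8d3299cc5c4e19bce26cdc6db9e5b2e9659acf6469daad8cfb4b36c4dab1b66c174635d6e4c3bbde6ecbfb7dc194c9b6ae6b55bacd7abf5d592c578bbaa556a71955469531853c763ca48da8e2916894964f23954ad2f284aa8a40a190a823e8e45a29108784c2a110c86c2e0d07829f8fa843da190a8041a09027c3f9c8e278379e8f2743b9d8ea70399b8ca64319a8da6c35998d26833960c2562f950c45c30168bc5d2b96caa5924920a2502294ca44c2593c9c4d239189444218e06e361f8f88441200e8723d1e0ec5e2e168d46833190c4602c0f8a83a280d8985624148884e2012878461c108200e060281006020080034190c05c2c150a04c24110803c1c0d0602c1409,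
  nat_lit 0x24c9792489309a4fa59389d94a8937027d50200fd7c4edff3aa2bfa02fbabafab0b3ab2d16ab95d2ed6f5c5b32ee6c3b8b06dcc062de194c86631148ad57aae2eaa8ac4d511c582b14d3472395bae197b7a60e7743826adf79bd9d94ba4bbe8ef1753b9e15076da2cad16bb39a1616cb51b56b6c349148e47a26229249c3d291048c3921198d2a630a78ea963d1b51c522cae8931ee975635caeec2bcdd97f6fb8326db3398cc9c6e29b4de70dc6db9a5b2e964fe833e7e50e88f9a13de79049ec0e73254f49e4699954ae50959048542a08fae2b35aadd7ebb5e592c57abcaa556a7666b59dab6469daad8cfb4b36c563b05369d4ca8d49d74f74bd690f4a53ca8c8d4622d108785422130b864360d07828bc5c26168d4682c198c862201812490502294ca44b279389a46250f8ca643190cda6c358e4d268339f8987d421ed0c5142a01068223a04f87f0f87454280d8ac52241109c4a230f070426a220e06e36370fc844120198743d1e0ecb0562a188c05e2e96cb25a39170e2783797cf4613c9d0ee553b15cea703981c0c080181408020080032180d0542e160a04c241007844180e0682c1409,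
  nat_lit 0x1084a25931005029144a67c231208ef3a6d2ded4f783b6a350a4baa9547ae2d96eb8abafab0bc5eacd6b565a1d4ec5e399e4f4772e9c4ac722a1bd9574badcaeec5bcddadf705fb0edae370b8a6d337339dd12d96371badb198d44c34180a8642c188a05a2f17281452650a713e9e4d25530994b25d250f4a2420f0682c36190b8542610c86231af0c7b9b26e2cb665b980c260964b8782d968c2603a17cc45738160aae5724d263326fcd5c1379c4ba60de97bbde2eea93d1eb4c79539d74876519d28127a08fe4d42a19064e3e9f88a493daeeb759ad576bd5f5d2e564b1aa556a7284ecae532a4dc8e4f2492c8a3f219009c562910894482311080361e0f8703b1088a4e1c9144a210e8f47235188b4540a013fa0515f7437f3e2753c9ddada4d66a595aedab4342c2d1670ecdc3e1f9048644350e074661cd99b3676c592d4d5b634ed36267d8d9b607ebfe85447e40e093ea0c05f2fa9ccf5ee40211a4ce681e8f0d66c368dc6c643298d58b05729d54a951a9548a88dc723ca68eab630af8d2ae3317894562d138a04c24140c86034160a85c120b0503c2210060381a02008001007030140803,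
  nat_lit 0x1f2f87bbea09038140600fc7fbf9faeb753a5d8f67abd1e6f2773c5e0ef6eb71b6de7439dcce572381c6e270964ba5c2d958a8582b988c2602f978964a27134904622924a652289409e3d1e0ec7e3a1c0dc6c4421908824095caa532891c8a4f2692c92411f90c7a3b1c8dc6235198ac5227128bc5a231087c3a15098441e0d0586c32167b3f11cfa7c42a1106862620902803f9c0de722a9c4f2783b9e8b4763a9d0e6653218ccc39369b0d66e1f1a8d26833d3a9b4ca5d1a9549a451ea350a7bb6a541a04fe7d3a9ccf6793ba1d09f745a24d2673298cba5b2c984be6adf9c4de6cae56ab156b057aa952a853a9946a55228540a24fa793a9c4da592a9a4ca612e9449a49229044a210e8f47235188b455c2df6eb6ddaf378bbdd2e571bad8ec561b05a6d96bb559ac968b3d5aab54a9d72bf5eaed62b75aacb55a8d369359a2d067b399ad86bb6acad96331588c863b0d84c1602fd92ccb9b2d94b75b2e972b85aad166b258afaaebd5e2ec66351a0c46032178b85a28138b0562a148904622108984a200f8783a1c0d85026120d06430170b0541c0d0602c1409088401e08038180a04018080200,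
  nat_lit 0xf8492311c964c26a109c514014ca05837950ac772c96cf45d30188e65e31994c866359b4d86e1f1a8ce69345ada96c6933ac2d0b135ec965b35a18f77bcddae0bfb6dbee5746632aeab85d2e56eb558acd64beabaed7abc4da753d299328648a29128134964c29d531e552b960ac8a29624a38b2921d1149442110a84c160f0685c3618c060b0adcc3bc31990c462dcee2c965d819acfb1b45ab6a6b34ed2da6c59db353aad52acb4aed7ebd5c5b562b35bad168f05c3c9c0ae712a9c8c2752f9d8e8862520d0a453d9f4fc4840a08a44f3f8fc763d1e0d870371d0e488432010882af8cab634ab8c2a14d1b8e47627158bc964f2395ca1392a4fa563e999025e429348a41290f43a25108d47a39148c45cedf13d9d40a013ea03edfd43a2d2294e9a353a98f5a6d3ea2efa9379b6dd6e395cce873b81c2e37152de4f37a3da92eba3bb1d55078bb5dcf080c0e833f823e5f53c9cbddfefca1511fb34724c66732984be592e96cd5bf369c4dc4c22120a0542c0f08038291909c602b1888466251a08c6a1f170745e1b168542e160905026180d064120b0503c2210060381a060401c0605020000401]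
noncomputable def Ts : List ℕ := idv 9 378 :: T0
/-- the letters of the representatives -/
def zs : Fin 7 → ℕ := ![15, 16, 17, 18, 19, 20, 21]
/-- conjugating words -/
def iv : Fin 7 → ℕ := ![11, 1355, 11, 11, 10, 10, 10]

theorem pc : pcOk 9 378 bs Ts 3 9 11 [[],
   [nat_lit 0, nat_lit 1, nat_lit 0x484, nat_lit 1, nat_lit 1, nat_lit 0x131929, nat_lit 1, nat_lit 0x508, nat_lit 1, nat_lit 1, nat_lit 1, nat_lit 33],
   [nat_lit 0, nat_lit 68, nat_lit 2, nat_lit 0x2294e7, nat_lit 2, nat_lit 2, nat_lit 2, nat_lit 2, nat_lit 0x929, nat_lit 2, nat_lit 66, nat_lit 2],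
   [nat_lit 0, nat_lit 3, nat_lit 0x194e7, nat_lit 3, nat_lit 0x19908, nat_lit 103, nat_lit 104, nat_lit 3, nat_lit 3, nat_lit 3, nat_lit 3, nat_lit 99],
   [nat_lit 0, nat_lit 4, nat_lit 4, nat_lit 0x431908, nat_lit 4, nat_lit 4, nat_lit 4, nat_lit 137, nat_lit 4, nat_lit 4, nat_lit 132, nat_lit 132],
   [nat_lit 0, nat_lit 0x29929, nat_lit 5, nat_lit 0x14e7, nat_lit 5, nat_lit 5, nat_lit 169, nat_lit 5, nat_lit 5, nat_lit 5, nat_lit 165, nat_lit 165],
   [nat_lit 0, nat_lit 6, nat_lit 6, nat_lit 0x1908, nat_lit 6, nat_lit 0x1929, nat_lit 6, nat_lit 6, nat_lit 6, nat_lit 6, nat_lit 198, nat_lit 6],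
   [nat_lit 0, nat_lit 232, nat_lit 7, nat_lit 7, nat_lit 0x1d29, nat_lit 7, nat_lit 7, nat_lit 7, nat_lit 7, nat_lit 7, nat_lit 231, nat_lit 7],
   [nat_lit 0, nat_lit 8, nat_lit 265, nat_lit 8, nat_lit 8, nat_lit 8, nat_lit 8, nat_lit 8, nat_lit 8, nat_lit 8, nat_lit 264, nat_lit 264],
   [nat_lit 0, nat_lit 9, nat_lit 9, nat_lit 9, nat_lit 9, nat_lit 9, nat_lit 9, nat_lit 9, nat_lit 9, nat_lit 9, nat_lit 9, nat_lit 297]] = true := by decide +kernel

def c1 : List (ℕ × List (ℕ × ℕ × ℕ)) := [(nat_lit 0, [(nat_lit 0, nat_lit 0, nat_lit 0), (nat_lit 0, nat_lit 1, nat_lit 0), (nat_lit 11, nat_lit 1, nat_lit 0)])]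
def c2 : List (ℕ × List (ℕ × ℕ × ℕ)) := [(nat_lit 0, [(nat_lit 0, nat_lit 0, nat_lit 0), (nat_lit 0, nat_lit 2, nat_lit 0), (nat_lit 10, nat_lit 2, nat_lit 0)]),
  (nat_lit 1, [(nat_lit 0, nat_lit 1, nat_lit 0), (nat_lit 0, nat_lit 34, nat_lit 0), (nat_lit 10, nat_lit 34, nat_lit 0)])]
def c3 : List (ℕ × List (ℕ × ℕ × ℕ)) := [(nat_lit 0, [(nat_lit 0, nat_lit 0, nat_lit 0), (nat_lit 0, nat_lit 3, nat_lit 0), (nat_lit 11, nat_lit 3, nat_lit 0)]),
  (nat_lit 1, [(nat_lit 0, nat_lit 1, nat_lit 0), (nat_lit 0, nat_lit 35, nat_lit 0), (nat_lit 11, nat_lit 0x423, nat_lit 0)]),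
  (nat_lit 2, [(nat_lit 0, nat_lit 2, nat_lit 0), (nat_lit 0, nat_lit 67, nat_lit 0), (nat_lit 11, nat_lit 67, nat_lit 0)]),
  (nat_lit 34, [(nat_lit 0, nat_lit 34, nat_lit 0), (nat_lit 0, nat_lit 0x443, nat_lit 0), (nat_lit 11, nat_lit 0x8443, nat_lit 0)])]
def c4 : List (ℕ × List (ℕ × ℕ × ℕ)) := [(nat_lit 0, [(nat_lit 0, nat_lit 0, nat_lit 0), (nat_lit 0, nat_lit 4, nat_lit 0), (nat_lit 10, nat_lit 4, nat_lit 0)]),
  (nat_lit 1, [(nat_lit 0, nat_lit 1, nat_lit 0), (nat_lit 2, nat_lit 1, nat_lit 0), (nat_lit 66, nat_lit 1, nat_lit 0)]),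
  (nat_lit 2, [(nat_lit 0, nat_lit 2, nat_lit 0), (nat_lit 33, nat_lit 2, nat_lit 0), (nat_lit 1, nat_lit 2, nat_lit 0)]),
  (nat_lit 34, [(nat_lit 0, nat_lit 34, nat_lit 0), (nat_lit 2, nat_lit 34, nat_lit 0), (nat_lit 1, nat_lit 34, nat_lit 0)]),
  (nat_lit 3, [(nat_lit 0, nat_lit 3, nat_lit 0), (nat_lit 0, nat_lit 100, nat_lit 0), (nat_lit 10, nat_lit 100, nat_lit 0)]),
  (nat_lit 35, [(nat_lit 0, nat_lit 35, nat_lit 0), (nat_lit 2, nat_lit 35, nat_lit 0x14c639d09), (nat_lit 66, nat_lit 35, nat_lit 0x14a63a109)]),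
  (nat_lit 0x423, [(nat_lit 0, nat_lit 0x423, nat_lit 0), (nat_lit 66, nat_lit 0x423, nat_lit 0x294c63a129), (nat_lit 2, nat_lit 0x423, nat_lit 0x298e742129)]),
  (nat_lit 67, [(nat_lit 0, nat_lit 67, nat_lit 0), (nat_lit 33, nat_lit 67, nat_lit 0x18c8), (nat_lit 1, nat_lit 67, nat_lit 0x1908)]),
  (nat_lit 0x443, [(nat_lit 0, nat_lit 0x443, nat_lit 0), (nat_lit 2, nat_lit 0x443, nat_lit 0x14c639d09), (nat_lit 1, nat_lit 0x443, nat_lit 0x1908)]),
  (nat_lit 0x8443, [(nat_lit 0, nat_lit 0x8443, nat_lit 0), (nat_lit 33, nat_lit 0x8443, nat_lit 0x18c8), (nat_lit 1, nat_lit 0x8443, nat_lit 0x1908)])]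
def c5 : List (ℕ × List (ℕ × ℕ × ℕ)) := [(nat_lit 0, [(nat_lit 0, nat_lit 0, nat_lit 0), (nat_lit 0, nat_lit 5, nat_lit 0), (nat_lit 10, nat_lit 5, nat_lit 0)]),
  (nat_lit 1, [(nat_lit 0, nat_lit 1, nat_lit 0), (nat_lit 0, nat_lit 37, nat_lit 0), (nat_lit 10, nat_lit 37, nat_lit 0)]),
  (nat_lit 2, [(nat_lit 0, nat_lit 2, nat_lit 0), (nat_lit 3, nat_lit 2, nat_lit 7), (nat_lit 99, nat_lit 2, nat_lit 7)]),
  (nat_lit 34, [(nat_lit 0, nat_lit 34, nat_lit 0), (nat_lit 3, nat_lit 34, nat_lit 7), (nat_lit 99, nat_lit 34, nat_lit 7)]),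
  (nat_lit 3, [(nat_lit 0, nat_lit 3, nat_lit 0), (nat_lit 66, nat_lit 3, nat_lit 7), (nat_lit 2, nat_lit 3, nat_lit 231)]),
  (nat_lit 35, [(nat_lit 0, nat_lit 35, nat_lit 0), (nat_lit 66, nat_lit 0x464, nat_lit 0x31d08), (nat_lit 322, nat_lit 0x464, nat_lit 0x31d08)]),
  (nat_lit 0x423, [(nat_lit 0, nat_lit 0x423, nat_lit 0), (nat_lit 74, nat_lit 0x8464, nat_lit 0x639d08), (nat_lit 2, nat_lit 0x8464, nat_lit 0x639d08)]),
  (nat_lit 67, [(nat_lit 0, nat_lit 67, nat_lit 0), (nat_lit 3, nat_lit 67, nat_lit 0), (nat_lit 2, nat_lit 67, nat_lit 231)]),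
  (nat_lit 0x443, [(nat_lit 0, nat_lit 0x443, nat_lit 0), (nat_lit 3, nat_lit 0x443, nat_lit 0), (nat_lit 34, nat_lit 0x443, nat_lit 0x39d08)]),
  (nat_lit 0x8443, [(nat_lit 0, nat_lit 0x8443, nat_lit 0), (nat_lit 3, nat_lit 0x8443, nat_lit 0), (nat_lit 99, nat_lit 0x8443, nat_lit 231)]),
  (nat_lit 4, [(nat_lit 0, nat_lit 4, nat_lit 0), (nat_lit 0, nat_lit 133, nat_lit 0), (nat_lit 10, nat_lit 0x1085, nat_lit 0)]),
  (nat_lit 100, [(nat_lit 0, nat_lit 100, nat_lit 0), (nat_lit 66, nat_lit 100, nat_lit 233), (nat_lit 2, nat_lit 100, nat_lit 0x39d29)])]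
def c6 : List (ℕ × List (ℕ × ℕ × ℕ)) := [(nat_lit 0, [(nat_lit 0, nat_lit 0, nat_lit 0), (nat_lit 0, nat_lit 6, nat_lit 0), (nat_lit 10, nat_lit 6, nat_lit 0)]),
  (nat_lit 1, [(nat_lit 0, nat_lit 1, nat_lit 0), (nat_lit 5, nat_lit 1, nat_lit 9), (nat_lit 165, nat_lit 1, nat_lit 9)]),
  (nat_lit 2, [(nat_lit 0, nat_lit 2, nat_lit 0), (nat_lit 0, nat_lit 70, nat_lit 0), (nat_lit 0x463, nat_lit 0x885, nat_lit 0x73a129)]),
  (nat_lit 34, [(nat_lit 0, nat_lit 34, nat_lit 0), (nat_lit 5, nat_lit 34, nat_lit 9), (nat_lit 165, nat_lit 34, nat_lit 9)]),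
  (nat_lit 3, [(nat_lit 0, nat_lit 3, nat_lit 0), (nat_lit 132, nat_lit 3, nat_lit 8), (nat_lit 4, nat_lit 3, nat_lit 264)]),
  (nat_lit 35, [(nat_lit 0, nat_lit 35, nat_lit 0), (nat_lit 5, nat_lit 35, nat_lit 0x3a109), (nat_lit 4, nat_lit 35, nat_lit 264)]),
  (nat_lit 0x423, [(nat_lit 0, nat_lit 0x423, nat_lit 0), (nat_lit 132, nat_lit 0x423, nat_lit 8), (nat_lit 4, nat_lit 0x423, nat_lit 264)]),
  (nat_lit 67, [(nat_lit 0, nat_lit 67, nat_lit 0), (nat_lit 132, nat_lit 67, nat_lit 8), (nat_lit 4, nat_lit 67, nat_lit 264)]),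
  (nat_lit 0x443, [(nat_lit 0, nat_lit 0x443, nat_lit 0), (nat_lit 5, nat_lit 0x443, nat_lit 0x3a109), (nat_lit 4, nat_lit 0x443, nat_lit 264)]),
  (nat_lit 0x8443, [(nat_lit 0, nat_lit 0x8443, nat_lit 0), (nat_lit 132, nat_lit 0x8443, nat_lit 8), (nat_lit 4, nat_lit 0x8443, nat_lit 264)]),
  (nat_lit 4, [(nat_lit 0, nat_lit 4, nat_lit 0), (nat_lit 3, nat_lit 4, nat_lit 8), (nat_lit 99, nat_lit 4, nat_lit 8)]),
  (nat_lit 100, [(nat_lit 0, nat_lit 100, nat_lit 0), (nat_lit 3, nat_lit 100, nat_lit 8), (nat_lit 4, nat_lit 100, nat_lit 264)]),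
  (nat_lit 0x464, [(nat_lit 0, nat_lit 0x464, nat_lit 0), (nat_lit 3, nat_lit 0x464, nat_lit 8), (nat_lit 4, nat_lit 0x464, nat_lit 264)]),
  (nat_lit 0x8464, [(nat_lit 0, nat_lit 0x8464, nat_lit 0), (nat_lit 3, nat_lit 0x8464, nat_lit 8), (nat_lit 4, nat_lit 0x8464, nat_lit 264)]),
  (nat_lit 5, [(nat_lit 0, nat_lit 5, nat_lit 0), (nat_lit 33, nat_lit 5, nat_lit 9), (nat_lit 1, nat_lit 5, nat_lit 297)]),
  (nat_lit 37, [(nat_lit 0, nat_lit 37, nat_lit 0), (nat_lit 5, nat_lit 37, nat_lit 0), (nat_lit 1, nat_lit 37, nat_lit 297)]),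
  (nat_lit 133, [(nat_lit 0, nat_lit 133, nat_lit 0), (nat_lit 3, nat_lit 133, nat_lit 0x73a129), (nat_lit 1, nat_lit 133, nat_lit 297)]),
  (nat_lit 0x1085, [(nat_lit 0, nat_lit 0x1085, nat_lit 0), (nat_lit 33, nat_lit 0x1085, nat_lit 9), (nat_lit 1, nat_lit 0x1085, nat_lit 297)])]
def c7 : List (ℕ × List (ℕ × ℕ × ℕ)) := [(nat_lit 0, [(nat_lit 0, nat_lit 0, nat_lit 0), (nat_lit 0, nat_lit 7, nat_lit 0), (nat_lit 10, nat_lit 7, nat_lit 0)]),
  (nat_lit 1, [(nat_lit 0, nat_lit 1, nat_lit 0), (nat_lit 0, nat_lit 39, nat_lit 0), (nat_lit 10, nat_lit 39, nat_lit 0)]),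
  (nat_lit 2, [(nat_lit 0, nat_lit 2, nat_lit 0), (nat_lit 99, nat_lit 69, nat_lit 0), (nat_lit 10, nat_lit 0x847, nat_lit 0)]),
  (nat_lit 34, [(nat_lit 0, nat_lit 34, nat_lit 0), (nat_lit 99, nat_lit 0x445, nat_lit 0), (nat_lit 10, nat_lit 0x8847, nat_lit 0)]),
  (nat_lit 3, [(nat_lit 0, nat_lit 3, nat_lit 0), (nat_lit 165, nat_lit 3, nat_lit 0), (nat_lit 5, nat_lit 3, nat_lit 0)]),
  (nat_lit 35, [(nat_lit 0, nat_lit 35, nat_lit 0), (nat_lit 0x10aa, nat_lit 35, nat_lit 0x2129), (nat_lit 133, nat_lit 35, nat_lit 0x2129)]),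
  (nat_lit 0x423, [(nat_lit 0, nat_lit 0x423, nat_lit 0), (nat_lit 0x10a5, nat_lit 0x423, nat_lit 265), (nat_lit 0x1085, nat_lit 0x423, nat_lit 0x2109)]),
  (nat_lit 67, [(nat_lit 0, nat_lit 67, nat_lit 0), (nat_lit 98, nat_lit 67, nat_lit 0), (nat_lit 5, nat_lit 67, nat_lit 0)]),
  (nat_lit 0x443, [(nat_lit 0, nat_lit 0x443, nat_lit 0), (nat_lit 0xc41, nat_lit 0x443, nat_lit 265), (nat_lit 133, nat_lit 0x443, nat_lit 0x2129)]),
  (nat_lit 0x8443, [(nat_lit 0, nat_lit 0x8443, nat_lit 0), (nat_lit 0x10a5, nat_lit 0x8443, nat_lit 265), (nat_lit 0x1085, nat_lit 0x8443, nat_lit 0x2109)]),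
  (nat_lit 4, [(nat_lit 0, nat_lit 4, nat_lit 0), (nat_lit 0, nat_lit 135, nat_lit 0), (nat_lit 331, nat_lit 135, nat_lit 0)]),
  (nat_lit 100, [(nat_lit 0, nat_lit 100, nat_lit 0), (nat_lit 165, nat_lit 100, nat_lit 297), (nat_lit 5, nat_lit 100, nat_lit 9)]),
  (nat_lit 0x464, [(nat_lit 0, nat_lit 0x464, nat_lit 0), (nat_lit 0xca5, nat_lit 0x464, nat_lit 0x2109), (nat_lit 133, nat_lit 0x464, nat_lit 8)]),
  (nat_lit 0x8464, [(nat_lit 0, nat_lit 0x8464, nat_lit 0), (nat_lit 0x10a5, nat_lit 0x8464, nat_lit 8), (nat_lit 101, nat_lit 0x8464, nat_lit 0x42129)]),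
  (nat_lit 5, [(nat_lit 0, nat_lit 5, nat_lit 0), (nat_lit 3, nat_lit 5, nat_lit 0), (nat_lit 99, nat_lit 5, nat_lit 0)]),
  (nat_lit 37, [(nat_lit 0, nat_lit 37, nat_lit 0), (nat_lit 3, nat_lit 37, nat_lit 0), (nat_lit 99, nat_lit 37, nat_lit 0)]),
  (nat_lit 133, [(nat_lit 0, nat_lit 133, nat_lit 0), (nat_lit 35, nat_lit 133, nat_lit 0x2109), (nat_lit 0x8463, nat_lit 133, nat_lit 0x42129)]),
  (nat_lit 0x885, [(nat_lit 0, nat_lit 0x885, nat_lit 0), (nat_lit 0, nat_lit 0x110a7, nat_lit 0), (nat_lit 0x846a, nat_lit 0x846, nat_lit 265)]),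
  (nat_lit 0x1085, [(nat_lit 0, nat_lit 0x1085, nat_lit 0), (nat_lit 0x423, nat_lit 0x1085, nat_lit 0x2129), (nat_lit 0x463, nat_lit 0x1085, nat_lit 265)]),
  (nat_lit 6, [(nat_lit 0, nat_lit 6, nat_lit 0), (nat_lit 0, nat_lit 199, nat_lit 0), (nat_lit 10, nat_lit 0x18c7, nat_lit 0)]),
  (nat_lit 70, [(nat_lit 0, nat_lit 70, nat_lit 0), (nat_lit 99, nat_lit 0x8a6, nat_lit 8), (nat_lit 99, nat_lit 0x114c7, nat_lit 8)])]
def c8 : List (ℕ × List (ℕ × ℕ × ℕ)) := [(nat_lit 0, [(nat_lit 0, nat_lit 0, nat_lit 0), (nat_lit 0, nat_lit 8, nat_lit 0), (nat_lit 10, nat_lit 8, nat_lit 0)]),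
  (nat_lit 1, [(nat_lit 0, nat_lit 1, nat_lit 0), (nat_lit 7, nat_lit 1, nat_lit 0), (nat_lit 231, nat_lit 1, nat_lit 0)]),
  (nat_lit 2, [(nat_lit 0, nat_lit 2, nat_lit 0), (nat_lit 0, nat_lit 72, nat_lit 0), (nat_lit 11, nat_lit 72, nat_lit 0)]),
  (nat_lit 34, [(nat_lit 0, nat_lit 34, nat_lit 0), (nat_lit 7, nat_lit 34, nat_lit 9), (nat_lit 231, nat_lit 34, nat_lit 297)]),
  (nat_lit 3, [(nat_lit 0, nat_lit 3, nat_lit 0), (nat_lit 198, nat_lit 3, nat_lit 0), (nat_lit 6, nat_lit 3, nat_lit 0)]),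
  (nat_lit 35, [(nat_lit 0, nat_lit 35, nat_lit 0), (nat_lit 7, nat_lit 35, nat_lit 0), (nat_lit 6, nat_lit 35, nat_lit 0)]),
  (nat_lit 0x423, [(nat_lit 0, nat_lit 0x423, nat_lit 0), (nat_lit 198, nat_lit 0x423, nat_lit 0), (nat_lit 6, nat_lit 0x423, nat_lit 0)]),
  (nat_lit 67, [(nat_lit 0, nat_lit 67, nat_lit 0), (nat_lit 198, nat_lit 67, nat_lit 0), (nat_lit 6, nat_lit 67, nat_lit 0)]),
  (nat_lit 0x443, [(nat_lit 0, nat_lit 0x443, nat_lit 0), (nat_lit 7, nat_lit 0x443, nat_lit 9), (nat_lit 6, nat_lit 0x443, nat_lit 0)]),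
  (nat_lit 0x8443, [(nat_lit 0, nat_lit 0x8443, nat_lit 0), (nat_lit 198, nat_lit 0x8443, nat_lit 0), (nat_lit 6, nat_lit 0x8443, nat_lit 0)]),
  (nat_lit 4, [(nat_lit 0, nat_lit 4, nat_lit 0), (nat_lit 99, nat_lit 134, nat_lit 0), (nat_lit 10, nat_lit 0x1088, nat_lit 0)]),
  (nat_lit 100, [(nat_lit 0, nat_lit 100, nat_lit 0), (nat_lit 198, nat_lit 100, nat_lit 0), (nat_lit 6, nat_lit 100, nat_lit 0)]),
  (nat_lit 0x464, [(nat_lit 0, nat_lit 0x464, nat_lit 0), (nat_lit 7, nat_lit 0x464, nat_lit 9), (nat_lit 6, nat_lit 0x464, nat_lit 0)]),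
  (nat_lit 0x8464, [(nat_lit 0, nat_lit 0x8464, nat_lit 0), (nat_lit 198, nat_lit 0x8464, nat_lit 0), (nat_lit 6, nat_lit 0x8464, nat_lit 0)]),
  (nat_lit 5, [(nat_lit 0, nat_lit 5, nat_lit 0), (nat_lit 0, nat_lit 168, nat_lit 0), (nat_lit 0x463, nat_lit 0x14c7, nat_lit 297)]),
  (nat_lit 37, [(nat_lit 0, nat_lit 37, nat_lit 0), (nat_lit 7, nat_lit 37, nat_lit 0), (nat_lit 231, nat_lit 37, nat_lit 0)]),
  (nat_lit 69, [(nat_lit 0, nat_lit 69, nat_lit 0), (nat_lit 0x563, nat_lit 0x887, nat_lit 0), (nat_lit 35, nat_lit 0x887, nat_lit 0)]),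
  (nat_lit 0x445, [(nat_lit 0, nat_lit 0x445, nat_lit 0), (nat_lit 7, nat_lit 0x445, nat_lit 9), (nat_lit 231, nat_lit 0x445, nat_lit 297)]),
  (nat_lit 133, [(nat_lit 0, nat_lit 133, nat_lit 0), (nat_lit 0, nat_lit 0x10a8, nat_lit 0), (nat_lit 0x8463, nat_lit 0x10a7, nat_lit 297)]),
  (nat_lit 0x885, [(nat_lit 0, nat_lit 0x885, nat_lit 0), (nat_lit 0xd61, nat_lit 0x885, nat_lit 9), (nat_lit 0x423, nat_lit 0x118c7, nat_lit 9)]),
  (nat_lit 0x1085, [(nat_lit 0, nat_lit 0x1085, nat_lit 0), (nat_lit 0x463, nat_lit 0x210a7, nat_lit 9), (nat_lit 10, nat_lit 0x214a8, nat_lit 0)]),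
  (nat_lit 6, [(nat_lit 0, nat_lit 6, nat_lit 0), (nat_lit 3, nat_lit 6, nat_lit 0), (nat_lit 99, nat_lit 6, nat_lit 0)]),
  (nat_lit 70, [(nat_lit 0, nat_lit 70, nat_lit 0), (nat_lit 0, nat_lit 0x8c8, nat_lit 0), (nat_lit 11, nat_lit 0x8c8, nat_lit 0)]),
  (nat_lit 0x846, [(nat_lit 0, nat_lit 0x846, nat_lit 0), (nat_lit 0, nat_lit 0x108c8, nat_lit 0), (nat_lit 11, nat_lit 0x108c8, nat_lit 0)]),
  (nat_lit 0x8a6, [(nat_lit 0, nat_lit 0x8a6, nat_lit 0), (nat_lit 3, nat_lit 0x8c7, nat_lit 0), (nat_lit 107, nat_lit 0x8a6, nat_lit 0)]),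
  (nat_lit 7, [(nat_lit 0, nat_lit 7, nat_lit 0), (nat_lit 33, nat_lit 7, nat_lit 0), (nat_lit 1, nat_lit 7, nat_lit 0)]),
  (nat_lit 39, [(nat_lit 0, nat_lit 39, nat_lit 0), (nat_lit 7, nat_lit 39, nat_lit 0), (nat_lit 1, nat_lit 39, nat_lit 0)]),
  (nat_lit 0x847, [(nat_lit 0, nat_lit 0x847, nat_lit 0), (nat_lit 33, nat_lit 0x10887, nat_lit 0), (nat_lit 353, nat_lit 0x10887, nat_lit 0)]),
  (nat_lit 0x8847, [(nat_lit 0, nat_lit 0x8847, nat_lit 0), (nat_lit 7, nat_lit 0x8847, nat_lit 297), (nat_lit 231, nat_lit 0x8847, nat_lit 9)]),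
  (nat_lit 135, [(nat_lit 0, nat_lit 135, nat_lit 0), (nat_lit 33, nat_lit 135, nat_lit 0), (nat_lit 1, nat_lit 135, nat_lit 0)]),
  (nat_lit 0x110a7, [(nat_lit 0, nat_lit 0x110a7, nat_lit 0), (nat_lit 0x2963, nat_lit 0x2110c7, nat_lit 297), (nat_lit 0x46a, nat_lit 0x2110c7, nat_lit 9)]),
  (nat_lit 199, [(nat_lit 0, nat_lit 199, nat_lit 0), (nat_lit 3, nat_lit 199, nat_lit 0), (nat_lit 1, nat_lit 199, nat_lit 0)]),
  (nat_lit 0x114c7, [(nat_lit 0, nat_lit 0x114c7, nat_lit 0), (nat_lit 3, nat_lit 0x118e7, nat_lit 0), (nat_lit 107, nat_lit 0x114c7, nat_lit 0)]),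
  (nat_lit 0x18c7, [(nat_lit 0, nat_lit 0x18c7, nat_lit 0), (nat_lit 33, nat_lit 0x18c7, nat_lit 0), (nat_lit 1, nat_lit 0x18c7, nat_lit 0)])]
def c9 : List (ℕ × List (ℕ × ℕ × ℕ)) := [(nat_lit 0, [(nat_lit 0, nat_lit 0, nat_lit 0), (nat_lit 0, nat_lit 9, nat_lit 0), (nat_lit 11, nat_lit 9, nat_lit 0)]),
  (nat_lit 1, [(nat_lit 0, nat_lit 1, nat_lit 0), (nat_lit 165, nat_lit 38, nat_lit 0), (nat_lit 11, nat_lit 0x429, nat_lit 0)]),
  (nat_lit 2, [(nat_lit 0, nat_lit 2, nat_lit 0), (nat_lit 8, nat_lit 2, nat_lit 0), (nat_lit 264, nat_lit 2, nat_lit 0)]),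
  (nat_lit 34, [(nat_lit 0, nat_lit 34, nat_lit 0), (nat_lit 8, nat_lit 34, nat_lit 0), (nat_lit 264, nat_lit 34, nat_lit 0)]),
  (nat_lit 3, [(nat_lit 0, nat_lit 3, nat_lit 0), (nat_lit 0, nat_lit 105, nat_lit 0), (nat_lit 0x825, nat_lit 0xca8, nat_lit 0)]),
  (nat_lit 35, [(nat_lit 0, nat_lit 35, nat_lit 0), (nat_lit 0, nat_lit 0x469, nat_lit 0), (nat_lit 0x10a7, nat_lit 0x467, nat_lit 0)]),
  (nat_lit 0x423, [(nat_lit 0, nat_lit 0x423, nat_lit 0), (nat_lit 0x9085, nat_lit 0x8467, nat_lit 0), (nat_lit 11, nat_lit 0x8c69, nat_lit 0)]),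
  (nat_lit 67, [(nat_lit 0, nat_lit 67, nat_lit 0), (nat_lit 8, nat_lit 67, nat_lit 0), (nat_lit 264, nat_lit 67, nat_lit 0)]),
  (nat_lit 0x443, [(nat_lit 0, nat_lit 0x443, nat_lit 0), (nat_lit 8, nat_lit 0x443, nat_lit 0), (nat_lit 199, nat_lit 0x443, nat_lit 0)]),
  (nat_lit 0x8443, [(nat_lit 0, nat_lit 0x8443, nat_lit 0), (nat_lit 8, nat_lit 0x8443, nat_lit 0), (nat_lit 264, nat_lit 0x8443, nat_lit 0)]),
  (nat_lit 4, [(nat_lit 0, nat_lit 4, nat_lit 0), (nat_lit 231, nat_lit 4, nat_lit 0), (nat_lit 7, nat_lit 4, nat_lit 0)]),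
  (nat_lit 100, [(nat_lit 0, nat_lit 100, nat_lit 0), (nat_lit 231, nat_lit 100, nat_lit 0), (nat_lit 7, nat_lit 100, nat_lit 0)]),
  (nat_lit 0x464, [(nat_lit 0, nat_lit 0x464, nat_lit 0), (nat_lit 0x318e7, nat_lit 0x464, nat_lit 0), (nat_lit 199, nat_lit 0x464, nat_lit 0)]),
  (nat_lit 0x8464, [(nat_lit 0, nat_lit 0x8464, nat_lit 0), (nat_lit 0x18e7, nat_lit 0x8464, nat_lit 0), (nat_lit 0x18c7, nat_lit 0x8464, nat_lit 0)]),
  (nat_lit 5, [(nat_lit 0, nat_lit 5, nat_lit 0), (nat_lit 198, nat_lit 5, nat_lit 0), (nat_lit 6, nat_lit 5, nat_lit 0)]),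
  (nat_lit 37, [(nat_lit 0, nat_lit 37, nat_lit 0), (nat_lit 161, nat_lit 37, nat_lit 0), (nat_lit 6, nat_lit 37, nat_lit 0)]),
  (nat_lit 69, [(nat_lit 0, nat_lit 69, nat_lit 0), (nat_lit 8, nat_lit 69, nat_lit 0), (nat_lit 6, nat_lit 69, nat_lit 0)]),
  (nat_lit 0x445, [(nat_lit 0, nat_lit 0x445, nat_lit 0), (nat_lit 8, nat_lit 0x445, nat_lit 0), (nat_lit 6, nat_lit 0x445, nat_lit 0)]),
  (nat_lit 133, [(nat_lit 0, nat_lit 133, nat_lit 0), (nat_lit 198, nat_lit 133, nat_lit 0), (nat_lit 6, nat_lit 133, nat_lit 0)]),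
  (nat_lit 0x885, [(nat_lit 0, nat_lit 0x885, nat_lit 0), (nat_lit 8, nat_lit 0x885, nat_lit 0), (nat_lit 6, nat_lit 0x885, nat_lit 0)]),
  (nat_lit 0x1085, [(nat_lit 0, nat_lit 0x1085, nat_lit 0), (nat_lit 7, nat_lit 0x1085, nat_lit 0), (nat_lit 6, nat_lit 0x1085, nat_lit 0)]),
  (nat_lit 6, [(nat_lit 0, nat_lit 6, nat_lit 0), (nat_lit 5, nat_lit 6, nat_lit 0), (nat_lit 165, nat_lit 6, nat_lit 0)]),
  (nat_lit 70, [(nat_lit 0, nat_lit 70, nat_lit 0), (nat_lit 5, nat_lit 70, nat_lit 0), (nat_lit 165, nat_lit 70, nat_lit 0)]),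
  (nat_lit 0x846, [(nat_lit 0, nat_lit 0x846, nat_lit 0), (nat_lit 5, nat_lit 0x846, nat_lit 0), (nat_lit 8, nat_lit 0x846, nat_lit 0)]),
  (nat_lit 134, [(nat_lit 0, nat_lit 134, nat_lit 0), (nat_lit 5, nat_lit 134, nat_lit 0), (nat_lit 7, nat_lit 134, nat_lit 0)]),
  (nat_lit 0x8a6, [(nat_lit 0, nat_lit 0x8a6, nat_lit 0), (nat_lit 5, nat_lit 0x8a6, nat_lit 0), (nat_lit 6, nat_lit 0x8a6, nat_lit 0)]),
  (nat_lit 7, [(nat_lit 0, nat_lit 7, nat_lit 0), (nat_lit 4, nat_lit 7, nat_lit 0), (nat_lit 132, nat_lit 7, nat_lit 0)]),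
  (nat_lit 39, [(nat_lit 0, nat_lit 39, nat_lit 0), (nat_lit 4, nat_lit 39, nat_lit 0), (nat_lit 132, nat_lit 39, nat_lit 0)]),
  (nat_lit 0x847, [(nat_lit 0, nat_lit 0x847, nat_lit 0), (nat_lit 4, nat_lit 0x847, nat_lit 0), (nat_lit 8, nat_lit 0x847, nat_lit 0)]),
  (nat_lit 0x8847, [(nat_lit 0, nat_lit 0x8847, nat_lit 0), (nat_lit 4, nat_lit 0x8847, nat_lit 0), (nat_lit 8, nat_lit 0x8847, nat_lit 0)]),
  (nat_lit 135, [(nat_lit 0, nat_lit 135, nat_lit 0), (nat_lit 4, nat_lit 135, nat_lit 0), (nat_lit 7, nat_lit 135, nat_lit 0)]),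
  (nat_lit 0x887, [(nat_lit 0, nat_lit 0x887, nat_lit 0), (nat_lit 4, nat_lit 0x887, nat_lit 0), (nat_lit 7, nat_lit 0x887, nat_lit 0)]),
  (nat_lit 0x10887, [(nat_lit 0, nat_lit 0x10887, nat_lit 0), (nat_lit 4, nat_lit 0x10887, nat_lit 0), (nat_lit 7, nat_lit 0x10887, nat_lit 0)]),
  (nat_lit 0x10a7, [(nat_lit 0, nat_lit 0x10a7, nat_lit 0), (nat_lit 4, nat_lit 0x10a7, nat_lit 0), (nat_lit 6, nat_lit 0x10a7, nat_lit 0)]),
  (nat_lit 0x110a7, [(nat_lit 0, nat_lit 0x110a7, nat_lit 0), (nat_lit 4, nat_lit 0x110a7, nat_lit 0), (nat_lit 6, nat_lit 0x110a7, nat_lit 0)]),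
  (nat_lit 0x210a7, [(nat_lit 0, nat_lit 0x210a7, nat_lit 0), (nat_lit 4, nat_lit 0x210a7, nat_lit 0), (nat_lit 6, nat_lit 0x210a7, nat_lit 0)]),
  (nat_lit 199, [(nat_lit 0, nat_lit 199, nat_lit 0), (nat_lit 4, nat_lit 199, nat_lit 0), (nat_lit 132, nat_lit 199, nat_lit 0)]),
  (nat_lit 0x8c7, [(nat_lit 0, nat_lit 0x8c7, nat_lit 0), (nat_lit 4, nat_lit 0x8c7, nat_lit 0), (nat_lit 132, nat_lit 0x8c7, nat_lit 0)]),
  (nat_lit 0x2110c7, [(nat_lit 0, nat_lit 0x2110c7, nat_lit 0), (nat_lit 4, nat_lit 0x2110c7, nat_lit 0), (nat_lit 7, nat_lit 0x2110c7, nat_lit 0)]),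
  (nat_lit 0x14c7, [(nat_lit 0, nat_lit 0x14c7, nat_lit 0), (nat_lit 4, nat_lit 0x14c7, nat_lit 0), (nat_lit 6, nat_lit 0x14c7, nat_lit 0)]),
  (nat_lit 0x114c7, [(nat_lit 0, nat_lit 0x114c7, nat_lit 0), (nat_lit 4, nat_lit 0x114c7, nat_lit 0), (nat_lit 6, nat_lit 0x114c7, nat_lit 0)]),
  (nat_lit 0x18c7, [(nat_lit 0, nat_lit 0x18c7, nat_lit 0), (nat_lit 4, nat_lit 0x18c7, nat_lit 0), (nat_lit 5, nat_lit 0x18c7, nat_lit 0)]),
  (nat_lit 0x118c7, [(nat_lit 0, nat_lit 0x118c7, nat_lit 0), (nat_lit 4, nat_lit 0x118c7, nat_lit 0), (nat_lit 5, nat_lit 0x118c7, nat_lit 0)]),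
  (nat_lit 0x118e7, [(nat_lit 0, nat_lit 0x118e7, nat_lit 0), (nat_lit 5, nat_lit 0x118e7, nat_lit 0), (nat_lit 4, nat_lit 0x118e7, nat_lit 0)]),
  (nat_lit 8, [(nat_lit 0, nat_lit 8, nat_lit 0), (nat_lit 66, nat_lit 8, nat_lit 0), (nat_lit 2, nat_lit 8, nat_lit 0)]),
  (nat_lit 72, [(nat_lit 0, nat_lit 72, nat_lit 0), (nat_lit 8, nat_lit 72, nat_lit 0), (nat_lit 2, nat_lit 72, nat_lit 0)]),
  (nat_lit 0x1088, [(nat_lit 0, nat_lit 0x1088, nat_lit 0), (nat_lit 7, nat_lit 0x1088, nat_lit 0), (nat_lit 2, nat_lit 0x1088, nat_lit 0)]),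
  (nat_lit 168, [(nat_lit 0, nat_lit 168, nat_lit 0), (nat_lit 66, nat_lit 168, nat_lit 0), (nat_lit 2, nat_lit 168, nat_lit 0)]),
  (nat_lit 0x10a8, [(nat_lit 0, nat_lit 0x10a8, nat_lit 0), (nat_lit 66, nat_lit 0x10a8, nat_lit 0), (nat_lit 2, nat_lit 0x10a8, nat_lit 0)]),
  (nat_lit 0x214a8, [(nat_lit 0, nat_lit 0x214a8, nat_lit 0), (nat_lit 6, nat_lit 0x214a8, nat_lit 0), (nat_lit 2, nat_lit 0x214a8, nat_lit 0)]),
  (nat_lit 0x8c8, [(nat_lit 0, nat_lit 0x8c8, nat_lit 0), (nat_lit 5, nat_lit 0x8c8, nat_lit 0), (nat_lit 2, nat_lit 0x8c8, nat_lit 0)]),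
  (nat_lit 0x108c8, [(nat_lit 0, nat_lit 0x108c8, nat_lit 0), (nat_lit 5, nat_lit 0x108c8, nat_lit 0), (nat_lit 2, nat_lit 0x108c8, nat_lit 0)])]
def c10 : List (ℕ × ℕ × ℕ) := [(nat_lit 0, nat_lit 0, nat_lit 0),
  (nat_lit 1, nat_lit 0, nat_lit 15),
  (nat_lit 2, nat_lit 428, nat_lit 15),
  (nat_lit 34, nat_lit 0, nat_lit 16),
  (nat_lit 3, nat_lit 0, nat_lit 17),
  (nat_lit 35, nat_lit 0, nat_lit 18),
  (nat_lit 0x423, nat_lit 13, nat_lit 19),
  (nat_lit 67, nat_lit 0, nat_lit 0),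
  (nat_lit 0x443, nat_lit 0, nat_lit 0),
  (nat_lit 0x8443, nat_lit 0, nat_lit 0),
  (nat_lit 4, nat_lit 13, nat_lit 15),
  (nat_lit 100, nat_lit 0, nat_lit 0),
  (nat_lit 0x464, nat_lit 0, nat_lit 0),
  (nat_lit 0x8464, nat_lit 0, nat_lit 0),
  (nat_lit 5, nat_lit 365, nat_lit 17),
  (nat_lit 37, nat_lit 0, nat_lit 0),
  (nat_lit 69, nat_lit 0x15ae, nat_lit 17),
  (nat_lit 0x445, nat_lit 0, nat_lit 0),
  (nat_lit 133, nat_lit 0, nat_lit 19),
  (nat_lit 0x885, nat_lit 0x386e, nat_lit 19),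
  (nat_lit 0x1085, nat_lit 365, nat_lit 18),
  (nat_lit 6, nat_lit 428, nat_lit 17),
  (nat_lit 38, nat_lit 0xab6b1cd, nat_lit 17),
  (nat_lit 70, nat_lit 428, nat_lit 18),
  (nat_lit 0x846, nat_lit 332, nat_lit 19),
  (nat_lit 134, nat_lit 0x56a98e, nat_lit 17),
  (nat_lit 0x8a6, nat_lit 0x3342c, nat_lit 18),
  (nat_lit 7, nat_lit 0x5b58e, nat_lit 15),
  (nat_lit 39, nat_lit 334, nat_lit 16),
  (nat_lit 0x847, nat_lit 0, nat_lit 20),
  (nat_lit 0x8847, nat_lit 0, nat_lit 0),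
  (nat_lit 0x467, nat_lit 0x12a16e6b1cd, nat_lit 16),
  (nat_lit 0x8467, nat_lit 0x1438ad531cd, nat_lit 16),
  (nat_lit 135, nat_lit 0x29cd, nat_lit 16),
  (nat_lit 0x887, nat_lit 0x10e6b02b, nat_lit 16),
  (nat_lit 0x10887, nat_lit 0x16873581, nat_lit 16),
  (nat_lit 0x10a7, nat_lit 0xa1c56a98e, nat_lit 16),
  (nat_lit 0x110a7, nat_lit 0xb8856a98e, nat_lit 16),
  (nat_lit 0x210a7, nat_lit 0x950b7358e, nat_lit 16),
  (nat_lit 199, nat_lit 0x5b58e, nat_lit 18),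
  (nat_lit 0x8c7, nat_lit 0, nat_lit 21),
  (nat_lit 0x2110c7, nat_lit 0x221b02e, nat_lit 21),
  (nat_lit 0x14c7, nat_lit 0x41b5c3, nat_lit 18),
  (nat_lit 0x114c7, nat_lit 0x45302c, nat_lit 21),
  (nat_lit 0x18c7, nat_lit 0x298e, nat_lit 19),
  (nat_lit 0x118c7, nat_lit 0x31b1c3, nat_lit 21),
  (nat_lit 0x118e7, nat_lit 0x45711aa605c3, nat_lit 16),
  (nat_lit 8, nat_lit 0x2dae, nat_lit 15),
  (nat_lit 72, nat_lit 0x39ac, nat_lit 16),
  (nat_lit 0x1088, nat_lit 332, nat_lit 20),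
  (nat_lit 168, nat_lit 334, nat_lit 19),
  (nat_lit 0xca8, nat_lit 0xe6886d, nat_lit 19),
  (nat_lit 0x10a8, nat_lit 0x18dc3, nat_lit 21),
  (nat_lit 0x214a8, nat_lit 332, nat_lit 21),
  (nat_lit 0x8c8, nat_lit 0x4a85b9ae, nat_lit 16),
  (nat_lit 0x108c8, nat_lit 0x50e2b54e, nat_lit 16),
  (nat_lit 9, nat_lit 0x35cd, nat_lit 15),
  (nat_lit 0x429, nat_lit 397, nat_lit 20),
  (nat_lit 105, nat_lit 0x35cd, nat_lit 18),
  (nat_lit 0x469, nat_lit 397, nat_lit 21),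
  (nat_lit 0x8c69, nat_lit 0x1b9a5, nat_lit 21)]

theorem s1 : stOk 9 378 bs Ts 3 9 11 1 (c2.map Prod.fst) c1 = true := by decide +kernel

theorem s2 : stOk 9 378 bs Ts 3 9 11 2 (c3.map Prod.fst) c2 = true := by decide +kernel

theorem s3 : stOk 9 378 bs Ts 3 9 11 3 (c4.map Prod.fst) c3 = true := by decide +kernel

theorem s4 : stOk 9 378 bs Ts 3 9 11 4 (c5.map Prod.fst) c4 = true := by decide +kernel

theorem s5 : stOk 9 378 bs Ts 3 9 11 5 (c6.map Prod.fst) c5 = true := by decide +kernel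

theorem s6 : stOk 9 378 bs Ts 3 9 11 6 (c7.map Prod.fst) c6 = true := by decide +kernel

theorem s7 : stOk 9 378 bs Ts 3 9 11 7 (c8.map Prod.fst) c7 = true := by decide +kernel

theorem s8 : stOk 9 378 bs Ts 3 9 11 8 (c9.map Prod.fst) c8 = true := by decide +kernel

theorem s9 : stOk 9 378 bs Ts 3 9 11 9 (c10.map Prod.fst) c9 = true := by decide +kernel

theorem fn : fnOk 9 378 bs Ts 3 [0, 15, 16, 17, 18, 19, 20, 21] c10 = true := by decide +kernel

/-- The commutator subgroup of the isometry group of a non-degenerate 7-dimensional quadratic form over the field with three elements, modulo its (trivial) centre — the simple group Ω(7, 3) — has exactly seven conjugacy classes of subgroups of order 3. -/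
theorem result : ∃ Y : Fin 7 → Subgroup (Cfsg.POmega (ZMod 3) (Cfsg.quadFormOdd 3 (ZMod 3))), (∀ i, Nat.card (Y i) = 3) ∧ (∀ i j, (∃ g : Cfsg.POmega (ZMod 3) (Cfsg.quadFormOdd 3 (ZMod 3)), (Y i).map (MulAut.conj g).toMonoidHom = Y j) → i = j) ∧ (∀ X : Subgroup (Cfsg.POmega (ZMod 3) (Cfsg.quadFormOdd 3 (ZMod 3))), Nat.card X = 3 → ∃ i, ∃ g : Cfsg.POmega (ZMod 3) (Cfsg.quadFormOdd 3 (ZMod 3)), X.map (MulAut.conj g).toMonoidHom = Y i) := by
  obtain ⟨S, M⟩ := model (ZMod 3) (ZMod.card 3)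
  have := S.finite
  have h : ∀ t ∈ Ts, S.In ⊤ t := List.forall_mem_cons.2 ⟨In.one, In.slp (pr := [[nat_lit 0, nat_lit 1, nat_lit 0, nat_lit 0, nat_lit 0],
   [nat_lit 2, nat_lit 1, nat_lit 2, nat_lit 2, nat_lit 1, nat_lit 1, nat_lit 1, nat_lit 2],
   [nat_lit 2, nat_lit 1, nat_lit 3, nat_lit 2, nat_lit 3, nat_lit 1, nat_lit 2, nat_lit 3],
   [nat_lit 0, nat_lit 1, nat_lit 1, nat_lit 1, nat_lit 0, nat_lit 1],
   [nat_lit 1, nat_lit 2, nat_lit 2, nat_lit 0, nat_lit 1, nat_lit 1, nat_lit 0, nat_lit 1, nat_lit 2],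
   [nat_lit 3, nat_lit 2, nat_lit 2, nat_lit 2, nat_lit 3, nat_lit 3, nat_lit 3],
   [nat_lit 1, nat_lit 0, nat_lit 1, nat_lit 1, nat_lit 0, nat_lit 0, nat_lit 0, nat_lit 1],
   [nat_lit 2, nat_lit 2, nat_lit 1, nat_lit 2, nat_lit 1, nat_lit 2, nat_lit 2, nat_lit 1],
   [nat_lit 2, nat_lit 2, nat_lit 2, nat_lit 2, nat_lit 2, nat_lit 3, nat_lit 3, nat_lit 2, nat_lit 3, nat_lit 2],
   [nat_lit 2, nat_lit 1, nat_lit 2, nat_lit 1, nat_lit 2, nat_lit 0, nat_lit 0],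
   [nat_lit 3, nat_lit 3, nat_lit 2, nat_lit 3, nat_lit 3, nat_lit 3, nat_lit 2],
   [nat_lit 3, nat_lit 4, nat_lit 2],
   [nat_lit 2, nat_lit 1, nat_lit 0, nat_lit 1],
   [nat_lit 8, nat_lit 8, nat_lit 8, nat_lit 8, nat_lit 8, nat_lit 8],
   [nat_lit 2, nat_lit 6, nat_lit 5],
   [nat_lit 2, nat_lit 5, nat_lit 4, nat_lit 8, nat_lit 7, nat_lit 9, nat_lit 9, nat_lit 9, nat_lit 10, nat_lit 10, nat_lit 10, nat_lit 13, nat_lit 13, nat_lit 11, nat_lit 13, nat_lit 12, nat_lit 13, nat_lit 14, nat_lit 16, nat_lit 14, nat_lit 15, nat_lit 16, nat_lit 14],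
   [nat_lit 3, nat_lit 3, nat_lit 4, nat_lit 9, nat_lit 9, nat_lit 8, nat_lit 7],
   [nat_lit 7, nat_lit 6, nat_lit 12, nat_lit 11, nat_lit 11, nat_lit 12, nat_lit 12, nat_lit 14, nat_lit 14, nat_lit 13, nat_lit 14, nat_lit 15, nat_lit 16, nat_lit 16, nat_lit 17, nat_lit 17, nat_lit 17, nat_lit 16],
   [nat_lit 5, nat_lit 8, nat_lit 11, nat_lit 10, nat_lit 13, nat_lit 13, nat_lit 14, nat_lit 16, nat_lit 16, nat_lit 15, nat_lit 15, nat_lit 19, nat_lit 17, nat_lit 19, nat_lit 19, nat_lit 17, nat_lit 17],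
   [nat_lit 6],
   [nat_lit 7, nat_lit 7, nat_lit 9, nat_lit 9],
   [nat_lit 8, nat_lit 8, nat_lit 10, nat_lit 9],
   [nat_lit 12, nat_lit 12, nat_lit 15, nat_lit 14, nat_lit 15, nat_lit 14, nat_lit 16, nat_lit 16, nat_lit 16, nat_lit 17, nat_lit 16, nat_lit 20, nat_lit 20, nat_lit 19, nat_lit 19, nat_lit 20, nat_lit 18],
   [nat_lit 10, nat_lit 10, nat_lit 13, nat_lit 12, nat_lit 16, nat_lit 16, nat_lit 18, nat_lit 17, nat_lit 18, nat_lit 18, nat_lit 17, nat_lit 18],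
   [nat_lit 11, nat_lit 11, nat_lit 13, nat_lit 12, nat_lit 16, nat_lit 17, nat_lit 16, nat_lit 18, nat_lit 18, nat_lit 19, nat_lit 18, nat_lit 22, nat_lit 21, nat_lit 21],
   [nat_lit 12, nat_lit 12, nat_lit 14, nat_lit 13, nat_lit 18, nat_lit 17, nat_lit 18, nat_lit 17, nat_lit 20, nat_lit 20, nat_lit 19, nat_lit 20, nat_lit 19, nat_lit 20],
   [nat_lit 13, nat_lit 13, nat_lit 15, nat_lit 14, nat_lit 19, nat_lit 19, nat_lit 18, nat_lit 19, nat_lit 19, nat_lit 20, nat_lit 20, nat_lit 20, nat_lit 21, nat_lit 20, nat_lit 24, nat_lit 24, nat_lit 23, nat_lit 23, nat_lit 24, nat_lit 22],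
   [nat_lit 22, nat_lit 22, nat_lit 22, nat_lit 22, nat_lit 22, nat_lit 22],
   [nat_lit 15, nat_lit 16, nat_lit 16, nat_lit 21, nat_lit 20, nat_lit 21, nat_lit 20, nat_lit 23, nat_lit 23, nat_lit 23, nat_lit 23, nat_lit 23, nat_lit 23],
   [nat_lit 16, nat_lit 19, nat_lit 18, nat_lit 22, nat_lit 21, nat_lit 23, nat_lit 23, nat_lit 23, nat_lit 24, nat_lit 24, nat_lit 24, nat_lit 27, nat_lit 27, nat_lit 25, nat_lit 27, nat_lit 26, nat_lit 27, nat_lit 28, nat_lit 30, nat_lit 28, nat_lit 29, nat_lit 30, nat_lit 28],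
   [nat_lit 17, nat_lit 20, nat_lit 20, nat_lit 23, nat_lit 23, nat_lit 22, nat_lit 25, nat_lit 24, nat_lit 24, nat_lit 25, nat_lit 24, nat_lit 24, nat_lit 25, nat_lit 28, nat_lit 28, nat_lit 26, nat_lit 28, nat_lit 27, nat_lit 28, nat_lit 29, nat_lit 31, nat_lit 29, nat_lit 30, nat_lit 31, nat_lit 29],
   [nat_lit 20, nat_lit 20, nat_lit 24, nat_lit 24, nat_lit 23, nat_lit 22, nat_lit 26, nat_lit 25, nat_lit 25, nat_lit 26, nat_lit 26, nat_lit 28, nat_lit 28, nat_lit 27, nat_lit 28, nat_lit 29, nat_lit 30, nat_lit 30, nat_lit 31, nat_lit 31, nat_lit 31, nat_lit 30],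
   [nat_lit 19, nat_lit 22, nat_lit 21, nat_lit 24, nat_lit 25, nat_lit 25, nat_lit 23],
   [nat_lit 20, nat_lit 26, nat_lit 25, nat_lit 26, nat_lit 26, nat_lit 28, nat_lit 28, nat_lit 29, nat_lit 31, nat_lit 31, nat_lit 30, nat_lit 30, nat_lit 34, nat_lit 32, nat_lit 34, nat_lit 34, nat_lit 32, nat_lit 32]]) (by decide +kernel) M.mem⟩
  have P := pc_of M.base h pc
  have c := P.cov Nat.prime_three (m := 232960) M.card (by norm_num) (le_of_ok (S := S) (Ls := T0.take 9) (pr := [[nat_lit 4, nat_lit 4, nat_lit 0, nat_lit 4, nat_lit 0, nat_lit 1, nat_lit 6, nat_lit 6, nat_lit 3],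
   [nat_lit 5, nat_lit 5, nat_lit 1, nat_lit 6, nat_lit 8, nat_lit 5],
   [nat_lit 2, nat_lit 4, nat_lit 3, nat_lit 6, nat_lit 4, nat_lit 7, nat_lit 4, nat_lit 7],
   [nat_lit 2, nat_lit 0, nat_lit 0],
   [nat_lit 3, nat_lit 3, nat_lit 3, nat_lit 3, nat_lit 1, nat_lit 2, nat_lit 3, nat_lit 2],
   [nat_lit 3, nat_lit 4, nat_lit 2, nat_lit 3, nat_lit 4],
   [nat_lit 2, nat_lit 0, nat_lit 2, nat_lit 1],
   [nat_lit 2, nat_lit 2, nat_lit 3, nat_lit 2, nat_lit 1]]) (lv := [(nat_lit 3, [nat_lit 8, nat_lit 9, nat_lit 10]), (nat_lit 9, [nat_lit 7, nat_lit 6]), (nat_lit 54, [nat_lit 4, nat_lit 3]), (nat_lit 27, [nat_lit 1, nat_lit 0])])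
    (by decide +kernel) fun t ht => by
      obtain ⟨i, a, rfl⟩ := (by decide +kernel : ∀ t ∈ T0.take 9, ∃ i < 9, nd (idv 9 378) Ts (i + 1) = t) t ht
      exact (nd_prop In.one h _).of_el (mem_KK (g := gn S Ts) (by omega) a))
  have f := Cov.fin M.base h fn (Cov.step M.base h P (by norm_num) s9 (Cov.step M.base h P (by norm_num) s8 (Cov.step M.base h P (by norm_num) s7 (Cov.step M.base h P (by norm_num) s6 (Cov.step M.base h P (by norm_num) s5 (Cov.step M.base h P (by norm_num) s4 (Cov.step M.base h P (by norm_num) s3 (Cov.step M.base h P (by norm_num) s2 (Cov.step M.base h P (by norm_num) s1 c)))))))))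
  let z := fun i => gn S Ts (zs i)
  have e : ∀ i, evC (gn S Ts) (zs i) = z i := fun i => evC_lt (by revert i; decide)
  have n34 : ¬ IsConj (z 3) (z 4) := M.nc (m := 3) (A := nat_lit 0x24c9792489309a4fa59389d94a8937027d50200fd7c4edff3aa2bfa02fbabafab0b3ab2d16ab95d2ed6f5c5b32ee6c3b8b06dcc062de194c86631148ad57aae2eaa8ac4d511c582b14d3472395bae197b7a60e7743826adf79bd9d94ba4bbe8ef1753b9e15076da2cad16bb39a1616cb51b56b6c349148e47a26229249c3d291048c3921198d2a630a78ea963d1b51c522cae8931ee975635caeec2bcdd97f6fb8326db3398cc9c6e29b4de70dc6db9a5b2e964fe833e7e50e88f9a13de79049ec0e73254f49e4699954ae50959048542a08fae2b35aadd7ebb5e592c57abcaa556a7666b59dab6469daad8cfb4b36c563b05369d4ca8d49d74f74bd690f4a53ca8c8d4622d108785422130b864360d07828bc5c26168d4682c198c862201812490502294ca44b279389a46250f8ca643190cda6c358e4d268339f8987d421ed0c5142a01068223a04f87f0f87454280d8ac52241109c4a230f070426a220e06e36370fc844120198743d1e0ecb0562a188c05e2e96cb25a39170e2783797cf4613c9d0ee553b15cea703981c0c080181408020080032180d0542e160a04c241007844180e0682c1409)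 (A' := nat_lit 0x1084a25931005029144a67c231208ef3a6d2ded4f783b6a350a4baa9547ae2d96eb8abafab0bc5eacd6b565a1d4ec5e399e4f4772e9c4ac722a1bd9574badcaeec5bcddadf705fb0edae370b8a6d337339dd12d96371badb198d44c34180a8642c188a05a2f17281452650a713e9e4d25530994b25d250f4a2420f0682c36190b8542610c86231af0c7b9b26e2cb665b980c260964b8782d968c2603a17cc45738160aae5724d263326fcd5c1379c4ba60de97bbde2eea93d1eb4c79539d74876519d28127a08fe4d42a19064e3e9f88a493daeeb759ad576bd5f5d2e564b1aa556a7284ecae532a4dc8e4f2492c8a3f219009c562910894482311080361e0f8703b1088a4e1c9144a210e8f47235188b4540a013fa0515f7437f3e2753c9ddada4d66a595aedab4342c2d1670ecdc3e1f9048644350e074661cd99b3676c592d4d5b634ed36267d8d9b607ebfe85447e40e093ea0c05f2fa9ccf5ee40211a4ce681e8f0d66c368dc6c643298d58b05729d54a951a9548a88dc723ca68eab630af8d2ae3317894562d138a04c24140c86034160a85c120b0503c2210060381a02008001007030140803)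
    (Cs := [nat_lit 0x282862731ddc73b2d91e12f332cd6a4271cd978c0b69f4f8faa5dacb65a2a521a3607357cd83e9a512e6507f2fe796e24af9be6a715b0baf4699dddb4f6c179888325c00c8db972c6aab9988f47f63a4956c34327a06eafc884442d0e8b0be242e8a0b540a250a5935204c024180f9148e4d279249635184f4651f09002320c0644c30073f26dd98d013b35ecef13a55a60371cd657a4034cdede473f3de74d22e535ed4a66958e2e9af1add0e55b33100fb65b0a7a459d912ae6770569ead63cd32d2da3098aa579bc1328104a99946d2d6e572663c5c1c1a147759c8a4c9ba3fcfe910d25028930b86c3b1f0fc86371e8e8803c1c08028260d0c8a0602a190b0622511a70429f8581511080123a0a0845cf8957762d99de5f3a8e9692c6f4e1766820dc0f6f87c9e1e6d56a3b19e58a32dcdae7ae94e8b7128b0c8d39609226b5b21b86b07aa75a8b2f230546a1686cb21088581c09bb54590e0c6e4370ed753237d899cea2bb2a84fd415c9249087a5d3295138ac52a58aa8e26a48b8601c150884816a653c7154a854aad3a2657ca444ad4d8916033952b0692b570d650074541c0887868051b0a, nat_lit 0x1f653a2bf90a866220d90c25fbe586db33371bb5a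21106b6405bada675ca653a9a773815caacd68bb6c966b3d62ae685f0dc70366f39974e85c39c96c663b150543409fe76f8b85be7563b1580a8f52e1e0b5656bd3ea3524c2585e9a12aac46ad10abd4ea9552c15c22560743e1b8f49a37248ec881e0c080261907844261b058342a177365d0ae34481932090142124916d22cc2ab5397d5270699bcd8ce3e372e47ed36b355e4f4a4d1dd4582b5a0ec733ab81bf35acac56439598e8db31364c8d73fbc5067c52ba5caea4f2311deefa3e33dd6e9765ada4d43d1e6a0f031178c1178fc56411390a7d3c264e0906232184ae5528894505d1616a8058a114288540b07028220d0281802020181c100002144a0cc405def300bb4e67a7e9e190cab431af578e15db96683b725a4b25d2dd219d6168185def1771a9c643711125cb59655a5b5e1e5747b5f2693a8102253f1fec9653f6dcc03e9ed834aa31bce471b65a9e74b7b1d0bed96d36038200f46a331893c8e4b291aa6c689d19a8d32a54aa912e29530ae38275405428190c05c26120d05a1f1148a42209349439288745a3d1a88462291c89]) (cs := [(nat_lit 0, [[nat_lit 0], [nat_lit 1]], [(nat_lit 39, nat_lit 0), (nat_lit 176, nat_lit 1), (nat_lit 47, nat_lit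 0), (nat_lit 28, nat_lit 1), (nat_lit 17, nat_lit 0), (nat_lit 286, nat_lit 1), (nat_lit 294, nat_lit 0), (nat_lit 297, nat_lit 1), (nat_lit 160, nat_lit 0), (nat_lit 53, nat_lit 1), (nat_lit 35, nat_lit 0), (nat_lit 145, nat_lit 1), (nat_lit 164, nat_lit 0), (nat_lit 277, nat_lit 0), (nat_lit 278, nat_lit 1), (nat_lit 22, nat_lit 0), (nat_lit 44, nat_lit 1), (nat_lit 289, nat_lit 0), (nat_lit 154, nat_lit 1), (nat_lit 10, nat_lit 0), (nat_lit 43, nat_lit 1), (nat_lit 147, nat_lit 0), (nat_lit 293, nat_lit 1), (nat_lit 15, nat_lit 1), (nat_lit 40, nat_lit 0), (nat_lit 34, nat_lit 1), (nat_lit 174, nat_lit 1), (nat_lit 295, nat_lit 0), (nat_lit 156, nat_lit 1), (nat_lit 18, nat_lit 1), (nat_lit 150, nat_lit 0), (nat_lit 153, nat_lit 1), (nat_lit 166, nat_lit 0), (nat_lit 171, nat_lit 1), (nat_lit 285, nat_lit 0), (nat_lit 296, nat_lit 1), (nat_lit 158, nat_lit 0), (nat_lit 146, nat_lit 1), (nat_lit 46, nat_lit 0),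 (nat_lit 30, nat_lit 1), (nat_lit 172, nat_lit 0), (nat_lit 12, nat_lit 1), (nat_lit 274, nat_lit 0), (nat_lit 45, nat_lit 1), (nat_lit 280, nat_lit 0), (nat_lit 273, nat_lit 1), (nat_lit 151, nat_lit 1), (nat_lit 21, nat_lit 0), (nat_lit 284, nat_lit 1), (nat_lit 11, nat_lit 0), (nat_lit 276, nat_lit 0), (nat_lit 167, nat_lit 1), (nat_lit 20, nat_lit 1), (nat_lit 298, nat_lit 1), (nat_lit 49, nat_lit 0), (nat_lit 37, nat_lit 1), (nat_lit 32, nat_lit 0), (nat_lit 31, nat_lit 1), (nat_lit 26, nat_lit 0), (nat_lit 163, nat_lit 0), (nat_lit 275, nat_lit 1), (nat_lit 9, nat_lit 0), (nat_lit 271, nat_lit 0), (nat_lit 169, nat_lit 1), (nat_lit 292, nat_lit 0), (nat_lit 157, nat_lit 1), (nat_lit 161, nat_lit 0), (nat_lit 51, nat_lit 1), (nat_lit 14, nat_lit 0), (nat_lit 283, nat_lit 1), (nat_lit 281, nat_lit 0), (nat_lit 272, nat_lit 1), (nat_lit 159, nat_lit 1), (nat_lit 290, nat_lit 0), (nat_lit 155, nat_lit 1), (nat_lit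 48, nat_lit 1), (nat_lit 16, nat_lit 1), (nat_lit 50, nat_lit 0), (nat_lit 33, nat_lit 1), (nat_lit 36, nat_lit 0), (nat_lit 29, nat_lit 1), (nat_lit 148, nat_lit 1), (nat_lit 291, nat_lit 0), (nat_lit 173, nat_lit 0), (nat_lit 25, nat_lit 1), (nat_lit 149, nat_lit 0), (nat_lit 165, nat_lit 1), (nat_lit 162, nat_lit 0), (nat_lit 52, nat_lit 1), (nat_lit 175, nat_lit 0), (nat_lit 19, nat_lit 1), (nat_lit 42, nat_lit 0), (nat_lit 38, nat_lit 1), (nat_lit 41, nat_lit 0), (nat_lit 282, nat_lit 0), (nat_lit 270, nat_lit 1), (nat_lit 27, nat_lit 0), (nat_lit 288, nat_lit 1), (nat_lit 287, nat_lit 0), (nat_lit 152, nat_lit 1), (nat_lit 299, nat_lit 0), (nat_lit 13, nat_lit 1), (nat_lit 144, nat_lit 0), (nat_lit 170, nat_lit 1), (nat_lit 24, nat_lit 1), (nat_lit 23, nat_lit 0), (nat_lit 168, nat_lit 1), (nat_lit 240, nat_lit 0), (nat_lit 194, nat_lit 1), (nat_lit 369, nat_lit 0), (nat_lit 180, nat_lit 1), (nat_lit 218, nat_lit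 0), (nat_lit 368, nat_lit 1), (nat_lit 100, nat_lit 0), (nat_lit 257, nat_lit 1), (nat_lit 125, nat_lit 0), (nat_lit 120, nat_lit 1), (nat_lit 204, nat_lit 0), (nat_lit 55, nat_lit 1), (nat_lit 118, nat_lit 0), (nat_lit 315, nat_lit 1), (nat_lit 317, nat_lit 0), (nat_lit 122, nat_lit 1), (nat_lit 256, nat_lit 0), (nat_lit 252, nat_lit 1), (nat_lit 358, nat_lit 0), (nat_lit 114, nat_lit 0), (nat_lit 306, nat_lit 1), (nat_lit 222, nat_lit 0), (nat_lit 132, nat_lit 1), (nat_lit 248, nat_lit 0), (nat_lit 334, nat_lit 1), (nat_lit 255, nat_lit 0), (nat_lit 221, nat_lit 1), (nat_lit 215, nat_lit 0), (nat_lit 217, nat_lit 0), (nat_lit 88, nat_lit 0), (nat_lit 183, nat_lit 1), (nat_lit 318, nat_lit 0), (nat_lit 128, nat_lit 1), (nat_lit 300, nat_lit 0), (nat_lit 78, nat_lit 1), (nat_lit 130, nat_lit 0), (nat_lit 340, nat_lit 1), (nat_lit 182, nat_lit 0), (nat_lit 65, nat_lit 1), (nat_lit 64, nat_lit 0), (nat_lit 206, nat_lit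 1), (nat_lit 123, nat_lit 0), (nat_lit 331, nat_lit 1), (nat_lit 77, nat_lit 0), (nat_lit 251, nat_lit 1), (nat_lit 116, nat_lit 0), (nat_lit 316, nat_lit 1), (nat_lit 87, nat_lit 0), (nat_lit 350, nat_lit 1), (nat_lit 178, nat_lit 0), (nat_lit 73, nat_lit 0), (nat_lit 361, nat_lit 1), (nat_lit 254, nat_lit 0), (nat_lit 303, nat_lit 1), (nat_lit 79, nat_lit 0), (nat_lit 56, nat_lit 1), (nat_lit 108, nat_lit 0), (nat_lit 224, nat_lit 1), (nat_lit 106, nat_lit 0), (nat_lit 355, nat_lit 1), (nat_lit 134, nat_lit 0), (nat_lit 201, nat_lit 1), (nat_lit 131, nat_lit 1), (nat_lit 124, nat_lit 0), (nat_lit 91, nat_lit 1), (nat_lit 375, nat_lit 0), (nat_lit 82, nat_lit 1), (nat_lit 321, nat_lit 1), (nat_lit 72, nat_lit 0), (nat_lit 242, nat_lit 1), (nat_lit 223, nat_lit 0), (nat_lit 354, nat_lit 1), (nat_lit 119, nat_lit 0), (nat_lit 244, nat_lit 0), (nat_lit 356, nat_lit 1), (nat_lit 61, nat_lit 0), (nat_lit 105, nat_lit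 1), (nat_lit 117, nat_lit 0), (nat_lit 70, nat_lit 1), (nat_lit 60, nat_lit 1), (nat_lit 259, nat_lit 0), (nat_lit 83, nat_lit 1), (nat_lit 220, nat_lit 0), (nat_lit 377, nat_lit 1), (nat_lit 58, nat_lit 1), (nat_lit 337, nat_lit 0), (nat_lit 59, nat_lit 0), (nat_lit 346, nat_lit 1), (nat_lit 227, nat_lit 0), (nat_lit 213, nat_lit 1), (nat_lit 335, nat_lit 0), (nat_lit 250, nat_lit 1), (nat_lit 205, nat_lit 0), (nat_lit 110, nat_lit 1), (nat_lit 339, nat_lit 0), (nat_lit 374, nat_lit 1), (nat_lit 243, nat_lit 1), (nat_lit 196, nat_lit 1), (nat_lit 333, nat_lit 1), (nat_lit 345, nat_lit 0), (nat_lit 207, nat_lit 1), (nat_lit 211, nat_lit 0), (nat_lit 332, nat_lit 0), (nat_lit 98, nat_lit 1), (nat_lit 308, nat_lit 0), (nat_lit 312, nat_lit 1), (nat_lit 376, nat_lit 0), (nat_lit 372, nat_lit 1), (nat_lit 76, nat_lit 1), (nat_lit 320, nat_lit 0), (nat_lit 370, nat_lit 1), (nat_lit 357, nat_lit 0), (nat_lit 191, nat_lit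 1), (nat_lit 353, nat_lit 0), (nat_lit 107, nat_lit 1), (nat_lit 181, nat_lit 0), (nat_lit 200, nat_lit 1), (nat_lit 202, nat_lit 1), (nat_lit 94, nat_lit 0), (nat_lit 249, nat_lit 1), (nat_lit 84, nat_lit 0), (nat_lit 229, nat_lit 1), (nat_lit 62, nat_lit 0), (nat_lit 311, nat_lit 1), (nat_lit 326, nat_lit 0), (nat_lit 348, nat_lit 1), (nat_lit 328, nat_lit 0), (nat_lit 228, nat_lit 1), (nat_lit 341, nat_lit 1), (nat_lit 310, nat_lit 0), (nat_lit 85, nat_lit 1), (nat_lit 127, nat_lit 0), (nat_lit 219, nat_lit 1), (nat_lit 97, nat_lit 0), (nat_lit 195, nat_lit 1), (nat_lit 188, nat_lit 0), (nat_lit 75, nat_lit 0), (nat_lit 102, nat_lit 0), (nat_lit 362, nat_lit 1), (nat_lit 129, nat_lit 1), (nat_lit 126, nat_lit 0), (nat_lit 210, nat_lit 1), (nat_lit 301, nat_lit 1), (nat_lit 66, nat_lit 0), (nat_lit 112, nat_lit 1), (nat_lit 360, nat_lit 1), (nat_lit 363, nat_lit 0), (nat_lit 230, nat_lit 1), (nat_lit 324, nat_lit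 0), (nat_lit 302, nat_lit 1), (nat_lit 192, nat_lit 1), (nat_lit 231, nat_lit 0), (nat_lit 344, nat_lit 1), (nat_lit 67, nat_lit 0), (nat_lit 235, nat_lit 1), (nat_lit 258, nat_lit 0), (nat_lit 113, nat_lit 0), (nat_lit 371, nat_lit 1), (nat_lit 234, nat_lit 0), (nat_lit 349, nat_lit 1), (nat_lit 246, nat_lit 0), (nat_lit 109, nat_lit 0), (nat_lit 190, nat_lit 1), (nat_lit 327, nat_lit 0), (nat_lit 232, nat_lit 1), (nat_lit 351, nat_lit 1), (nat_lit 179, nat_lit 1), (nat_lit 343, nat_lit 0), (nat_lit 241, nat_lit 1), (nat_lit 199, nat_lit 0), (nat_lit 203, nat_lit 1), (nat_lit 198, nat_lit 0), (nat_lit 197, nat_lit 0), (nat_lit 81, nat_lit 1), (nat_lit 54, nat_lit 0), (nat_lit 304, nat_lit 1), (nat_lit 338, nat_lit 0), (nat_lit 367, nat_lit 1), (nat_lit 305, nat_lit 0), (nat_lit 104, nat_lit 1), (nat_lit 226, nat_lit 0), (nat_lit 365, nat_lit 0), (nat_lit 92, nat_lit 1), (nat_lit 322, nat_lit 0), (nat_lit 115, nat_lit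 0), (nat_lit 366, nat_lit 1), (nat_lit 309, nat_lit 1), (nat_lit 236, nat_lit 1), (nat_lit 239, nat_lit 1), (nat_lit 352, nat_lit 1), (nat_lit 68, nat_lit 0), (nat_lit 111, nat_lit 1), (nat_lit 313, nat_lit 0), (nat_lit 245, nat_lit 1), (nat_lit 238, nat_lit 1), (nat_lit 177, nat_lit 0), (nat_lit 364, nat_lit 1), (nat_lit 319, nat_lit 0), (nat_lit 325, nat_lit 1), (nat_lit 86, nat_lit 0), (nat_lit 185, nat_lit 1), (nat_lit 89, nat_lit 1), (nat_lit 359, nat_lit 1), (nat_lit 186, nat_lit 0), (nat_lit 347, nat_lit 1), (nat_lit 80, nat_lit 0), (nat_lit 330, nat_lit 1), (nat_lit 342, nat_lit 0), (nat_lit 93, nat_lit 1), (nat_lit 96, nat_lit 1), (nat_lit 189, nat_lit 1), (nat_lit 74, nat_lit 0), (nat_lit 260, nat_lit 1), (nat_lit 225, nat_lit 1), (nat_lit 103, nat_lit 0), (nat_lit 233, nat_lit 0), (nat_lit 209, nat_lit 1), (nat_lit 184, nat_lit 0), (nat_lit 323, nat_lit 1), (nat_lit 99, nat_lit 0), (nat_lit 193, nat_lit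 0), (nat_lit 314, nat_lit 1), (nat_lit 208, nat_lit 1), (nat_lit 336, nat_lit 1), (nat_lit 95, nat_lit 1), (nat_lit 307, nat_lit 1), (nat_lit 57, nat_lit 0), (nat_lit 216, nat_lit 1), (nat_lit 187, nat_lit 1), (nat_lit 101, nat_lit 1), (nat_lit 214, nat_lit 0), (nat_lit 63, nat_lit 0), (nat_lit 373, nat_lit 0), (nat_lit 253, nat_lit 0), (nat_lit 329, nat_lit 1), (nat_lit 133, nat_lit 1), (nat_lit 90, nat_lit 1), (nat_lit 212, nat_lit 0), (nat_lit 237, nat_lit 1), (nat_lit 69, nat_lit 0), (nat_lit 247, nat_lit 0), (nat_lit 121, nat_lit 0), (nat_lit 265, nat_lit 0), (nat_lit 263, nat_lit 1), (nat_lit 268, nat_lit 0), (nat_lit 266, nat_lit 1), (nat_lit 6, nat_lit 0), (nat_lit 269, nat_lit 1), (nat_lit 0, nat_lit 0), (nat_lit 264, nat_lit 0), (nat_lit 142, nat_lit 1), (nat_lit 3, nat_lit 0), (nat_lit 267, nat_lit 0), (nat_lit 136, nat_lit 1), (nat_lit 140, nat_lit 0), (nat_lit 138, nat_lit 0), (nat_lit 1, nat_lit 1),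 (nat_lit 261, nat_lit 0), (nat_lit 139, nat_lit 1), (nat_lit 143, nat_lit 0), (nat_lit 141, nat_lit 0), (nat_lit 4, nat_lit 1), (nat_lit 7, nat_lit 0), (nat_lit 2, nat_lit 1), (nat_lit 137, nat_lit 0), (nat_lit 135, nat_lit 0), (nat_lit 5, nat_lit 1), (nat_lit 8, nat_lit 0)]),
   (nat_lit 0x9ecb32, [[nat_lit 1, nat_lit 0, nat_lit 1, nat_lit 0], [nat_lit 0, nat_lit 1, nat_lit 1, nat_lit 0, nat_lit 1, nat_lit 0, nat_lit 0, nat_lit 1, nat_lit 1, nat_lit 1, nat_lit 0], [nat_lit 0, nat_lit 0, nat_lit 1, nat_lit 1, nat_lit 1, nat_lit 1, nat_lit 1, nat_lit 0, nat_lit 1, nat_lit 0, nat_lit 0, nat_lit 1], [nat_lit 0, nat_lit 1, nat_lit 0, nat_lit 0, nat_lit 0, nat_lit 1, nat_lit 0, nat_lit 1, nat_lit 0, nat_lit 0, nat_lit 1, nat_lit 1, nat_lit 1], [nat_lit 1, nat_lit 1, nat_lit 0, nat_lit 1, nat_lit 0, nat_lit 1, nat_lit 0, nat_lit 0, nat_lit 1, nat_lit 1, nat_lit 0, nat_lit 0, nat_lit 1], [nat_lit 0, nat_lit 1, nat_lit 0,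 nat_lit 0, nat_lit 0, nat_lit 0, nat_lit 1, nat_lit 1, nat_lit 0, nat_lit 1, nat_lit 1, nat_lit 0, nat_lit 1], [nat_lit 0, nat_lit 1, nat_lit 1, nat_lit 1, nat_lit 1, nat_lit 0, nat_lit 0, nat_lit 1, nat_lit 0, nat_lit 1, nat_lit 1, nat_lit 0, nat_lit 0, nat_lit 1], [nat_lit 0, nat_lit 0, nat_lit 0, nat_lit 1, nat_lit 0, nat_lit 1, nat_lit 1, nat_lit 0, nat_lit 1, nat_lit 1, nat_lit 1, nat_lit 1, nat_lit 0, nat_lit 0], [nat_lit 0, nat_lit 0, nat_lit 1, nat_lit 1, nat_lit 1, nat_lit 0, nat_lit 1, nat_lit 1, nat_lit 0, nat_lit 1, nat_lit 1, nat_lit 0, nat_lit 1, nat_lit 0, nat_lit 0], [nat_lit 0, nat_lit 1, nat_lit 0, nat_lit 1, nat_lit 0, nat_lit 1, nat_lit 0, nat_lit 0, nat_lit 1, nat_lit 0, nat_lit 0, nat_lit 0, nat_lit 0, nat_lit 0, nat_lit 1], [nat_lit 0, nat_lit 0, nat_lit 0, nat_lit 1, nat_lit 0, nat_lit 1, nat_lit 0, nat_lit 1, nat_lit 1, nat_lit 0, nat_lit 0, nat_lit 1, nat_lit 1, nat_lit 0, nat_lit 1], [nat_lit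 1, nat_lit 1, nat_lit 1, nat_lit 1, nat_lit 0, nat_lit 0, nat_lit 0, nat_lit 0, nat_lit 0, nat_lit 0, nat_lit 0, nat_lit 0, nat_lit 1, nat_lit 0, nat_lit 1, nat_lit 0], [nat_lit 0, nat_lit 0, nat_lit 1, nat_lit 0, nat_lit 0, nat_lit 1, nat_lit 1, nat_lit 0, nat_lit 1, nat_lit 1, nat_lit 1, nat_lit 0, nat_lit 0, nat_lit 0, nat_lit 1, nat_lit 0], [nat_lit 0, nat_lit 1, nat_lit 0, nat_lit 1, nat_lit 1, nat_lit 0, nat_lit 0, nat_lit 1, nat_lit 1, nat_lit 1, nat_lit 1, nat_lit 1, nat_lit 0, nat_lit 1, nat_lit 0, nat_lit 0], [nat_lit 0, nat_lit 0, nat_lit 1, nat_lit 0, nat_lit 0, nat_lit 1, nat_lit 1, nat_lit 1, nat_lit 1, nat_lit 1, nat_lit 0, nat_lit 0, nat_lit 0, nat_lit 1, nat_lit 0, nat_lit 1], [nat_lit 0, nat_lit 1, nat_lit 0, nat_lit 0, nat_lit 0, nat_lit 0, nat_lit 1, nat_lit 0, nat_lit 0, nat_lit 0, nat_lit 1, nat_lit 1, nat_lit 0, nat_lit 0, nat_lit 1, nat_lit 0], [nat_lit 1, nat_lit 1, nat_lit 0, nat_lit 1, nat_lit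 1, nat_lit 1, nat_lit 1, nat_lit 0, nat_lit 0, nat_lit 1, nat_lit 0, nat_lit 1, nat_lit 1, nat_lit 1, nat_lit 1, nat_lit 0, nat_lit 0], [nat_lit 0, nat_lit 1, nat_lit 0, nat_lit 1, nat_lit 0, nat_lit 0, nat_lit 0, nat_lit 0, nat_lit 0, nat_lit 0, nat_lit 0, nat_lit 0, nat_lit 0, nat_lit 1, nat_lit 0, nat_lit 0, nat_lit 1, nat_lit 0], [nat_lit 1, nat_lit 1, nat_lit 1, nat_lit 0, nat_lit 1, nat_lit 1, nat_lit 1, nat_lit 0, nat_lit 1, nat_lit 0, nat_lit 1, nat_lit 0, nat_lit 0, nat_lit 0, nat_lit 1, nat_lit 0, nat_lit 0, nat_lit 1], [nat_lit 1, nat_lit 1, nat_lit 1, nat_lit 0, nat_lit 1, nat_lit 0, nat_lit 0, nat_lit 1, nat_lit 1, nat_lit 0, nat_lit 1, nat_lit 0, nat_lit 1, nat_lit 1, nat_lit 0, nat_lit 0, nat_lit 1, nat_lit 1, nat_lit 0, nat_lit 1], [nat_lit 1, nat_lit 0, nat_lit 1, nat_lit 1, nat_lit 0, nat_lit 0, nat_lit 0, nat_lit 0, nat_lit 0, nat_lit 1, nat_lit 1, nat_lit 0, nat_lit 0, nat_lit 0, nat_lit 0, nat_lit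 1, nat_lit 0, nat_lit 0, nat_lit 1, nat_lit 0]], [(nat_lit 90, nat_lit 0), (nat_lit 209, nat_lit 1), (nat_lit 330, nat_lit 2), (nat_lit 132, nat_lit 3), (nat_lit 183, nat_lit 4), (nat_lit 88, nat_lit 5), (nat_lit 62, nat_lit 6), (nat_lit 359, nat_lit 7), (nat_lit 373, nat_lit 8), (nat_lit 229, nat_lit 9), (nat_lit 331, nat_lit 10), (nat_lit 117, nat_lit 11), (nat_lit 370, nat_lit 13), (nat_lit 178, nat_lit 14), (nat_lit 345, nat_lit 15), (nat_lit 363, nat_lit 16), (nat_lit 238, nat_lit 17), (nat_lit 226, nat_lit 18), (nat_lit 105, nat_lit 19), (nat_lit 75, nat_lit 4), (nat_lit 55, nat_lit 11), (nat_lit 372, nat_lit 12), (nat_lit 301, nat_lit 20)]),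
   (nat_lit 0x1ff329a9aeb21, [[nat_lit 0, nat_lit 0, nat_lit 0, nat_lit 0, nat_lit 1, nat_lit 1], [nat_lit 0, nat_lit 0, nat_lit 1, nat_lit 1, nat_lit 0, nat_lit 0, nat_lit 1, nat_lit 0, nat_lit 0, nat_lit 0, nat_lit 0, nat_lit 1]], [(nat_lit 144, nat_lit 0), (nat_lit 148, nat_lit 1)])]) (pr := [[nat_lit 0, nat_lit 0, nat_lit 1, nat_lit 1],
   [nat_lit 1, nat_lit 1, nat_lit 0, nat_lit 1, nat_lit 2, nat_lit 2, nat_lit 0],
   [nat_lit 2, nat_lit 2, nat_lit 3, nat_lit 2, nat_lit 1, nat_lit 2, nat_lit 2, nat_lit 1],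
   [nat_lit 1, nat_lit 1, nat_lit 0],
   [nat_lit 0, nat_lit 0, nat_lit 1, nat_lit 1, nat_lit 0],
   [nat_lit 2, nat_lit 2],
   [nat_lit 1, nat_lit 0, nat_lit 0],
   [nat_lit 1, nat_lit 2, nat_lit 0, nat_lit 2, nat_lit 0, nat_lit 0],
   [nat_lit 3, nat_lit 3, nat_lit 3, nat_lit 2, nat_lit 1],
   [nat_lit 1, nat_lit 0, nat_lit 0],
   [nat_lit 1, nat_lit 1, nat_lit 2, nat_lit 0, nat_lit 2],
   [nat_lit 2, nat_lit 3, nat_lit 2, nat_lit 3],
   [nat_lit 0, nat_lit 1, nat_lit 0, nat_lit 1, nat_lit 0],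
   [nat_lit 0, nat_lit 0, nat_lit 2, nat_lit 4, nat_lit 4, nat_lit 5, nat_lit 6, nat_lit 7, nat_lit 6, nat_lit 8, nat_lit 11, nat_lit 10, nat_lit 10, nat_lit 10, nat_lit 12, nat_lit 12, nat_lit 14],
   [nat_lit 1, nat_lit 1, nat_lit 2, nat_lit 3, nat_lit 6, nat_lit 5, nat_lit 6, nat_lit 8, nat_lit 8, nat_lit 8, nat_lit 10, nat_lit 12, nat_lit 10, nat_lit 10, nat_lit 10, nat_lit 14, nat_lit 13, nat_lit 15, nat_lit 14, nat_lit 15, nat_lit 15],
   [nat_lit 3, nat_lit 6, nat_lit 6, nat_lit 8, nat_lit 10, nat_lit 10, nat_lit 10, nat_lit 13, nat_lit 12, nat_lit 12, nat_lit 13, nat_lit 11, nat_lit 15, nat_lit 14, nat_lit 16, nat_lit 15, nat_lit 16, nat_lit 15],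
   [nat_lit 3, nat_lit 3, nat_lit 5, nat_lit 4, nat_lit 5, nat_lit 8, nat_lit 6, nat_lit 8, nat_lit 11, nat_lit 11, nat_lit 10, nat_lit 11, nat_lit 14, nat_lit 13, nat_lit 13, nat_lit 12, nat_lit 15, nat_lit 17, nat_lit 17, nat_lit 16, nat_lit 15, nat_lit 16]])
    (lv := [(nat_lit 279, nat_lit 0x411882310c6118c6218c41104410884208861108421046210c621084208c4118441108431082310c2108c4108c4108c6218c6110c23088410844208462f84620882110c430884108c6108821184630842210443108410842108c6108463104210884108c2210c4318c2110c6218c421042310c2108c420844208c43104211046318422108221882118c4318c421042318c421886110c6310c431884208c63108620846318c421882118c2208823108420844318862184411044318c2308c220882208822184410882218c6208c6318c2218c41088221086208c2318c4108c6108c6210c220884118c2118c23, [nat_lit 17, nat_lit 18, nat_lit 16]),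
   (nat_lit 217, nat_lit 0x20844018403188021804110061100011804010c0200c011086000c010806310823080201802100401080420082008c0310803004010046218c6110843004611842118c4200c60184021840108040188610040300c21100610006300c011080300401103e1000611800108420104601004118c0100c410004108801180431086108c6118863100000880200c6308460008011840110022008011806010c420042100021108001806010c4100c0218c00104211000018c41180610804100c420040300c4010c0218061008000082218c4010060108030080308c6318021008601882010403180611002100460, [nat_lit 15, nat_lit 14, nat_lit 13]),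
   (nat_lit 321, nat_lit 0x18000000000800108000100601800000000000000040118060000001800300002003e00002000000000030000000403008000000000803004010040000c2000040000000000010400000000000000000000010000010060000010080200000000000000300000100010004000c000000200c03000000004300002000001800300000180000800000c000000008c0000800084000000000401000000080200000000000800010000000000000000c00100400000000040000000800000400000000000000000000000000000400180000000008800000020000008000008200000000c02000000002200000, [nat_lit 12, nat_lit 11, nat_lit 10]),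
   (nat_lit 287, nat_lit 0x100c000000000000000000000000000000001000000000000000000100040000001800018003000010000000000080000000000c0000000f80000000000000080020006000000000000000000000000000000000000000030000000000000000000008000000000000000000000000000010000004000000000000080000000008000004000000000000000200000000000000000000100000000000000000000000000000000000000000000000000000000000000000000000000000000000000000000000000000000000000000000000000000000000000000000000000000000000000000000000000, [nat_lit 9, nat_lit 8, nat_lit 7]),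
   (nat_lit 237, nat_lit 0x100000000000000200000000000000000000000010000000000000000000000400000020000000000000000000000000000000000000000000000000000000003e00000000000000000000000000000000000000020000000000000000000000000000000000000000000000000000000000000000001000000000000000000000000000000000000000000000000000000000000000000000000000000000000000000000000000000000000000000000000000000000000000000000000000000000000000000000000000000000000000000000, [nat_lit 6, nat_lit 5]),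
   (nat_lit 191, nat_lit 0xf80000000000000000000000000000000000000000000000000000000000000000000000000000000000000000000000000000000000000000000000000000000000000000000000000000000000000000000000000000000000000000000000000000000000000000000000000000000000000000000000, []),
   (nat_lit 108, nat_lit 0x1f000000000000000000000000000000000000000000000000000000000020000000000000000000000000000000000000000000000000000000000000000000000000001, [nat_lit 4])]) (by decide +kernel)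
  have n36 : ¬ IsConj (z 3) (z 6) := M.nc (m := 3) (A := nat_lit 0x24c9792489309a4fa59389d94a8937027d50200fd7c4edff3aa2bfa02fbabafab0b3ab2d16ab95d2ed6f5c5b32ee6c3b8b06dcc062de194c86631148ad57aae2eaa8ac4d511c582b14d3472395bae197b7a60e7743826adf79bd9d94ba4bbe8ef1753b9e15076da2cad16bb39a1616cb51b56b6c349148e47a26229249c3d291048c3921198d2a630a78ea963d1b51c522cae8931ee975635caeec2bcdd97f6fb8326db3398cc9c6e29b4de70dc6db9a5b2e964fe833e7e50e88f9a13de79049ec0e73254f49e4699954ae50959048542a08fae2b35aadd7ebb5e592c57abcaa556a7666b59dab6469daad8cfb4b36c563b05369d4ca8d49d74f74bd690f4a53ca8c8d4622d108785422130b864360d07828bc5c26168d4682c198c862201812490502294ca44b279389a46250f8ca643190cda6c358e4d268339f8987d421ed0c5142a01068223a04f87f0f87454280d8ac52241109c4a230f070426a220e06e36370fc844120198743d1e0ecb0562a188c05e2e96cb25a39170e2783797cf4613c9d0ee553b15cea703981c0c080181408020080032180d0542e160a04c241007844180e0682c1409) (A' :=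 nat_lit 0xf8492311c964c26a109c514014ca05837950ac772c96cf45d30188e65e31994c866359b4d86e1f1a8ce69345ada96c6933ac2d0b135ec965b35a18f77bcddae0bfb6dbee5746632aeab85d2e56eb558acd64beabaed7abc4da753d299328648a29128134964c29d531e552b960ac8a29624a38b2921d1149442110a84c160f0685c3618c060b0adcc3bc31990c462dcee2c965d819acfb1b45ab6a6b34ed2da6c59db353aad52acb4aed7ebd5c5b562b35bad168f05c3c9c0ae712a9c8c2752f9d8e8862520d0a453d9f4fc4840a08a44f3f8fc763d1e0d870371d0e488432010882af8cab634ab8c2a14d1b8e47627158bc964f2395ca1392a4fa563e999025e429348a41290f43a25108d47a39148c45cedf13d9d40a013ea03edfd43a2d2294e9a353a98f5a6d3ea2efa9379b6dd6e395cce873b81c2e37152de4f37a3da92eba3bb1d55078bb5dcf080c0e833f823e5f53c9cbddfefca1511fb34724c66732984be592e96cd5bf369c4dc4c22120a0542c0f08038291909c602b1888466251a08c6a1f170745e1b168542e160905026180d064120b0503c2210060381a060401c0605020000401)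
    (Cs := [nat_lit 0x278f99ece490493d914fcc261db57f66b4592ceed77bbaa0f13a9ccc2761f9b87c3bae2d96eb95d4cdc93472d1a9547a4335a2cfb0950ae582a9590c842612e0501a04019178bb5dd8959ad56d7840341a4cf389bb8dc2e2100703a1e4d2552c974c2662f138aca2549e958cc68358d2b232ae8c2c128918724c34190c05c2c150a04c25419f4127f032720c944d42b1d8b796333ac16368589d349763add46f391c0e26a219108242abafab0bd5dcda6ae06fd4aa34f78369b2d76c594c45f301d0bc473e918f8f79dce9f0fa60b02df70b72e2bd5fae9b4d66c1e8f265317339dd022118904a2610a6d3a9f94a7156af56c82431f170bc362d0fc51491252c59469087c412511068301c0a0482c200f08d0a86fda213ca48129b259574665b2d4d4b4bd5e8f6791e8f25a3b8e0723a332c56b565a4b5bd2f98536974c79d39aad269dadac5b3c164b85d28201047f28bee8aff7e3fae373badc996b359556a7541b8d8c66432cb25cdc6eb6c542c1449a49228e2a14ca093a8a46a19289c642b180a4631b554794f1d54c1e0d0586c32170a84c21108744a391a8f45a291800010040c080380c0a04, nat_lit 0x290eaa551a9d4c79d36974fa8bb6a4c0b6b06dd76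bc322f2c4b9dc6e4cb31990ca37361b4d63b1e908d267344fe7d04a0ce67b3c7cd11f9437ed08f0793d1dce455379c4e6753a184ed5c5b2dd72b35a2d6acbb5e2fab157140b04e2a1308448251108c3c1c102b9591a5829d54a98929628a48b28d209288c3d0e8944229188b46a3d1c582a15cac702c970b65d2d180c45f2f3de76f87d4ea05038050202fb7f3fe8b53aa55564b1af57ebab85d2f6b759ad3158ec6bbb0d856f5fdc1957464dd598f57b3c9e94774badd94977bc5e150770f0dc3e1f8e474661c0d88041221a886a88dc723ca68eabd571956c6227178a8cc6a34190c45230158745c1f1686c5e9348c3929108442a130b86c320b07833359f6168b55acd469b69b1656c9f08c7b2392c9886421450081284b5b6dc6ecc5cee8734e1c6e171139064d42928907d229f8924f4114cfe52b4da9a56bb658ac6d067582cf64b435ecd3299b95c934974b25f306f4da6f357037e4d229226e529d4d2612c9c95a7a549f942864aa291a824e998fa5642979002c14090703418110803c2c150b864301a0984828060401c00020080c0a04, nat_lit 0x2e571badd1f8ff7f3f68a7f41145026f2a9c8e361b058d9d6274bb292eb733a1cf34361acda3e1fd72bf5eaeb4dad6b6a964ba5b2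d532974e79d3675399ecf17f6e61b088a493e11c90412010887359c4de6d585f2ed7abc180c8543191c8a4f2692c914eaa54a55329a4b86c3e1d89c4a2f168ac521d114944026120a064301a0b0542f6fb6b02e0c17cbe1eefa9d9f4f6463f170f2773c1ead4d2b4db1a8f4793d9eae371385c0df339a4d0443555eb559adb3d9ad168158a8702c15e9147a33aa95437dd0a88cb6532599732913ca080299b8763d1e4ca6333723956eb65d2e5702e100b4382f0f4823e9690a6148a352a8540a21489c502b164723aa68daa23c9348a41290f060381a09058281e11085e6eec8bb412070280a190a84419d8ea7439d9eccd7b23c5deed774bdb8db6e998ca6431ad6a755aa36acad9b4360c4613017cbd5278546a14fa0cfe81009f31d8d78623149c4d2612c943a1c8e06e366f4c2592e96ad2acb258acc6a3419cae5528582b959294fa753c9b4e0984a241188842ad8d2be32ab8c42e1b0c8442a130583c191c8d47a2d148c4421d1208038180a04018080200]) (cs := [(nat_lit 0, [[nat_lit 0], [nat_lit 1], [nat_lit 2]], [(nat_lit 214, nat_lit 0), (nat_lit 126, nat_lit 1), (nat_lit 98, nat_lit 2), (nat_lit 89, nat_lit 0), (nat_lit 129, nat_lit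 1), (nat_lit 337, nat_lit 2), (nat_lit 369, nat_lit 0), (nat_lit 90, nat_lit 1), (nat_lit 247, nat_lit 2), (nat_lit 209, nat_lit 0), (nat_lit 249, nat_lit 1), (nat_lit 93, nat_lit 2), (nat_lit 86, nat_lit 0), (nat_lit 255, nat_lit 1), (nat_lit 334, nat_lit 2), (nat_lit 128, nat_lit 0), (nat_lit 112, nat_lit 1), (nat_lit 365, nat_lit 2), (nat_lit 217, nat_lit 0), (nat_lit 367, nat_lit 1), (nat_lit 73, nat_lit 0), (nat_lit 354, nat_lit 1), (nat_lit 376, nat_lit 2), (nat_lit 251, nat_lit 1), (nat_lit 331, nat_lit 2), (nat_lit 200, nat_lit 0), (nat_lit 246, nat_lit 1), (nat_lit 253, nat_lit 2), (nat_lit 333, nat_lit 0), (nat_lit 131, nat_lit 1), (nat_lit 216, nat_lit 2), (nat_lit 84, nat_lit 0), (nat_lit 252, nat_lit 1), (nat_lit 326, nat_lit 0), (nat_lit 257, nat_lit 1), (nat_lit 76, nat_lit 0), (nat_lit 234, nat_lit 1), (nat_lit 372, nat_lit 2), (nat_lit 94, nat_lit 0), (nat_lit 373, nat_lit 1), (nat_lit 328, nat_lit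 2), (nat_lit 82, nat_lit 0), (nat_lit 113, nat_lit 1), (nat_lit 192, nat_lit 2), (nat_lit 256, nat_lit 1), (nat_lit 212, nat_lit 2), (nat_lit 366, nat_lit 0), (nat_lit 363, nat_lit 1), (nat_lit 259, nat_lit 2), (nat_lit 213, nat_lit 0), (nat_lit 123, nat_lit 1), (nat_lit 96, nat_lit 2), (nat_lit 193, nat_lit 0), (nat_lit 260, nat_lit 2), (nat_lit 316, nat_lit 2), (nat_lit 242, nat_lit 0), (nat_lit 78, nat_lit 1), (nat_lit 356, nat_lit 2), (nat_lit 359, nat_lit 1), (nat_lit 236, nat_lit 1), (nat_lit 203, nat_lit 2), (nat_lit 97, nat_lit 0), (nat_lit 329, nat_lit 2), (nat_lit 317, nat_lit 0), (nat_lit 358, nat_lit 1), (nat_lit 132, nat_lit 2), (nat_lit 116, nat_lit 0), (nat_lit 327, nat_lit 1), (nat_lit 370, nat_lit 2), (nat_lit 254, nat_lit 0), (nat_lit 211, nat_lit 0), (nat_lit 125, nat_lit 1), (nat_lit 330, nat_lit 0), (nat_lit 75, nat_lit 0), (nat_lit 338, nat_lit 0), (nat_lit 374, nat_lit 1), (nat_lit 207, nat_lit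 2), (nat_lit 320, nat_lit 0), (nat_lit 237, nat_lit 1), (nat_lit 127, nat_lit 2), (nat_lit 323, nat_lit 0), (nat_lit 117, nat_lit 1), (nat_lit 71, nat_lit 2), (nat_lit 206, nat_lit 2), (nat_lit 124, nat_lit 0), (nat_lit 208, nat_lit 1), (nat_lit 205, nat_lit 0), (nat_lit 375, nat_lit 2), (nat_lit 335, nat_lit 0), (nat_lit 377, nat_lit 1), (nat_lit 195, nat_lit 2), (nat_lit 233, nat_lit 0), (nat_lit 318, nat_lit 1), (nat_lit 361, nat_lit 2), (nat_lit 194, nat_lit 0), (nat_lit 364, nat_lit 1), (nat_lit 258, nat_lit 2), (nat_lit 239, nat_lit 1), (nat_lit 80, nat_lit 2), (nat_lit 120, nat_lit 0), (nat_lit 191, nat_lit 0), (nat_lit 336, nat_lit 2), (nat_lit 240, nat_lit 1), (nat_lit 130, nat_lit 1), (nat_lit 371, nat_lit 0), (nat_lit 250, nat_lit 1), (nat_lit 91, nat_lit 2), (nat_lit 362, nat_lit 1), (nat_lit 332, nat_lit 1), (nat_lit 322, nat_lit 2), (nat_lit 115, nat_lit 0), (nat_lit 202, nat_lit 1), (nat_lit 235, nat_lit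 2), (nat_lit 72, nat_lit 1), (nat_lit 118, nat_lit 2), (nat_lit 197, nat_lit 1), (nat_lit 69, nat_lit 0), (nat_lit 352, nat_lit 1), (nat_lit 353, nat_lit 0), (nat_lit 314, nat_lit 1), (nat_lit 92, nat_lit 2), (nat_lit 196, nat_lit 1), (nat_lit 324, nat_lit 0), (nat_lit 315, nat_lit 1), (nat_lit 70, nat_lit 0), (nat_lit 74, nat_lit 0), (nat_lit 88, nat_lit 2), (nat_lit 360, nat_lit 1), (nat_lit 133, nat_lit 1), (nat_lit 319, nat_lit 0), (nat_lit 238, nat_lit 1), (nat_lit 81, nat_lit 2), (nat_lit 85, nat_lit 1), (nat_lit 368, nat_lit 2), (nat_lit 204, nat_lit 2), (nat_lit 355, nat_lit 0), (nat_lit 121, nat_lit 2), (nat_lit 119, nat_lit 1), (nat_lit 357, nat_lit 2), (nat_lit 201, nat_lit 0), (nat_lit 122, nat_lit 1), (nat_lit 243, nat_lit 0), (nat_lit 215, nat_lit 2), (nat_lit 134, nat_lit 1), (nat_lit 248, nat_lit 0), (nat_lit 241, nat_lit 0), (nat_lit 199, nat_lit 1), (nat_lit 79, nat_lit 2), (nat_lit 83, nat_lit 1),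 (nat_lit 321, nat_lit 0), (nat_lit 111, nat_lit 1), (nat_lit 87, nat_lit 0), (nat_lit 325, nat_lit 1), (nat_lit 198, nat_lit 1), (nat_lit 313, nat_lit 2), (nat_lit 245, nat_lit 0), (nat_lit 95, nat_lit 2), (nat_lit 114, nat_lit 1), (nat_lit 210, nat_lit 1), (nat_lit 244, nat_lit 0), (nat_lit 77, nat_lit 1), (nat_lit 228, nat_lit 0), (nat_lit 342, nat_lit 1), (nat_lit 310, nat_lit 2), (nat_lit 341, nat_lit 0), (nat_lit 65, nat_lit 1), (nat_lit 183, nat_lit 2), (nat_lit 104, nat_lit 0), (nat_lit 305, nat_lit 1), (nat_lit 57, nat_lit 2), (nat_lit 222, nat_lit 0), (nat_lit 58, nat_lit 1), (nat_lit 230, nat_lit 1), (nat_lit 100, nat_lit 2), (nat_lit 229, nat_lit 0), (nat_lit 180, nat_lit 1), (nat_lit 312, nat_lit 2), (nat_lit 345, nat_lit 0), (nat_lit 181, nat_lit 2), (nat_lit 307, nat_lit 0), (nat_lit 339, nat_lit 1), (nat_lit 225, nat_lit 2), (nat_lit 106, nat_lit 1), (nat_lit 185, nat_lit 2), (nat_lit 109, nat_lit 0),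 (nat_lit 186, nat_lit 1), (nat_lit 67, nat_lit 2), (nat_lit 101, nat_lit 0), (nat_lit 59, nat_lit 1), (nat_lit 63, nat_lit 2), (nat_lit 108, nat_lit 0), (nat_lit 68, nat_lit 2), (nat_lit 179, nat_lit 0), (nat_lit 103, nat_lit 1), (nat_lit 351, nat_lit 2), (nat_lit 60, nat_lit 0), (nat_lit 350, nat_lit 1), (nat_lit 182, nat_lit 2), (nat_lit 304, nat_lit 0), (nat_lit 102, nat_lit 1), (nat_lit 220, nat_lit 1), (nat_lit 105, nat_lit 0), (nat_lit 306, nat_lit 1), (nat_lit 184, nat_lit 2), (nat_lit 232, nat_lit 1), (nat_lit 301, nat_lit 0), (nat_lit 178, nat_lit 1), (nat_lit 223, nat_lit 2), (nat_lit 344, nat_lit 0), (nat_lit 309, nat_lit 1), (nat_lit 346, nat_lit 1), (nat_lit 343, nat_lit 0), (nat_lit 231, nat_lit 0), (nat_lit 177, nat_lit 1), (nat_lit 349, nat_lit 1), (nat_lit 348, nat_lit 0), (nat_lit 189, nat_lit 2), (nat_lit 187, nat_lit 1), (nat_lit 347, nat_lit 1), (nat_lit 224, nat_lit 2), (nat_lit 308, nat_lit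 1), (nat_lit 54, nat_lit 2), (nat_lit 340, nat_lit 1), (nat_lit 227, nat_lit 2), (nat_lit 188, nat_lit 0), (nat_lit 226, nat_lit 1), (nat_lit 190, nat_lit 1), (nat_lit 311, nat_lit 1), (nat_lit 99, nat_lit 0), (nat_lit 62, nat_lit 2), (nat_lit 107, nat_lit 0), (nat_lit 56, nat_lit 0), (nat_lit 110, nat_lit 1), (nat_lit 219, nat_lit 0), (nat_lit 221, nat_lit 0), (nat_lit 300, nat_lit 1), (nat_lit 55, nat_lit 2), (nat_lit 302, nat_lit 2), (nat_lit 64, nat_lit 1), (nat_lit 303, nat_lit 1), (nat_lit 61, nat_lit 0), (nat_lit 35, nat_lit 0), (nat_lit 156, nat_lit 1), (nat_lit 299, nat_lit 2), (nat_lit 175, nat_lit 0), (nat_lit 290, nat_lit 1), (nat_lit 166, nat_lit 0), (nat_lit 44, nat_lit 1), (nat_lit 39, nat_lit 2), (nat_lit 283, nat_lit 0), (nat_lit 43, nat_lit 1), (nat_lit 50, nat_lit 2), (nat_lit 164, nat_lit 0), (nat_lit 170, nat_lit 1), (nat_lit 30, nat_lit 2), (nat_lit 52, nat_lit 1), (nat_lit 294, nat_lit 2), (nat_lit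 45, nat_lit 0), (nat_lit 172, nat_lit 1), (nat_lit 152, nat_lit 2), (nat_lit 298, nat_lit 1), (nat_lit 155, nat_lit 2), (nat_lit 38, nat_lit 0), (nat_lit 297, nat_lit 1), (nat_lit 158, nat_lit 2), (nat_lit 32, nat_lit 0), (nat_lit 151, nat_lit 2), (nat_lit 36, nat_lit 0), (nat_lit 37, nat_lit 0), (nat_lit 159, nat_lit 1), (nat_lit 153, nat_lit 0), (nat_lit 276, nat_lit 1), (nat_lit 165, nat_lit 2), (nat_lit 31, nat_lit 0), (nat_lit 281, nat_lit 1), (nat_lit 288, nat_lit 2), (nat_lit 296, nat_lit 0), (nat_lit 289, nat_lit 1), (nat_lit 171, nat_lit 2), (nat_lit 160, nat_lit 1), (nat_lit 53, nat_lit 1), (nat_lit 292, nat_lit 2), (nat_lit 174, nat_lit 2), (nat_lit 278, nat_lit 0), (nat_lit 285, nat_lit 1), (nat_lit 291, nat_lit 0), (nat_lit 46, nat_lit 1), (nat_lit 41, nat_lit 1), (nat_lit 49, nat_lit 2), (nat_lit 40, nat_lit 2), (nat_lit 295, nat_lit 1), (nat_lit 167, nat_lit 0), (nat_lit 284, nat_lit 0), (nat_lit 42,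 nat_lit 1), (nat_lit 287, nat_lit 1), (nat_lit 28, nat_lit 1), (nat_lit 293, nat_lit 1), (nat_lit 173, nat_lit 0), (nat_lit 168, nat_lit 0), (nat_lit 154, nat_lit 0), (nat_lit 277, nat_lit 1), (nat_lit 274, nat_lit 2), (nat_lit 163, nat_lit 2), (nat_lit 29, nat_lit 2), (nat_lit 162, nat_lit 0), (nat_lit 27, nat_lit 1), (nat_lit 286, nat_lit 0), (nat_lit 161, nat_lit 0), (nat_lit 169, nat_lit 1), (nat_lit 34, nat_lit 1), (nat_lit 280, nat_lit 0), (nat_lit 51, nat_lit 1), (nat_lit 150, nat_lit 0), (nat_lit 275, nat_lit 1), (nat_lit 176, nat_lit 2), (nat_lit 157, nat_lit 1), (nat_lit 33, nat_lit 0), (nat_lit 282, nat_lit 1), (nat_lit 47, nat_lit 0), (nat_lit 279, nat_lit 1), (nat_lit 149, nat_lit 0), (nat_lit 148, nat_lit 0), (nat_lit 273, nat_lit 1), (nat_lit 146, nat_lit 2), (nat_lit 145, nat_lit 1), (nat_lit 271, nat_lit 1), (nat_lit 272, nat_lit 2), (nat_lit 147, nat_lit 1), (nat_lit 270, nat_lit 1), (nat_lit 13,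 nat_lit 0), (nat_lit 263, nat_lit 1), (nat_lit 16, nat_lit 2), (nat_lit 143, nat_lit 0), (nat_lit 22, nat_lit 1), (nat_lit 26, nat_lit 0), (nat_lit 136, nat_lit 1), (nat_lit 19, nat_lit 2), (nat_lit 137, nat_lit 0), (nat_lit 135, nat_lit 2), (nat_lit 12, nat_lit 0), (nat_lit 262, nat_lit 1), (nat_lit 15, nat_lit 2), (nat_lit 265, nat_lit 0), (nat_lit 17, nat_lit 1), (nat_lit 269, nat_lit 0), (nat_lit 264, nat_lit 2), (nat_lit 267, nat_lit 1), (nat_lit 11, nat_lit 2), (nat_lit 268, nat_lit 1), (nat_lit 9, nat_lit 2), (nat_lit 10, nat_lit 2), (nat_lit 142, nat_lit 0), (nat_lit 21, nat_lit 1), (nat_lit 25, nat_lit 0), (nat_lit 18, nat_lit 2), (nat_lit 20, nat_lit 1), (nat_lit 23, nat_lit 0), (nat_lit 139, nat_lit 1), (nat_lit 140, nat_lit 1), (nat_lit 138, nat_lit 0), (nat_lit 24, nat_lit 2), (nat_lit 14, nat_lit 0), (nat_lit 261, nat_lit 1), (nat_lit 266, nat_lit 2), (nat_lit 4, nat_lit 0), (nat_lit 7, nat_lit 1), (nat_lit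 0, nat_lit 0), (nat_lit 3, nat_lit 0), (nat_lit 6, nat_lit 1), (nat_lit 5, nat_lit 1), (nat_lit 2, nat_lit 0), (nat_lit 1, nat_lit 0)]),
   (nat_lit 0x93d7f3, [[nat_lit 0, nat_lit 0, nat_lit 0], [nat_lit 1, nat_lit 0, nat_lit 1, nat_lit 0], [nat_lit 0, nat_lit 2, nat_lit 2, nat_lit 1, nat_lit 0, nat_lit 0], [nat_lit 2, nat_lit 0, nat_lit 1, nat_lit 0, nat_lit 2, nat_lit 0], [nat_lit 1, nat_lit 1, nat_lit 2, nat_lit 2, nat_lit 1, nat_lit 1], [nat_lit 2, nat_lit 0, nat_lit 0, nat_lit 2, nat_lit 2, nat_lit 1, nat_lit 2], [nat_lit 0, nat_lit 0, nat_lit 2, nat_lit 2, nat_lit 1, nat_lit 1, nat_lit 1], [nat_lit 1, nat_lit 2, nat_lit 2, nat_lit 0, nat_lit 1, nat_lit 2, nat_lit 1, nat_lit 2], [nat_lit 0, nat_lit 2, nat_lit 1, nat_lit 1, nat_lit 2, nat_lit 0, nat_lit 2, nat_lit 2, nat_lit 0], [nat_lit 0, nat_lit 1, nat_lit 2, nat_lit 0, nat_lit 2, nat_lit 0, nat_lit 1, nat_lit 2, nat_lit 1], [nat_lit 2, nat_lit 2, nat_lit 1,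 nat_lit 0, nat_lit 0, nat_lit 1, nat_lit 1, nat_lit 0, nat_lit 1], [nat_lit 2, nat_lit 0, nat_lit 0, nat_lit 0, nat_lit 1, nat_lit 1, nat_lit 0, nat_lit 2, nat_lit 0, nat_lit 1], [nat_lit 1, nat_lit 2, nat_lit 1, nat_lit 0, nat_lit 1, nat_lit 0, nat_lit 1, nat_lit 2, nat_lit 0, nat_lit 0, nat_lit 1], [nat_lit 1, nat_lit 1, nat_lit 0, nat_lit 1, nat_lit 1, nat_lit 2, nat_lit 1, nat_lit 0, nat_lit 1, nat_lit 0, nat_lit 2, nat_lit 0, nat_lit 0], [nat_lit 2, nat_lit 1, nat_lit 2, nat_lit 0, nat_lit 1, nat_lit 0, nat_lit 0, nat_lit 2, nat_lit 2, nat_lit 1, nat_lit 1, nat_lit 0, nat_lit 0], [nat_lit 2, nat_lit 1, nat_lit 2, nat_lit 2, nat_lit 1, nat_lit 2, nat_lit 1, nat_lit 0, nat_lit 2, nat_lit 2, nat_lit 0, nat_lit 1, nat_lit 0, nat_lit 0], [nat_lit 0, nat_lit 1, nat_lit 2, nat_lit 1, nat_lit 1, nat_lit 0, nat_lit 1, nat_lit 2, nat_lit 0, nat_lit 2, nat_lit 1, nat_lit 1, nat_lit 0, nat_lit 1]], [(nat_lit 301, nat_lit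 0), (nat_lit 184, nat_lit 1), (nat_lit 300, nat_lit 3), (nat_lit 302, nat_lit 7), (nat_lit 186, nat_lit 9), (nat_lit 201, nat_lit 0), (nat_lit 371, nat_lit 1), (nat_lit 238, nat_lit 2), (nat_lit 122, nat_lit 3), (nat_lit 71, nat_lit 4), (nat_lit 89, nat_lit 5), (nat_lit 92, nat_lit 6), (nat_lit 354, nat_lit 7), (nat_lit 373, nat_lit 8), (nat_lit 207, nat_lit 9), (nat_lit 256, nat_lit 10), (nat_lit 336, nat_lit 11), (nat_lit 338, nat_lit 12), (nat_lit 259, nat_lit 13), (nat_lit 319, nat_lit 14), (nat_lit 123, nat_lit 15), (nat_lit 353, nat_lit 16)]),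
   (nat_lit 0x6b1780, [[nat_lit 0, nat_lit 1, nat_lit 0], [nat_lit 0, nat_lit 1, nat_lit 2, nat_lit 0], [nat_lit 2, nat_lit 0, nat_lit 2, nat_lit 0, nat_lit 0], [nat_lit 2, nat_lit 1, nat_lit 1, nat_lit 2, nat_lit 2, nat_lit 1], [nat_lit 0, nat_lit 2, nat_lit 1, nat_lit 0, nat_lit 2, nat_lit 2], [nat_lit 0, nat_lit 0, nat_lit 2, nat_lit 1, nat_lit 1, nat_lit 0, nat_lit 1], [nat_lit 0, nat_lit 2, nat_lit 1, nat_lit 0, nat_lit 1, nat_lit 2, nat_lit 1, nat_lit 1], [nat_lit 0, nat_lit 0, nat_lit 2, nat_lit 2, nat_lit 0, nat_lit 0, nat_lit 0, nat_lit 0], [nat_lit 1, nat_lit 0, nat_lit 2, nat_lit 2, nat_lit 2, nat_lit 1, nat_lit 1, nat_lit 0, nat_lit 2, nat_lit 0], [nat_lit 2, nat_lit 2, nat_lit 0, nat_lit 0, nat_lit 0, nat_lit 1, nat_lit 1, nat_lit 0, nat_lit 1, nat_lit 0, nat_lit 1], [nat_lit 2, nat_lit 2, nat_lit 1, nat_lit 2, nat_lit 0, nat_lit 1, nat_lit 1, nat_lit 2, nat_lit 2, nat_lit 1, nat_lit 0], [nat_lit 1, nat_lit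 0, nat_lit 0, nat_lit 1, nat_lit 1, nat_lit 2, nat_lit 2, nat_lit 0, nat_lit 1, nat_lit 1, nat_lit 1], [nat_lit 0, nat_lit 0, nat_lit 1, nat_lit 1, nat_lit 0, nat_lit 0, nat_lit 1, nat_lit 2, nat_lit 2, nat_lit 0, nat_lit 1, nat_lit 2, nat_lit 2], [nat_lit 1, nat_lit 0, nat_lit 2, nat_lit 2, nat_lit 1, nat_lit 1, nat_lit 2, nat_lit 2, nat_lit 2, nat_lit 0, nat_lit 0, nat_lit 2, nat_lit 2], [nat_lit 1, nat_lit 2, nat_lit 0, nat_lit 0, nat_lit 2, nat_lit 0, nat_lit 1, nat_lit 0, nat_lit 2, nat_lit 1, nat_lit 0, nat_lit 2, nat_lit 1], [nat_lit 2, nat_lit 1, nat_lit 0, nat_lit 2, nat_lit 0, nat_lit 1, nat_lit 2, nat_lit 2, nat_lit 0, nat_lit 0, nat_lit 2, nat_lit 2, nat_lit 2, nat_lit 1, nat_lit 1, nat_lit 2, nat_lit 1]], [(nat_lit 95, nat_lit 0), (nat_lit 240, nat_lit 1), (nat_lit 202, nat_lit 2), (nat_lit 208, nat_lit 3), (nat_lit 212, nat_lit 4), (nat_lit 85, nat_lit 5), (nat_lit 77, nat_lit 6), (nat_lit 72, nat_lit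 7), (nat_lit 246, nat_lit 8), (nat_lit 191, nat_lit 9), (nat_lit 323, nat_lit 10), (nat_lit 318, nat_lit 11), (nat_lit 82, nat_lit 12), (nat_lit 215, nat_lit 13), (nat_lit 317, nat_lit 14), (nat_lit 90, nat_lit 15), (nat_lit 234, nat_lit 12), (nat_lit 164, nat_lit 0), (nat_lit 298, nat_lit 1), (nat_lit 165, nat_lit 2), (nat_lit 296, nat_lit 3), (nat_lit 163, nat_lit 5)])]) (pr := [[nat_lit 1, nat_lit 1, nat_lit 0, nat_lit 1, nat_lit 0, nat_lit 0],
   [nat_lit 1, nat_lit 1, nat_lit 2, nat_lit 2, nat_lit 1, nat_lit 0, nat_lit 0, nat_lit 2],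
   [nat_lit 1, nat_lit 2, nat_lit 1, nat_lit 2, nat_lit 2],
   [nat_lit 1, nat_lit 0, nat_lit 0, nat_lit 0, nat_lit 1],
   [nat_lit 0, nat_lit 0, nat_lit 2, nat_lit 2, nat_lit 0, nat_lit 2, nat_lit 2],
   [nat_lit 3, nat_lit 1, nat_lit 3, nat_lit 1, nat_lit 1, nat_lit 2, nat_lit 1, nat_lit 3],
   [nat_lit 0, nat_lit 0, nat_lit 0],
   [nat_lit 2, nat_lit 1, nat_lit 2, nat_lit 2, nat_lit 0, nat_lit 0, nat_lit 2],
   [nat_lit 3, nat_lit 1, nat_lit 3, nat_lit 2, nat_lit 3, nat_lit 2, nat_lit 2],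
   [nat_lit 0, nat_lit 0, nat_lit 1, nat_lit 1],
   [nat_lit 1, nat_lit 1, nat_lit 2, nat_lit 1, nat_lit 1, nat_lit 2, nat_lit 1, nat_lit 1, nat_lit 2],
   [nat_lit 0, nat_lit 1, nat_lit 1, nat_lit 0],
   [nat_lit 0, nat_lit 0, nat_lit 2, nat_lit 1, nat_lit 2, nat_lit 3, nat_lit 3, nat_lit 3, nat_lit 4, nat_lit 3, nat_lit 7, nat_lit 6, nat_lit 7, nat_lit 6, nat_lit 7, nat_lit 10, nat_lit 9, nat_lit 10, nat_lit 8, nat_lit 8, nat_lit 12, nat_lit 13, nat_lit 12, nat_lit 11, nat_lit 13, nat_lit 13],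
   [nat_lit 3, nat_lit 3, nat_lit 2, nat_lit 4, nat_lit 4, nat_lit 4, nat_lit 5, nat_lit 7, nat_lit 6, nat_lit 6, nat_lit 6, nat_lit 11, nat_lit 10, nat_lit 11, nat_lit 9, nat_lit 13, nat_lit 13, nat_lit 14, nat_lit 14],
   [nat_lit 4, nat_lit 3, nat_lit 4, nat_lit 3, nat_lit 6, nat_lit 5, nat_lit 9, nat_lit 7, nat_lit 9, nat_lit 9, nat_lit 10, nat_lit 12, nat_lit 10, nat_lit 10, nat_lit 11, nat_lit 14, nat_lit 14, nat_lit 15, nat_lit 15, nat_lit 13, nat_lit 14],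
   [nat_lit 5, nat_lit 4, nat_lit 5, nat_lit 7, nat_lit 7, nat_lit 6, nat_lit 6, nat_lit 10, nat_lit 10, nat_lit 10, nat_lit 8, nat_lit 10, nat_lit 8, nat_lit 13, nat_lit 13, nat_lit 13, nat_lit 13, nat_lit 11, nat_lit 16, nat_lit 16, nat_lit 15, nat_lit 16, nat_lit 14],
   [nat_lit 4, nat_lit 6, nat_lit 6, nat_lit 5, nat_lit 7, nat_lit 7, nat_lit 8, nat_lit 9, nat_lit 11, nat_lit 9, nat_lit 14, nat_lit 14, nat_lit 14, nat_lit 14, nat_lit 12, nat_lit 12, nat_lit 13, nat_lit 16, nat_lit 17, nat_lit 17, nat_lit 16, nat_lit 17, nat_lit 16]])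
    (lv := [(nat_lit 218, nat_lit 0x6208841084420882118c631842208c6310c631084308862184621042310422084220844208c620844110c4310c6318421188421844108c2318c4308c4218843104431044108863084611846318c23184210886308c2208462104230842118841084421fc221046208463188211086110c6118c6318c2208c63188411882310c2208c6210822188430846108c4110c43088631082210c42084231886318c2210c4208c4118c6218c2208442108611044318c4218c611882218c2308443188411846208423088621086110462108221882310c6318c2218c62084421086110461108421882208c221046310843, [nat_lit 17, nat_lit 18, nat_lit 16]),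
   (nat_lit 319, nat_lit 0x6100402004221880110c6218c41108631804018060100601886118000188020046218041f80631800318022100401004218c00004421006010041080420002308c20088011080218c0300c600880200403104231084310820000011802018060084021004308461184621886018c6210c00180021884200c600882218401188001046000c6200c200084110c2000c43008200840010c2008803184610006008000008431082108801180601084200c210846008020100601000118861000011084310440008010880100c620080100c4310003100021084208c2000c40008620040110c03084030046100061, [nat_lit 15, nat_lit 14, nat_lit 13]),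
   (nat_lit 277, nat_lit 0x2008000040000001100000806010000180200000000000000001800000000008020006200040080000002018060000000000000400080001000100000003e0000000040000401000000004000c02000000806010021000000000000000080201800000001000001800100040100000800010000000210000018c000000008000000000000000c000006000060000000004000000184000000018000000001000000c0000c000000000000000000002000c0000040080001800000403000001800000000000000000000000000030002008000000010000010c000000000c200000000c03000000006300000, [nat_lit 12, nat_lit 11, nat_lit 10]),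
   (nat_lit 310, nat_lit 0x800000000000000000000000000000000000801000000000000020000000000000800008000004007c000000200000000000000000402000000000010000000010004000000000000000000000000000000000000000000840000000000000002000000000000000000000000000000200800000000000000000000400004000001000000000000000000000800000000000000000100000000000000000000000000000000000000000000000000000000000000000000000000000000000000000000000000000000000000000000000000000000000000000000000000000000000000000000000000, [nat_lit 9, nat_lit 8]),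
   (nat_lit 229, nat_lit 0x100000000000400000000000000000000000000000000000000000000002000000000000000000000800000000000000000000000000000000000000000000000000000103e0000000000000040000000000000000000000000000000000000000000001000000000000000000000000000000000000000000000000000000000000000000000000000000000000000000000000000000000000000000000000000000000000000000000000000000000000000000000000000000000000000000000000000000000000000000000000000000000, [nat_lit 7, nat_lit 6]),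
   (nat_lit 227, nat_lit 0xf80000000000000000000000000000000000000000000000000000000000000000000000000000000000000000000000000000000000000000000000000000000000000000000000000000000000000000000000000000000000000000000000000000000000000000000000000000000000000000000000000000000000000000000000000000000000000000000, []),
   (nat_lit 65, nat_lit 0x20000000000000000000000000000000000000000000000003e000000000000000000000000000000000000000000000000000000000000000000000000000000001, [nat_lit 5])]) (by decide +kernel)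
  have n46 : ¬ IsConj (z 4) (z 6) := M.nc (m := 3) (A := nat_lit 0x1084a25931005029144a67c231208ef3a6d2ded4f783b6a350a4baa9547ae2d96eb8abafab0bc5eacd6b565a1d4ec5e399e4f4772e9c4ac722a1bd9574badcaeec5bcddadf705fb0edae370b8a6d337339dd12d96371badb198d44c34180a8642c188a05a2f17281452650a713e9e4d25530994b25d250f4a2420f0682c36190b8542610c86231af0c7b9b26e2cb665b980c260964b8782d968c2603a17cc45738160aae5724d263326fcd5c1379c4ba60de97bbde2eea93d1eb4c79539d74876519d28127a08fe4d42a19064e3e9f88a493daeeb759ad576bd5f5d2e564b1aa556a7284ecae532a4dc8e4f2492c8a3f219009c562910894482311080361e0f8703b1088a4e1c9144a210e8f47235188b4540a013fa0515f7437f3e2753c9ddada4d66a595aedab4342c2d1670ecdc3e1f9048644350e074661cd99b3676c592d4d5b634ed36267d8d9b607ebfe85447e40e093ea0c05f2fa9ccf5ee40211a4ce681e8f0d66c368dc6c643298d58b05729d54a951a9548a88dc723ca68eab630af8d2ae3317894562d138a04c24140c86034160a85c120b0503c2210060381a02008001007030140803) (A' :=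 nat_lit 0xf8492311c964c26a109c514014ca05837950ac772c96cf45d30188e65e31994c866359b4d86e1f1a8ce69345ada96c6933ac2d0b135ec965b35a18f77bcddae0bfb6dbee5746632aeab85d2e56eb558acd64beabaed7abc4da753d299328648a29128134964c29d531e552b960ac8a29624a38b2921d1149442110a84c160f0685c3618c060b0adcc3bc31990c462dcee2c965d819acfb1b45ab6a6b34ed2da6c59db353aad52acb4aed7ebd5c5b562b35bad168f05c3c9c0ae712a9c8c2752f9d8e8862520d0a453d9f4fc4840a08a44f3f8fc763d1e0d870371d0e488432010882af8cab634ab8c2a14d1b8e47627158bc964f2395ca1392a4fa563e999025e429348a41290f43a25108d47a39148c45cedf13d9d40a013ea03edfd43a2d2294e9a353a98f5a6d3ea2efa9379b6dd6e395cce873b81c2e37152de4f37a3da92eba3bb1d55078bb5dcf080c0e833f823e5f53c9cbddfefca1511fb34724c66732984be592e96cd5bf369c4dc4c22120a0542c0f08038291909c602b1888466251a08c6a1f170745e1b168542e160905026180d064120b0503c2210060381a060401c0605020000401)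
    (Cs := [nat_lit 0x2c0cfb1d8ad5696adb1ad67b3362c8532893ca47c241248c4525134964e9a391cae76fb826ae370b6dbd3097dc2db6eb7dd2eb72b9dd99177bc5e69af37b52dd548a4d1ea0eda9545e04220104d26c1d8f07a63328dc703610078361c140ac58291509c48221329d551e54a9146a58d2c230ae8cab21d1149c41128843a31168a47a391ae976529d7467a531e4f5a73c5df4f775c598c965b2984c061afd82c5633118e3e370fcda6b351108667341907439331f8f67d23a0504503fa010684429310d6b69b51a4d1b0b419ccdb435db4d9b2b8a6d379c4ca6731733a1badc974b25b178a45625138b299511d8e46d5eab568c06431170b43a2f0f8946a211a08c6692482461e94834160f098442a190b869bce458389e4ee5b3d1d8ea5e39d128545a1cf27b3b9ccfa7f00a0d76b8b75b5697d57ac55569565abea74f77c3e5fafe7fbedf9018140e81042e168b25d3c1c0ae562a154be7431180c359adaf17abbafd7974b85cd52a6b1592cd34984b48a49264ea6e52a191a8a4ea092a5640978fa66429f95a72549e94044200f05828120e068302c150b864301a098482800010040605020181007, nat_lit 0x927e229217ec2b6b0ee13c9ebea734a75d1a90712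a158de5867b46c4cd592cd635496cba58dc6d9906e381b170b4793c3da96f37934ad96bb4b52ecc8bc310988625a12010280c0e80e472cd1cf5e5b5716e6c368f8dc3f198d4443495a6e549d944a55cac582814522508ac522754476391b5347a1e9048a482c150b84c24140c860344e252149a8362ddd8cc7bccfe83049f3d69d4c7a534b2772d974f4d56b5a9a6ba5c2e6bb5f99cc664e6741ac7a3b1e15caa703951dd4eca4ba6c363685819d6eb7b05807d23918f87b9d3e1eef99db75bd3097d596ab4aad4cca63330e87230160c850311549e4b2691c9152a7552713e9e1288c4c21122b632af8c2ae350e882522293060381a09058281e110814c9e812932595726650e88ffa154a9eeea8978c07631365b5666c56d76bc5eb8e6d379c1a4804121184e65f3a9d2a0ef76bc5e0d7b3d96c968b9b2ee975b8944a0823fa01f7457e3f5fce1714d5bee0acd697d57ac19cd044219a85a2f17486411f5228d4a984aa59329a4b8703e200e87837178a45625138b41e0d0586c32170a84c211e8e46a31168a44a210e050200c0401000200e06]) (cs := [(nat_lit 0, [[nat_lit 0], [nat_lit 1]], [(nat_lit 238, nat_lit 0), (nat_lit 373, nat_lit 1), (nat_lit 247, nat_lit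 0), (nat_lit 120, nat_lit 1), (nat_lit 333, nat_lit 0), (nat_lit 80, nat_lit 1), (nat_lit 96, nat_lit 0), (nat_lit 193, nat_lit 1), (nat_lit 79, nat_lit 0), (nat_lit 335, nat_lit 1), (nat_lit 325, nat_lit 0), (nat_lit 242, nat_lit 1), (nat_lit 212, nat_lit 0), (nat_lit 77, nat_lit 1), (nat_lit 70, nat_lit 0), (nat_lit 117, nat_lit 1), (nat_lit 237, nat_lit 0), (nat_lit 202, nat_lit 1), (nat_lit 362, nat_lit 0), (nat_lit 133, nat_lit 1), (nat_lit 248, nat_lit 0), (nat_lit 121, nat_lit 1), (nat_lit 72, nat_lit 1), (nat_lit 253, nat_lit 0), (nat_lit 331, nat_lit 1), (nat_lit 326, nat_lit 1), (nat_lit 354, nat_lit 0), (nat_lit 257, nat_lit 1), (nat_lit 357, nat_lit 0), (nat_lit 198, nat_lit 1), (nat_lit 125, nat_lit 0), (nat_lit 95, nat_lit 1), (nat_lit 316, nat_lit 0), (nat_lit 91, nat_lit 1), (nat_lit 129, nat_lit 1), (nat_lit 234, nat_lit 1), (nat_lit 207, nat_lit 0), (nat_lit 258, nat_lit 1), (nat_lit 194, nat_lit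 1), (nat_lit 130, nat_lit 0), (nat_lit 336, nat_lit 1), (nat_lit 359, nat_lit 0), (nat_lit 374, nat_lit 1), (nat_lit 93, nat_lit 0), (nat_lit 322, nat_lit 0), (nat_lit 256, nat_lit 0), (nat_lit 353, nat_lit 1), (nat_lit 88, nat_lit 0), (nat_lit 315, nat_lit 1), (nat_lit 86, nat_lit 1), (nat_lit 235, nat_lit 0), (nat_lit 216, nat_lit 0), (nat_lit 200, nat_lit 1), (nat_lit 73, nat_lit 0), (nat_lit 118, nat_lit 0), (nat_lit 368, nat_lit 1), (nat_lit 128, nat_lit 0), (nat_lit 239, nat_lit 1), (nat_lit 214, nat_lit 0), (nat_lit 132, nat_lit 1), (nat_lit 321, nat_lit 0), (nat_lit 213, nat_lit 1), (nat_lit 376, nat_lit 0), (nat_lit 355, nat_lit 1), (nat_lit 87, nat_lit 0), (nat_lit 241, nat_lit 0), (nat_lit 372, nat_lit 1), (nat_lit 76, nat_lit 1), (nat_lit 317, nat_lit 0), (nat_lit 330, nat_lit 0), (nat_lit 123, nat_lit 1), (nat_lit 112, nat_lit 0), (nat_lit 199, nat_lit 0), (nat_lit 209, nat_lit 1), (nat_lit 356, nat_lit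 1), (nat_lit 116, nat_lit 0), (nat_lit 358, nat_lit 1), (nat_lit 363, nat_lit 1), (nat_lit 366, nat_lit 0), (nat_lit 111, nat_lit 1), (nat_lit 329, nat_lit 0), (nat_lit 324, nat_lit 1), (nat_lit 377, nat_lit 1), (nat_lit 126, nat_lit 0), (nat_lit 338, nat_lit 0), (nat_lit 369, nat_lit 1), (nat_lit 210, nat_lit 0), (nat_lit 74, nat_lit 1), (nat_lit 249, nat_lit 0), (nat_lit 92, nat_lit 1), (nat_lit 208, nat_lit 0), (nat_lit 318, nat_lit 1), (nat_lit 371, nat_lit 0), (nat_lit 236, nat_lit 1), (nat_lit 327, nat_lit 0), (nat_lit 323, nat_lit 1), (nat_lit 375, nat_lit 0), (nat_lit 218, nat_lit 1), (nat_lit 250, nat_lit 0), (nat_lit 90, nat_lit 1), (nat_lit 334, nat_lit 0), (nat_lit 81, nat_lit 1), (nat_lit 206, nat_lit 0), (nat_lit 367, nat_lit 1), (nat_lit 364, nat_lit 1), (nat_lit 217, nat_lit 0), (nat_lit 196, nat_lit 1), (nat_lit 78, nat_lit 0), (nat_lit 233, nat_lit 0), (nat_lit 252, nat_lit 1), (nat_lit 365, nat_lit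 0), (nat_lit 85, nat_lit 1), (nat_lit 94, nat_lit 1), (nat_lit 204, nat_lit 0), (nat_lit 328, nat_lit 1), (nat_lit 134, nat_lit 0), (nat_lit 319, nat_lit 0), (nat_lit 211, nat_lit 1), (nat_lit 122, nat_lit 0), (nat_lit 251, nat_lit 1), (nat_lit 246, nat_lit 0), (nat_lit 201, nat_lit 0), (nat_lit 259, nat_lit 1), (nat_lit 192, nat_lit 1), (nat_lit 83, nat_lit 0), (nat_lit 114, nat_lit 0), (nat_lit 119, nat_lit 0), (nat_lit 254, nat_lit 1), (nat_lit 113, nat_lit 1), (nat_lit 98, nat_lit 0), (nat_lit 82, nat_lit 0), (nat_lit 337, nat_lit 1), (nat_lit 245, nat_lit 1), (nat_lit 197, nat_lit 0), (nat_lit 205, nat_lit 1), (nat_lit 203, nat_lit 1), (nat_lit 370, nat_lit 0), (nat_lit 352, nat_lit 0), (nat_lit 260, nat_lit 1), (nat_lit 89, nat_lit 0), (nat_lit 71, nat_lit 1), (nat_lit 124, nat_lit 0), (nat_lit 127, nat_lit 1), (nat_lit 320, nat_lit 0), (nat_lit 361, nat_lit 1), (nat_lit 244, nat_lit 0), (nat_lit 314, nat_lit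 1), (nat_lit 240, nat_lit 0), (nat_lit 215, nat_lit 1), (nat_lit 69, nat_lit 1), (nat_lit 131, nat_lit 0), (nat_lit 360, nat_lit 1), (nat_lit 115, nat_lit 1), (nat_lit 255, nat_lit 1), (nat_lit 243, nat_lit 0), (nat_lit 332, nat_lit 0), (nat_lit 84, nat_lit 0), (nat_lit 75, nat_lit 1), (nat_lit 313, nat_lit 1), (nat_lit 97, nat_lit 0), (nat_lit 195, nat_lit 1), (nat_lit 165, nat_lit 0), (nat_lit 152, nat_lit 1), (nat_lit 280, nat_lit 0), (nat_lit 45, nat_lit 1), (nat_lit 52, nat_lit 0), (nat_lit 44, nat_lit 1), (nat_lit 277, nat_lit 0), (nat_lit 151, nat_lit 1), (nat_lit 158, nat_lit 0), (nat_lit 53, nat_lit 1), (nat_lit 296, nat_lit 1), (nat_lit 293, nat_lit 0), (nat_lit 174, nat_lit 0), (nat_lit 30, nat_lit 1), (nat_lit 36, nat_lit 0), (nat_lit 39, nat_lit 1), (nat_lit 28, nat_lit 0), (nat_lit 160, nat_lit 1), (nat_lit 153, nat_lit 0), (nat_lit 298, nat_lit 1), (nat_lit 27, nat_lit 0), (nat_lit 291, nat_lit 1),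 (nat_lit 169, nat_lit 1), (nat_lit 276, nat_lit 0), (nat_lit 289, nat_lit 1), (nat_lit 34, nat_lit 1), (nat_lit 155, nat_lit 1), (nat_lit 290, nat_lit 0), (nat_lit 38, nat_lit 1), (nat_lit 40, nat_lit 0), (nat_lit 286, nat_lit 1), (nat_lit 41, nat_lit 1), (nat_lit 29, nat_lit 0), (nat_lit 297, nat_lit 0), (nat_lit 33, nat_lit 1), (nat_lit 43, nat_lit 0), (nat_lit 167, nat_lit 1), (nat_lit 283, nat_lit 0), (nat_lit 31, nat_lit 1), (nat_lit 50, nat_lit 1), (nat_lit 288, nat_lit 0), (nat_lit 46, nat_lit 0), (nat_lit 294, nat_lit 1), (nat_lit 284, nat_lit 1), (nat_lit 287, nat_lit 0), (nat_lit 157, nat_lit 1), (nat_lit 295, nat_lit 0), (nat_lit 173, nat_lit 1), (nat_lit 274, nat_lit 1), (nat_lit 292, nat_lit 0), (nat_lit 281, nat_lit 1), (nat_lit 35, nat_lit 1), (nat_lit 156, nat_lit 1), (nat_lit 282, nat_lit 1), (nat_lit 164, nat_lit 1), (nat_lit 166, nat_lit 0), (nat_lit 37, nat_lit 1), (nat_lit 161, nat_lit 0), (nat_lit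 49, nat_lit 1), (nat_lit 159, nat_lit 0), (nat_lit 51, nat_lit 1), (nat_lit 48, nat_lit 0), (nat_lit 168, nat_lit 1), (nat_lit 47, nat_lit 0), (nat_lit 170, nat_lit 1), (nat_lit 163, nat_lit 0), (nat_lit 154, nat_lit 1), (nat_lit 275, nat_lit 0), (nat_lit 150, nat_lit 0), (nat_lit 162, nat_lit 1), (nat_lit 279, nat_lit 0), (nat_lit 149, nat_lit 1), (nat_lit 172, nat_lit 1), (nat_lit 32, nat_lit 0), (nat_lit 299, nat_lit 1), (nat_lit 176, nat_lit 1), (nat_lit 285, nat_lit 0), (nat_lit 42, nat_lit 1), (nat_lit 278, nat_lit 0), (nat_lit 171, nat_lit 1), (nat_lit 261, nat_lit 0), (nat_lit 15, nat_lit 1), (nat_lit 142, nat_lit 0), (nat_lit 24, nat_lit 1), (nat_lit 137, nat_lit 1), (nat_lit 262, nat_lit 0), (nat_lit 16, nat_lit 1), (nat_lit 13, nat_lit 0), (nat_lit 269, nat_lit 0), (nat_lit 11, nat_lit 1), (nat_lit 143, nat_lit 0), (nat_lit 25, nat_lit 1), (nat_lit 135, nat_lit 1), (nat_lit 19, nat_lit 0), (nat_lit 23,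 nat_lit 1), (nat_lit 139, nat_lit 1), (nat_lit 263, nat_lit 0), (nat_lit 17, nat_lit 1), (nat_lit 14, nat_lit 0), (nat_lit 267, nat_lit 0), (nat_lit 9, nat_lit 1), (nat_lit 266, nat_lit 1), (nat_lit 265, nat_lit 0), (nat_lit 26, nat_lit 1), (nat_lit 136, nat_lit 1), (nat_lit 20, nat_lit 0), (nat_lit 21, nat_lit 1), (nat_lit 140, nat_lit 1), (nat_lit 138, nat_lit 0), (nat_lit 12, nat_lit 0), (nat_lit 268, nat_lit 0), (nat_lit 10, nat_lit 1), (nat_lit 264, nat_lit 1), (nat_lit 18, nat_lit 0), (nat_lit 22, nat_lit 1), (nat_lit 58, nat_lit 0), (nat_lit 348, nat_lit 1), (nat_lit 221, nat_lit 0), (nat_lit 178, nat_lit 1), (nat_lit 109, nat_lit 0), (nat_lit 306, nat_lit 1), (nat_lit 181, nat_lit 0), (nat_lit 190, nat_lit 1), (nat_lit 55, nat_lit 0), (nat_lit 351, nat_lit 1), (nat_lit 229, nat_lit 0), (nat_lit 303, nat_lit 1), (nat_lit 186, nat_lit 0), (nat_lit 225, nat_lit 1), (nat_lit 99, nat_lit 0), (nat_lit 185, nat_lit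 1), (nat_lit 105, nat_lit 0), (nat_lit 61, nat_lit 1), (nat_lit 302, nat_lit 0), (nat_lit 341, nat_lit 1), (nat_lit 63, nat_lit 0), (nat_lit 228, nat_lit 1), (nat_lit 349, nat_lit 0), (nat_lit 311, nat_lit 1), (nat_lit 339, nat_lit 0), (nat_lit 187, nat_lit 1), (nat_lit 232, nat_lit 1), (nat_lit 343, nat_lit 0), (nat_lit 68, nat_lit 1), (nat_lit 304, nat_lit 0), (nat_lit 180, nat_lit 1), (nat_lit 59, nat_lit 0), (nat_lit 230, nat_lit 1), (nat_lit 309, nat_lit 0), (nat_lit 102, nat_lit 1), (nat_lit 305, nat_lit 0), (nat_lit 179, nat_lit 0), (nat_lit 346, nat_lit 1), (nat_lit 183, nat_lit 1), (nat_lit 300, nat_lit 1), (nat_lit 350, nat_lit 0), (nat_lit 312, nat_lit 1), (nat_lit 110, nat_lit 0), (nat_lit 188, nat_lit 0), (nat_lit 104, nat_lit 1), (nat_lit 57, nat_lit 0), (nat_lit 182, nat_lit 1), (nat_lit 64, nat_lit 0), (nat_lit 223, nat_lit 1), (nat_lit 60, nat_lit 1), (nat_lit 226, nat_lit 0), (nat_lit 56, nat_lit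 1), (nat_lit 101, nat_lit 0), (nat_lit 184, nat_lit 1), (nat_lit 307, nat_lit 0), (nat_lit 220, nat_lit 1), (nat_lit 224, nat_lit 1), (nat_lit 345, nat_lit 0), (nat_lit 66, nat_lit 1), (nat_lit 219, nat_lit 0), (nat_lit 54, nat_lit 0), (nat_lit 106, nat_lit 0), (nat_lit 62, nat_lit 1), (nat_lit 108, nat_lit 0), (nat_lit 308, nat_lit 1), (nat_lit 103, nat_lit 1), (nat_lit 231, nat_lit 0), (nat_lit 301, nat_lit 1), (nat_lit 177, nat_lit 1), (nat_lit 107, nat_lit 0), (nat_lit 347, nat_lit 0), (nat_lit 65, nat_lit 1), (nat_lit 67, nat_lit 1), (nat_lit 227, nat_lit 1), (nat_lit 344, nat_lit 1), (nat_lit 342, nat_lit 0), (nat_lit 310, nat_lit 1), (nat_lit 222, nat_lit 1), (nat_lit 100, nat_lit 1), (nat_lit 189, nat_lit 0), (nat_lit 147, nat_lit 0), (nat_lit 272, nat_lit 1), (nat_lit 271, nat_lit 0), (nat_lit 270, nat_lit 0), (nat_lit 145, nat_lit 0), (nat_lit 273, nat_lit 1), (nat_lit 148, nat_lit 1), (nat_lit 146, nat_lit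 0), (nat_lit 1, nat_lit 0), (nat_lit 2, nat_lit 1), (nat_lit 6, nat_lit 0), (nat_lit 4, nat_lit 1), (nat_lit 7, nat_lit 0), (nat_lit 5, nat_lit 1), (nat_lit 0, nat_lit 1), (nat_lit 3, nat_lit 0)]),
   (nat_lit 0x18159d5, [[nat_lit 1, nat_lit 1, nat_lit 1], [nat_lit 0, nat_lit 1, nat_lit 0, nat_lit 1, nat_lit 0, nat_lit 1, nat_lit 1], [nat_lit 0, nat_lit 0, nat_lit 0, nat_lit 0, nat_lit 0, nat_lit 1, nat_lit 1, nat_lit 0, nat_lit 1, nat_lit 1], [nat_lit 0, nat_lit 1, nat_lit 1, nat_lit 0, nat_lit 1, nat_lit 0, nat_lit 0, nat_lit 1, nat_lit 0, nat_lit 0], [nat_lit 0, nat_lit 1, nat_lit 0, nat_lit 0, nat_lit 1, nat_lit 1, nat_lit 1, nat_lit 0, nat_lit 1, nat_lit 0, nat_lit 0], [nat_lit 0, nat_lit 1, nat_lit 1, nat_lit 0, nat_lit 0, nat_lit 1, nat_lit 0, nat_lit 0, nat_lit 1, nat_lit 0, nat_lit 1], [nat_lit 1, nat_lit 0, nat_lit 1, nat_lit 1, nat_lit 1, nat_lit 1, nat_lit 0, nat_lit 0, nat_lit 0, nat_lit 0, nat_lit 0],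 [nat_lit 0, nat_lit 0, nat_lit 0, nat_lit 0, nat_lit 1, nat_lit 0, nat_lit 1, nat_lit 0, nat_lit 1, nat_lit 0, nat_lit 0, nat_lit 0], [nat_lit 0, nat_lit 1, nat_lit 0, nat_lit 0, nat_lit 0, nat_lit 0, nat_lit 1, nat_lit 0, nat_lit 0, nat_lit 1, nat_lit 0, nat_lit 1, nat_lit 0], [nat_lit 1, nat_lit 0, nat_lit 1, nat_lit 0, nat_lit 0, nat_lit 0, nat_lit 1, nat_lit 1, nat_lit 0, nat_lit 1, nat_lit 0, nat_lit 1, nat_lit 1], [nat_lit 1, nat_lit 1, nat_lit 0, nat_lit 0, nat_lit 0, nat_lit 1, nat_lit 0, nat_lit 0, nat_lit 0, nat_lit 1, nat_lit 0, nat_lit 1, nat_lit 0, nat_lit 0], [nat_lit 1, nat_lit 0, nat_lit 0, nat_lit 1, nat_lit 0, nat_lit 0, nat_lit 0, nat_lit 1, nat_lit 0, nat_lit 1, nat_lit 1, nat_lit 0, nat_lit 0, nat_lit 1, nat_lit 0], [nat_lit 1, nat_lit 1, nat_lit 0, nat_lit 0, nat_lit 0, nat_lit 1, nat_lit 0, nat_lit 1, nat_lit 1, nat_lit 1, nat_lit 0, nat_lit 0, nat_lit 0, nat_lit 0, nat_lit 0], [nat_lit 1, nat_lit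 1, nat_lit 0, nat_lit 1, nat_lit 1, nat_lit 0, nat_lit 0, nat_lit 1, nat_lit 1, nat_lit 1, nat_lit 1, nat_lit 0, nat_lit 1, nat_lit 0, nat_lit 0], [nat_lit 1, nat_lit 0, nat_lit 1, nat_lit 0, nat_lit 0, nat_lit 1, nat_lit 0, nat_lit 0, nat_lit 1, nat_lit 0, nat_lit 0, nat_lit 0, nat_lit 1, nat_lit 1, nat_lit 1, nat_lit 0]], [(nat_lit 28, nat_lit 0), (nat_lit 32, nat_lit 1), (nat_lit 294, nat_lit 3), (nat_lit 30, nat_lit 5), (nat_lit 290, nat_lit 7), (nat_lit 336, nat_lit 0), (nat_lit 196, nat_lit 1), (nat_lit 234, nat_lit 2), (nat_lit 212, nat_lit 3), (nat_lit 360, nat_lit 4), (nat_lit 243, nat_lit 5), (nat_lit 87, nat_lit 6), (nat_lit 366, nat_lit 7), (nat_lit 314, nat_lit 8), (nat_lit 95, nat_lit 9), (nat_lit 71, nat_lit 10), (nat_lit 75, nat_lit 11), (nat_lit 251, nat_lit 12), (nat_lit 206, nat_lit 13), (nat_lit 128, nat_lit 14), (nat_lit 203, nat_lit 10), (nat_lit 256, nat_lit 3)]),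
   (nat_lit 0x2e8135f, [[nat_lit 1, nat_lit 0, nat_lit 1, nat_lit 0, nat_lit 0, nat_lit 1, nat_lit 0, nat_lit 1], [nat_lit 1, nat_lit 1, nat_lit 0, nat_lit 0, nat_lit 0, nat_lit 0, nat_lit 1, nat_lit 0, nat_lit 0], [nat_lit 0, nat_lit 1, nat_lit 0, nat_lit 0, nat_lit 1, nat_lit 1, nat_lit 0, nat_lit 0, nat_lit 0], [nat_lit 1, nat_lit 0, nat_lit 0, nat_lit 0, nat_lit 1, nat_lit 1, nat_lit 1, nat_lit 1, nat_lit 1], [nat_lit 1, nat_lit 1, nat_lit 1, nat_lit 1, nat_lit 0, nat_lit 1, nat_lit 0, nat_lit 1, nat_lit 1, nat_lit 1], [nat_lit 0, nat_lit 1, nat_lit 1, nat_lit 0, nat_lit 0, nat_lit 0, nat_lit 1, nat_lit 1, nat_lit 0, nat_lit 1], [nat_lit 1, nat_lit 1, nat_lit 0, nat_lit 0, nat_lit 1, nat_lit 0, nat_lit 0, nat_lit 0, nat_lit 0, nat_lit 0, nat_lit 1], [nat_lit 1, nat_lit 1, nat_lit 1, nat_lit 0, nat_lit 1, nat_lit 1, nat_lit 0, nat_lit 1, nat_lit 1, nat_lit 0, nat_lit 0], [nat_lit 0, nat_lit 0, nat_lit 1, nat_lit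 0, nat_lit 1, nat_lit 1, nat_lit 0, nat_lit 1, nat_lit 1, nat_lit 0, nat_lit 1, nat_lit 0], [nat_lit 1, nat_lit 0, nat_lit 0, nat_lit 0, nat_lit 1, nat_lit 0, nat_lit 0, nat_lit 0, nat_lit 0, nat_lit 1, nat_lit 0, nat_lit 0], [nat_lit 1, nat_lit 1, nat_lit 0, nat_lit 0, nat_lit 0, nat_lit 1, nat_lit 0, nat_lit 1, nat_lit 1, nat_lit 1, nat_lit 0, nat_lit 1, nat_lit 1], [nat_lit 1, nat_lit 0, nat_lit 1, nat_lit 0, nat_lit 1, nat_lit 1, nat_lit 1, nat_lit 0, nat_lit 0, nat_lit 1, nat_lit 0, nat_lit 0, nat_lit 1, nat_lit 0], [nat_lit 1, nat_lit 1, nat_lit 0, nat_lit 1, nat_lit 1, nat_lit 1, nat_lit 1, nat_lit 0, nat_lit 0, nat_lit 0, nat_lit 0, nat_lit 0, nat_lit 1, nat_lit 0], [nat_lit 1, nat_lit 0, nat_lit 1, nat_lit 0, nat_lit 0, nat_lit 0, nat_lit 1, nat_lit 0, nat_lit 1, nat_lit 0, nat_lit 0, nat_lit 1, nat_lit 0, nat_lit 0, nat_lit 0, nat_lit 0], [nat_lit 0, nat_lit 1, nat_lit 0, nat_lit 1, nat_lit 1, nat_lit 0,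 nat_lit 1, nat_lit 1, nat_lit 1, nat_lit 0, nat_lit 1, nat_lit 0, nat_lit 0, nat_lit 1, nat_lit 0, nat_lit 0], [nat_lit 0, nat_lit 1, nat_lit 1, nat_lit 1, nat_lit 1, nat_lit 1, nat_lit 1, nat_lit 1, nat_lit 0, nat_lit 0, nat_lit 0, nat_lit 1, nat_lit 0, nat_lit 0, nat_lit 0, nat_lit 1, nat_lit 0, nat_lit 0]], [(nat_lit 226, nat_lit 1), (nat_lit 227, nat_lit 2), (nat_lit 109, nat_lit 4), (nat_lit 108, nat_lit 8), (nat_lit 225, nat_lit 9), (nat_lit 256, nat_lit 0), (nat_lit 69, nat_lit 1), (nat_lit 202, nat_lit 2), (nat_lit 212, nat_lit 3), (nat_lit 125, nat_lit 4), (nat_lit 362, nat_lit 5), (nat_lit 211, nat_lit 6), (nat_lit 71, nat_lit 7), (nat_lit 329, nat_lit 9), (nat_lit 233, nat_lit 10), (nat_lit 98, nat_lit 11), (nat_lit 328, nat_lit 12), (nat_lit 118, nat_lit 13), (nat_lit 260, nat_lit 14), (nat_lit 116, nat_lit 15), (nat_lit 371, nat_lit 2), (nat_lit 370, nat_lit 4)])]) (pr := [[nat_lit 1, nat_lit 1, nat_lit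 0, nat_lit 1, nat_lit 0, nat_lit 0],
   [nat_lit 1, nat_lit 2, nat_lit 1, nat_lit 0, nat_lit 1, nat_lit 2],
   [nat_lit 1, nat_lit 2, nat_lit 2, nat_lit 2, nat_lit 3, nat_lit 2],
   [nat_lit 1, nat_lit 0, nat_lit 0, nat_lit 0, nat_lit 1],
   [nat_lit 2, nat_lit 1, nat_lit 0, nat_lit 0, nat_lit 1],
   [nat_lit 2, nat_lit 1, nat_lit 3, nat_lit 3, nat_lit 3, nat_lit 1, nat_lit 1, nat_lit 1],
   [nat_lit 0, nat_lit 0, nat_lit 1, nat_lit 1, nat_lit 1],
   [nat_lit 2, nat_lit 1, nat_lit 0, nat_lit 1, nat_lit 0, nat_lit 0],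
   [nat_lit 1, nat_lit 3, nat_lit 2, nat_lit 1, nat_lit 2],
   [nat_lit 3, nat_lit 2, nat_lit 2, nat_lit 3, nat_lit 4],
   [nat_lit 2, nat_lit 2, nat_lit 0, nat_lit 1, nat_lit 0],
   [nat_lit 3, nat_lit 2, nat_lit 3, nat_lit 2],
   [nat_lit 1, nat_lit 1, nat_lit 0, nat_lit 0, nat_lit 1, nat_lit 1, nat_lit 0],
   [nat_lit 5, nat_lit 3, nat_lit 5, nat_lit 5, nat_lit 8, nat_lit 8, nat_lit 7, nat_lit 7, nat_lit 7, nat_lit 9, nat_lit 11, nat_lit 11, nat_lit 10, nat_lit 9, nat_lit 14, nat_lit 13, nat_lit 14, nat_lit 13],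
   [nat_lit 2, nat_lit 5, nat_lit 5, nat_lit 9, nat_lit 9, nat_lit 9, nat_lit 7, nat_lit 12, nat_lit 11, nat_lit 11, nat_lit 11, nat_lit 10, nat_lit 14, nat_lit 13, nat_lit 13, nat_lit 15, nat_lit 15, nat_lit 13],
   [nat_lit 2, nat_lit 4, nat_lit 3, nat_lit 6, nat_lit 8, nat_lit 9, nat_lit 9, nat_lit 12, nat_lit 12, nat_lit 14, nat_lit 14, nat_lit 16, nat_lit 14, nat_lit 15],
   [nat_lit 3, nat_lit 3, nat_lit 8, nat_lit 7, nat_lit 8, nat_lit 8, nat_lit 9, nat_lit 11, nat_lit 10, nat_lit 13, nat_lit 14, nat_lit 14, nat_lit 13, nat_lit 12, nat_lit 15, nat_lit 15, nat_lit 15, nat_lit 17, nat_lit 17, nat_lit 16]])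
    (lv := [(nat_lit 191, nat_lit 0x42188210886118c2218c4310c4218c431046308c6118461184621044210c6110c2218c230886208443104611086308841188411882118c41088420846218c23084621846208c21088621046310c2210441108221042208461088210886318c23184621046210c2318823188411886218c6318421f846318c211084108c630884318c62104411046210c61088211084210c61084411846308443104421884218c2210c621844108c42188621882308422188221084318c21088631844210841088411846118822088611046218c221086310c6110c221046318841188230844108c2110c411846210c6110421, [nat_lit 17, nat_lit 18, nat_lit 16]),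
   (nat_lit 123, nat_lit 0x6118c6210c6108c42108030802200822180601804010020100421004110003188600004018c21184611800300c22084010800118c000844010460000630044010c2100001088201802000000188220884318c010080010c4008c4318060008410802018840008001080010823084431084118c410042008801184211804110c200004210c6008c0110042080630044300c2100c621802018c431000000c42f8400108410004108803084630002008c40004421080000c6310800080011004308c410006100c41008610080210c401002300440108601080008c01188600804010c20080210840010c2100c01, [nat_lit 15, nat_lit 14, nat_lit 13]),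
   (nat_lit 315, nat_lit 0x40104000000000c02008000000000060100400000000000000400800000000080000000000000f84021800000002180001800200000000000044000000000601800000000000000000000000000000000300002004000000000402180000000000000004200000000000008010084000000000610004010000000420000200800000000000000c0100000000030080000000000000000000840100000000200c00080000000300001080000000000c00008000000000060188001800000000084000006100000008200000308000000000006018000000000040200460100401880000000000000000000000, [nat_lit 12, nat_lit 11, nat_lit 10]),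
   (nat_lit 55, nat_lit 0x40000000000020040000000000000000000c00000000000300000000000000000000000600000000000000000000000000000000000000000000000000000c020000000000000000806000000000000000308000000000000000001000600000000000000000000000000000000000000400000000000000000000000000000000000000000000000000000000000440100000000200000180000000000000100000000000000000010000000000000000000000000000001800000000f800000000000000000000000000000000000000000000000000000000000000000000, [nat_lit 9, nat_lit 8, nat_lit 7]),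
   (nat_lit 101, nat_lit 0x400000000002000000000000000000000000000000000000000000000000000000000000000000000000000000000000000000000000000010000000000000000000000000000000000000000000000000000000000000000004000000000000000010000000000000000000000000000000000000000000000000000000000000000000000000000000000000000000000000400003e000040000000000000000000000000000000000000000000000000000000000000000000000000000000000000000000000000000000000000000000000000, [nat_lit 6, nat_lit 5]),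
   (nat_lit 58, nat_lit 0x7c000000000000000000000000000000000000000000000000000000000000000000000000, []),
   (nat_lit 1, nat_lit 0x40000000000000000000000000000000000000000000000000000000000000000000000000000000000000000000000000000000000000000000000000000000000000000000000000000000000001000000000000000000000000000000000000000000000000000000000000000000000000000000000000000000000000000000000000000000000000000000000000000000000000000000000000000000000003e0, [nat_lit 4])]) (by decide +kernel)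
  refine subs_of z (fun i => (nd_prop In.one h _).order Nat.prime_three (by revert i; decide +kernel))
    (fun i => e i ▸ conj_sq M.base h (c := iv i) (by revert i; decide +kernel)) (fun i j a => ?_) fun x hx => ?_
  · have b := cnt_conj (S := S) a
    simp only [z, gn, (nd_prop In.one h _).tb_el] at b
    rcases (by decide +kernel : ∀ i j, cnt 9 378 (nd (idv 9 378) Ts (zs i)) = cnt 9 378 (nd (idv 9 378) Ts (zs j)) → i = j ∨
      (i, j) ∈ [(3, 4), (3, 6), (4, 6), (4, 3), (6, 3), (6, 4)]) i j b with b | b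
    · exact b
    simp only [List.mem_cons, Prod.mk.injEq, List.not_mem_nil, or_false] at b
    rcases b with ⟨rfl, rfl⟩ | ⟨rfl, rfl⟩ | ⟨rfl, rfl⟩ | ⟨rfl, rfl⟩ | ⟨rfl, rfl⟩ | ⟨rfl, rfl⟩
    exacts [(n34 a).elim, (n36 a).elim, (n46 a).elim, (n34 a.symm).elim, (n36 a.symm).elim, (n46 a.symm).elim]
  · obtain ⟨y, a, b⟩ := f x hx
    rcases (by decide : ∀ y ∈ [0, 15, 16, 17, 18, 19, 20, 21], y = 0 ∨ ∃ i, zs i = y) y a with rfl | ⟨i, rfl⟩
    exacts [.inl (by simpa [evC_zero] using b), .inr ⟨i, e i ▸ b⟩]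

end Cfsg.Agent.S5514
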