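import Cfsg.Statements.S5516
import Mathlib
import Cfsg.Agent.H27.O83A
import Cfsg.Agent.H27.O83B
import Cfsg.Agent.H27.O83C
import Cfsg.Agent.H27.O83E
import Cfsg.Agent.H13.Refl
import Cfsg.Agent.S2608
-- import your own Cfsg.Agent.* helpers here

set_option autoImplicit false
open Cfsg

namespace Cfsg.Agent.S5516

open scoped Pointwise commutatorElement

open H13 H14.PK H14.PK.TS H27 H27.PKx H27.MG H27.O83 Cfsg

set_option maxRecDepth 100000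

/-- the simple root elements -/
def I : List ℕ := [35, 38, 36, 37, 47, 48, 49, 50]
/-- permutations of the letters -/
def p1 : List ℕ := [0, 0, 0, 0, 0, 0, 0, 0, 0, 0, 0, 0, 0, 0, 0, 0, 0, 0, 0, 0, 0, 0, 0, 0, 0, 0, 0, 0, 0, 0, 0, 0, 0, 0, 0, 36, 37, 35, 38, 0, 0, 0, 0, 0, 0, 0, 0, 49, 48, 50, 47]
/-- permutations of the letters -/
def p2 : List ℕ := [0, 0, 0, 0, 0, 0, 0, 0, 0, 0, 0, 0, 0, 0, 0, 0, 0, 0, 0, 0, 0, 0, 0, 0, 0, 0, 0, 0, 0, 0, 0, 0, 0, 0, 0, 35, 37, 36, 38, 0, 0, 0, 0, 0, 0, 0, 0, 47, 48, 50, 49]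
/-- permutation of the classes -/
def q1 : Fin 13 → Fin 13 := ![0, 3, 1, 2, 4, 10, 7, 11, 8, 5, 9, 6, 12]
/-- permutation of the classes -/
def q2 : Fin 13 → Fin 13 := ![0, 2, 1, 3, 4, 5, 7, 6, 8, 10, 9, 11, 12]
/-- the orbits -/
def o : Fin 13 → Fin 7 := ![0, 1, 1, 1, 2, 3, 4, 4, 5, 3, 3, 4, 6]
/-- representatives of the orbits -/
def r : Fin 7 → Fin 13 := ![0, 1, 4, 5, 6, 8, 12]
/-- conjugating words -/
def u1 : Fin 13 → ℕ := ![540208, 0, 0, 0, 0, 432, 0, 16, 50703, 464, 13, 464, 0]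
/-- conjugating words -/
def u2 : Fin 13 → ℕ := ![0, 0, 0, 0, 0, 14, 0, 0, 0, 0, 0, 0, 0]
/-- conjugating words -/
def iv : Fin 13 → ℕ := ![14, 14, 14, 14, 14, 14, 14, 14, 1454, 13, 13, 13, 13]
/-- numbers of fixed points -/
def fx : Fin 13 → ℕ := ![108, 0, 0, 108, 0, 135, 27, 27, 9, 0, 0, 0, 18]
/-- the images of the root elements -/
noncomputable def im (T : List ℕ) : List ℕ := idv 11 1080 :: T.drop 35

theorem k1 : slpOk 11 1080 (TB.take 2 ++ TC.take 2) [[nat_lit 0, nat_lit 0, nat_lit 1],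
   [nat_lit 2, nat_lit 1, nat_lit 2, nat_lit 2, nat_lit 0, nat_lit 1, nat_lit 1, nat_lit 1],
   [nat_lit 1, nat_lit 1, nat_lit 2, nat_lit 2, nat_lit 1, nat_lit 3, nat_lit 1, nat_lit 2],
   [nat_lit 0, nat_lit 1],
   [nat_lit 2, nat_lit 2, nat_lit 0, nat_lit 1, nat_lit 1, nat_lit 1, nat_lit 1, nat_lit 1, nat_lit 1],
   [nat_lit 3, nat_lit 2, nat_lit 1, nat_lit 2, nat_lit 1, nat_lit 3, nat_lit 1, nat_lit 2, nat_lit 3],
   [nat_lit 0, nat_lit 0, nat_lit 0],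
   [nat_lit 1, nat_lit 0, nat_lit 2, nat_lit 0, nat_lit 2, nat_lit 1, nat_lit 1, nat_lit 0, nat_lit 2, nat_lit 1],
   [nat_lit 3, nat_lit 2, nat_lit 3, nat_lit 1, nat_lit 1, nat_lit 1, nat_lit 2, nat_lit 1, nat_lit 2, nat_lit 2, nat_lit 3],
   [nat_lit 0, nat_lit 0, nat_lit 1, nat_lit 1, nat_lit 1],
   [nat_lit 1, nat_lit 2, nat_lit 1],
   [nat_lit 3, nat_lit 0, nat_lit 0, nat_lit 3, nat_lit 3, nat_lit 2, nat_lit 0, nat_lit 3, nat_lit 0, nat_lit 2],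
   [nat_lit 3, nat_lit 4, nat_lit 4, nat_lit 3, nat_lit 2, nat_lit 2, nat_lit 1],
   [nat_lit 5, nat_lit 2, nat_lit 5, nat_lit 5, nat_lit 2, nat_lit 4, nat_lit 2, nat_lit 2, nat_lit 5, nat_lit 2, nat_lit 3],
   [nat_lit 2, nat_lit 2, nat_lit 1, nat_lit 0, nat_lit 1, nat_lit 1, nat_lit 2, nat_lit 1, nat_lit 1],
   [nat_lit 3, nat_lit 2, nat_lit 3, nat_lit 2, nat_lit 2, nat_lit 1],
   [nat_lit 0, nat_lit 0, nat_lit 1, nat_lit 1, nat_lit 0, nat_lit 0],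
   [nat_lit 2, nat_lit 0, nat_lit 0, nat_lit 1, nat_lit 2, nat_lit 0],
   [nat_lit 0, nat_lit 3, nat_lit 6, nat_lit 6, nat_lit 5, nat_lit 6, nat_lit 5, nat_lit 9, nat_lit 11, nat_lit 13, nat_lit 13, nat_lit 12, nat_lit 16, nat_lit 14, nat_lit 14, nat_lit 16, nat_lit 16, nat_lit 16, nat_lit 18, nat_lit 18, nat_lit 17, nat_lit 18],
   [nat_lit 2, nat_lit 2, nat_lit 7, nat_lit 7, nat_lit 6, nat_lit 8, nat_lit 9, nat_lit 8, nat_lit 14, nat_lit 14, nat_lit 14, nat_lit 14, nat_lit 13, nat_lit 13, nat_lit 15, nat_lit 15, nat_lit 17, nat_lit 17, nat_lit 15, nat_lit 20, nat_lit 19, nat_lit 18, nat_lit 18, nat_lit 19, nat_lit 20],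
   [nat_lit 2, nat_lit 3, nat_lit 5, nat_lit 7, nat_lit 8, nat_lit 9, nat_lit 9, nat_lit 12, nat_lit 12, nat_lit 15, nat_lit 14, nat_lit 14, nat_lit 13, nat_lit 13, nat_lit 18, nat_lit 16, nat_lit 17, nat_lit 17, nat_lit 16, nat_lit 19, nat_lit 20, nat_lit 19, nat_lit 20, nat_lit 21, nat_lit 20],
   [nat_lit 3, nat_lit 9, nat_lit 9, nat_lit 8, nat_lit 9, nat_lit 10, nat_lit 13, nat_lit 16, nat_lit 16, nat_lit 14, nat_lit 16, nat_lit 16, nat_lit 15, nat_lit 19, nat_lit 19, nat_lit 17, nat_lit 18, nat_lit 18, nat_lit 18, nat_lit 22]] Ls = true := by decide +kernel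

theorem k2 : lowOk 11 1080 4952179814400 [[nat_lit 0, nat_lit 0, nat_lit 5, nat_lit 0, nat_lit 7, nat_lit 5, nat_lit 6],
   [nat_lit 1, nat_lit 2, nat_lit 2, nat_lit 4, nat_lit 5, nat_lit 8, nat_lit 8, nat_lit 6, nat_lit 3, nat_lit 7, nat_lit 1, nat_lit 6, nat_lit 5],
   [nat_lit 2, nat_lit 4, nat_lit 8, nat_lit 9, nat_lit 2, nat_lit 5, nat_lit 2, nat_lit 8, nat_lit 3],
   [nat_lit 2, nat_lit 9, nat_lit 9, nat_lit 0, nat_lit 9, nat_lit 0, nat_lit 2, nat_lit 0],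
   [nat_lit 10, nat_lit 3, nat_lit 1, nat_lit 1, nat_lit 3, nat_lit 3, nat_lit 3, nat_lit 3, nat_lit 2, nat_lit 1, nat_lit 1],
   [nat_lit 0, nat_lit 0, nat_lit 1, nat_lit 0, nat_lit 0],
   [nat_lit 2, nat_lit 2, nat_lit 2, nat_lit 2, nat_lit 1, nat_lit 1, nat_lit 2],
   [nat_lit 2, nat_lit 2, nat_lit 2, nat_lit 1, nat_lit 1, nat_lit 3],
   [nat_lit 1, nat_lit 1],
   [nat_lit 0, nat_lit 2, nat_lit 1],
   [nat_lit 3, nat_lit 2, nat_lit 3, nat_lit 2, nat_lit 1, nat_lit 0, nat_lit 2, nat_lit 0, nat_lit 2, nat_lit 3],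
   [nat_lit 3, nat_lit 4, nat_lit 1, nat_lit 1, nat_lit 3, nat_lit 4, nat_lit 4, nat_lit 1, nat_lit 3, nat_lit 3, nat_lit 3, nat_lit 4],
   [nat_lit 5, nat_lit 4, nat_lit 2, nat_lit 3, nat_lit 3, nat_lit 2],
   [nat_lit 1, nat_lit 2],
   [nat_lit 1, nat_lit 1, nat_lit 2, nat_lit 3, nat_lit 1],
   [nat_lit 0, nat_lit 0, nat_lit 1],
   [nat_lit 0, nat_lit 0, nat_lit 2, nat_lit 1, nat_lit 2]] (I.map (nd (idv 11 1080) TA)) [(nat_lit 0, [nat_lit 17, nat_lit 18, nat_lit 19, nat_lit 21, nat_lit 22, nat_lit 23]), (nat_lit 3, [nat_lit 16, nat_lit 15, nat_lit 14]), (nat_lit 9, [nat_lit 13, nat_lit 12]), (nat_lit 108, [nat_lit 10, nat_lit 9]), (nat_lit 1, [nat_lit 6, nat_lit 5]), (nat_lit 27, [nat_lit 3, nat_lit 2]), (nat_lit 28, [nat_lit 0])] = true := by decide +kernel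

theorem k3 : ∀ i, cnF (apC 11 1080 Ts (zc i)) 1080 = fx i := by decide +kernel

theorem k4 : ∀ i, cj2 11 1080 bs Ts (im TB) (zc i) (u1 i) (zc (q1 i)) = true ∧ cj2 11 1080 bs Ts (im TC) (zc i) (u2 i) (zc (q2 i)) = true ∧
    inF 1 12 64 (zc i) = true := by decide +kernel

theorem k5 : ∀ i < 16, bt (H14.RK.defM ds (H14.RK.ssM lv)) (35 + i) = true := by decide +kernel

theorem k6 : ∀ i < 12, nd (idv 11 1080) Ts (i + 1) = nd (idv 11 1080) TA (35 + i) ∧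
    nd (idv 11 1080) (im TB) (i + 1) = nd (idv 11 1080) TB (35 + i) ∧
    nd (idv 11 1080) (im TC) (i + 1) = nd (idv 11 1080) TC (35 + i) := by decide +kernel

theorem k7 : ∀ i ∈ I, (∃ j < 16, 35 + j = i) ∧ nd (idv 11 1080) TB i = nd (idv 11 1080) TA (nd 0 p1 i) ∧
    nd (idv 11 1080) TC i = nd (idv 11 1080) TA (nd 0 p2 i) := by decide +kernel

theorem main {G : Type*} [Group G] {S : TS G 11 1080} (M : Mdl S Ls bs 4952179814400) : ∃ (z : Fin 13 → G) (τ σ : MulAut G),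
    (∀ i, orderOf (z i) = 3) ∧ (∀ i, IsConj (z i ^ 2) (z i)) ∧ (∀ i j, IsConj (z i) (z j) → i = j) ∧
    (∀ x : G, x ^ 3 = 1 → x = 1 ∨ ∃ i, IsConj x (z i)) ∧ τ ^ 3 = 1 ∧ σ ^ 2 = 1 ∧ (σ * τ) ^ 2 = 1 ∧
    (∀ i, IsConj (τ (z i)) (z (q1 i))) ∧ ∀ i, IsConj (σ (z i)) (z (q2 i)) := by
  have := S.finite
  have a := In.slp k1 M.mem
  have hA := in_defs (fun i hi => M.mem _ (by revert i; decide +kernel)) dA
  have hB := in_defs (fun i hi => a _ (by revert i; decide +kernel)) dB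
  have hC := in_defs (fun i hi => a _ (by revert i; decide +kernel)) dC
  have h : ∀ t ∈ Ts, S.In ⊤ t := List.forall_mem_cons.2 ⟨In.one, In.slp (pr := [[nat_lit 35, nat_lit 47, nat_lit 47, nat_lit 35],
   [nat_lit 39, nat_lit 49, nat_lit 49, nat_lit 39],
   [nat_lit 38, nat_lit 51, nat_lit 51, nat_lit 38],
   [nat_lit 40, nat_lit 53, nat_lit 53, nat_lit 40],
   [nat_lit 3, nat_lit 3],
   [nat_lit 3, nat_lit 3]]) (by decide +kernel) hA⟩
  have hi : ∀ {T : List ℕ}, (∀ t ∈ T, S.In ⊤ t) → ∀ t ∈ im T, S.In ⊤ t := fun h =>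
    List.forall_mem_cons.2 ⟨In.one, fun t ht => h t (List.mem_of_mem_drop ht)⟩
  obtain ⟨φ, f1⟩ := M.endo (cA.rel (H14.RK.sndB M.base hA)) (cB.rel (H14.RK.sndB M.base hB)) (by decide +kernel) (by decide +kernel)
    (by decide +kernel)
  obtain ⟨χ, f2⟩ := M.endo (cA.rel (H14.RK.sndB M.base hA)) (cC.rel (H14.RK.sndB M.base hC)) (by decide +kernel) (by decide +kernel)
    (by decide +kernel)
  obtain ⟨τ, σ, b1, b2, b3, b4, b5⟩ := exists_auts (g := gn S TA) (I := I) ((cl_gT I).symm.trans (Subgroup.eq_top_of_le_card _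
    (M.card ▸ le_of_ok k2 fun t ht => (List.forall_mem_map.2 (fun i _ => nd_prop In.one hA i) t ht).cl ht))) φ χ (nd 0 p1) (nd 0 p2)
    (fun i hi => by
      obtain ⟨⟨j, a, rfl⟩, b, -⟩ := k7 i hi
      rw [f1 _ (k5 j a), gn, b, gn]) (fun i hi => by
      obtain ⟨⟨j, a, rfl⟩, -, b⟩ := k7 i hi
      rw [f2 _ (k5 j a), gn, b, gn]) (by decide +kernel)
  have c1 : ∀ i, IsConj (τ (evC (gn S Ts) (zc i))) (evC (gn S Ts) (zc (q1 i))) := fun i => by
    rw [b4, map_evC (h := gn S (im TB)) φ (fun j a b => by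
      obtain ⟨j, rfl⟩ := Nat.exists_eq_add_of_le' a
      rw [gn, (k6 j b).1, gn, (k6 j b).2.1]
      exact f1 _ (k5 j (by omega))) (k4 i).2.2]
    exact cj2_spec M.base h (hi hB) (k4 i).1
  refine ⟨fun i => evC (gn S Ts) (zc i), τ, σ, fun i => order_evC M.base h Nat.prime_three (by revert i; decide +kernel),
    fun i => conj_sq M.base h (c := iv i) (by revert i; decide +kernel), fun i j c => ?_, cls M h, b1, b2, b3, c1, fun i => ?_⟩
  · have d : ∀ i j, IsConj (evC (gn S Ts) (zc i)) (evC (gn S Ts) (zc j)) →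
        IsConj (evC (gn S Ts) (zc (q1 i))) (evC (gn S Ts) (zc (q1 j))) := fun i j c =>
      (c1 i).symm.trans ((τ.toMonoidHom.map_isConj c).trans (c1 j))
    have e : ∀ i j, IsConj (evC (gn S Ts) (zc i)) (evC (gn S Ts) (zc j)) → fx i = fx j := fun i j c => by
      rw [← k3, ← k3, cnF_conj h c]
    exact (by decide : ∀ i j, fx i = fx j → fx (q1 i) = fx (q1 j) → fx (q1 (q1 i)) = fx (q1 (q1 j)) → i = j) i j (e _ _ c)
      (e _ _ (d _ _ c)) (e _ _ (d _ _ (d _ _ c)))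
  · rw [b5, map_evC (h := gn S (im TC)) χ (fun j a b => by
      obtain ⟨j, rfl⟩ := Nat.exists_eq_add_of_le' a
      rw [gn, (k6 j b).1, gn, (k6 j b).2.2]
      exact f2 _ (k5 j (by omega))) (k4 i).2.2]
    exact cj2_spec M.base h (hi hC) (k4 i).2.1

/-- PΩ⁺(8, 3) (the commutator subgroup of the isometry group of the hyperbolic quadratic form in dimension 8 over the field with three elements, modulo its centre) has exactly 13 conjugacy classes of subgroups of order 3; and a finite group G whose generalized Fitting subgroup L is isomorphic to PΩ⁺(8, 3) with G/L the symmetric group of degree 3 has exactly 7 orbits, under conjugation, on the subgroups of L of order 3. -/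
theorem result {G : Type*} [Group G] [Finite G] (L : Subgroup G) (hL : L = Cfsg.generalizedFittingSubgroup G) (hF : Nonempty (↥L ≃* Cfsg.POmega (ZMod 3) (Cfsg.quadFormPlus 4 (ZMod 3)))) [hn : L.Normal] (hq : Nonempty (G ⧸ L ≃* Equiv.Perm (Fin 3))) : (∃ Y : Fin 13 → Subgroup (Cfsg.POmega (ZMod 3) (Cfsg.quadFormPlus 4 (ZMod 3))), (∀ i, Nat.card (Y i) = 3) ∧ (∀ i j, (∃ g : Cfsg.POmega (ZMod 3) (Cfsg.quadFormPlus 4 (ZMod 3)), (Y i).map (MulAut.conj g).toMonoidHom = Y j) → i = j) ∧ (∀ X : Subgroup (Cfsg.POmega (ZMod 3) (Cfsg.quadFormPlus 4 (ZMod 3))), Nat.card X = 3 → ∃ i, ∃ g : Cfsg.POmega (ZMod 3) (Cfsg.quadFormPlus 4 (ZMod 3)), X.map (MulAut.conj g).toMonoidHom = Y i)) ∧ ∃ Y : Fin 7 → Subgroup G, (∀ i, Y i ≤ L ∧ Nat.card (Y i) = 3) ∧ (∀ i j, (∃ g : G, (Y i).map (MulAut.conj g).toMonoidHom = Y j) → i = j) ∧ ∀ X : Subgroup G, X ≤ L → Nat.card X = 3 → ∃ i, ∃ g : G, X.map (MulAut.conj g).toMonoidHom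 = Y i := by
  subst hL
  obtain ⟨S, M⟩ := model (ZMod 3) (ZMod.card 3)
  have := S.finite
  obtain ⟨z, τ, σ, h1, h2, h3, h4, b1, b2, b3, c1, c2⟩ := main M
  refine ⟨subs_of z h1 h2 h3 h4, ?_⟩
  have := H13.simple_O8
  have hZ : Subgroup.center (POmega (ZMod 3) (quadFormPlus 4 (ZMod 3))) = ⊥ :=
    (Subgroup.Normal.eq_bot_or_eq_top inferInstance).resolve_right fun h => by
      let _ : CommGroup (POmega (ZMod 3) (quadFormPlus 4 (ZMod 3))) :=
        { mul_comm := fun a b => (Subgroup.mem_center_iff.1 (h ▸ Subgroup.mem_top b) a) }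
      have h1 := IsSimpleGroup.prime_card (α := POmega (ZMod 3) (quadFormPlus 4 (ZMod 3)))
      rw [H13.card_O8] at h1
      exact absurd h1 (by norm_num)
  have := Fact.mk Nat.prime_three
  have h5 := Cfsg.Agent.S2608.result (F := ZMod 3) (p := 3) (f := 1) (m := 4) le_rfl (by simp) (by decide) le_rfl
  rw [if_pos rfl] at h5
  obtain ⟨e⟩ := h5
  let ψ := ((MonoidHom.fst _ _).comp e.toMonoidHom).comp (QuotientGroup.mk' _)
  have d1 : ψ.ker = Inn _ := by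
    ext x
    refine Iff.trans ?_ (QuotientGroup.eq_one_iff x)
    rw [← e.map_eq_one_iff, Prod.ext_iff]
    exact ⟨fun h => ⟨h, Subsingleton.elim _ _⟩, fun h => h.1⟩
  have d2 : Function.Surjective ψ := (Prod.fst_surjective.comp e.surjective).comp (QuotientGroup.mk'_surjective _)
  have n : ∀ (α : MulAut _) (q : Fin 13 → Fin 13), (∀ i, IsConj (α (z i)) (z (q i))) → q 2 ≠ 2 → α ∉ Inn _ := by
    rintro _ q a b ⟨k, rfl⟩
    exact b (h3 _ _ ((a 2).symm.trans (isConj_iff.2 ⟨k, rfl⟩).symm))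
  obtain ⟨j, a, b⟩ := stab_of ψ d1 b1 b2 b3 (n _ _ c1 (by decide)) (n _ _ c2 (by decide))
  obtain ⟨f, hf⟩ := emb2 ψ d1 d2 hF.some hZ (by
    rw [Subgroup.index, Nat.card_congr hq.some.toEquiv, Nat.card_perm]; simp [Nat.factorial]) j
  refine orbits_of f hf z o r (by decide) h1 h2 h3 h4 (b _ (fun k i => ⟨i, rfl, (isConj_iff.2 ⟨k, rfl⟩).symm⟩)
    (fun i => ⟨_, by revert i; decide, c1 i⟩) (fun i => ⟨_, by revert i; decide, c2 i⟩) fun α β p q i => ?_) fun i => ?_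
  · obtain ⟨k, s, t⟩ := q i
    obtain ⟨l, u, v⟩ := p k
    exact ⟨l, u.trans s, (α.toMonoidHom.map_isConj t).trans v⟩
  · rcases (by decide : ∀ i, r (o i) = i ∨ r (o i) = q1 i ∨ r (o i) = q1 (q1 i)) i with c | c | c <;> rw [c]
    · exact ⟨1, by simp, IsConj.refl _⟩
    · exact ⟨τ, a, c1 i⟩
    · exact ⟨τ * τ, by rw [map_mul, Equiv.Perm.mul_apply, a, a], (τ.toMonoidHom.map_isConj (c1 i)).trans (c1 _)⟩

end Cfsg.Agent.S5516
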