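import Mathlib
import Cfsg.Statements.S5522
import Cfsg.Agent.H14.M24St

set_option autoImplicit false
open Cfsg

namespace Cfsg.Agent.S5522

open H14 PK PK.TS

def ch : Ch := [(5, [nat_lit 0xbdab49ca307b9ac5a928398a418820, nat_lit 0xb96b1a414c5ce41b3902798e3491a0, nat_lit 0xbc6c55a0eca4cc3aba027c94169120, nat_lit 0x3d9f42caa88dc2d9a92270d6624180, nat_lit 0x7d4b6a127289d235dc4c541c169900, nat_lit 0x750b6aa66259c838aa50bb1e16a0c0, nat_lit 0xbd1767a4b09b8c4aaa483b62c08860, nat_lit 0x75a345c9e2a9d812a930b9263321a0, nat_lit 0x99551b4164abc2d3b90cb8e8930a40, nat_lit 0x3d2768a5682dc667aa42706ad64080, nat_lit 0x795713c2a255db2a39049a6c61b020, nat_lit 0x73cb3b09438d526a1e085b2ed90480]),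
  (7, [nat_lit 0xbdab49ca307b9ac5a928398a418820, nat_lit 0x71eef5c264a4501ad8c250cb26a580, nat_lit 0xb5de7525c18cc88a54725b0ad34040, nat_lit 0x9a9f53ca2cb2d24bd070734a20a0c0, nat_lit 0x5aac7a326474612bd4627b4a930500, nat_lit 0x75d753a2697d9a1a28648b0b2808c0, nat_lit 0x8d2d5389cd5bd9055c619a4a8248c0, nat_lit 0x99d5678630bba44aacc8a0ca24b1a0, nat_lit 0x3cef4599cd8bc48b2921a90b21c180, nat_lit 0x7d167bb6309b82255468b24ac31240, nat_lit 0x89e8bb11c154c50abcd2b8ca863520]),
  (10, [nat_lit 0xbdab49ca307b9ac5a928398a418820, nat_lit 0xbc66ea8ec97d18d52e08388a491820, nat_lit 0x5aa77b1a818d60c7b9a3388a992080, nat_lit 0x53a33a8d6cb5da9a3c323a0b011880, nat_lit 0xb5dd4799509d4895c5833c8ad40820, nat_lit 0x7d22a59ae47542db4d233a0ac14a00, nat_lit 0x52eb7889c1b4d2d7d192398b01a080, nat_lit 0xb4d6fa2150bc48d754223c8a930d80, nat_lit 0xa4dd1a8ded5a92cbd8823c8a141a00, nat_lit 0xa3eaa722645c589b5da2398a11ca00]),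
  (11, [nat_lit 0xbdab49ca307b9ac5a928398a418820, nat_lit 0x9da2fbcab0a2d21729a63a0a410d80, nat_lit 0x8adf3a22edaba04b2932398ac10c20]),
  (1, [nat_lit 0xbdab49ca307b9ac5a928398a418820, nat_lit 0x7ba71a9a89bd9ac5aa083c8a110c80])]
theorem full : SP.Full Spor.M11 ch := fullP card_M11 in_M11 (by decide +kernel)

noncomputable def itr (f : ℕ → ℕ) (k i : ℕ) : ℕ := Nat.rec i (fun _ ih => H13.force ih f) k

theorem itr_eq {x : Equiv.Perm GolayPt} {f : ℕ → ℕ} (hf : ∀ i < 24, f i = SP.ap x i) (k : ℕ) {i : ℕ} (hi : i < 24) :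
    itr f k i = SP.ap (x ^ k) i := by
  induction k with
  | zero => exact (SP.ap_one hi).symm
  | succ k ih =>
    change H13.force (itr f k i) f = _
    rw [H13.force_eq, ih, hf _ (SP.ap_lt _ hi), pow_succ', SP.ap_mul _ _ hi]

/-- The Mathieu group M₁₁, realised as the stabiliser of one point of the dodecad of squares inside the stabiliser M₁₂ of that dodecad in M₂₄, acts on the twelve coordinate positions outside the dodecad of squares (its 3-transitive action of degree 12); in this action every element of prime order fixes a point, i.e. the action is elusive. -/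
theorem result (g : Equiv.Perm Cfsg.GolayPt) (hg : g ∈ Cfsg.Spor.M11) (hord : (orderOf g).Prime) :
    ∃ x : Cfsg.GolayPt, x ∉ Cfsg.Spor.squareDodecad ∧ g x = x := by
  refine full.forall (Q := fun g => (orderOf g).Prime → orderOf g ∣ 7920 → ∃ x, x ∉ Spor.squareDodecad ∧ g x = x)
    (pr := fun _ _ _ _ => false) (lf := fun f => bor (anyLt 24 fun i => band (Nat.beq (f i) i) (bn (bit 0x5335f i)))
      (H13.allL (fun k => anyLt 24 fun i => bn (Nat.beq (itr f k i) i)) [2, 3, 5, 11])) (fun _ _ _ _ _ _ c => by cases c)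
    (fun x f hf c h1 h2 => ?_) (by decide +kernel) g hg hord (card_M11 ▸ Subgroup.orderOf_dvd_natCard _ hg)
  simp only [bor_iff, anyLt_iff, band_iff, bn_iff, Nat.beq_eq, H13.allL_iff] at c
  rcases c with ⟨i, hi, a, b⟩ | c
  · exact ⟨pt i, by rwa [sqD_eq, pt_mem_toSet hi], (SP_fix hi).2 (hf i hi ▸ a)⟩
  · obtain ⟨i, hi, c⟩ := c (orderOf x) (by
      have := Nat.mem_primeFactors.2 ⟨h1, h2, by norm_num⟩
      rw [show Nat.primeFactors 7920 = {2, 3, 5, 11} by decide +kernel] at this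
      simpa using this)
    rw [itr_eq hf _ hi, pow_orderOf_eq_one, SP.ap_one hi] at c
    exact (c rfl).elim

end Cfsg.Agent.S5522
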