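import Mathlib
import Cfsg.Agent.H18.Prim
import Cfsg.Statements.S5726

set_option autoImplicit false
open Cfsg

namespace Cfsg.Agent.S5726

/-- If a finite group acts faithfully and transitively on a set with p^k elements, p a prime and k ≥ 1, then some element of order p fixes no point. -/
theorem result {G Ω : Type*} [Group G] [Finite G] [MulAction G Ω] [FaithfulSMul G Ω] [Fintype Ω] (htr : MulAction.IsPretransitive G Ω)
    (p k : ℕ) (hp : p.Prime) (hk : 1 ≤ k) (hΩ : Fintype.card Ω = p ^ k) :
    ∃ g : G, orderOf g = p ∧ ∀ ω : Ω, g • ω ≠ ω := by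
  haveI := Fact.mk hp
  obtain ⟨P⟩ : Nonempty (Sylow p G) := inferInstance
  have hP := H18.sylow_trans_of_prime_pow (G := G) (α := Ω) (p := p) (f := k) (by simpa using hΩ) P
  have h2 : 1 < Fintype.card Ω := by
    rw [hΩ]; exact Nat.one_lt_pow (by omega) hp.one_lt
  obtain ⟨a, b, hab⟩ := Fintype.exists_pair_of_one_lt_card h2
  haveI : Nontrivial (P : Subgroup G) := by
    obtain ⟨x, hx⟩ := hP.exists_smul_eq a b
    refine ⟨x, 1, fun h => hab ?_⟩
    rw [← hx, h, one_smul]
  haveI := IsPGroup.center_nontrivial P.isPGroup'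
  have hc : IsPGroup p (Subgroup.center (P : Subgroup G)) := P.isPGroup'.to_subgroup _
  have hdvd : p ∣ Nat.card (Subgroup.center (P : Subgroup G)) := by
    obtain ⟨n, hn0, hn⟩ := hc.nontrivial_iff_card.1 inferInstance
    rw [hn]; exact dvd_pow_self p (by omega)
  obtain ⟨z, hz⟩ := exists_prime_orderOf_dvd_card' p hdvd
  refine ⟨((z : (P : Subgroup G)) : G), by rw [Subgroup.orderOf_coe, Subgroup.orderOf_coe]; exact hz, fun ω hω => ?_⟩
  have h1 : ((z : (P : Subgroup G)) : G) = 1 := by
    apply eq_of_smul_eq_smul (α := Ω)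
    intro x
    obtain ⟨y, rfl⟩ := hP.exists_smul_eq ω x
    have hy := Subgroup.mem_center_iff.1 z.2 y
    have hy' : (y : G) * ((z : (P : Subgroup G)) : G) = ((z : (P : Subgroup G)) : G) * y := congrArg Subtype.val hy
    rw [one_smul, Subgroup.smul_def, smul_smul, ← hy', mul_smul, hω]
  have : z = 1 := Subtype.ext (Subtype.ext h1)
  rw [this, orderOf_one] at hz
  exact hp.one_lt.ne hz

end Cfsg.Agent.S5726
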