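import Mathlib
import Cfsg.Agent.S5726
import Cfsg.Statements.S5727

set_option autoImplicit false
open Cfsg

namespace Cfsg.Agent.S5727

/-- If a finite group acts faithfully and transitively on a set with m·p elements, where p is a prime and 1 ≤ m ≤ p, then some element of order p fixes no point. -/
theorem result {G Ω : Type*} [Group G] [Finite G] [MulAction G Ω] [FaithfulSMul G Ω] [Fintype Ω] (htr : MulAction.IsPretransitive G Ω)
    (p m : ℕ) (hp : p.Prime) (hm : 1 ≤ m) (hmp : m ≤ p) (hΩ : Fintype.card Ω = m * p) :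
    ∃ g : G, orderOf g = p ∧ ∀ ω : Ω, g • ω ≠ ω := by
  classical
  rcases hmp.eq_or_lt with rfl | hlt
  · exact Cfsg.Agent.S5726.result htr m 2 hp (by omega) (by rw [hΩ, sq])
  haveI := Fact.mk hp
  obtain ⟨P⟩ : Nonempty (Sylow p G) := inferInstance
  haveI : Fintype (P : Subgroup G) := Fintype.ofFinite _
  -- every point stabiliser in `P` has index `p`
  have hidx : ∀ ω : Ω, (MulAction.stabilizer (P : Subgroup G) ω).index = p := by
    intro ω
    have h1 : (MulAction.stabilizer G ω).index = m * p := by
      rw [MulAction.index_stabilizer_of_transitive, Nat.card_eq_fintype_card, hΩ]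
    have h2 : MulAction.stabilizer (P : Subgroup G) ω = (MulAction.stabilizer G ω).subgroupOf P := rfl
    have h3 : p ∣ (MulAction.stabilizer (P : Subgroup G) ω).index := by
      have h4 := Subgroup.relIndex_mul_index (H := MulAction.stabilizer G ω ⊓ P) (K := P) inf_le_right
      have h5 := Subgroup.index_dvd_of_le (H := MulAction.stabilizer G ω ⊓ P) (K := MulAction.stabilizer G ω) inf_le_left
      rw [← h4, h1, Subgroup.inf_relIndex_right] at h5
      exact ((Nat.Prime.dvd_mul hp).1 ((dvd_mul_left p m).trans h5)).resolve_right P.not_dvd_index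
    obtain ⟨k, hk⟩ := P.isPGroup'.index (MulAction.stabilizer (P : Subgroup G) ω)
    have h6 : (MulAction.stabilizer (P : Subgroup G) ω).index ≤ m * p := by
      rw [MulAction.index_stabilizer, ← hΩ, ← Nat.card_eq_fintype_card]
      exact Set.ncard_le_card _
    rw [hk] at h3 h6 ⊢
    have h7 : p ^ k < p ^ 2 := lt_of_le_of_lt h6 (by rw [sq]; exact Nat.mul_lt_mul_of_pos_right hlt hp.pos)
    have h8 : k < 2 := (Nat.pow_lt_pow_iff_right hp.one_lt).1 h7
    have h9 : k ≠ 0 := by
      rintro rfl
      exact hp.one_lt.ne' (Nat.dvd_one.1 h3)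
    have : k = 1 := by omega
    rw [this, pow_one]
  have hΩ0 : Nonempty Ω := Fintype.card_pos_iff.1 (by rw [hΩ]; exact Nat.mul_pos hm hp.pos)
  have hnorm : ∀ ω : Ω, (MulAction.stabilizer (P : Subgroup G) ω).Normal := by
    intro ω
    apply Subgroup.normal_of_index_eq_minFac_card
    obtain ⟨k, hk⟩ := P.isPGroup'.exists_card_eq
    have : k ≠ 0 := by
      rintro rfl
      have := Subgroup.index_dvd_card (MulAction.stabilizer (P : Subgroup G) ω)
      rw [hidx, hk] at this
      exact hp.one_lt.ne' (Nat.dvd_one.1 this)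
    rw [hidx, hk, hp.pow_minFac this]
  have hex : ∃ g : (P : Subgroup G), ∀ ω : Ω, g • ω ≠ ω := by
    by_contra hc
    push Not at hc
    have h1 : ∀ g : (P : Subgroup G), p ≤ (Finset.univ.filter fun ω : Ω => g • ω = ω).card := by
      intro g
      obtain ⟨ω, hω⟩ := hc g
      refine (hidx ω).symm.le.trans ?_
      rw [MulAction.index_stabilizer, ← Set.ncard_coe_finset]
      refine Set.ncard_le_ncard ?_ (Finset.finite_toSet _)
      rintro _ ⟨h, rfl⟩
      have := (hnorm ω).conj_mem' g hω h
      rw [MulAction.mem_stabilizer_iff, mul_smul, mul_smul, inv_smul_eq_iff] at this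
      simpa using this
    have h2 : ∀ ω : Ω, (Finset.univ.filter fun g : (P : Subgroup G) => g • ω = ω).card * p = Fintype.card (P : Subgroup G) := by
      intro ω
      have := (MulAction.stabilizer (P : Subgroup G) ω).card_mul_index
      rw [hidx, Nat.card_eq_fintype_card, Nat.card_eq_fintype_card, Fintype.card_subtype] at this
      convert this using 3
      ext x; simp
    have h3 : ∑ g : (P : Subgroup G), (Finset.univ.filter fun ω : Ω => g • ω = ω).card =
        ∑ ω : Ω, (Finset.univ.filter fun g : (P : Subgroup G) => g • ω = ω).card := by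
      simp only [Finset.card_filter]
      exact Finset.sum_comm
    have h4 : Fintype.card (P : Subgroup G) * p ≤ ∑ g : (P : Subgroup G), (Finset.univ.filter fun ω : Ω => g • ω = ω).card := by
      have := Finset.sum_le_sum fun g (_ : g ∈ Finset.univ) => h1 g
      simpa using this
    have h5 : (∑ ω : Ω, (Finset.univ.filter fun g : (P : Subgroup G) => g • ω = ω).card) * p = m * p * Fintype.card (P : Subgroup G) := by
      rw [Finset.sum_mul]
      simp only [h2]
      simp [hΩ]
    rw [h3] at h4
    have h6 := Nat.mul_le_mul_right p h4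
    rw [h5] at h6
    have h7 : 0 < Fintype.card (P : Subgroup G) := Fintype.card_pos
    have h8 : m * (p * Fintype.card (P : Subgroup G)) < p * (p * Fintype.card (P : Subgroup G)) :=
      Nat.mul_lt_mul_of_pos_right hlt (Nat.mul_pos hp.pos h7)
    nlinarith
  obtain ⟨g, hg⟩ := hex
  refine ⟨g, ?_, hg⟩
  rw [Subgroup.orderOf_coe]
  apply orderOf_eq_prime
  · apply Subtype.ext
    apply eq_of_smul_eq_smul (α := Ω)
    intro ω
    haveI := hnorm ω
    have := (MulAction.stabilizer (P : Subgroup G) ω).pow_index_mem g
    rw [hidx] at this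
    rw [OneMemClass.coe_one, one_smul]
    exact this
  · rintro rfl
    obtain ⟨ω⟩ := hΩ0
    exact hg ω (one_smul _ _)

end Cfsg.Agent.S5727
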