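import Mathlib
import Cfsg.Statements.S5728

set_option autoImplicit false
open Cfsg

namespace Cfsg.Agent.S5728

/-- An elusive transitive action. Let p = 2^s − 1 be a prime and let F be the field with p² elements. Inside the group of affine maps x ↦ a·x + b of F (a ≠ 0), consider the subgroup of maps with both coefficients in the prime field. Then every element of prime order of the affine group is conjugate, within the affine group, to an element of that subgroup; equivalently, in the transitive action of the affine group on the cosets of that subgroup (of degree p(p + 1)) every element of prime order fixes a point. -/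
theorem result (p s : ℕ) [Fact p.Prime] (hs : p = 2 ^ s - 1)
    (g : Equiv.Perm (GaloisField p 2)) (hg : g ∈ Cfsg.affineGroup (GaloisField p 2)) (hord : (orderOf g).Prime) :
    ∃ x ∈ Cfsg.affineGroup (GaloisField p 2), ∃ a b : ZMod p, a ≠ 0 ∧
      ∀ y : GaloisField p 2, (x * g * x⁻¹) y = algebraMap (ZMod p) (GaloisField p 2) a * y + algebraMap (ZMod p) (GaloisField p 2) b := by
  have hp : p.Prime := Fact.out
  obtain ⟨a, b, hab⟩ := hg
  have hg1 : g ≠ 1 := by rintro rfl; simp at hord; exact Nat.not_prime_one hord
  by_cases ha : (a : GaloisField p 2) = 1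
  · have hb : b ≠ 0 := by
      rintro rfl
      exact hg1 (Equiv.ext fun x => by simp [hab, ha])
    refine ⟨Equiv.mulLeft₀ b⁻¹ (inv_ne_zero hb), ⟨Units.mk0 _ (inv_ne_zero hb), 0, fun x => by simp⟩, 1, 1, one_ne_zero, fun y => ?_⟩
    rw [Equiv.Perm.mul_apply, Equiv.Perm.mul_apply, hab, ha]
    simp [Equiv.Perm.inv_def]
    field_simp
  · have ha' : (1 : GaloisField p 2) - a ≠ 0 := sub_ne_zero.2 (Ne.symm ha)
    let c := b / (1 - a)
    have hc : (a : GaloisField p 2) * c + b = c := by simp only [c]; field_simp; ring
    have h1 : ∀ k : ℕ, ∀ y, (g ^ k) (y + c) = (a : GaloisField p 2) ^ k * y + c := by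
      intro k
      induction k with
      | zero => simp
      | succ k ih =>
        intro y
        rw [pow_succ', Equiv.Perm.mul_apply, ih, hab]
        linear_combination hc
    have h2 : (a : GaloisField p 2) ^ orderOf g = 1 := by
      have := h1 (orderOf g) 1
      rw [pow_orderOf_eq_one] at this
      simpa using this.symm
    have h3 : orderOf (a : GaloisField p 2) = orderOf g := by
      haveI := Fact.mk hord
      exact orderOf_eq_prime h2 ha
    have h4 : orderOf g ∣ p ^ 2 - 1 := by
      rw [← h3, orderOf_units, ← GaloisField.card p 2 (by omega), ← Nat.card_units]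
      exact orderOf_dvd_natCard a
    have hs0 : 2 ≤ s := by
      by_contra h
      have : s = 0 ∨ s = 1 := by omega
      have := hp.two_le
      rcases ‹s = 0 ∨ s = 1› with rfl | rfl <;> omega
    have h5 : orderOf g ∣ p - 1 := by
      have h6 : p ^ 2 - 1 = (p + 1) * (p - 1) := by simpa using Nat.sq_sub_sq p 1
      rw [h6] at h4
      refine ((Nat.Prime.dvd_mul hord).1 h4).elim (fun h => ?_) id
      have h7 : p + 1 = 2 ^ s := by have := Nat.one_le_two_pow (n := s); omega
      rw [h7] at h
      rw [(Nat.prime_dvd_prime_iff_eq hord Nat.prime_two).1 (hord.dvd_of_dvd_pow h)]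
      obtain ⟨t, rfl⟩ : ∃ t, s = t + 1 := ⟨s - 1, by omega⟩
      rw [pow_succ] at h7
      omega
    have h6 : (a : GaloisField p 2) ^ p = a := by
      have := orderOf_dvd_iff_pow_eq_one.1 (h3 ▸ h5)
      calc (a : GaloisField p 2) ^ p = a ^ (p - 1 + 1) := by rw [Nat.sub_add_cancel hp.one_le]
        _ = a := by rw [pow_succ, this, one_mul]
    obtain ⟨a', ha''⟩ : ∃ a' : ZMod p, algebraMap (ZMod p) (GaloisField p 2) a' = a := by
      have := (Subfield.mem_bot_iff_pow_eq_self (GaloisField p 2) p).2 h6
      obtain ⟨n, hn⟩ := (mem_bot_iff_intCast p _).1 this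
      exact ⟨n, by simpa using hn⟩
    refine ⟨Equiv.subRight c, ⟨1, -c, fun x => by simp [sub_eq_add_neg]⟩, a', 0, ?_, fun y => ?_⟩
    · rintro rfl
      exact a.ne_zero (by simpa using ha''.symm)
    · have := h1 1 y
      rw [pow_one, pow_one] at this
      rw [Equiv.Perm.mul_apply, Equiv.Perm.mul_apply, ha'']
      simp [Equiv.Perm.inv_def, this]

end Cfsg.Agent.S5728
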