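import Mathlib
import Cfsg.Agent.H20.SzF
import Cfsg.Agent.H20.SzC
import Cfsg.Agent.H12.Sz3
import Cfsg.Agent.H12.Sz7
import Cfsg.Agent.H17.Bin3
-- Template for statement S5737 (row 5737; see /opt/grader/pristine/manifest.json for weights).
-- Copy to Cfsg/Agent/S5737.lean and replace the sorry. The statement below is byte-identical to the frozen
-- statement Cfsg.CfsgFrozen.S5737 (Cfsg/Statements/S5737.lean; the theorem Cfsg.cmax4_binary_coset_actions_of_suzuki_group);
-- the grader kernel-checks Cfsg.Agent.S5737.result against that frozen type. Keep the theorem IN THIS FILE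
-- (a `result` declared elsewhere and merely imported here is not credited); helpers may live anywhere
-- under Cfsg/Agent/.
import Cfsg.Statements.S5737
-- import your own Cfsg.Agent.* helpers here

set_option autoImplicit false
open Cfsg

open H05 H12.Sz H12.CC H20.CCX H17.Bin Classical

namespace Cfsg.Agent.S5737

theorem comm_of_tri {Γ : Type*} [Group Γ] [Finite Γ] {K A : Subgroup Γ} (hT : Tri K) (hA : AbCC A) (hK : K ≤ A) {x a b : Γ}
    (hx : x ∈ K) (ha : IsConj x a) (hb : IsConj x b) (hc : IsConj x (a * b)) : a * b = b * a := by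
  have k : ∀ {y}, IsConj x y → ∃ u, y ∈ cn u K := fun h => by
    obtain ⟨u, rfl⟩ := isConj_iff.1 h
    exact ⟨u, mem_cn.2 (by simpa [mul_assoc] using hx)⟩
  have l : ∀ {u y}, y ∈ cn u K → y ∈ cj u A := fun h => mem_cj.2 (hK (mem_cn.1 h))
  obtain ⟨u, hu⟩ := k ha
  obtain ⟨v, hv⟩ := k hb
  obtain ⟨w, hw⟩ := k hc
  obtain ⟨g, g1, g2, g3⟩ := hT _ _ _ (fam_self.cn u) (fam_self.cn v) (fam_self.cn w) a⁻¹ (inv_mem hu) b hv (by simpa using hw)
  by_cases g0 : g = 1
  · rw [g0, inv_one, one_mul, inv_mem_iff] at g3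
    exact mul_left_cancel (((hA.cj w).comm (l g3) (l hw)).trans (mul_assoc _ _ _))
  · exact (hA.cj v).comm (((hA.cj u).cent g (l g1) g0).symm.trans ((hA.cj v).cent g (l g2) g0) ▸ l hu) (l hv)

theorem odd_bot {F : Type*} [Field F] [Fintype F] {m : ℕ} [hS : SzF F m] {K : Subgroup (G F m)} (hT : Tri K)
    (ho : Odd (Nat.card K)) : K = ⊥ := by
  by_contra h0
  obtain ⟨A, hA, hK⟩ := odd_sub h0 ho
  obtain ⟨⟨x, hx⟩, x1⟩ := Subgroup.ne_bot_iff_exists_ne_one.1 h0
  have x1' : x ≠ 1 := fun e => x1 (Subtype.ext e)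
  obtain ⟨j, A₁, A₂, hj, hq, t1, t2, hs, D⟩ := exists_szD (F := F)
  obtain ⟨W₁, W₂, X, P₁, P₂, T⟩ := D.exists_tab
  have E : Tw j (st F m) (uu 0 1) (uu 1 0) (Z F m) :=
    ⟨by simp [uu_pow_two], uu_pow_four _ _, by simp [uu_eq_one], hq ▸ card_cent_invol, hq ▸ card_cent_four one_ne_zero,
      not_conj_inv one_ne_zero, st_U (uu_mem_U _ _) (by simp [uu_eq_one]), st_U (uu_mem_U _ _) (by simp [uu_eq_one]),
      hq ▸ card_Z, fun z hz z1 => (isConj_iff.2 (invol_conj z1 (sq_of_mem_Z hz))).symm⟩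
  have R : ∀ y ∈ A₂, IsConj y y⁻¹ := fun y hy => by
    obtain ⟨s, h1, h2, h3⟩ := t2.oddPart.exists_invol
    exact isConj_iff.2 ⟨s, by rw [← t2.oddPart.inverts h1 h2 h3 hy, inv_eq_of_mul_eq_one_left h2]⟩
  obtain ⟨y, hy⟩ : ∃ y, y * x * y⁻¹ ∈ H F m ∨ y * x * y⁻¹ ∈ A₁ ∨ y * x * y⁻¹ ∈ A₂ := by
    rcases elt_cases x with ⟨y, h⟩ | ⟨y, k, hk, h⟩ | h
    · exact absurd h (hA.not_conj_U (hK hx) x1' y)
    · exact ⟨y, .inl (h ▸ hh_mem_H k)⟩
    · rcases (hs ▸ h : x ∈ supp ⊤ A₁ ∪ supp ⊤ A₂) with ⟨-, y, -, h⟩ | ⟨-, y, -, h⟩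
      exacts [⟨y, .inr (.inl h)⟩, ⟨y, .inr (.inr h)⟩]
  obtain ⟨a, b, ha, hb, e, hn⟩ := E.noncomm D T R (by simpa using x1') hy
  have c : IsConj x (y * x * y⁻¹) := isConj_iff.2 ⟨y, rfl⟩
  exact hn (comm_of_tri hT hA.abCC hK hx (c.trans ha) (c.trans hb) (e ▸ c))

theorem three_dvd (F : Type*) [Field F] [Finite F] : 3 ∣ Nat.card (Matrix.SpecialLinearGroup (Fin 2) F) := by
  have := Fact.mk Nat.prime_three
  let s : Matrix.SpecialLinearGroup (Fin 2) F := ⟨!![0, -1; 1, -1], by simp [Matrix.det_fin_two]⟩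
  rw [← orderOf_eq_prime (x := s) (p := 3) ?_ fun e => by simpa [s] using congrArg (fun g => g.1 0 0) e]
  · exact orderOf_dvd_natCard s
  · refine Subtype.ext ?_
    rw [pow_three, Matrix.SpecialLinearGroup.coe_mul, Matrix.SpecialLinearGroup.coe_mul]
    simp [s, Matrix.one_fin_two]

/-- Let G = Sz(q) be a Suzuki group, q = 2^(2a+1) with a ≥ 1 (realised inside Sp₄ over the field with q elements), and let H be a proper subgroup of G. Then the action of G on the cosets of H is binary if and only if H is trivial or H is the centre of a Sylow 2-subgroup of G. Here an action is binary (relational complexity 2) when, for every n ≥ 2 and all n-tuples I, J of points, if for every pair of positions some group element carries the corresponding pair of entries of I to those of J, then a single group element carries I to J. -/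
theorem result {F : Type*} [Field F] [Fintype F] (a : ℕ) (ha : 1 ≤ a) (hF : Fintype.card F = 2 ^ (2 * a + 1))
    (H : Subgroup (Cfsg.Lie.Sz F (2 ^ (a + 1)))) (hH : H ≠ ⊤) :
    (∀ (n : ℕ) (I J : Fin n → (Cfsg.Lie.Sz F (2 ^ (a + 1))) ⧸ H), 2 ≤ n →
        (∀ i j : Fin n, i ≠ j → ∃ g : (Cfsg.Lie.Sz F (2 ^ (a + 1))), g • I i = J i ∧ g • I j = J j) → ∃ g : (Cfsg.Lie.Sz F (2 ^ (a + 1))), ∀ i, g • I i = J i) ↔
      (H = ⊥ ∨ ∃ P : Sylow 2 (Cfsg.Lie.Sz F (2 ^ (a + 1))), H = (Subgroup.center (P : Subgroup (Cfsg.Lie.Sz F (2 ^ (a + 1))))).map (P : Subgroup (Cfsg.Lie.Sz F (2 ^ (a + 1)))).subtype) := by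
  have hS : SzF F a := ⟨ha, hF⟩
  let e := lieEquiv (F := F)
  have := e.symm.isSimpleGroup
  have : Finite (Cfsg.Lie.Sz F (2 ^ (a + 1))) := .of_equiv _ e.toEquiv
  constructor
  · intro h
    rcases Nat.even_or_odd (Nat.card H) with he | ho
    · have k : ∀ s, orderOf s = 2 → IsConj s (e (uu 0 1)) := fun s hs => by
        have h1 : orderOf (e.symm s) = 2 := (e.symm.orderOf_eq s).trans hs
        obtain ⟨g, hg⟩ := invol_conj (x := e.symm s) (fun h => by simp [h] at h1) (orderOf_dvd_iff_pow_eq_one.1 h1.dvd)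
        exact isConj_iff.2 ⟨e g, by simpa using congrArg e hg⟩
      rcases (H17.Bin.main (fun s t hs ht => (k s hs).trans (k t ht).symm) H hH he).1 h with
        ⟨⟨F', _, _, n, -, -, ⟨e'⟩⟩, -⟩ | ⟨-, h⟩ | ⟨-, h⟩
      · exact absurd (Nat.card_congr (e.trans e').toEquiv ▸ three_dvd F') not_three_dvd
      exacts [.inr h, .inr h]
    · have h1 := odd_bot ((bin_comap (φ := e.toMonoidHom) e.surjective).2 h).tri
        (Nat.card_congr (e.subgroupMap _).toEquiv ▸ by erw [Subgroup.map_comap_eq_self_of_surjective e.surjective]; exact ho)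
      exact .inl (by rw [← Subgroup.map_comap_eq_self_of_surjective (f := e.toMonoidHom) e.surjective H, h1, Subgroup.map_bot])
  · rintro (rfl | ⟨S, rfl⟩)
    · exact bin_of_invol (fun x hx => by rw [Subgroup.mem_bot.1 hx, one_mul]) fun x hx x1 => absurd (Subgroup.mem_bot.1 hx) x1
    · obtain ⟨B, w, α, h1⟩ := exB dat_sz e.symm S
      exact h1.binB

end Cfsg.Agent.S5737
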