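import Cfsg.Statements.S5743
import Cfsg.Agent.H11.TwOut
import Cfsg.Agent.H11.FixG
import Cfsg.Agent.H12.SubF
import Cfsg.Agent.S2122
-- import your own Cfsg.Agent.* helpers here

set_option autoImplicit false
open Cfsg

namespace Cfsg.Agent.S5743
open H11 Cfsg.Lie

open H11.StSys

section
variable {D : ChevalleyDatum} [Good D] [Cert D] {K G : Type*} [Field K] [Group G]

theorem coord {S : StSys D K G} {τ : G →* G} {χ : Root D → K} (h : ∀ r t, τ (S.x r t) = S.x r (χ r * t)) {i : Node D} {u v : G}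
    (hu : u ∈ S.U) (hv : v ∈ S.UJ {i}) (e : u * τ (S.x (sroot i) 1 * v) * u⁻¹ = S.x (sroot i) 1 * v) : χ (sroot i) = 1 := by
  obtain ⟨w, hw, t, rfl⟩ := exists_mul_x_of_mem_U i hu
  have h1 : τ v ∈ S.UJ {i} := (US_le (M := (S.UJ {i}).comap τ)).2 (fun r hr t => by
    rw [Subgroup.mem_comap, h]; exact x_mem_US hr _) hv
  have h2 (s) {z} (hz : z ∈ S.UJ {i}) : S.x (sroot i) s * z * (S.x (sroot i) s)⁻¹ ∈ S.UJ {i} :=
    (Subgroup.mem_normalizer_iff.1 (x_mem_normalizer_UJ (Or.inr (inJ_sroot.2 (Set.mem_singleton i))) s) z).1 hz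
  by_contra hn
  refine H12.Lev.x_nmem (S := S) i (sub_ne_zero.2 hn) ?_
  have h3 : S.x (sroot i) t * S.x (sroot i) (χ (sroot i)) = S.x (sroot i) 1 * S.x (sroot i) (χ (sroot i) - 1) * S.x (sroot i) t := by
    simp only [S.add]; congr 1; ring
  rw [map_mul, h, mul_one, mul_assoc w, ← mul_assoc (S.x _ t), h3] at e
  have h4 := mul_mem (mul_mem (mul_mem (h2 (-1) (inv_mem hw)) hv) hw) (inv_mem (h2 t h1))
  rw [← S.x_inv, inv_inv, mul_assoc _ (S.x _ 1), ← e] at h4
  simpa [mul_assoc] using h4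

theorem fixd {c : Node D → Kˣ} {g : D.group K} (h : ∀ i, ∃ v ∈ (grpSys D K).UJ {i},
    (diagAut D K c * MulAut.conj g) ((grpSys D K).x (sroot i) 1 * v) = (grpSys D K).x (sroot i) 1 * v) : ∃ d, mact (cartanM D) d * c = 1 := by
  have h0 (c) {u} (hu : u ∈ (grpSys D K).U) : diagAut D K c u ∈ (grpSys D K).U := (simpAct_diag c).map_le.1 ⟨u, hu, rfl⟩
  have hB : g ∈ (grpSys D K).B := H12.Lev.mem_B' (grpSys_grp D K) fun i => by
    obtain ⟨v, hv, e⟩ := h i
    have h1 := mul_mem (x_mem_U (S := grpSys D K) (isPos_sroot i) 1) (UJ_le_U _ hv)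
    refine ⟨_, h1, fun a => H12.Lev.x_nmem i one_ne_zero ((Subgroup.mul_mem_cancel_right _ hv).1 a), U_le_B ?_⟩
    have h2 := h0 c⁻¹ h1
    rwa [← e, map_inv, ← MulAut.mul_apply, inv_mul_cancel_left, MulAut.conj_apply] at h2
  obtain ⟨u, hu, y, hy, rfl⟩ := exists_mul_of_mem_B hB
  obtain ⟨d, rfl⟩ := (torS_range hMul_grp).ge hy
  refine ⟨d, funext fun i => Units.ext ?_⟩
  obtain ⟨v, hv, e⟩ := h i
  have := coord (S := grpSys D K) (τ := (diagAut D K c * MulAut.conj (torS hMul_grp d)).toMonoidHom) (χ := fun r => chiS c r * chiOf d r)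
    (fun r t => by
      change diagAut D K c (_ * _ * _) = _
      rw [torS_conj, diagAut_x, mul_assoc]) (h0 c hu) hv (by
      refine Eq.trans ?_ e
      simp only [MulEquiv.coe_toMonoidHom, MulAut.mul_apply, MulAut.conj_apply, map_mul, map_inv, mul_inv_rev, mul_assoc,
        inv_mul_cancel_left, mul_inv_cancel_left])
  rw [chiS_sroot, mul_comm] at this
  exact this

theorem sq_inner (h : Nat.card (Out G) = Nat.gcd 2 2 * 1) (α : MulAut G) : ∃ z, ∀ x, α (α x) = z * x * z⁻¹ := by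
  have := pow_card_eq_one' (x := (α : Out G))
  rw [h, ← QuotientGroup.mk_pow, QuotientGroup.eq_one_iff] at this
  obtain ⟨z, hz⟩ := this
  exact ⟨z, fun x => (DFunLike.congr_fun hz x).symm⟩

/-- diagonal times inner automorphisms -/
def Pr (c : Node D → Kˣ) (A : MulAut (D.group K)) : Prop := ∃ g, A = diagAut D K c * MulAut.conj g

omit [Cert D] in
theorem Pr.mul {c d : Node D → Kˣ} {A B} (h : Pr c A) (h' : Pr d B) : Pr (c * d) (A * B) := by
  obtain ⟨g, rfl⟩ := h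
  obtain ⟨g', rfl⟩ := h'
  exact ⟨(diagAut D K d)⁻¹ g * g', by ext1 x; simp [mul_assoc]⟩

end

/-- the invariant of diagonal automorphisms -/
def lam {M : Type*} [CommGroup M] : (Node chevE6 → M) →* M :=
  MonoidHom.mk' (fun c => c (nd _ 0) * c (nd _ 2) ^ 2 * c (nd _ 4) * c (nd _ 5) ^ 2) fun a b => by simp only [Pi.mul_apply, mul_pow]; ac_rfl

theorem lam_cartan {M : Type*} [CommGroup M] (h : ∀ a : M, a ^ 3 = 1) (d : Node chevE6 → M) : lam (mact (cartanM chevE6) d) = 1 := by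
  have e : lam (mact (cartanM chevE6) d) = ∏ i, d i ^ (cartanM chevE6 i (nd _ 0) + cartanM chevE6 i (nd _ 2) * (2 : ℕ) +
      cartanM chevE6 i (nd _ 4) + cartanM chevE6 i (nd _ 5) * (2 : ℕ)) := by
    simp only [zpow_add, zpow_mul, zpow_natCast, Finset.prod_mul_distrib, Finset.prod_pow]; rfl
  rw [e]
  refine Finset.prod_eq_one fun i _ => ?_
  obtain ⟨k, hk⟩ : (3 : ℤ) ∣ cartanM chevE6 i (nd _ 0) + cartanM chevE6 i (nd _ 2) * (2 : ℕ) + cartanM chevE6 i (nd _ 4) +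
    cartanM chevE6 i (nd _ 5) * (2 : ℕ) := by revert i; decide +kernel
  rw [hk, zpow_mul, zpow_ofNat, h, one_zpow]

theorem eq_of_ringHom_cast {K : Type*} [Field K] [CharP K 2] (θ : K ≃+* K) (t : ZMod 2) : θ t.cast = t.cast := by
  obtain ⟨n, rfl⟩ := ZMod.natCast_zmod_surjective t
  simp

theorem nodes : ∀ i : Node chevE6, ∃ r : Root chevF4, ∃ s : Root chevE6, IsPos s ∧ s ≠ sroot i ∧ (fdF4 r = [(chevE6.simple i, 1, 1)] ∨
    fdF4 r = [(chevE6.simple i, 1, 1), (s.1, 1, 1)] ∨ fdF4 r = [(s.1, 1, 1), (chevE6.simple i, 1, 1)] ∧ Sw chevE6 (chevE6.simple i) s) := by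
  decide +kernel

/-- The simple group ²E₆(2) (the twisted group of type E₆ over the field with 4 elements) contains at least three pairwise non-conjugate subgroups isomorphic to the Chevalley group F₄(2). -/
theorem result {K : Type*} [Field K] [Fintype K] (hK : Fintype.card K = 4) :
    ∃ H : Fin 3 → Subgroup (Cfsg.Lie.twistedE6 K 2),
      (∀ i, Nonempty ((H i) ≃* Cfsg.Lie.chevF4.group (ZMod 2))) ∧
      (∀ i j, i ≠ j → ∀ g : (Cfsg.Lie.twistedE6 K 2), (H i).map (MulAut.conj g).toMonoidHom ≠ H j) := by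
  obtain ⟨θ, F⟩ := exists_frF (q := 2) Nat.prime_two.isPrimePow two_ne_zero hK
  obtain ⟨γ, hγ⟩ := exists_isTw_E6 (RingEquiv.refl K)
  have h := isTw_mul hγ θ
  obtain ⟨j, hj, hr⟩ : ∃ j : twistedE6 K 2 →* chevE6.group K, Function.Injective j ∧ j.range = fixS (γ * fieldAut chevE6 K θ) :=
    ⟨_, Subgroup.inclusion_injective _, (inclusion_range_gen _).trans (TE6.eq_fix F h (grpSys_θ_injective _ _) (grpSys_grp _ _))⟩
  obtain ⟨φ, h1, h2, h3⟩ := foldE6 hγ (grpSys_grp _ _) (grpSys_θ_injective _ _)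
  have : CharP K 2 := charP_of_card_eq_prime_pow (f := 2) hK
  let ψ := φ.comp (fieldHom chevF4 (ZMod.castHom (dvd_refl 2) K))
  have h4 : (fieldAut chevE6 K θ).toMonoidHom.comp ψ = ψ := StSys.hom_ext (grpSys_grp _ _) fun r t => by
    simp only [ψ, MonoidHom.comp_apply, fieldHom_x, h3]
    refine mem_fixS.1 (Subgroup.list_prod_mem _ fun g hg => ?_)
    simp only [appW, List.map_map, List.mem_map] at hg
    obtain ⟨e, -, rfl⟩ := hg
    simp only [Function.comp, xNat]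
    split_ifs
    · simp [mem_fixS, show θ t.cast = t.cast from eq_of_ringHom_cast θ t]
    · exact one_mem _
  choose a ha using fun x => hr.ge (x := ψ x) (by
    rw [mem_fixS, MulAut.mul_apply, show fieldAut chevE6 K θ (ψ x) = ψ x from DFunLike.congr_fun h4 x]; exact h2.le ⟨_, rfl⟩)
  have hψ : Function.Injective ψ := h1.comp (fieldHom_injective _)
  let ψ' := MonoidHom.mk' a fun x y => hj (by simp only [map_mul, ha])
  have hψ' : Function.Injective ψ' := fun x y e => hψ (by rw [← ha, ← ha]; exact congrArg j e)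
  have h5 : Nat.card Kˣ = 3 := by rw [Nat.card_units, Nat.card_eq_fintype_card, hK]
  obtain ⟨ω, hω⟩ := exists_prime_orderOf_dvd_card' (G := Kˣ) 3 h5.symm.dvd
  have h6 (a : Kˣ) : a ^ 3 = 1 := h5 ▸ pow_card_eq_one'
  let c : Node chevE6 → Kˣ := fun i => ω ^ [1, 0, 0, 0, 0, 2].getD i 0
  obtain ⟨δ, -, hδ⟩ := Lx.exists_Rs (h := TE6.simpAct h) hj hr (c := c) (fun i => by
    rw [F.eq, ← Units.val_pow_eq_pow_val, ← pow_mul, Units.val_inj, pow_eq_pow_iff_modEq, hω]; revert i; decide) 1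
  have h7 (n : ℕ) (g) : j ((δ ^ n) g) = diagAut chevE6 K (c ^ n) (j g) := by
    induction n with
    | zero => simp
    | succ n ih => rw [pow_succ', pow_succ', MulAut.mul_apply, hδ, ih, map_mul]; simp
  refine ⟨fun i => ((δ ^ i.1).toMonoidHom.comp ψ').range, fun i => ⟨(MonoidHom.ofInjective ((δ ^ i.1).injective.comp hψ')).symm⟩,
    fun i k hik g e => ?_⟩
  choose b hb using fun x => e.le ⟨_, ⟨x, rfl⟩, rfl⟩
  let A := diagAut chevE6 K (c ^ k.1)⁻¹ * MulAut.conj (j g) * diagAut chevE6 K (c ^ i.1)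
  have h8 (x) : ψ (b x) = A (ψ x) := by
    have := congrArg j (hb x)
    change j ((δ ^ k.1) (a (b x))) = j (g * (δ ^ i.1) (a x) * g⁻¹) at this
    simp only [map_mul, map_inv, h7, ha] at this
    simp only [A, map_inv, MulAut.mul_apply, MulAut.inv_apply, MulEquiv.eq_symm_apply, MulAut.conj_apply]
    exact this
  have := finite_of_gen (grpSys_grp chevF4 (ZMod 2))
  have h9 : Function.Injective b := fun x y e => hψ (A.injective (by rw [← h8, e, h8]))
  obtain ⟨z, hz⟩ := sq_inner (S2122.result (F := ZMod 2) 2 1 (by simp)) (.ofBijective (MonoidHom.mk' b fun x y => hψ (by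
    rw [map_mul, h8, h8, h8, map_mul, map_mul])) ⟨h9, Finite.injective_iff_surjective.1 h9⟩)
  have hA : Pr ((c ^ k.1)⁻¹ * c ^ i.1) A := Pr.mul ⟨_, rfl⟩ ⟨1, by simp⟩
  obtain ⟨g', hg⟩ := Pr.mul (c := 1) (A := MulAut.conj (ψ z)⁻¹) ⟨_, by rw [map_one, one_mul]⟩ (hA.mul hA)
  have h10 (x) : (MulAut.conj (ψ z)⁻¹ * (A * A)) (ψ x) = ψ x := by
    rw [MulAut.mul_apply, MulAut.mul_apply, ← h8, ← h8, show b (b x) = z * x * z⁻¹ from hz x]; simp [mul_assoc]
  obtain ⟨d, hd⟩ := fixd (g := g') fun i => by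
    rw [← hg]
    obtain ⟨r, s, a1, a2, a3⟩ := nodes i
    have a4 := h10 ((grpSys chevF4 _).x r 1)
    have a5 : (grpSys chevE6 K).x s 1 ∈ (grpSys chevE6 K).UJ {i} := by rw [UJ_single]; exact x_mem_US (And.intro a1 a2 :) _
    rw [show ψ ((grpSys chevF4 _).x r 1) = wordG (grpSys chevE6 K).x (appW (fdF4 r) 1) by simp [ψ, h3]] at a4
    obtain a3 | a3 | ⟨a3, a6⟩ := a3
    · exact ⟨1, one_mem _, by simpa [a3, appW, ← sroot_val] using a4⟩
    · exact ⟨_, a5, by simpa [a3, appW, ← sroot_val] using a4⟩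
    · refine ⟨_, a5, ?_⟩
      have := (grpSys chevE6 K).rel.swap a6 1 1
      rw [← sroot_val, xNat_val, xNat_val] at this
      rw [← this]
      simpa [a3, appW, ← sroot_val] using a4
  have h11 := congrArg lam hd
  have h12 : lam c = ω ^ 5 := show ω ^ 1 * (ω ^ 0) ^ 2 * ω ^ 0 * (ω ^ 2) ^ 2 = ω ^ 5 by group
  simp only [map_mul, map_inv, map_pow, lam_cartan h6, map_one, one_mul, h12, ← sq, mul_pow, inv_pow, inv_mul_eq_one, ← pow_mul,
    pow_eq_pow_iff_modEq, hω, Nat.ModEq] at h11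
  omega

end Cfsg.Agent.S5743
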