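import Mathlib
import Cfsg.Statements.S5748
import Cfsg.Agent.H08.Simp
import Cfsg.Agent.S2202

set_option autoImplicit false
open Cfsg

namespace Cfsg.Agent.S5748

open Subgroup H08

/-- A finite non-abelian simple group in which commuting is a transitive relation on the non-identity elements (equivalently, every non-identity element has abelian centraliser) is isomorphic to PSL₂ over a field with 2^f elements for some f ≥ 2; conversely these groups have that property. -/
theorem result {G : Type*} [Group G] [Finite G] [IsSimpleGroup G] (hG : ¬ IsMulCommutative G) :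
    (∀ a b c : G, a ≠ 1 → b ≠ 1 → c ≠ 1 → Commute a b → Commute b c → Commute a c) ↔
    ∃ (F : Type) (_ : Field F) (_ : Fintype F) (f : ℕ), 2 ≤ f ∧ Fintype.card F = 2 ^ f ∧ Nonempty (G ≃* Matrix.ProjectiveSpecialLinearGroup (Fin 2) F) := by
  have h4 := NA.four_dvd hG
  refine ⟨fun h => ?_, fun ⟨F, _, _, f, hf, hF, ⟨e⟩⟩ a b c _ hb _ h1 h2 => e.injective (by
    simpa using (psl_ct (by rw [hF]; exact (Nat.even_pow.2 ⟨even_two, by omega⟩)) (by simpa using hb)
      (h1.map e) (h2.map e)).eq)⟩
  obtain ⟨P⟩ : Nonempty (Sylow 2 G) := inferInstance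
  have he : Even (Nat.card G) := even_iff_two_dvd.2 (Dvd.dvd.trans (by norm_num) h4)
  rcases S2202.result he (fun t ht => ⟨⟨fun a c => Subtype.ext (by
      by_cases ha : a.1 = 1
      · simp [ha]
      by_cases hc : c.1 = 1
      · simp [hc]
      exact h a t c ha (ne_one_of_orderOf ht) hc (mem_centralizer_singleton_iff.1 a.2)
        (mem_centralizer_singleton_iff.1 c.2).symm)⟩⟩) with h1 | h1 | ⟨F, _, _, A, _, _, _, hA, ⟨e⟩⟩
  · obtain ⟨H, hH⟩ := exists_index_two_of_cyclic_sylow he P (h1 P)
    exact absurd hH (NA.idx hG H)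
  · have := h1 P
    exact absurd (NA.pg_bot hG _ P.2) (P.ne_bot_of_dvd_card he.two_dvd)
  obtain ⟨n, -, hn⟩ := FiniteField.card F 2
  have : Subsingleton A := subsingleton_of_forall_eq 1 fun a => by
    have : e.symm (1, a) ∈ center G := mem_center_iff.2 fun g => e.injective (by simp [Prod.ext_iff, mul_comm])
    rw [NA.center_bot hG, mem_bot] at this
    simpa [Prod.ext_iff] using this
  have : Unique A := ⟨⟨1⟩, fun _ => Subsingleton.elim _ _⟩
  obtain ⟨f⟩ := H19.nonempty_sl_equiv_psl_of_even (F := F) (by rw [hn]; exact Nat.even_pow.2 ⟨even_two, n.ne_zero⟩)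
  have g := (e.trans MulEquiv.prodUnique).trans f
  refine ⟨F, _, _, n, by_contra fun h2 => NA.not_sol hG ?_, hn, ⟨g⟩⟩
  have := L.Dk.isSolvable_psl_small (F := F) (by rw [hn, show (n : ℕ) = 1 by have := n.pos; omega]; norm_num)
  exact Group.isSolvable_of_isSolvable_injective (f := g.toMonoidHom) g.injective

end Cfsg.Agent.S5748
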