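import Mathlib
import Cfsg.Statements.S5904

set_option autoImplicit false
open scoped Pointwise
open Cfsg

namespace Cfsg.Agent.S5904

/-- Let Ω be a finite set with more than two elements and O ⊆ Ω a subset with exactly as many elements as its complement. Then the setwise stabilizer of O in the symmetric group on Ω is not a maximal subgroup (it is properly contained in the stabilizer of the partition {O, Ω ∖ O}, which is proper). -/
theorem result {Ω : Type*} [Fintype Ω] [DecidableEq Ω] (hΩ : 2 < Fintype.card Ω)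
    (O : Set Ω) (hO : Nat.card O = Nat.card ↥Oᶜ) :
    ¬ IsCoatom (MulAction.stabilizer (Equiv.Perm Ω) O) := by
  intro hco
  have hcard : Nat.card O + Nat.card ↥Oᶜ = Fintype.card Ω := by
    rw [Nat.card_coe_set_eq, Nat.card_coe_set_eq, Set.ncard_add_ncard_compl, Nat.card_eq_fintype_card]
  have h2 : 1 < O.ncard := by rw [← Nat.card_coe_set_eq]; omega
  have h3 : 0 < Oᶜ.ncard := by rw [← Nat.card_coe_set_eq]; omega
  obtain ⟨a, a', ha, ha', haa⟩ := (Set.one_lt_ncard_iff (Set.toFinite _)).1 h2
  obtain ⟨b, hb⟩ := (Set.ncard_pos (Set.toFinite _)).1 h3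
  let K : Subgroup (Equiv.Perm Ω) :=
    { carrier := {g | (∀ x, g x ∈ O ↔ x ∈ O) ∨ (∀ x, g x ∈ O ↔ x ∉ O)}
      one_mem' := Or.inl fun x => Iff.rfl
      mul_mem' := by
        rintro g h (hg | hg) (hh | hh)
        · exact Or.inl fun x => by rw [Equiv.Perm.mul_apply, hg, hh]
        · exact Or.inr fun x => by rw [Equiv.Perm.mul_apply, hg, hh]
        · exact Or.inr fun x => by rw [Equiv.Perm.mul_apply, hg, hh]
        · exact Or.inl fun x => by rw [Equiv.Perm.mul_apply, hg, hh, not_not]
      inv_mem' := by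
        rintro g (hg | hg)
        · exact Or.inl fun x => by rw [← hg]; simp
        · refine Or.inr fun x => ?_
          have := hg (g⁻¹ x)
          simp only [Equiv.Perm.coe_inv, Equiv.apply_symm_apply] at this ⊢
          tauto }
  have hmem : ∀ g : Equiv.Perm Ω, g ∈ MulAction.stabilizer (Equiv.Perm Ω) O ↔ ∀ x, g x ∈ O ↔ x ∈ O := by
    intro g
    rw [MulAction.mem_stabilizer_set]
    rfl
  obtain ⟨e⟩ : Nonempty (O ≃ ↥Oᶜ) := Finite.card_eq.1 hO
  classical
  let σ : Equiv.Perm Ω := (Equiv.Set.sumCompl O).symm.trans ((Equiv.sumCongr e e.symm).trans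
    ((Equiv.sumComm _ _).trans (Equiv.Set.sumCompl O)))
  have hσ : ∀ x, σ x ∈ O ↔ x ∉ O := by
    intro x
    by_cases hx : x ∈ O
    · have : σ x = e ⟨x, hx⟩ := by
        simp [σ, Equiv.Set.sumCompl_symm_apply_of_mem hx]
      rw [this]
      exact iff_of_false (e ⟨x, hx⟩).2 (not_not.2 hx)
    · have : σ x = e.symm ⟨x, hx⟩ := by
        simp [σ, Equiv.Set.sumCompl_symm_apply_of_notMem hx]
      rw [this]
      exact iff_of_true (e.symm ⟨x, hx⟩).2 hx
  have hlt : MulAction.stabilizer (Equiv.Perm Ω) O < K := by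
    refine lt_of_le_of_ne (fun g hg => Or.inl ((hmem g).1 hg)) fun h => ?_
    have : σ ∈ MulAction.stabilizer (Equiv.Perm Ω) O := h ▸ Or.inr hσ
    have h1 := (hmem σ).1 this a
    have h2 := hσ a
    tauto
  have : Equiv.swap a b ∈ K := (hco.2 K hlt) ▸ Subgroup.mem_top _
  have hb' : a' ≠ b := fun h => hb (h ▸ ha')
  rcases this with h | h
  · have := h a
    rw [Equiv.swap_apply_left] at this
    exact hb (this.2 ha)
  · have := h a'
    rw [Equiv.swap_apply_of_ne_of_ne haa.symm hb'] at this
    tauto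

end Cfsg.Agent.S5904
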