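import Mathlib
import Cfsg.Agent.H10.Perm2
import Cfsg.Agent.S5904
import Cfsg.Statements.S5894

set_option autoImplicit false
open Cfsg

namespace Cfsg.Agent.S5894

open scoped Pointwise in
/-- For every m ≥ 2 the symmetric group on 2m letters has a maximal subgroup M of index 2m together with a maximal subgroup H of M that is not second maximal: some maximal subgroup K of the symmetric group contains H without H being maximal in K. (One may take M the stabiliser of a letter, H ≅ S_m × S_{m−1} inside it, and K ≅ S_m ≀ S₂ the stabiliser of a partition into two m-sets, with H < S_m × S_m < K.) So the prime-index hypothesis in the second-maximality criterion cannot be relaxed to any even index ≥ 4. -/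
theorem result (m : ℕ) (hm : 2 ≤ m) :
    ∃ M H K : Subgroup (Equiv.Perm (Fin (2 * m))), IsCoatom M ∧ M.index = 2 * m ∧ H ≤ M ∧ IsCoatom (H.subgroupOf M) ∧
      IsCoatom K ∧ H ≤ K ∧ ¬ IsCoatom (H.subgroupOf K) := by
  classical
  let a : Fin (2 * m) := ⟨2 * m - 1, by omega⟩
  let O : Set (Fin (2 * m)) := {x | x.1 < m}
  have hO1 : Nat.card O = m := by
    rw [Nat.card_coe_set_eq, ← Set.ncard_image_of_injective _ Fin.val_injective]
    refine Eq.trans ?_ ((Set.ncard_coe_finset (Finset.range m)).trans (Finset.card_range m))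
    congr 1
    ext x
    simp only [O, Set.mem_image, Set.mem_setOf_eq, Finset.coe_range, Set.mem_Iio]
    exact ⟨by rintro ⟨y, hy, rfl⟩; exact hy, fun hx => ⟨⟨x, by omega⟩, hx, rfl⟩⟩
  have hO2 : Nat.card ↥Oᶜ = m := by
    have := Set.ncard_add_ncard_compl O
    rw [← Nat.card_coe_set_eq, ← Nat.card_coe_set_eq, hO1, Nat.card_eq_fintype_card (α := Fin (2 * m)), Fintype.card_fin] at this
    omega
  have haO : a ∉ O := by simp [a, O]; omega
  have hL := Cfsg.Agent.S5904.result (Ω := Fin (2 * m)) (by simp; omega) O (hO1.trans hO2.symm)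
  have hL' : MulAction.stabilizer (Equiv.Perm (Fin (2 * m))) O ≠ ⊤ :=
    Equiv.Perm.stabilizer_ne_top_of_nonempty_of_nonempty_compl ⟨⟨0, by omega⟩, by simp [O]; omega⟩ ⟨a, haO⟩
  obtain ⟨K, hK, hLK⟩ := (eq_top_or_exists_le_coatom _).resolve_left hL'
  let O' : Set {y // y ≠ a} := {x | x.1 ∈ O}
  have hO' : O'.ncard = m := by
    rw [← Set.ncard_image_of_injective _ Subtype.val_injective]
    refine Eq.trans ?_ ((Nat.card_coe_set_eq O).symm.trans hO1)
    congr 1
    ext x
    simp only [O', Set.mem_image, Set.mem_setOf_eq]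
    exact ⟨by rintro ⟨y, hy, rfl⟩; exact hy, fun hx => ⟨⟨x, fun h => haO (h ▸ hx)⟩, hx, rfl⟩⟩
  let b : Fin (2 * m) := ⟨m, by omega⟩
  have hba : b ≠ a := by simp [a, b]; omega
  have hbO : b ∉ O := by simp [b, O]
  have hH' : IsCoatom (MulAction.stabilizer (Equiv.Perm {y // y ≠ a}) O') :=
    Equiv.Perm.isCoatom_stabilizer ((Set.ncard_pos (Set.toFinite _)).1 (by omega)) ⟨⟨b, hba⟩, hbO⟩ (by
      rw [hO']; simp; omega)
  let φ : Equiv.Perm {y // y ≠ a} →* Equiv.Perm (Fin (2 * m)) := Equiv.Perm.ofSubtype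
  have hφ : Function.Injective φ := Equiv.Perm.ofSubtype_injective
  let H := (MulAction.stabilizer (Equiv.Perm {y // y ≠ a}) O').map φ
  have hHL : H ≤ MulAction.stabilizer (Equiv.Perm (Fin (2 * m))) O := by
    rintro _ ⟨g, hg, rfl⟩
    rw [SetLike.mem_coe, MulAction.mem_stabilizer_set] at hg
    rw [MulAction.mem_stabilizer_set]
    intro x
    by_cases hx : x ≠ a
    · have := hg ⟨x, hx⟩
      change φ g x ∈ O ↔ _
      rw [Equiv.Perm.ofSubtype_apply_of_mem g hx]
      exact this
    · change φ g x ∈ O ↔ _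
      rw [Equiv.Perm.ofSubtype_apply_of_not_mem g hx]
  refine ⟨φ.range, H, K, ?_, ?_, Subgroup.map_le_range _ _, ?_, hK, hHL.trans hLK, fun h => ?_⟩
  · rw [H10.range_ofSubtype_ne]
    haveI : Nontrivial (Fin (2 * m)) := ⟨b, a, hba⟩
    exact MulAction.IsPreprimitive.isCoatom_stabilizer_of_isPreprimitive _ a
  · rw [H10.range_ofSubtype_ne, MulAction.index_stabilizer_of_transitive]; simp
  · have : H.subgroupOf φ.range = (MonoidHom.ofInjective hφ).mapSubgroup (MulAction.stabilizer (Equiv.Perm {y // y ≠ a}) O') := by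
      ext ⟨_, g, rfl⟩
      simp only [H, Subgroup.mem_subgroupOf, Subgroup.mem_map, MulEquiv.coe_mapSubgroup]
      constructor
      · rintro ⟨k, hk, he⟩; exact ⟨k, hk, Subtype.ext he⟩
      · rintro ⟨k, hk, he⟩; exact ⟨k, hk, congrArg Subtype.val he⟩
    rw [this]
    exact (OrderIso.isCoatom_iff _ _).2 hH'
  · have h1 : Equiv.swap a b ∈ MulAction.stabilizer (Equiv.Perm (Fin (2 * m))) O := by
      rw [← stabilizer_compl]
      exact Equiv.Perm.swap_mem_stabilizer haO hbO
    have h2 : Equiv.swap a b ∉ H := by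
      intro h
      have h3 := Subgroup.map_le_range _ _ h
      rw [H10.range_ofSubtype_ne] at h3
      exact hba ((Equiv.swap_apply_left a b).symm.trans h3)
    have h3 := h.2 ((MulAction.stabilizer (Equiv.Perm (Fin (2 * m))) O).subgroupOf K)
      (lt_of_le_of_ne (Subgroup.subgroupOf_mono _ hHL) fun he => h2 (by
        have : (⟨_, hLK h1⟩ : K) ∈ H.subgroupOf K := by rw [he]; exact h1
        exact this))
    rw [Subgroup.subgroupOf_eq_top] at h3
    exact hL (le_antisymm hLK h3 ▸ hK)

end Cfsg.Agent.S5894
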