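import Cfsg.Statements.S5896
import Mathlib
import Cfsg.Agent.S4014
import Cfsg.Agent.H27.DerLen
import Cfsg.Agent.H04.Basic
import Cfsg.Agent.H05.Burnside
-- import your own Cfsg.Agent.* helpers here

set_option autoImplicit false
open Cfsg

namespace Cfsg.Agent.S5896

open scoped Pointwise commutatorElement

theorem perfect {S Q : Type} [Group S] [Group Q] [Finite Q] [Nontrivial Q] (hQ : commutator Q = ⊤) :
    ⁅commutator (S ≀ᵣ Q), commutator (S ≀ᵣ Q)⁆ = commutator (S ≀ᵣ Q) := by
  classical
  refine le_antisymm (Subgroup.commutator_le_left _ _) ?_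
  set N := ⁅commutator (S ≀ᵣ Q), commutator (S ≀ᵣ Q)⁆ with hN
  have h1 : ∀ q : Q, RegularWreathProduct.inl q ∈ N := by
    intro q
    have h2 : derivedSeries Q 2 = ⊤ := by
      rw [derivedSeries_succ, derivedSeries_one, hQ]; exact hQ
    exact map_derivedSeries_le_derivedSeries RegularWreathProduct.inl 2
      (Subgroup.mem_map_of_mem _ (h2 ▸ Subgroup.mem_top q))
  let ι : (Q → S) →* S ≀ᵣ Q := MonoidHom.mk' (fun f => ⟨f, 1⟩) fun a b => by ext <;> simp
  let π := (QuotientGroup.mk' N).comp ι
  have h2 : ∀ (x y : Q) (s : S), π (Pi.mulSingle x s) = π (Pi.mulSingle y s) := by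
    intro x y s
    have : ι (Pi.mulSingle x s) = RegularWreathProduct.inl (x * y⁻¹) * ι (Pi.mulSingle y s) *
        (RegularWreathProduct.inl (x * y⁻¹))⁻¹ := by
      ext z
      · simp [ι, Pi.mulSingle_apply, mul_assoc, inv_mul_eq_one, eq_comm]
      · simp [ι]
    simp only [π, MonoidHom.comp_apply, this, map_mul, map_inv, QuotientGroup.mk'_apply,
      (QuotientGroup.eq_one_iff _).2 (h1 _), one_mul, inv_one, mul_one]
  have h3 : ∀ (x y : Q) (s t : S), Commute (π (Pi.mulSingle x s)) (π (Pi.mulSingle y t)) := by
    intro x y s t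
    obtain ⟨z, hz⟩ := exists_ne x
    rw [h2 y z]
    exact (Pi.mulSingle_commute (f := fun _ : Q => S) hz.symm s t).map π
  have h4 : ∀ (f : Q → S) (y : Q) (t : S), Commute (π f) (π (Pi.mulSingle y t)) := fun f y t =>
    Subgroup.mem_centralizer_singleton_iff.1 (Subgroup.pi_mem_of_mulSingle_mem
      (H := (Subgroup.centralizer {π (Pi.mulSingle y t)}).comap π) f fun x =>
        Subgroup.mem_centralizer_singleton_iff.2 (h3 x y _ t))
  have h5 : ∀ f g : Q → S, Commute (π f) (π g) := fun f g =>
    Subgroup.mem_centralizer_singleton_iff.1 (Subgroup.pi_mem_of_mulSingle_mem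
      (H := (Subgroup.centralizer {π g}).comap π) f fun x =>
        Subgroup.mem_centralizer_singleton_iff.2 (h4 g x _).symm)
  have h6 : ∀ w : S ≀ᵣ Q, QuotientGroup.mk' N w = π w.left := by
    intro w
    have : w = ι w.left * RegularWreathProduct.inl w.right := by ext <;> simp [ι]
    conv_lhs => rw [this]
    simp only [π, MonoidHom.comp_apply, map_mul, QuotientGroup.mk'_apply,
      (QuotientGroup.eq_one_iff _).2 (h1 _), mul_one]
  rw [_root_.commutator_def, Subgroup.commutator_le]
  intro a _ b _
  rw [← QuotientGroup.eq_one_iff, ← QuotientGroup.mk'_apply, map_commutatorElement, h6, h6]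
  exact commutatorElement_eq_one_iff_commute.2 (h5 _ _)

/-- Finite perfect groups have solvable maximal subgroups of unbounded derived length: for every d there is a finite perfect group G (equal to its commutator subgroup) with a solvable maximal subgroup H whose derived length exceeds d, i.e. the d-th term of the derived series of H is non-trivial. (Take the derived subgroup of a wreath product S ≀ A₅ with S solvable of large derived length, and H the preimage of a maximal subgroup of A₅.) -/
theorem result (d : ℕ) :
    ∃ (G : Type) (_ : Group G) (_ : Finite G) (H : Subgroup G), commutator G = ⊤ ∧ IsCoatom H ∧ Group.IsSolvable H ∧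
      derivedSeries H d ≠ ⊥ := by
  obtain ⟨S, _, _, X, _, _, hS, -, s, hs, x, hx⟩ := Cfsg.Agent.S4014.aux 2 d
  have hs1 : s ≠ 1 := by rintro rfl; exact hx (one_smul _ _)
  haveI := hS.isNilpotent
  let Q := alternatingGroup (Fin 5)
  have hQ : commutator Q = ⊤ := commutator_alternatingGroup_eq_top (by simp)
  haveI := alternatingGroup.isPretransitive_of_three_le_card (Fin 5) (by simp)
  let M := MulAction.stabilizer Q (0 : Fin 5)
  have hM : M.index = 5 := by rw [MulAction.index_stabilizer_of_transitive]; simp
  haveI hMs : Group.IsSolvable M := by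
    have h1 := M.card_mul_index
    have h2 : Nat.card Q = 60 := by
      have := two_mul_nat_card_alternatingGroup (α := Fin 5)
      rw [Nat.card_perm] at this
      simp only [Nat.card_eq_fintype_card (α := Fin 5), Fintype.card_fin, Nat.factorial] at this
      simp only [Q]; omega
    exact H05.burnside_paqb M (a := 2) (b := 1) Nat.prime_two Nat.prime_three (by rw [hM, h2] at h1; omega)
  let G := commutator (S ≀ᵣ Q)
  let r : G →* Q := RegularWreathProduct.rightHom.comp G.subtype
  have hr : Function.Surjective r := fun q =>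
    ⟨⟨RegularWreathProduct.inl q, map_derivedSeries_le_derivedSeries RegularWreathProduct.inl 1
      (Subgroup.mem_map_of_mem _ (by rw [derivedSeries_one, hQ]; trivial))⟩, rfl⟩
  let K := r.ker
  have hK : ∀ k : K, k.1.1.right = 1 := fun k => k.2
  let φ : K →* (Q → S) := MonoidHom.mk' (fun k => k.1.1.left) fun a b => by
    ext z; simp [hK a]
  have hKH : K ≤ M.comap r := fun k hk => by
    rw [Subgroup.mem_comap, MonoidHom.mem_ker.1 hk]; exact one_mem _
  refine ⟨G, inferInstance, inferInstance, M.comap r, ?_, ?_, ?_, ?_⟩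
  · apply Subgroup.map_injective G.subtype_injective
    rw [Subgroup.map_subtype_commutator, perfect hQ, ← MonoidHom.range_eq_map, Subgroup.range_subtype]
  · exact H04.isCoatom_of_index_prime (by
      rw [Subgroup.index_comap_of_surjective _ hr, hM]; norm_num)
  · haveI : Group.IsSolvable K := Group.isSolvable_of_isSolvable_injective (f := φ) fun a b h =>
      Subtype.ext (Subtype.ext (RegularWreathProduct.ext h ((hK a).trans (hK b).symm)))
    refine Group.isSolvable_of_ker_le_range (Subgroup.inclusion hKH) (r.subgroupComap M) fun y hy => ?_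
    exact ⟨⟨y.1, congrArg Subtype.val hy⟩, rfl⟩
  · intro h
    have h1 : Function.Surjective ((Pi.evalMonoidHom (fun _ : Q => S) 1).comp φ) := by
      intro t
      obtain ⟨w, hw, h1, h2⟩ := H27.wreath_derived (Q := Q) 0 t trivial
      exact ⟨⟨⟨w, hw⟩, h1⟩, h2⟩
    obtain ⟨k, hk, rfl⟩ := derivedSeries_le_map_derivedSeries h1 d hs
    have := map_derivedSeries_le_derivedSeries (Subgroup.inclusion hKH) d (Subgroup.mem_map_of_mem _ hk)
    rw [h, Subgroup.mem_bot, map_eq_one_iff _ (Subgroup.inclusion_injective hKH)] at this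
    exact hs1 (by rw [this, map_one])

end Cfsg.Agent.S5896
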